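import Mathlib
import Cfsg.Prelude.Def_CaseTheorems
import Cfsg.Prelude.Def_Transfer
import Cfsg.Agent.Lib.Cores
set_option linter.all false

/-!
# Isolated elements and subgroups of the centre of a Sylow 2-subgroup

* `exists_conj_mem`: a `p`-element of `S ⊔ N` is `N`-conjugate into `S`.
* `isolated_of_isWeaklyClosed`: if `x ∈ Z(S)` and `⟨x⟩` is weakly closed in `S` then `x` is isolated in `S`.
* `commutator_mem_oddCore`: given the Z*-theorem, a subgroup `A` of `S` all of whose elements are isolated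
  in `S` is central modulo `O(G)`.
* `exists_eq_mul`: then `G = O(G) C_G(A)`.
-/

set_option autoImplicit false

open Cfsg Subgroup

namespace Cfsg.Agent.TwoFusion.IsolatedCenter

universe u

/-- A `p`-element of `S ⊔ N` is conjugate to an element of `S` by an element of `N`. -/
theorem exists_conj_mem {G : Type*} [Group G] [Finite G] {p : ℕ} [Fact p.Prime] (S : Sylow p G)
    (N : Subgroup G) [N.Normal] (x : G) (hx : ∃ k : ℕ, x ^ p ^ k = 1)
    (hxSN : x ∈ (S : Subgroup G) ⊔ N) : ∃ n ∈ N, n * x * n⁻¹ ∈ (S : Subgroup G) := by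
  obtain ⟨k, hk⟩ := hx
  set M : Subgroup G := (S : Subgroup G) ⊔ N with hM
  have hSM : (S : Subgroup G) ≤ M := le_sup_left
  let x' : M := ⟨x, hxSN⟩
  have hpx : IsPGroup p (Subgroup.zpowers x') := by
    rw [IsPGroup.iff_card]
    have h1 : orderOf x' ∣ p ^ k := by
      apply orderOf_dvd_of_pow_eq_one
      ext
      simpa using hk
    obtain ⟨m, -, hm⟩ := (Nat.dvd_prime_pow Fact.out).mp h1
    exact ⟨m, by rw [Nat.card_zpowers, hm]⟩
  obtain ⟨Q, hQ⟩ := hpx.exists_le_sylow
  obtain ⟨m, hm⟩ := MulAction.exists_smul_eq M (S.subtype hSM) Q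
  have hxQ : x' ∈ (Q : Subgroup M) := hQ (Subgroup.mem_zpowers x')
  rw [← hm, Sylow.coe_subgroup_smul, ← SetLike.mem_coe, coe_pointwise_smul,
    Set.mem_smul_set_iff_inv_smul_mem, SetLike.mem_coe, Sylow.coe_subtype, Subgroup.mem_subgroupOf] at hxQ
  have hx2 : (m : G)⁻¹ * x * (m : G) ∈ (S : Subgroup G) := by
    have : (((MulAut.conj m)⁻¹ • x' : M) : G) = (m : G)⁻¹ * x * (m : G) := by
      simp [x']
    rwa [this] at hxQ
  have hmM : (m : G) ∈ (S : Subgroup G) ⊔ N := m.2
  obtain ⟨s, hs, n, hn, hsn⟩ := Subgroup.mem_sup_of_normal_right.mp hmM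
  refine ⟨(s * n * s⁻¹)⁻¹, N.inv_mem (Subgroup.Normal.conj_mem inferInstance n hn s), ?_⟩
  have h5 := (S : Subgroup G).mul_mem ((S : Subgroup G).mul_mem hs hx2) ((S : Subgroup G).inv_mem hs)
  rw [← hsn] at h5
  have h6 : (s * n * s⁻¹)⁻¹ * x * (s * n * s⁻¹)⁻¹⁻¹ = s * ((s * n)⁻¹ * x * (s * n)) * s⁻¹ := by group
  rw [h6]
  exact h5

/-- If `x` centralizes `S` and `⟨x⟩` is weakly closed in `S`, then no conjugate of `x` other than `x` lies
in `S`. -/
theorem isolated_of_isWeaklyClosed {G : Type*} [Group G] [Finite G] (S : Sylow 2 G) (x : G)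
    (hxZ : ∀ s ∈ (S : Subgroup G), s * x = x * s)
    (hw : Cfsg.IsWeaklyClosed (Subgroup.zpowers x) (S : Subgroup G)) (g : G)
    (hg : g * x * g⁻¹ ∈ (S : Subgroup G)) : g * x * g⁻¹ = x := by
  have hmap : (Subgroup.zpowers x).map (MulAut.conj g).toMonoidHom = Subgroup.zpowers (g * x * g⁻¹) := by
    rw [MonoidHom.map_zpowers]; simp
  have h1 : Subgroup.zpowers (g * x * g⁻¹) = Subgroup.zpowers x := by
    rw [← hmap]
    refine hw.2 g ?_
    rw [hmap]
    exact (Subgroup.zpowers_le).mpr hg
  have hxS : x ∈ (S : Subgroup G) := hw.1 (Subgroup.mem_zpowers x)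
  set A := Subgroup.zpowers x with hA
  have hAS : A ≤ (S : Subgroup G) := hw.1
  have hgN : g ∈ Subgroup.normalizer (A : Set G) := by
    have h2 : A.map (MulAut.conj g).toMonoidHom = A := by rw [hmap, h1]
    rw [Subgroup.mem_normalizer_iff]
    intro y
    constructor
    · intro hy
      rw [← h2]
      exact ⟨y, hy, by simp⟩
    · intro hy
      rw [← h2] at hy
      obtain ⟨w, hw, hw2⟩ := hy
      have : w = y := by simpa using hw2
      rwa [← this]
  have hSC : (S : Subgroup G) ≤ Subgroup.centralizer (A : Set G) := by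
    intro s hs
    rw [Subgroup.mem_centralizer_iff]
    rintro y ⟨k, rfl⟩
    have : Commute s x := hxZ s hs
    exact (this.zpow_right k).symm
  have key := card_dvd_of_injective _ (QuotientGroup.kerLift_injective A.normalizerMonoidHom)
  rw [normalizerMonoidHom_ker, ← index, ← relIndex] at key
  have hcyc : IsCyclic A := inferInstance
  have hN : Subgroup.normalizer (A : Set G) ≤ Subgroup.centralizer (A : Set G) := by
    refine relIndex_eq_one.mp (Nat.eq_one_of_dvd_coprimes ?_ dvd_rfl key)
    obtain ⟨k, hk⟩ := (S.2.to_le hAS).exists_card_eq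
    rcases eq_zero_or_pos k with h0 | h0
    · rw [hcyc.card_mulAut, hk, h0, pow_zero, Nat.totient_one]
      apply Nat.coprime_one_right
    rw [hcyc.card_mulAut, hk, Nat.totient_prime_pow Nat.prime_two h0]
    simp only [Nat.add_one_sub_one, mul_one]
    refine (Nat.Coprime.pow_right _ ?_)
    apply Nat.Coprime.coprime_dvd_left (relIndex_dvd_of_le_left _ hSC)
    apply Nat.Coprime.coprime_dvd_left (relIndex_dvd_index_of_le (hSC.trans ?_))
    · rw [Nat.coprime_comm, Nat.Prime.coprime_iff_not_dvd Nat.prime_two]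
      exact S.not_dvd_index
    · exact Subgroup.centralizer_le_normalizer _
  have := Subgroup.mem_centralizer_iff.mp (hN hgN) x (Subgroup.mem_zpowers x)
  rw [← this]; group

theorem normal_of_le_center {G : Type*} [Group G] {Z : Subgroup G} (hZ : Z ≤ Subgroup.center G) :
    Z.Normal :=
  ⟨fun n hn g => by
    have h := Subgroup.mem_center_iff.mp (hZ hn) g
    rw [h, mul_inv_cancel_right]
    exact hn⟩

/-- Let `Z` be a central subgroup of a finite group `M` which is a `2`-group of odd index, and suppose `M` has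
no nontrivial normal subgroup of odd order. Then `M = Z`. -/
theorem eq_top_of_central {M : Type*} [Group M] [Finite M] (Z : Subgroup M)
    (hZ : Z ≤ Subgroup.center M) (hZ2 : IsPGroup 2 Z) (hidx : Odd Z.index)
    (hO : Cfsg.oddCore M = ⊥) : Z = ⊤ := by
  have : Z.Normal := normal_of_le_center hZ
  obtain ⟨k, hk⟩ := hZ2.exists_card_eq
  have hcop : Nat.Coprime (Nat.card Z) Z.index := by
    rw [hk]
    exact Nat.Coprime.pow_left _ (Nat.coprime_two_left.mpr hidx)
  obtain ⟨H, hH⟩ := Subgroup.exists_right_complement'_of_coprime hcop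
  have hHn : H.Normal := by
    refine ⟨fun h hh g => ?_⟩
    obtain ⟨⟨z, h'⟩, hzh⟩ := hH.2 g
    simp only at hzh
    rw [← hzh]
    have hz : (z : M) ∈ Subgroup.center M := hZ z.2
    have h1 : (z : M) * h' * h * ((z : M) * h')⁻¹ = (h' : M) * h * (h' : M)⁻¹ := by
      have h2 := (Subgroup.mem_center_iff.mp hz) ((h' : M) * h * (h' : M)⁻¹)
      calc (z : M) * h' * h * ((z : M) * h')⁻¹ = z * ((h' : M) * h * (h' : M)⁻¹) * (z : M)⁻¹ := by group
        _ = ((h' : M) * h * (h' : M)⁻¹) := by rw [← h2]; group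
    rw [h1]
    exact H.mul_mem (H.mul_mem h'.2 hh) (H.inv_mem h'.2)
  have hHcard : Nat.card H = Z.index := hH.symm.index_eq_card.symm
  have hHbot : H = ⊥ := by
    rw [eq_bot_iff, ← hO]
    refine Cfsg.Agent.Lib.Cores.le_pPrimeCore hHn ?_
    rw [hHcard]
    exact (Nat.coprime_two_left.mpr hidx).symm
  have : Z.index = 1 := by rw [← hHcard, hHbot]; simp
  exact Subgroup.index_eq_one.mp this

/-- Given the Z*-theorem, a subgroup `A` all of whose elements are isolated in the Sylow `2`-subgroup `S` is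
central modulo `O(G)`. -/
theorem commutator_mem_oddCore
    (hZ : ∀ (G : Type u) [Group G] [Finite G] (P : Sylow 2 G) (u : G), orderOf u = 2 → u ∈ P →
      (∀ g : G, g * u * g⁻¹ ∈ P → g * u * g⁻¹ = u) →
      ∃ N : Subgroup G, N.Normal ∧ Odd (Nat.card N) ∧ ∀ g : G, (u * g * u⁻¹ * g⁻¹) ∈ N) :
    ∀ (n : ℕ) (G : Type u) [Group G] [Finite G], Nat.card G ≤ n → ∀ (S : Sylow 2 G) (A : Subgroup G),
      A ≤ (S : Subgroup G) →
      (∀ x ∈ A, ∀ g : G, g * x * g⁻¹ ∈ (S : Subgroup G) → g * x * g⁻¹ = x) →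
      ∀ x ∈ A, ∀ g : G, x * g * x⁻¹ * g⁻¹ ∈ Cfsg.oddCore G := by
  intro n
  induction n with
  | zero =>
    intro G _ _ hG
    exact absurd hG (by have := Nat.card_pos (α := G); omega)
  | succ n ih =>
    intro G _ _ hG S A hAS hA x hx g
    by_cases hO : Cfsg.oddCore G = ⊥
    · by_cases hAbot : A = ⊥
      · rw [hAbot, Subgroup.mem_bot] at hx
        rw [hx]
        simp
      -- an involution in A
      have hA2 : IsPGroup 2 A := S.2.to_le hAS
      have hdvd : 2 ∣ Nat.card A := by
        obtain ⟨k, hk⟩ := hA2.exists_card_eq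
        rcases Nat.eq_zero_or_pos k with h0 | h0
        · exfalso
          apply hAbot
          rw [h0, pow_zero] at hk
          exact Subgroup.card_eq_one.mp hk
        · rw [hk]
          exact dvd_pow_self 2 (by omega)
      obtain ⟨z', hz'⟩ := exists_prime_orderOf_dvd_card' (G := A) 2 hdvd
      set z : G := (z' : G) with hzdef
      have hzA : z ∈ A := z'.2
      have hz2 : orderOf z = 2 := by rw [hzdef, Subgroup.orderOf_coe, hz']
      obtain ⟨N, hNn, hNodd, hN⟩ := hZ G S z hz2 (hAS hzA) (hA z hzA)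
      have hNbot : N = ⊥ := by
        rw [eq_bot_iff, ← hO]
        exact Cfsg.Agent.Lib.Cores.le_pPrimeCore hNn (Nat.coprime_two_right.mpr hNodd)
      have hzc : z ∈ Subgroup.center G := by
        rw [Subgroup.mem_center_iff]
        intro g
        have := hN g
        rw [hNbot, Subgroup.mem_bot] at this
        calc g * z = (z * g * z⁻¹ * g⁻¹) * g * z := by rw [this]; group
          _ = z * g := by group
      set Z := Subgroup.zpowers z with hZdef
      have hZc : Z ≤ Subgroup.center G := by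
        rw [hZdef]; exact (Subgroup.zpowers_le).mpr hzc
      have hZn : Z.Normal := normal_of_le_center hZc
      have hZA : Z ≤ A := (Subgroup.zpowers_le).mpr hzA
      have hZcard : Nat.card Z = 2 := by rw [hZdef, Nat.card_zpowers, hz2]
      have hcardlt : Nat.card (G ⧸ Z) ≤ n := by
        have h1 := Subgroup.card_eq_card_quotient_mul_card_subgroup Z
        rw [hZcard] at h1
        have := Nat.card_pos (α := G ⧸ Z)
        omega
      have hsurj := QuotientGroup.mk'_surjective Z
      let S' : Sylow 2 (G ⧸ Z) := S.mapSurjective hsurj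
      have hS' : (S' : Subgroup (G ⧸ Z)) = (S : Subgroup G).map (QuotientGroup.mk' Z) :=
        Sylow.coe_mapSurjective hsurj S
      have hcomm := ih (G ⧸ Z) hcardlt S' (A.map (QuotientGroup.mk' Z))
        (by rw [hS']; exact Subgroup.map_mono hAS) ?_ (QuotientGroup.mk' Z x)
        (Subgroup.mem_map_of_mem _ hx) (QuotientGroup.mk' Z g)
      · -- the core of the quotient is trivial
        have hM : (Cfsg.oddCore (G ⧸ Z)).comap (QuotientGroup.mk' Z) = Z := by
          set M := (Cfsg.oddCore (G ⧸ Z)).comap (QuotientGroup.mk' Z) with hMdef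
          have hMn : M.Normal := inferInstance
          have hZM : Z ≤ M := by
            intro w hw
            rw [hMdef, Subgroup.mem_comap]
            have : (QuotientGroup.mk' Z) w = 1 := by
              rw [← MonoidHom.mem_ker, QuotientGroup.ker_mk']; exact hw
            rw [this]; exact Subgroup.one_mem _
          have hMcard : Nat.card M = Nat.card Z * Nat.card (Cfsg.oddCore (G ⧸ Z)) :=
            QuotientGroup.card_preimage_mk Z (Cfsg.oddCore (G ⧸ Z) : Set (G ⧸ Z))
          have hMO : Cfsg.oddCore M = ⊥ := by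
            have h1 := Cfsg.Agent.Lib.Cores.map_subtype_pPrimeCore (G := G) 2 (N := M) hMn
            have h2 : (pPrimeCore 2 G) = ⊥ := hO
            rw [h2, inf_bot_eq] at h1
            exact (Subgroup.map_eq_bot_iff_of_injective _ M.subtype_injective).mp h1
          have h3 := eq_top_of_central (M := M) (Z.subgroupOf M) (by
              intro w hw
              rw [Subgroup.mem_center_iff]
              intro v
              ext
              have := Subgroup.mem_center_iff.mp (hZc (Subgroup.mem_subgroupOf.mp hw)) v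
              simpa using this) ?_ ?_ hMO
          · exact le_antisymm (Subgroup.subgroupOf_eq_top.mp h3) hZM
          · exact (IsPGroup.of_card (n := 1) (by rw [hZcard]; rfl)).comap_subtype
          · have h4 := Subgroup.card_mul_index (Z.subgroupOf M)
            rw [Nat.card_congr (Subgroup.subgroupOfEquivOfLe hZM).toEquiv, hMcard] at h4
            have h5 : (Z.subgroupOf M).index = Nat.card (Cfsg.oddCore (G ⧸ Z)) :=
              Nat.eq_of_mul_eq_mul_left (by rw [hZcard]; norm_num) h4
            rw [h5]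
            exact Nat.coprime_two_right.mp (Cfsg.Agent.Lib.Cores.pPrimeCore_coprime 2)
        have hxg : x * g * x⁻¹ * g⁻¹ ∈ Z := by
          rw [← hM, Subgroup.mem_comap]
          simpa using hcomm
        have hxg2 : g * x * g⁻¹ ∈ (S : Subgroup G) := by
          have h6 : g * x⁻¹ * g⁻¹ ∈ (S : Subgroup G) := by
            have h7 := (S : Subgroup G).mul_mem ((S : Subgroup G).inv_mem (hAS hx)) (hAS (hZA hxg))
            have h8 : x⁻¹ * (x * g * x⁻¹ * g⁻¹) = g * x⁻¹ * g⁻¹ := by group
            rwa [h8] at h7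
          have h9 := (S : Subgroup G).inv_mem h6
          have h10 : (g * x⁻¹ * g⁻¹)⁻¹ = g * x * g⁻¹ := by group
          rwa [h10] at h9
        have h7 := hA x hx g hxg2
        have h8 : x * g * x⁻¹ * g⁻¹ = x * (g * x * g⁻¹)⁻¹ := by group
        rw [h8, h7]
        simp
      · rintro x' ⟨y, hy, rfl⟩ g'
        obtain ⟨g, rfl⟩ := hsurj g'
        intro hg
        rw [hS', ← map_inv, ← map_mul, ← map_mul] at hg
        have h1 : g * y * g⁻¹ ∈ ((S : Subgroup G).map (QuotientGroup.mk' Z)).comap (QuotientGroup.mk' Z) := hg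
        rw [Subgroup.comap_map_eq, QuotientGroup.ker_mk', sup_eq_left.mpr (hZA.trans hAS)] at h1
        rw [← map_inv, ← map_mul, ← map_mul, hA y hy g h1]
    · set N := Cfsg.oddCore G with hNdef
      have hNodd : (Nat.card N).Coprime 2 := Cfsg.Agent.Lib.Cores.pPrimeCore_coprime 2
      have hNcard : 1 < Nat.card N := by
        rw [Subgroup.one_lt_card_iff_ne_bot]
        exact hO
      have hcardlt : Nat.card (G ⧸ N) ≤ n := by
        have h1 := Subgroup.card_eq_card_quotient_mul_card_subgroup N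
        have := Nat.card_pos (α := G ⧸ N)
        nlinarith
      have hsurj := QuotientGroup.mk'_surjective N
      let S' : Sylow 2 (G ⧸ N) := S.mapSurjective hsurj
      have hS' : (S' : Subgroup (G ⧸ N)) = (S : Subgroup G).map (QuotientGroup.mk' N) :=
        Sylow.coe_mapSurjective hsurj S
      have hcomm := ih (G ⧸ N) hcardlt S' (A.map (QuotientGroup.mk' N))
        (by rw [hS']; exact Subgroup.map_mono hAS) ?_ (QuotientGroup.mk' N x)
        (Subgroup.mem_map_of_mem _ hx) (QuotientGroup.mk' N g)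
      · have h1 := Cfsg.Agent.Lib.Cores.comap_mk_pPrimeCore (G := G) 2 (N := N) hNodd
        rw [hNdef, Cfsg.oddCore, ← h1, Subgroup.mem_comap]
        simpa using hcomm
      · rintro x' ⟨y, hy, rfl⟩ g'
        obtain ⟨g, rfl⟩ := hsurj g'
        intro hg
        rw [hS', ← map_inv, ← map_mul, ← map_mul] at hg
        have h1 : g * y * g⁻¹ ∈ ((S : Subgroup G).map (QuotientGroup.mk' N)).comap (QuotientGroup.mk' N) := hg
        rw [Subgroup.comap_map_eq, QuotientGroup.ker_mk'] at h1
        have hy2 : ∃ k : ℕ, (g * y * g⁻¹) ^ 2 ^ k = 1 := by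
          obtain ⟨k, hk⟩ := S.2 ⟨y, hAS hy⟩
          refine ⟨k, ?_⟩
          rw [conj_pow]
          have : y ^ 2 ^ k = 1 := by simpa using congrArg Subtype.val hk
          rw [this]; simp
        obtain ⟨m, hm, hmS⟩ := exists_conj_mem S N (g * y * g⁻¹) hy2 h1
        have h2 := hA y hy (m * g) (by
          have : m * g * y * (m * g)⁻¹ = m * (g * y * g⁻¹) * m⁻¹ := by group
          rwa [this])
        have hm1 : QuotientGroup.mk' N m = 1 := by
          rw [← MonoidHom.mem_ker, QuotientGroup.ker_mk']; exact hm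
        have h3 := congrArg (QuotientGroup.mk' N) h2
        simp only [map_mul, map_inv, hm1, one_mul] at h3
        exact h3

/-- Frattini argument: if `A ≤ S` is central modulo `O(G)` then `G = O(G) C_G(A)`. -/
theorem exists_eq_mul {G : Type*} [Group G] [Finite G] (A : Subgroup G) (hA2 : IsPGroup 2 A)
    (hA : ∀ x ∈ A, ∀ g : G, x * g * x⁻¹ * g⁻¹ ∈ Cfsg.oddCore G) (h : G) :
    ∃ o ∈ Cfsg.oddCore G, ∃ c ∈ Subgroup.centralizer (A : Set G), h = o * c := by
  set O := Cfsg.oddCore G with hOdef
  have hOodd : (Nat.card O).Coprime 2 := Cfsg.Agent.Lib.Cores.pPrimeCore_coprime 2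
  have hOA : O ⊓ A = ⊥ := by
    obtain ⟨k, hk⟩ := hA2.exists_card_eq
    refine (Subgroup.disjoint_of_coprime_natCard ?_).eq_bot
    rw [hk]
    exact Nat.Coprime.pow_right k hOodd
  set M := A ⊔ O with hM
  have hMn : M.Normal := by
    refine ⟨fun n hn g => ?_⟩
    obtain ⟨a, ha, o, ho, rfl⟩ := Subgroup.mem_sup_of_normal_right.mp hn
    have h1 : g * (a * o) * g⁻¹ = a * ((a⁻¹ * g * a⁻¹⁻¹ * g⁻¹)) * (g * o * g⁻¹) := by group
    rw [h1]
    refine M.mul_mem (M.mul_mem ((le_sup_left : A ≤ M) ha) ((le_sup_right : O ≤ M) ?_))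
      ((le_sup_right : O ≤ M) (Subgroup.Normal.conj_mem inferInstance o ho g))
    exact hA a⁻¹ (A.inv_mem ha) g
  have hAM : A ≤ M := le_sup_left
  -- `A` is a Sylow 2-subgroup of `M`
  have hidx : ¬ 2 ∣ (A.subgroupOf M).index := by
    have h1 : (A.subgroupOf M).index = A.relIndex M := rfl
    rw [h1]
    have h2 : A.relIndex M ∣ Nat.card O := by
      have h3 := Cfsg.Agent.Lib.Cores.card_sup_dvd O A inferInstance
      have h4 : Nat.card A * A.relIndex M = Nat.card M := by
        rw [← Subgroup.relIndex_bot_left, ← Subgroup.relIndex_bot_left,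
          Subgroup.relIndex_mul_relIndex ⊥ A M bot_le hAM]
      rw [sup_comm, ← hM, ← h4, mul_comm (Nat.card O)] at h3
      exact Nat.dvd_of_mul_dvd_mul_left Nat.card_pos h3
    intro h3
    have h4 := h3.trans h2
    have h5 := Nat.Coprime.eq_one_of_dvd hOodd.symm h4
    omega
  have hAM2 : IsPGroup 2 (A.subgroupOf M) := hA2.comap_of_injective M.subtype M.subtype_injective
  let P : Sylow 2 M := hAM2.toSylow hidx
  have hP : (P : Subgroup M) = A.subgroupOf M := rfl
  have hfr := Sylow.normalizer_sup_eq_top P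
  have hmap : (P : Subgroup M).map M.subtype = A := by
    rw [hP]; exact Subgroup.map_subgroupOf_eq_of_le hAM
  rw [hmap] at hfr
  have hh : h ∈ M ⊔ Subgroup.normalizer (A : Set G) := by
    rw [sup_comm, hfr]; exact Subgroup.mem_top h
  obtain ⟨m, hm, c, hc, rfl⟩ := Subgroup.mem_sup_of_normal_left.mp hh
  rw [hM, sup_comm] at hm
  obtain ⟨o, ho, a, ha, rfl⟩ := Subgroup.mem_sup_of_normal_left.mp hm
  refine ⟨o, ho, a * c, ?_, by group⟩
  have hac : a * c ∈ Subgroup.normalizer (A : Set G) :=
    Subgroup.mul_mem _ (Subgroup.le_normalizer ha) hc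
  rw [Subgroup.mem_centralizer_iff]
  intro y hy
  have h1 : y * (a * c) * y⁻¹ * (a * c)⁻¹ ∈ O := hA y hy (a * c)
  have h2 : y * (a * c) * y⁻¹ * (a * c)⁻¹ ∈ A := by
    have h3 : y * (a * c) * y⁻¹ * (a * c)⁻¹ = y * ((a * c) * y⁻¹ * (a * c)⁻¹) := by group
    rw [h3]
    exact A.mul_mem hy ((Subgroup.mem_normalizer_iff.mp hac y⁻¹).mp (A.inv_mem hy))
  have h3 : y * (a * c) * y⁻¹ * (a * c)⁻¹ ∈ O ⊓ A := ⟨h1, h2⟩
  rw [hOA, Subgroup.mem_bot] at h3
  calc y * (a * c) = (y * (a * c) * y⁻¹ * (a * c)⁻¹) * (a * c) * y := by group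
    _ = a * c * y := by rw [h3, one_mul]

/-- Given the Z*-theorem: if every element of a subgroup `A` of the centre of the Sylow `2`-subgroup `S`
generates a weakly closed subgroup, then `A` is central modulo `O(G)`. -/
theorem commutator_mem_oddCore_of_isWeaklyClosed
    (hZ : ∀ (G : Type u) [Group G] [Finite G] (P : Sylow 2 G) (u : G), orderOf u = 2 → u ∈ P →
      (∀ g : G, g * u * g⁻¹ ∈ P → g * u * g⁻¹ = u) →
      ∃ N : Subgroup G, N.Normal ∧ Odd (Nat.card N) ∧ ∀ g : G, (u * g * u⁻¹ * g⁻¹) ∈ N)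
    {G : Type u} [Group G] [Finite G] (S : Sylow 2 G) (A : Subgroup G)
    (hAZ : A ≤ (Subgroup.center (S : Subgroup G)).map (S : Subgroup G).subtype)
    (hw : ∀ Z₀ : Subgroup G, Z₀ ≤ (Subgroup.center (S : Subgroup G)).map (S : Subgroup G).subtype →
      Cfsg.IsWeaklyClosed Z₀ (S : Subgroup G)) :
    ∀ x ∈ A, ∀ g : G, x * g * x⁻¹ * g⁻¹ ∈ Cfsg.oddCore G := by
  refine commutator_mem_oddCore hZ (Nat.card G) G le_rfl S A
    (hAZ.trans (Subgroup.map_subtype_le _)) ?_
  intro x hx g hg
  refine isolated_of_isWeaklyClosed S x ?_ (hw _ ?_) g hg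
  · intro s hs
    obtain ⟨x', hx', hxx⟩ := hAZ hx
    have h1 := Subgroup.mem_center_iff.mp hx' ⟨s, hs⟩
    have h2 := congrArg Subtype.val h1
    simpa [← hxx] using h2
  · rw [Subgroup.zpowers_le]
    exact hAZ hx

end Cfsg.Agent.TwoFusion.IsolatedCenter
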