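import Mathlib
import Cfsg.Prelude.Def_Involutions
set_option linter.all false

/-!
# Basic facts on strongly embedded subgroups

`H` strongly embedded in `G`, Bender's counting lemmas: every involution of `G` fixes exactly one
coset of `H`, `t * u` has odd order for involutions `t ∈ H`, `u ∉ H`, all involutions are conjugate,
the number of involutions moving `x` to `y ≠ x` is the number of involutions of `H`, etc.
-/

set_option autoImplicit false

namespace Cfsg.Agent.TwoFusion.StronglyEmbeddedBasic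

open Cfsg

section Dihedral

variable {G : Type*} [Group G]

theorem mul_self_of_orderOf {a : G} (ha : orderOf a = 2) : a * a = 1 := by
  have := pow_orderOf_eq_one a; rwa [ha, pow_two] at this

theorem inv_eq_self_of_orderOf {a : G} (ha : orderOf a = 2) : a⁻¹ = a :=
  inv_eq_of_mul_eq_one_right (mul_self_of_orderOf ha)

theorem orderOf_eq_two_of_mul_self {a : G} (ha : a * a = 1) (h1 : a ≠ 1) : orderOf a = 2 :=
  orderOf_eq_prime (by rw [pow_two]; exact ha) h1

theorem orderOf_conj (g a : G) : orderOf (g * a * g⁻¹) = orderOf a := by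
  have := orderOf_injective (MulAut.conj g).toMonoidHom (MulAut.conj g).injective a
  simpa using this

/-- Two involutions whose product has odd order are swapped by conjugation by an involution
lying in the dihedral group they generate. -/
theorem exists_swap (a b : G) (ha : orderOf a = 2) (hb : orderOf b = 2)
    (hab : Odd (orderOf (a * b))) :
    ∃ j ∈ Subgroup.closure ({a, b} : Set G), orderOf j = 2 ∧ j * a * j⁻¹ = b ∧ j * b * j⁻¹ = a := by
  obtain ⟨k, hk⟩ := hab
  have ha2 := mul_self_of_orderOf ha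
  have hb2 := mul_self_of_orderOf hb
  have hai := inv_eq_self_of_orderOf ha
  have hbi := inv_eq_self_of_orderOf hb
  set w := a * b with hw
  have hwi : w⁻¹ = b * a := by rw [hw, mul_inv_rev, hai, hbi]
  have hw1 : w ^ (2 * k + 1) = 1 := by rw [← hk]; exact pow_orderOf_eq_one w
  have hsc : SemiconjBy a w w⁻¹ := by
    show a * w = w⁻¹ * a
    rw [hwi, hw, ← mul_assoc, ha2, mul_assoc, ha2]; simp
  have hk1 : a * w ^ k = (w ^ k)⁻¹ * a := by
    have := (hsc.pow_right k).eq
    rwa [inv_pow] at this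
  have hk2 : w ^ k * a = a * (w ^ k)⁻¹ := by
    have h := congrArg (fun z => w ^ k * z * (w ^ k)⁻¹) hk1
    simp only [mul_assoc, mul_inv_cancel, mul_one, mul_inv_cancel_left] at h
    exact h
  have hjj : (w ^ k * a) * (w ^ k * a) = 1 := by
    calc (w ^ k * a) * (w ^ k * a) = w ^ k * (a * w ^ k) * a := by group
      _ = w ^ k * ((w ^ k)⁻¹ * a) * a := by rw [hk1]
      _ = a * a := by group
      _ = 1 := ha2
  have hja : (w ^ k * a) * a = b * (w ^ k * a) := by
    have h1 : (w ^ k * a) * a = w ^ k := by rw [mul_assoc, ha2, mul_one]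
    have h2 : b * (w ^ k * a) = w⁻¹ * (w ^ k)⁻¹ := by
      rw [hk2, ← mul_assoc, ← hwi]
    rw [h1, h2, ← mul_inv_rev, eq_inv_iff_mul_eq_one, ← pow_succ, ← pow_add]
    rw [← hw1]; congr 1; ring
  have hconj : (w ^ k * a) * a * (w ^ k * a)⁻¹ = b := by
    rw [hja]; group
  have hj1 : w ^ k * a ≠ 1 := by
    intro h
    rw [h] at hconj
    have hab' : a = b := by simpa using hconj
    have hw' : w = 1 := by rw [hw, ← hab', ha2]
    rw [hw', one_pow, one_mul] at h
    rw [h, orderOf_one] at ha
    exact absurd ha (by norm_num)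
  have hj2 : orderOf (w ^ k * a) = 2 := orderOf_eq_two_of_mul_self hjj hj1
  have hji : (w ^ k * a)⁻¹ = w ^ k * a := inv_eq_self_of_orderOf hj2
  refine ⟨w ^ k * a, ?_, hj2, hconj, ?_⟩
  · have haM : a ∈ Subgroup.closure ({a, b} : Set G) :=
      Subgroup.subset_closure (by simp)
    have hbM : b ∈ Subgroup.closure ({a, b} : Set G) :=
      Subgroup.subset_closure (by simp)
    exact mul_mem (pow_mem (mul_mem haM hbM) k) haM
  · rw [← hconj]
    conv_rhs => rw [← one_mul a, ← hjj]
    rw [hji]
    calc w ^ k * a * (w ^ k * a * a * (w ^ k * a)) * (w ^ k * a)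
        = w ^ k * a * (w ^ k * a) * a * ((w ^ k * a) * (w ^ k * a)) := by group
      _ = w ^ k * a * (w ^ k * a) * a := by rw [hjj, mul_one]

/-- If the product of two involutions has (finite) even order, there is an involution commuting
with both. -/
theorem exists_commuting_involution (a b : G) (ha : orderOf a = 2) (hb : orderOf b = 2)
    (hpos : 0 < orderOf (a * b)) (hab : ¬ Odd (orderOf (a * b))) :
    ∃ z ∈ Subgroup.closure ({a, b} : Set G), orderOf z = 2 ∧ Commute z a ∧ Commute z b := by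
  rw [Nat.not_odd_iff_even] at hab
  obtain ⟨k, hk⟩ := hab
  have ha2 := mul_self_of_orderOf ha
  have hb2 := mul_self_of_orderOf hb
  have hai := inv_eq_self_of_orderOf ha
  have hbi := inv_eq_self_of_orderOf hb
  set w := a * b with hw
  have hwi : w⁻¹ = b * a := by rw [hw, mul_inv_rev, hai, hbi]
  have hkpos : 0 < k := by omega
  have hzz : w ^ k * w ^ k = 1 := by rw [← pow_add, ← hk]; exact pow_orderOf_eq_one w
  have hz1 : w ^ k ≠ 1 := by
    intro h
    have := orderOf_dvd_of_pow_eq_one h
    have := Nat.le_of_dvd hkpos this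
    omega
  have hzi : (w ^ k)⁻¹ = w ^ k := inv_eq_of_mul_eq_one_right hzz
  have hsa : SemiconjBy a w w⁻¹ := by
    show a * w = w⁻¹ * a
    rw [hwi, hw, ← mul_assoc, ha2, mul_assoc, ha2]; simp
  have hsb : SemiconjBy b w w⁻¹ := by
    show b * w = w⁻¹ * b
    rw [hwi, hw, mul_assoc]
  have haM : a ∈ Subgroup.closure ({a, b} : Set G) := Subgroup.subset_closure (by simp)
  have hbM : b ∈ Subgroup.closure ({a, b} : Set G) := Subgroup.subset_closure (by simp)
  refine ⟨w ^ k, pow_mem (mul_mem haM hbM) k, orderOf_eq_two_of_mul_self hzz hz1, ?_, ?_⟩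
  · have := (hsa.pow_right k).eq
    rw [inv_pow, hzi] at this
    exact this.symm
  · have := (hsb.pow_right k).eq
    rw [inv_pow, hzi] at this
    exact this.symm

end Dihedral

section SE

variable {G : Type*} [Group G] {H : Subgroup G}

/-- A subgroup containing an involution has even order. -/
theorem not_odd_of_mem [Finite G] (K : Subgroup G) (t : G) (ht : t ∈ K) (h2 : orderOf t = 2) :
    ¬ Odd (Nat.card K) := by
  intro hodd
  have h1 : orderOf t ∣ Nat.card K := K.orderOf_dvd_natCard ht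
  rw [h2] at h1
  exact (Nat.not_even_iff_odd.mpr hodd) (even_iff_two_dvd.mpr h1)

/-- If `g` conjugates some involution of `H` into `H`, then `g ∈ H`. -/
theorem mem_of_conj_mem [Finite G] (hH : IsStronglyEmbedded H) {g t : G} (ht : t ∈ H)
    (h2 : orderOf t = 2) (hg : g * t * g⁻¹ ∈ H) : g ∈ H := by
  by_contra hgH
  refine not_odd_of_mem _ (g * t * g⁻¹) ?_ ?_ (hH.2.2 g hgH)
  · exact ⟨hg, t, ht, by simp⟩
  · rw [orderOf_conj]; exact h2

theorem mem_of_commute [Finite G] (hH : IsStronglyEmbedded H) {g t : G} (ht : t ∈ H)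
    (h2 : orderOf t = 2) (hg : Commute g t) : g ∈ H := by
  refine mem_of_conj_mem hH ht h2 ?_
  rw [hg.eq]; simpa using ht

theorem exists_involution [Finite G] (hH : IsStronglyEmbedded H) : ∃ t ∈ H, orderOf t = 2 := by
  obtain ⟨⟨t, ht⟩, h2⟩ := exists_prime_orderOf_dvd_card' (G := H) 2 (even_iff_two_dvd.mp hH.2.1)
  exact ⟨t, ht, by rwa [Subgroup.orderOf_mk] at h2⟩

theorem exists_involution_notMem [Finite G] (hH : IsStronglyEmbedded H) :
    ∃ t, t ∉ H ∧ orderOf t = 2 := by
  obtain ⟨t, ht, h2⟩ := exists_involution hH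
  obtain ⟨g, hg⟩ : ∃ g, g ∉ H := by
    by_contra h
    push Not at h
    exact hH.1 ((Subgroup.eq_top_iff' H).mpr h)
  refine ⟨g * t * g⁻¹, fun h => hg (mem_of_conj_mem hH ht h2 h), ?_⟩
  rw [orderOf_conj]; exact h2

/-- `t * u` has odd order for involutions `t ∈ H` and `u ∉ H`. -/
theorem odd_orderOf_mul [Finite G] (hH : IsStronglyEmbedded H) {t u : G} (ht : t ∈ H)
    (h2 : orderOf t = 2) (hu : u ∉ H) (hu2 : orderOf u = 2) : Odd (orderOf (t * u)) := by
  by_contra hodd
  obtain ⟨z, -, hz2, hza, hzb⟩ := exists_commuting_involution t u h2 hu2 (orderOf_pos _) hodd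
  have hzH : z ∈ H := mem_of_commute hH ht h2 hza
  exact hu (mem_of_commute hH hzH hz2 hzb.symm)

/-- all involutions of `G` are conjugate -/
theorem isConj_of_involutions [Finite G] (hH : IsStronglyEmbedded H) (a b : G)
    (ha : orderOf a = 2) (hb : orderOf b = 2) : IsConj a b := by
  obtain ⟨t, ht, ht2⟩ := exists_involution hH
  obtain ⟨u, hu, hu2⟩ := exists_involution_notMem hH
  have key : ∀ x y : G, x ∈ H → orderOf x = 2 → y ∉ H → orderOf y = 2 → IsConj x y := by
    intro x y hx hx2 hy hy2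
    obtain ⟨j, -, -, hj, -⟩ := exists_swap x y hx2 hy2 (odd_orderOf_mul hH hx hx2 hy hy2)
    exact isConj_iff.mpr ⟨j, hj⟩
  have key2 : ∀ x : G, orderOf x = 2 → IsConj x t := by
    intro x hx2
    by_cases hx : x ∈ H
    · exact (key x u hx hx2 hu hu2).trans (key t u ht ht2 hu hu2).symm
    · exact (key t x ht ht2 hx hx2).symm
  exact (key2 a ha).trans (key2 b hb).symm

/-- Two points fixed by an involution coincide. -/
theorem eq_of_smul_eq [Finite G] (hH : IsStronglyEmbedded H) {t : G} (h2 : orderOf t = 2)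
    {x y : G ⧸ H} (hx : t • x = x) (hy : t • y = y) : x = y := by
  induction x using QuotientGroup.induction_on with | H g => ?_
  induction y using QuotientGroup.induction_on with | H k => ?_
  have hx' : g⁻¹ * t * g ∈ H := by
    have h : ((t * g : G) : G ⧸ H) = (g : G ⧸ H) := hx
    have := QuotientGroup.eq.mp h.symm
    simpa [mul_assoc] using this
  have hy' : k⁻¹ * t * k ∈ H := by
    have h : ((t * k : G) : G ⧸ H) = (k : G ⧸ H) := hy
    have := QuotientGroup.eq.mp h.symm
    simpa [mul_assoc] using this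
  rw [QuotientGroup.eq]
  refine mem_of_conj_mem hH (t := k⁻¹ * t * k) hy' ?_ ?_
  · have := orderOf_conj k⁻¹ t
    rw [inv_inv] at this; rw [this, h2]
  · have : g⁻¹ * k * (k⁻¹ * t * k) * (g⁻¹ * k)⁻¹ = g⁻¹ * t * g := by group
    rw [this]; exact hx'

theorem smul_one_eq_iff (t : G) : t • ((1 : G) : G ⧸ H) = ((1 : G) : G ⧸ H) ↔ t ∈ H := by
  constructor
  · intro h
    have h' : ((t * 1 : G) : G ⧸ H) = ((1 : G) : G ⧸ H) := h
    have := QuotientGroup.eq.mp h'.symm
    simpa using this
  · intro h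
    show ((t * 1 : G) : G ⧸ H) = ((1 : G) : G ⧸ H)
    rw [eq_comm, QuotientGroup.eq]
    simpa using h

/-- Every involution fixes a point. -/
theorem exists_smul_eq [Finite G] (hH : IsStronglyEmbedded H) {a : G} (h2 : orderOf a = 2) :
    ∃ x : G ⧸ H, a • x = x := by
  obtain ⟨t, ht, ht2⟩ := exists_involution hH
  obtain ⟨g, hg⟩ := isConj_iff.mp (isConj_of_involutions hH t a ht2 h2)
  refine ⟨(g : G ⧸ H), ?_⟩
  show ((a * g : G) : G ⧸ H) = (g : G ⧸ H)
  rw [eq_comm, QuotientGroup.eq, ← hg]
  have : g⁻¹ * (g * t * g⁻¹ * g) = t := by group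
  rw [this]; exact ht

/-- Involutions with distinct fixed points have product of odd order. -/
theorem odd_orderOf_mul_of_smul [Finite G] (hH : IsStronglyEmbedded H) {a b : G}
    (ha : orderOf a = 2) (hb : orderOf b = 2) {x y : G ⧸ H} (hxy : x ≠ y)
    (hx : a • x = x) (hy : b • y = y) : Odd (orderOf (a * b)) := by
  induction x using QuotientGroup.induction_on with | H g => ?_
  have hx' : g⁻¹ * a * g ∈ H := by
    have h : ((a * g : G) : G ⧸ H) = (g : G ⧸ H) := hx
    have := QuotientGroup.eq.mp h.symm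
    simpa [mul_assoc] using this
  have hb' : g⁻¹ * b * g ∉ H := by
    intro h
    apply hxy
    refine eq_of_smul_eq hH hb ?_ hy
    show ((b * g : G) : G ⧸ H) = (g : G ⧸ H)
    rw [eq_comm, QuotientGroup.eq]
    simpa [mul_assoc] using h
  have h1 : orderOf (g⁻¹ * a * g) = 2 := by
    have := orderOf_conj g⁻¹ a
    rw [inv_inv] at this; rw [this, ha]
  have h2 : orderOf (g⁻¹ * b * g) = 2 := by
    have := orderOf_conj g⁻¹ b
    rw [inv_inv] at this; rw [this, hb]
  have h3 := odd_orderOf_mul hH hx' h1 hb' h2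
  have h4 : g⁻¹ * a * g * (g⁻¹ * b * g) = g⁻¹ * (a * b) * g⁻¹⁻¹ := by group
  rw [h4, orderOf_conj] at h3
  exact h3

/-- Involutions `a`, `b` fixing distinct points `x`, `y` are swapped by an involution which
also swaps `x` and `y`. -/
theorem exists_swap_points [Finite G] (hH : IsStronglyEmbedded H) {a b : G}
    (ha : orderOf a = 2) (hb : orderOf b = 2) {x y : G ⧸ H} (hxy : x ≠ y)
    (hx : a • x = x) (hy : b • y = y) :
    ∃ j : G, orderOf j = 2 ∧ j * a * j⁻¹ = b ∧ j * b * j⁻¹ = a ∧ j • x = y ∧ j • y = x := by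
  obtain ⟨j, -, hj2, hja, hjb⟩ := exists_swap a b ha hb (odd_orderOf_mul_of_smul hH ha hb hxy hx hy)
  refine ⟨j, hj2, hja, hjb, ?_, ?_⟩
  · refine eq_of_smul_eq hH hb ?_ hy
    rw [← hja, mul_smul, mul_smul, inv_smul_smul, hx]
  · refine eq_of_smul_eq hH ha ?_ hx
    rw [← hjb, mul_smul, mul_smul, inv_smul_smul, hy]

end SE

end Cfsg.Agent.TwoFusion.StronglyEmbeddedBasic
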