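import Mathlib
import Cfsg.Agent.S0058
import Cfsg.Agent.S0276
import Cfsg.Agent.S0803
import Cfsg.Agent.S0807
import Cfsg.Agent.ClassicalGeometry.SLTwoFour
import Cfsg.Agent.ClassicalGeometry.PSL2Klein
import Cfsg.Agent.ClassicalGeometry.PSL2Basic
import Cfsg.Agent.Lib.PGroupCoprimeAction
import Cfsg.Agent.Lib.SolvableNormalP
import Cfsg.Agent.Lib.ProductSet
set_option linter.all false

/-!
# `PSL₂(q)` with abelian Sylow 2-subgroups

Abstract properties of `PSL₂(q)`, `q ≡ 3, 5 (mod 8)`: the Sylow 2-subgroups are self-centralising Klein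
four-groups, one class of involutions, and the centraliser of an involution is a Hall subgroup.
Consequence: a subgroup of odd order normalised by the centraliser of an involution lies in it.
-/

set_option autoImplicit false

namespace Cfsg.Agent.TwoFusion.PSLTwoGood

open Subgroup

/-- Properties of `PSL₂(q)`, `q ≡ 3, 5 (mod 8)`. -/
structure Good (L : Type*) [Group L] : Prop where
  klein : ∀ P : Sylow 2 L, IsKleinFour (P : Subgroup L)
  conj : ∀ x y : L, orderOf x = 2 → orderOf y = 2 → IsConj x y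
  hall : ∀ a : L, orderOf a = 2 →
    (Nat.card (Subgroup.centralizer ({a} : Set L))).Coprime (Subgroup.centralizer ({a} : Set L)).index
  selfc : ∀ P : Sylow 2 L, Subgroup.centralizer ((P : Subgroup L) : Set L) ≤ P

theorem klein_comm {L : Type*} [Group L] {P : Subgroup L} (h : IsKleinFour P) {x y : L} (hx : x ∈ P)
    (hy : y ∈ P) : x * y = y * x := by
  have := h
  have h1 : (⟨x, hx⟩ : P) * ⟨y, hy⟩ = ⟨y, hy⟩ * ⟨x, hx⟩ := mul_comm_of_exponent_two (IsKleinFour.exponent_two) _ _
  exact congrArg Subtype.val h1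

theorem klein_sq {L : Type*} [Group L] {P : Subgroup L} (h : IsKleinFour P) {x : L} (hx : x ∈ P) :
    x * x = 1 := by
  have := h
  have h1 : (⟨x, hx⟩ : P) * ⟨x, hx⟩ = 1 := IsKleinFour.mul_self _
  exact congrArg Subtype.val h1

theorem orderOf_two {L : Type*} [Group L] {x : L} (h1 : x ≠ 1) (h2 : x * x = 1) : orderOf x = 2 :=
  orderOf_eq_prime (by rw [pow_two, h2]) h1

theorem centralizer_conj_card {L : Type*} [Group L] {a b : L} (h : IsConj a b) :
    ∃ _ : Subgroup.centralizer ({a} : Set L) ≃ Subgroup.centralizer ({b} : Set L), True := by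
  obtain ⟨g, hg⟩ := isConj_iff.1 h
  refine ⟨⟨fun x => ⟨g * x * g⁻¹, ?_⟩, fun x => ⟨g⁻¹ * x * g, ?_⟩, ?_, ?_⟩, trivial⟩
  · have hx := Subgroup.mem_centralizer_singleton_iff.1 x.2
    rw [Subgroup.mem_centralizer_singleton_iff, ← hg]
    have : g * (x : L) * g⁻¹ * (g * a * g⁻¹) = g * ((x : L) * a) * g⁻¹ := by group
    rw [this, hx]; group
  · have hx := Subgroup.mem_centralizer_singleton_iff.1 x.2
    rw [Subgroup.mem_centralizer_singleton_iff]
    have ha : a = g⁻¹ * b * g := by rw [← hg]; group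
    rw [ha]
    have : g⁻¹ * (x : L) * g * (g⁻¹ * b * g) = g⁻¹ * ((x : L) * b) * g := by group
    rw [this, hx]; group
  · intro x; apply Subtype.ext; simp only; group
  · intro x; apply Subtype.ext; simp only; group

theorem card_centralizer_eq {L : Type*} [Group L] {a b : L} (h : IsConj a b) :
    Nat.card (Subgroup.centralizer ({a} : Set L)) = Nat.card (Subgroup.centralizer ({b} : Set L)) := by
  obtain ⟨e, -⟩ := centralizer_conj_card h
  exact Nat.card_congr e

theorem index_centralizer_eq {L : Type*} [Group L] [Finite L] {a b : L} (h : IsConj a b) :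
    (Subgroup.centralizer ({a} : Set L)).index = (Subgroup.centralizer ({b} : Set L)).index := by
  have h1 := (Subgroup.centralizer ({a} : Set L)).index_mul_card
  have h2 := (Subgroup.centralizer ({b} : Set L)).index_mul_card
  rw [← h2, card_centralizer_eq h] at h1
  exact Nat.eq_of_mul_eq_mul_right Nat.card_pos h1

/-- A subgroup of odd order normalised by the centraliser of an involution lies in this centraliser. -/
theorem Good.le_centralizer {L : Type*} [Group L] [Finite L] (hL : Good L) {a : L} (ha : orderOf a = 2)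
    (X : Subgroup L) (hX : Odd (Nat.card X))
    (hn : ∀ c ∈ Subgroup.centralizer ({a} : Set L), ∀ x ∈ X, c * x * c⁻¹ ∈ X) :
    X ≤ Subgroup.centralizer ({a} : Set L) := by
  classical
  set D := Subgroup.centralizer ({a} : Set L) with hD
  have h2 : Fact (Nat.Prime 2) := ⟨Nat.prime_two⟩
  obtain ⟨P, hP⟩ : ∃ P : Sylow 2 L, Subgroup.zpowers a ≤ P := by
    apply IsPGroup.exists_le_sylow
    apply IsPGroup.of_card (n := 1)
    rw [Nat.card_zpowers, ha, pow_one]
  have haP : a ∈ (P : Subgroup L) := hP (Subgroup.mem_zpowers a)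
  have hPk := hL.klein P
  have hPD : (P : Subgroup L) ≤ D := by
    intro x hx
    rw [hD, Subgroup.mem_centralizer_singleton_iff]
    exact klein_comm hPk hx haP
  have hX2 : ¬ 2 ∣ Nat.card X := by
    intro h
    exact (Nat.not_even_iff_odd.2 hX) (even_iff_two_dvd.2 h)
  have key : ∀ r : ℕ, r.Prime → r ∣ Nat.card X → r ∣ Nat.card D := by
    intro r hr hrX
    have : Fact r.Prime := ⟨hr⟩
    obtain ⟨S, ⟨T, hT⟩, hinv⟩ := Cfsg.Agent.Lib.PGroupCoprimeAction.exists_invariant_sylow
      (A := (P : Subgroup L)) (H := X) P.isPGroup' hX2 (fun b hb u hu => hn b (hPD hb) u hu) r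
    have hSX : S ≤ X := by rw [← hT]; exact Subgroup.map_subtype_le _
    have hSr : IsPGroup r S := by
      rw [← hT]
      exact T.isPGroup'.map _
    have hS1 : S ≠ ⊥ := by
      intro h0
      have h1 : (T : Subgroup X) = ⊥ := by
        rw [Subgroup.eq_bot_iff_forall]
        intro x hx
        have : (x : L) ∈ S := by rw [← hT]; exact ⟨x, hx, rfl⟩
        rw [h0, Subgroup.mem_bot] at this
        exact Subtype.ext this
      have h3 : Nat.card T = 1 := by
        have : Nat.card (T : Subgroup X) = 1 := by rw [h1]; exact Subgroup.card_bot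
        exact this
      have h4 := T.dvd_card_of_dvd_card hrX
      rw [h3] at h4
      exact hr.one_lt.ne' (Nat.dvd_one.1 h4)
    have hPcomm : IsMulCommutative (P : Subgroup L) := ⟨⟨fun x y => Subtype.ext (klein_comm hPk x.2 y.2)⟩⟩
    have hPnc : ¬ IsCyclic (P : Subgroup L) := by
      have := hPk
      exact IsKleinFour.not_isCyclic
    have hS2 : ¬ 2 ∣ Nat.card S := fun h => hX2 (h.trans (Subgroup.card_dvd_of_le hSX))
    have hcop : (Nat.card (P : Subgroup L)).Coprime (Nat.card S) := by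
      have := hPk
      rw [IsKleinFour.card_four]
      have : Nat.Coprime (2 ^ 2) (Nat.card S) :=
        Nat.Coprime.pow_left _ ((Nat.Prime.coprime_iff_not_dvd Nat.prime_two).2 hS2)
      exact this
    have hPS : (P : Subgroup L) ≤ Subgroup.normalizer (S : Set L) := by
      intro b hb
      rw [Subgroup.mem_normalizer_iff]
      intro u
      refine ⟨hinv b hb u, fun h => ?_⟩
      have := hinv b⁻¹ (inv_mem hb) _ h
      have h3 : b⁻¹ * (b * u * b⁻¹) * b⁻¹⁻¹ = u := by group
      rwa [h3] at this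
    have hgen := Cfsg.Agent.S0058.result (P : Subgroup L) S hPnc hPS hcop
    have : ∃ v ∈ (P : Subgroup L), v ≠ 1 ∧ S ⊓ Subgroup.centralizer {v} ≠ ⊥ := by
      by_contra hcon
      push Not at hcon
      apply hS1
      rw [← hgen, eq_bot_iff]
      apply iSup_le
      intro v
      apply iSup_le
      rintro ⟨hv, hv1⟩
      rw [hcon v hv hv1]
    obtain ⟨v, hvP, hv1, hne⟩ := this
    have hv2 : orderOf v = 2 := orderOf_two hv1 (klein_sq hPk hvP)
    have hr2 : IsPGroup r (S ⊓ Subgroup.centralizer {v} : Subgroup L) := hSr.to_le inf_le_left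
    have hrd : r ∣ Nat.card (S ⊓ Subgroup.centralizer {v} : Subgroup L) := by
      obtain ⟨n, hn⟩ := IsPGroup.iff_card.1 hr2
      rw [hn]
      apply dvd_pow_self
      rintro rfl
      rw [pow_zero] at hn
      exact hne (Subgroup.card_eq_one.1 hn)
    rw [hD, card_centralizer_eq (hL.conj a v ha hv2)]
    exact hrd.trans (Subgroup.card_dvd_of_le inf_le_right)
  -- the product
  have hnorm : D ≤ Subgroup.normalizer (X : Set L) := by
    intro b hb
    rw [Subgroup.mem_normalizer_iff]
    intro u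
    refine ⟨hn b hb u, fun h => ?_⟩
    have := hn b⁻¹ (inv_mem hb) _ h
    have h3 : b⁻¹ * (b * u * b⁻¹) * b⁻¹⁻¹ = u := by group
    rwa [h3] at this
  have hcard : Nat.card (X ⊔ D : Subgroup L) ∣ Nat.card X * Nat.card D := by
    rw [← Cfsg.Agent.Lib.ProductSet.card_mul_card_inf X D,
      ← Subgroup.coe_mul_of_right_le_normalizer_left X D hnorm]
    exact Dvd.intro _ rfl
  have hcop : (Nat.card (X ⊔ D : Subgroup L)).Coprime D.index := by
    rw [Nat.Coprime, Nat.eq_one_iff_not_exists_prime_dvd]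
    intro r hr hrd
    have h1 : r ∣ Nat.card (X ⊔ D : Subgroup L) := hrd.trans (Nat.gcd_dvd_left _ _)
    have h2 : r ∣ D.index := hrd.trans (Nat.gcd_dvd_right _ _)
    have h3 : r ∣ Nat.card D := by
      rcases (hr.dvd_mul.1 (h1.trans hcard)) with h | h
      · exact key r hr h
      · exact h
    have h4 := Nat.dvd_gcd h3 h2
    rw [(hL.hall a ha)] at h4
    exact hr.one_lt.ne' (Nat.dvd_one.1 h4)
  have hle : Nat.card (X ⊔ D : Subgroup L) ∣ Nat.card D := by
    have h1 : Nat.card (X ⊔ D : Subgroup L) ∣ Nat.card L := Subgroup.card_subgroup_dvd_card _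
    rw [← D.index_mul_card] at h1
    exact hcop.dvd_of_dvd_mul_left h1
  have heq : D = X ⊔ D :=
    Subgroup.eq_of_le_of_card_ge le_sup_right (Nat.le_of_dvd Nat.card_pos hle)
  calc X ≤ X ⊔ D := le_sup_left
    _ = D := heq.symm

/-- Involutions of a Sylow 2-subgroup are conjugate in its normaliser. -/
theorem Good.trans {L : Type*} [Group L] [Finite L] (hL : Good L) (P : Sylow 2 L) {a b : L}
    (ha : a ∈ P) (hb : b ∈ P) (ha1 : a ≠ 1) (hb1 : b ≠ 1) :
    ∃ n ∈ Subgroup.normalizer ((P : Subgroup L) : Set L), n * a * n⁻¹ = b := by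
  have h2 : Fact (Nat.Prime 2) := ⟨Nat.prime_two⟩
  have hPk := hL.klein P
  have hPc : IsMulCommutative (P : Subgroup L) :=
    ⟨⟨fun x y => Subtype.ext (klein_comm hPk x.2 y.2)⟩⟩
  obtain ⟨g, hg⟩ := isConj_iff.1 (hL.conj a b (orderOf_two ha1 (klein_sq hPk ha))
    (orderOf_two hb1 (klein_sq hPk hb)))
  obtain ⟨n, hn, h⟩ := P.conj_eq_normalizer_conj_of_mem a g⁻¹ ha (by
    rw [inv_inv, hg]; exact hb)
  refine ⟨n⁻¹, inv_mem hn, ?_⟩
  rw [inv_inv] at h ⊢
  rw [← h, hg]

/-- No nontrivial normal subgroup of odd order. -/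
theorem Good.normal_odd_eq_bot {L : Type*} [Group L] [Finite L] (hL : Good L) (X : Subgroup L)
    (hn : ∀ c : L, ∀ x ∈ X, c * x * c⁻¹ ∈ X) (hX : Odd (Nat.card X)) : X = ⊥ := by
  obtain ⟨P⟩ : Nonempty (Sylow 2 L) := inferInstance
  have hPk := hL.klein P
  have hXP : X ≤ P := by
    refine le_trans ?_ (hL.selfc P)
    intro x hx
    rw [Subgroup.mem_centralizer_iff]
    intro a ha
    by_cases ha1 : a = 1
    · rw [ha1, one_mul, mul_one]
    · have h1 := hL.le_centralizer (orderOf_two ha1 (klein_sq hPk ha)) X hX (fun c _ x hx => hn c x hx) hx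
      exact (Subgroup.mem_centralizer_singleton_iff.1 h1).symm
  rw [Subgroup.eq_bot_iff_forall]
  intro x hx
  have h2 : x ^ 2 = 1 := by rw [pow_two]; exact klein_sq hPk (hXP hx)
  have h3 : orderOf x ∣ 2 := orderOf_dvd_of_pow_eq_one h2
  have h4 : orderOf x ∣ Nat.card X := by
    have := orderOf_dvd_natCard (⟨x, hx⟩ : X)
    rwa [Subgroup.orderOf_mk] at this
  have h5 : orderOf x ∣ 1 := by
    have : Nat.Coprime 2 (Nat.card X) := (Nat.coprime_two_left).2 hX
    rw [← this]
    exact Nat.dvd_gcd h3 h4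
  exact orderOf_eq_one_iff.1 (Nat.dvd_one.1 h5)

theorem centralizer_map_equiv {L L' : Type*} [Group L] [Group L'] (e : L ≃* L') (a : L) :
    (Subgroup.centralizer ({a} : Set L)).map e.toMonoidHom = Subgroup.centralizer ({e a} : Set L') := by
  ext x
  rw [Subgroup.mem_map, Subgroup.mem_centralizer_singleton_iff]
  constructor
  · rintro ⟨y, hy, rfl⟩
    rw [Subgroup.mem_centralizer_singleton_iff] at hy
    change e y * e a = e a * e y
    rw [← map_mul, hy, map_mul]
  · intro h
    refine ⟨e.symm x, ?_, e.apply_symm_apply x⟩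
    rw [Subgroup.mem_centralizer_singleton_iff]
    apply e.injective
    rw [map_mul, map_mul, e.apply_symm_apply, h]

theorem Good.of_mulEquiv {L L' : Type*} [Group L] [Group L'] [Finite L] (e : L ≃* L')
    (h : Good L') : Good L where
  klein := by
    intro P
    have h2 : Fact (Nat.Prime 2) := ⟨Nat.prime_two⟩
    have : Finite L' := Finite.of_equiv L e.toEquiv
    let Q : Sylow 2 L' := P.mapSurjective (f := e.toMonoidHom) e.surjective
    have hQ : (Q : Subgroup L') = (P : Subgroup L).map e.toMonoidHom := rfl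
    have h1 := h.klein Q
    rw [hQ] at h1
    have e2 : (P : Subgroup L) ≃* ((P : Subgroup L).map e.toMonoidHom) :=
      (P : Subgroup L).equivMapOfInjective e.toMonoidHom e.injective
    refine ⟨?_, ?_⟩
    · rw [Nat.card_congr e2.toEquiv]; exact h1.card_four
    · rw [Monoid.exponent_eq_of_mulEquiv e2]; exact h1.exponent_two
  conj := by
    intro x y hx hy
    have h1 := h.conj (e x) (e y) (by rw [MulEquiv.orderOf_eq, hx]) (by rw [MulEquiv.orderOf_eq, hy])
    obtain ⟨g, hg⟩ := isConj_iff.1 h1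
    refine isConj_iff.2 ⟨e.symm g, ?_⟩
    apply e.injective
    rw [map_mul, map_mul, map_inv, e.apply_symm_apply, hg]
  hall := by
    intro a ha
    have h1 := h.hall (e a) (by rw [MulEquiv.orderOf_eq, ha])
    rw [← centralizer_map_equiv e a] at h1
    rwa [Subgroup.card_map_of_injective e.injective,
      Subgroup.index_map_of_bijective e.bijective] at h1
  selfc := by
    intro P
    have h2 : Fact (Nat.Prime 2) := ⟨Nat.prime_two⟩
    have : Finite L' := Finite.of_equiv L e.toEquiv
    let Q : Sylow 2 L' := P.mapSurjective (f := e.toMonoidHom) e.surjective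
    have hQ : (Q : Subgroup L') = (P : Subgroup L).map e.toMonoidHom := rfl
    have h1 := h.selfc Q
    rw [hQ] at h1
    intro x hx
    have h3 : e x ∈ Subgroup.centralizer (((P : Subgroup L).map e.toMonoidHom : Subgroup L') : Set L') := by
      rw [Subgroup.mem_centralizer_iff]
      rintro _ ⟨y, hy, rfl⟩
      change e y * e x = e x * e y
      rw [← map_mul, ← map_mul, Subgroup.mem_centralizer_iff.1 hx y hy]
    obtain ⟨y, hy, hyx⟩ := h1 h3
    have : y = x := e.injective hyx
    rwa [← this]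

section PSL

open Matrix
open Cfsg.Agent.ClassicalGeometry.SLTwoFour (w w_mul_self mem_normalizer_zpowers_w card_normalizer_w
  card_circle_one card_circle_three psl_isConj)
open Cfsg.Agent.ClassicalGeometry.PSL2Klein (mk mk_eq_mk mk_eq_one involution_iff card_klein)

variable {F : Type*} [Field F] [Fintype F]

local notation "SL2" => Matrix.SpecialLinearGroup (Fin 2)
local notation "PSL2" => Matrix.ProjectiveSpecialLinearGroup (Fin 2)

/-- A Sylow 2-subgroup of `S₄` is not commutative. -/
theorem perm_four_not_comm {G : Type*} [Group G] [Finite G] (f : Equiv.Perm (Fin 4) →* G)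
    (hf : Function.Injective f) (P : Sylow 2 G) (hP : IsMulCommutative (P : Subgroup G)) : False := by
  have h2 : Fact (Nat.Prime 2) := ⟨Nat.prime_two⟩
  let x : Equiv.Perm (Fin 4) := Equiv.swap 0 1 * Equiv.swap 2 3
  let y : Equiv.Perm (Fin 4) := Equiv.swap 0 1
  let z : Equiv.Perm (Fin 4) := Equiv.swap 0 2 * Equiv.swap 1 3
  let C : Subgroup (Equiv.Perm (Fin 4)) := Subgroup.centralizer {x}
  have hC : Nat.card C = 2 ^ 3 := by
    have : Fintype.card {g : Equiv.Perm (Fin 4) // g * x = x * g} = 8 := by decide +kernel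
    rw [← Nat.card_eq_fintype_card] at this
    rw [show (2 : ℕ) ^ 3 = 8 by norm_num, ← this]
    exact Nat.card_congr (Equiv.subtypeEquivRight fun g => Subgroup.mem_centralizer_singleton_iff)
  have hy : y ∈ C := by
    rw [Subgroup.mem_centralizer_singleton_iff]; decide
  have hz : z ∈ C := by
    rw [Subgroup.mem_centralizer_singleton_iff]; decide
  have hCp : IsPGroup 2 (C.map f) := (IsPGroup.of_card hC).map f
  obtain ⟨Q, hQ⟩ := hCp.exists_le_sylow
  have e : P ≃* Q := Sylow.equiv P Q
  have hcomm : ∀ a b : Q, a * b = b * a := by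
    intro a b
    apply e.symm.injective
    rw [map_mul, map_mul]
    exact hP.is_comm.comm _ _
  have h1 := hcomm ⟨f y, hQ ⟨y, hy, rfl⟩⟩ ⟨f z, hQ ⟨z, hz, rfl⟩⟩
  have h3 : f y * f z = f z * f y := congrArg Subtype.val h1
  rw [← map_mul, ← map_mul] at h3
  have h4 := hf h3
  revert h4
  decide

theorem mod_eight (hodd : Odd (Fintype.card F)) (P : Sylow 2 (PSL2 F))
    (hP : IsMulCommutative (P : Subgroup (PSL2 F))) :
    Fintype.card F % 8 = 3 ∨ Fintype.card F % 8 = 5 := by
  by_contra hcon
  have h16 : Fintype.card F ^ 2 % 16 = 1 := by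
    obtain ⟨k, hk⟩ := hodd
    have h8 : Fintype.card F % 8 = 1 ∨ Fintype.card F % 8 = 7 := by omega
    have h17 : Fintype.card F % 16 = 1 ∨ Fintype.card F % 16 = 7 ∨ Fintype.card F % 16 = 9 ∨
      Fintype.card F % 16 = 15 := by omega
    rcases h17 with h | h | h | h <;> rw [Nat.pow_mod, h]
  obtain ⟨H, ⟨e⟩⟩ := (Cfsg.Agent.S0803.result (F := F) rfl).2 h16
  exact perm_four_not_comm (H.subtype.comp e.symm.toMonoidHom)
    (H.subtype_injective.comp e.symm.injective) P hP

theorem card_centralizer_w (hodd : Odd (Fintype.card F)) :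
    Nat.card (Subgroup.centralizer ({mk (w : SL2 F)} : Set (PSL2 F))) =
      Nat.card {p : F × F // p.1 ^ 2 + p.2 ^ 2 = 1} := by
  have h2 : (2 : F) ≠ 0 := Cfsg.Agent.ClassicalGeometry.SLTwoFour.two_ne_zero_of_odd hodd
  have h1 := Cfsg.Agent.Lib.SolvableNormalP.card_comap_mk (Subgroup.center (SL2 F))
    (Subgroup.centralizer ({mk (w : SL2 F)} : Set (PSL2 F)))
  rw [Cfsg.Agent.ClassicalGeometry.PSL2Klein.card_center h2] at h1
  have h3 : (Subgroup.centralizer ({mk (w : SL2 F)} : Set (PSL2 F))).comap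
      (QuotientGroup.mk' (Subgroup.center (SL2 F))) =
      Subgroup.normalizer ((Subgroup.zpowers (w : SL2 F) : Subgroup (SL2 F)) : Set (SL2 F)) := by
    ext g
    rw [Subgroup.mem_comap, mem_normalizer_zpowers_w, Subgroup.mem_centralizer_singleton_iff]
    change mk (g * w) = mk (w * g) ↔ _
    rw [mk_eq_mk, neg_mul]
  rw [h3, card_normalizer_w hodd] at h1
  have h4 : 2 * Nat.card {p : F × F // p.1 ^ 2 + p.2 ^ 2 = 1} =
    Nat.card (Subgroup.centralizer ({mk (w : SL2 F)} : Set (PSL2 F))) * 2 := h1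
  omega

theorem card_centralizer (hodd : Odd (Fintype.card F)) {a : PSL2 F} (ha : orderOf a = 2) :
    Nat.card (Subgroup.centralizer ({a} : Set (PSL2 F))) =
      Nat.card {p : F × F // p.1 ^ 2 + p.2 ^ 2 = 1} := by
  have h2 : (2 : F) ≠ 0 := Cfsg.Agent.ClassicalGeometry.SLTwoFour.two_ne_zero_of_odd hodd
  rw [← card_centralizer_w hodd]
  apply card_centralizer_eq
  apply psl_isConj hodd _ _ ha
  have h3 : (w : SL2 F).1 * (w : SL2 F).1 = -1 := by
    have := congrArg Subtype.val (w_mul_self (F := F))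
    simpa using this
  have h4 := (involution_iff h2).2 h3
  exact orderOf_two h4.1 h4.2

theorem hall (hodd : Odd (Fintype.card F))
    (h8 : Fintype.card F % 8 = 3 ∨ Fintype.card F % 8 = 5) {a : PSL2 F} (ha : orderOf a = 2) :
    (Nat.card (Subgroup.centralizer ({a} : Set (PSL2 F)))).Coprime
      (Subgroup.centralizer ({a} : Set (PSL2 F))).index := by
  have h1 := (Subgroup.centralizer ({a} : Set (PSL2 F))).index_mul_card
  have h2 := Cfsg.Agent.ClassicalGeometry.PSL2Basic.card_PSL2_odd F hodd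
  have h3 := card_centralizer hodd ha
  set q := Fintype.card F with hq
  set c := Nat.card (Subgroup.centralizer ({a} : Set (PSL2 F))) with hc
  set i := (Subgroup.centralizer ({a} : Set (PSL2 F))).index with hi
  have hc0 : 0 < c := Nat.card_pos
  have hqq : q ^ 2 - 1 = (q - 1) * (q + 1) := by
    have : 1 ≤ q := by omega
    obtain ⟨k, hk⟩ := Nat.exists_eq_add_of_le this
    rw [hk]
    have : (1 + k) ^ 2 - 1 = k * (k + 2) := by
      have : (1 + k) ^ 2 = k * (k + 2) + 1 := by ring
      omega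
    rw [this, Nat.add_sub_cancel_left]; ring
  rw [hqq, ← h1] at h2
  rw [Nat.Coprime, Nat.eq_one_iff_not_exists_prime_dvd]
  intro r hr hrd
  have hrc : r ∣ c := hrd.trans (Nat.gcd_dvd_left _ _)
  have hri : r ∣ i := hrd.trans (Nat.gcd_dvd_right _ _)
  rcases h8 with h8 | h8
  · have h4 : c = q + 1 := by rw [h3]; exact card_circle_three (by omega)
    rw [h4] at h2 hrc
    have h5 : i * 2 = q * (q - 1) := by
      have : (i * 2) * (q + 1) = (q * (q - 1)) * (q + 1) := by linarith
      exact Nat.eq_of_mul_eq_mul_right (by omega) this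
    have h6 : r ∣ q * (q - 1) := by rw [← h5]; exact hri.mul_right 2
    rcases hr.dvd_mul.1 h6 with h | h
    · have : r ∣ 1 := (Nat.dvd_add_right h).1 hrc
      exact hr.one_lt.ne' (Nat.dvd_one.1 this)
    · have h7 : r ∣ 2 := by
        have : q + 1 = (q - 1) + 2 := by omega
        rw [this] at hrc
        exact (Nat.dvd_add_right h).1 hrc
      have h9 : r = 2 := (Nat.prime_dvd_prime_iff_eq hr Nat.prime_two).1 h7
      subst h9
      obtain ⟨j, hj⟩ := hri
      obtain ⟨k, hk⟩ : ∃ k, q = 8 * k + 3 := ⟨q / 8, by omega⟩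
      rw [hj, hk] at h5
      have : 8 * k + 3 - 1 = 8 * k + 2 := by omega
      rw [this] at h5
      have h10 : 2 * j * 2 = 2 * ((8 * k + 3) * (4 * k + 1)) := by rw [h5]; ring
      have h11 : 2 * j = (8 * k + 3) * (4 * k + 1) := by omega
      have h12 : (8 * k + 3) * (4 * k + 1) = 2 * (16 * k ^ 2 + 10 * k + 1) + 1 := by ring
      omega
  · have h4 : c = q - 1 := by rw [h3]; exact card_circle_one (by omega)
    rw [h4] at h2 hrc
    have h5 : i * 2 = q * (q + 1) := by
      have : (i * 2) * (q - 1) = (q * (q + 1)) * (q - 1) := by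
        calc (i * 2) * (q - 1) = i * (q - 1) * 2 := by ring
          _ = q * ((q - 1) * (q + 1)) := h2
          _ = (q * (q + 1)) * (q - 1) := by ring
      exact Nat.eq_of_mul_eq_mul_right (by omega) this
    have h6 : r ∣ q * (q + 1) := by rw [← h5]; exact hri.mul_right 2
    rcases hr.dvd_mul.1 h6 with h | h
    · have : r ∣ 1 := by
        have h7 : q = (q - 1) + 1 := by omega
        rw [h7] at h
        exact (Nat.dvd_add_right hrc).1 h
      exact hr.one_lt.ne' (Nat.dvd_one.1 this)
    · have h7 : r ∣ 2 := by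
        have : q + 1 = (q - 1) + 2 := by omega
        rw [this] at h
        exact (Nat.dvd_add_right hrc).1 h
      have h9 : r = 2 := (Nat.prime_dvd_prime_iff_eq hr Nat.prime_two).1 h7
      subst h9
      obtain ⟨j, hj⟩ := hri
      obtain ⟨k, hk⟩ : ∃ k, q = 8 * k + 5 := ⟨q / 8, by omega⟩
      rw [hj, hk] at h5
      have h10 : 2 * j * 2 = 2 * ((8 * k + 5) * (4 * k + 3)) := by rw [h5]; ring
      have h11 : 2 * j = (8 * k + 5) * (4 * k + 3) := by omega
      have h12 : (8 * k + 5) * (4 * k + 3) = 2 * (16 * k ^ 2 + 22 * k + 7) + 1 := by ring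
      omega

theorem selfc (hodd : Odd (Fintype.card F))
    (h8 : Fintype.card F % 8 = 3 ∨ Fintype.card F % 8 = 5) (P : Sylow 2 (PSL2 F)) :
    Subgroup.centralizer ((P : Subgroup (PSL2 F)) : Set (PSL2 F)) ≤ P := by
  have h2' : Fact (Nat.Prime 2) := ⟨Nat.prime_two⟩
  have h2 : (2 : F) ≠ 0 := Cfsg.Agent.ClassicalGeometry.SLTwoFour.two_ne_zero_of_odd hodd
  have hk : ∀ Q : Sylow 2 (PSL2 F), IsKleinFour (Q : Subgroup (PSL2 F)) :=
    fun Q => Cfsg.Agent.S0276.result rfl h8 Q
  have h1 : Nat.card {V : Subgroup (PSL2 F) // IsKleinFour V} = Nat.card (Sylow 2 (PSL2 F)) := by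
    symm
    refine Nat.card_congr (Equiv.ofBijective (fun Q => ⟨(Q : Subgroup (PSL2 F)), hk Q⟩) ⟨?_, ?_⟩)
    · intro Q R h
      exact Sylow.ext (congrArg Subtype.val h)
    · rintro ⟨V, hV⟩
      have hVc : Nat.card V = 4 := IsKleinFour.card_four
      have hVp : IsPGroup 2 V := IsPGroup.of_card (n := 2) hVc
      obtain ⟨Q, hQ⟩ := hVp.exists_le_sylow
      refine ⟨Q, Subtype.ext ?_⟩
      have := hk Q
      exact (Subgroup.eq_of_le_of_card_ge hQ (by
        rw [hVc]; exact (IsKleinFour.card_four (G := (Q : Subgroup (PSL2 F)))).le)).symm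
  have h3 := card_klein (F := F) h2
  rw [h1, Sylow.card_eq_index_normalizer P] at h3
  set N := Subgroup.normalizer ((P : Subgroup (PSL2 F)) : Set (PSL2 F)) with hN
  set C := Subgroup.centralizer ((P : Subgroup (PSL2 F)) : Set (PSL2 F)) with hC
  have h4 := N.card_mul_index
  rw [← h3] at h4
  have h5 : Nat.card N = 12 := Nat.eq_of_mul_eq_mul_right (Nat.pos_of_ne_zero Subgroup.index_ne_zero_of_finite) h4
  have hPk := hk P
  have hPC : (P : Subgroup (PSL2 F)) ≤ C := by
    intro x hx
    rw [hC, Subgroup.mem_centralizer_iff]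
    intro y hy
    exact klein_comm hPk hy hx
  have hCN : C ≤ N := Subgroup.centralizer_le_normalizer _
  have h6 : Nat.card C ∣ 12 := by rw [← h5]; exact Subgroup.card_dvd_of_le hCN
  have hP4 : Nat.card (P : Subgroup (PSL2 F)) = 4 := IsKleinFour.card_four
  have h7 : 4 ∣ Nat.card C := by rw [← hP4]; exact Subgroup.card_dvd_of_le hPC
  have h9 : Nat.card C = 4 ∨ Nat.card C = 12 := by
    obtain ⟨k, hk⟩ := h7
    rw [hk] at h6
    have : k ∣ 3 := by
      obtain ⟨m, hm⟩ := h6
      exact ⟨m, by linarith⟩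
    rcases (Nat.dvd_prime Nat.prime_three).1 this with rfl | rfl
    · left; omega
    · right; omega
  rcases h9 with h9 | h9
  · exact (Subgroup.eq_of_le_of_card_ge hPC (by rw [h9, hP4])).ge
  · exfalso
    have hCN' : C = N := Subgroup.eq_of_le_of_card_ge hCN (by rw [h9, h5])
    have hPc : IsMulCommutative (P : Subgroup (PSL2 F)) :=
      ⟨⟨fun x y => Subtype.ext (klein_comm hPk x.2 y.2)⟩⟩
    -- two distinct involutions
    obtain ⟨a, b, ha, hb, ha1, hb1, hab⟩ : ∃ a b : PSL2 F, a ∈ (P : Subgroup (PSL2 F)) ∧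
        b ∈ (P : Subgroup (PSL2 F)) ∧ a ≠ 1 ∧ b ≠ 1 ∧ a ≠ b := by
      have hcard : 2 < (Set.univ : Set (P : Subgroup (PSL2 F))).ncard := by
        rw [Set.ncard_univ, hP4]; norm_num
      obtain ⟨x, -, hx⟩ := Set.exists_mem_notMem_of_ncard_lt_ncard (s := {1})
        (t := (Set.univ : Set (P : Subgroup (PSL2 F)))) (by rw [Set.ncard_singleton]; omega)
      obtain ⟨y, -, hy⟩ := Set.exists_mem_notMem_of_ncard_lt_ncard (s := {1, x})
        (t := (Set.univ : Set (P : Subgroup (PSL2 F)))) (lt_of_le_of_lt (Set.ncard_insert_le _ _)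
          (by rw [Set.ncard_singleton]; omega))
      simp only [Set.mem_singleton_iff, Set.mem_insert_iff, not_or] at hx hy
      exact ⟨x, y, x.2, y.2, fun h => hx (Subtype.ext h), fun h => hy.1 (Subtype.ext h),
        fun h => hy.2 (Subtype.ext h.symm)⟩
    obtain ⟨g, hg⟩ := isConj_iff.1 (psl_isConj hodd a b (orderOf_two ha1 (klein_sq hPk ha))
      (orderOf_two hb1 (klein_sq hPk hb)))
    obtain ⟨n, hn, h⟩ := P.conj_eq_normalizer_conj_of_mem a g⁻¹ ha (by
      rw [inv_inv, hg]; exact hb)
    have hnN : n ∈ N := hn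
    rw [← hCN', hC, Subgroup.mem_centralizer_iff] at hnN
    have h10 := hnN a ha
    apply hab
    rw [inv_inv, hg] at h
    rw [h, mul_assoc, h10]; group

theorem good_psl (hodd : Odd (Fintype.card F)) (P : Sylow 2 (PSL2 F))
    (hP : IsMulCommutative (P : Subgroup (PSL2 F))) : Good (PSL2 F) where
  klein := fun Q => Cfsg.Agent.S0276.result rfl (mod_eight hodd P hP) Q
  conj := fun x y hx hy => psl_isConj hodd x y hx hy
  hall := fun _ ha => hall hodd (mod_eight hodd P hP) ha
  selfc := fun Q => selfc hodd (mod_eight hodd P hP) Q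

end PSL

end Cfsg.Agent.TwoFusion.PSLTwoGood
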