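import Mathlib
import Cfsg.Agent.TwoFusion.QuatCover
import Cfsg.Agent.S0268
set_option linter.all false

/-!
# Recognition of `SL(2,q)`, `q` odd, from its central quotient and its quaternion Sylow 2-subgroups
-/

set_option autoImplicit false

open Subgroup

namespace Cfsg.Agent.TwoFusion.QuatCoverSL

variable {F : Type*} [Field F] [Fintype F]

theorem two_ne_zero_of_odd (hF : Odd (Fintype.card F)) : (2 : F) ≠ 0 := by
  refine Ring.two_ne_zero fun hc => ?_
  exact (Nat.not_even_iff_odd.2 hF) (Nat.even_iff.2 (FiniteField.even_card_of_char_two hc))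

theorem neg_one_ne_one (hF : Odd (Fintype.card F)) : (-1 : Matrix.SpecialLinearGroup (Fin 2) F) ≠ 1 := by
  intro h
  have h1 := congrArg (fun g : Matrix.SpecialLinearGroup (Fin 2) F => (g : Matrix (Fin 2) (Fin 2) F) 0 0) h
  have h3 : (-1 : F) = 1 := by simpa using h1
  have h2 : (2 : F) = 0 := by linear_combination -h3
  exact two_ne_zero_of_odd hF h2

theorem orderOf_neg_one (hF : Odd (Fintype.card F)) :
    orderOf (-1 : Matrix.SpecialLinearGroup (Fin 2) F) = 2 := by
  apply orderOf_eq_prime
  · rw [sq, neg_mul_neg, one_mul]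
  · exact neg_one_ne_one hF

theorem eq_neg_one_of_orderOf_two (hF : Odd (Fintype.card F)) (x : Matrix.SpecialLinearGroup (Fin 2) F)
    (hx : orderOf x = 2) : x = -1 := by
  apply Subtype.ext
  have h1 : x ≠ 1 := by
    rintro rfl
    simp at hx
  have h2 : x * x = 1 := by
    have h3 := pow_orderOf_eq_one x
    rwa [hx, sq] at h3
  have := Cfsg.Agent.S0268.result hF x h1 h2
  rw [this]
  simp

theorem neg_one_mem_center : (-1 : Matrix.SpecialLinearGroup (Fin 2) F) ∈ center (Matrix.SpecialLinearGroup (Fin 2) F) := by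
  rw [Subgroup.mem_center_iff]
  intro g
  rw [mul_neg, neg_mul, mul_one, one_mul]

theorem center_eq_zpowers (hF : Odd (Fintype.card F)) :
    center (Matrix.SpecialLinearGroup (Fin 2) F) = zpowers (-1 : Matrix.SpecialLinearGroup (Fin 2) F) := by
  apply le_antisymm
  · intro g hg
    obtain ⟨r, hr, hrg⟩ := Matrix.SpecialLinearGroup.mem_center_iff.mp hg
    by_cases h1 : g = 1
    · rw [h1]; exact one_mem _
    · have h2 : g ^ 2 = 1 := by
        apply Subtype.ext
        rw [Matrix.SpecialLinearGroup.coe_pow, ← hrg, ← map_pow]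
        simp only [Fintype.card_fin] at hr
        rw [hr, map_one]
        rfl
      rw [eq_neg_one_of_orderOf_two hF g (orderOf_eq_prime h2 h1)]
      exact mem_zpowers _
  · rw [zpowers_le]
    exact neg_one_mem_center

/-- A finite group with a central involution `z`, generalized quaternion Sylow `2`-subgroups and
`L / ⟨z⟩ ≅ PSL(2,q)`, `q` odd, is isomorphic to `SL(2,q)`. -/
theorem mulEquiv_sl_two {L : Type*} [Group L] [Finite L] (z : L) (hz : z ∈ center L)
    (hz2 : orderOf z = 2) [hn : (zpowers z).Normal] (Q : Sylow 2 L) (m : ℕ) (hm : 1 ≤ m)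
    (e : (Q : Subgroup L) ≃* QuaternionGroup (2 ^ m)) (hF : Odd (Fintype.card F))
    (φ : L ⧸ zpowers z ≃* Matrix.ProjectiveSpecialLinearGroup (Fin 2) F) :
    Nonempty (L ≃* Matrix.SpecialLinearGroup (Fin 2) F) := by
  have hn₂ : (zpowers (-1 : Matrix.SpecialLinearGroup (Fin 2) F)).Normal := by
    rw [← center_eq_zpowers hF]; infer_instance
  let θ : Matrix.ProjectiveSpecialLinearGroup (Fin 2) F ≃*
      Matrix.SpecialLinearGroup (Fin 2) F ⧸ zpowers (-1 : Matrix.SpecialLinearGroup (Fin 2) F) :=
    QuotientGroup.quotientMulEquivOfEq (center_eq_zpowers hF)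
  exact QuatCover.mulEquiv_of_quotient z (-1) hz hz2 neg_one_mem_center (orderOf_neg_one hF)
    (eq_neg_one_of_orderOf_two hF) Q m hm e (φ.trans θ)

end Cfsg.Agent.TwoFusion.QuatCoverSL
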