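import Mathlib
import Cfsg.Agent.S0836
import Cfsg.Agent.LieClassical.SLGen
import Cfsg.Agent.ClassicalGeometry.PSL2Basic
set_option linter.all false

/-!
# Some facts on `SL(2,q)`: perfect and simple modulo the centre for `q > 3`, generated by elements of order
dividing `q`.
-/

set_option autoImplicit false

open Subgroup

namespace Cfsg.Agent.TwoFusion.SLTwoFacts

variable {F : Type*} [Field F] [Fintype F]

theorem commutator_eq_top (h : 3 < Fintype.card F) :
    commutator (Matrix.SpecialLinearGroup (Fin 2) F) = ⊤ := by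
  classical
  have hx : ∃ x : F, x ≠ 0 ∧ x ^ 2 ≠ 1 := by
    have h1 : ({0, 1, -1} : Finset F).card < (Finset.univ : Finset F).card := by
      refine lt_of_le_of_lt Finset.card_le_three ?_
      rwa [Finset.card_univ]
    obtain ⟨x, -, hx⟩ := Finset.exists_mem_notMem_of_card_lt_card h1
    simp only [Finset.mem_insert, Finset.mem_singleton, not_or] at hx
    refine ⟨x, hx.1, ?_⟩
    intro h2
    rcases (mul_self_eq_one_iff.mp (by rw [← sq]; exact h2) : x = 1 ∨ x = -1) with h3 | h3
    · exact hx.2.1 h3
    · exact hx.2.2 h3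
  refine top_unique fun A _ => ?_
  refine Cfsg.Agent.LieClassical.SLGen.transvection_induction
    (fun A => A ∈ commutator (Matrix.SpecialLinearGroup (Fin 2) F)) ?_ ?_ A
  · intro i j hij c
    have h2 := Cfsg.Agent.S0836.result 2 (Or.inr ⟨rfl, hx⟩) i j hij c
      (Matrix.SpecialLinearGroup.transvection hij c) rfl
    rw [commutator_eq_closure]
    exact subset_closure h2
  · intro A B hA hB
    exact mul_mem hA hB

theorem isSimpleGroup_psl (h : 3 < Fintype.card F) :
    IsSimpleGroup (Matrix.ProjectiveSpecialLinearGroup (Fin 2) F) :=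
  Cfsg.Agent.LieClassical.SLGen.psl_isSimpleGroup_of_perfect (commutator_eq_top h)

theorem transvection_pow_card {i j : Fin 2} (hij : i ≠ j) (c : F) :
    (Matrix.SpecialLinearGroup.transvection hij c : Matrix.SpecialLinearGroup (Fin 2) F) ^ Fintype.card F = 1 := by
  have h1 : ∀ k : ℕ, (Matrix.SpecialLinearGroup.transvection hij c : Matrix.SpecialLinearGroup (Fin 2) F) ^ k =
      Matrix.SpecialLinearGroup.transvection hij (k * c) := by
    intro k
    induction k with
    | zero =>
      rw [pow_zero]
      apply Subtype.ext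
      change (1 : Matrix (Fin 2) (Fin 2) F) = Matrix.transvection i j (((0 : ℕ) : F) * c)
      rw [Nat.cast_zero, zero_mul, Matrix.transvection_zero]
    | succ k ih =>
      rw [pow_succ, ih]
      apply Subtype.ext
      change Matrix.transvection i j (k * c) * Matrix.transvection i j c = Matrix.transvection i j (((k + 1 : ℕ) : F) * c)
      rw [Matrix.transvection_mul_transvection_same i j hij]
      congr 1
      push_cast
      ring
  rw [h1]
  apply Subtype.ext
  have h2 : ((Fintype.card F : ℕ) : F) = 0 := FiniteField.cast_card_eq_zero F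
  change Matrix.transvection i j (((Fintype.card F : ℕ) : F) * c) = 1
  rw [h2, zero_mul, Matrix.transvection_zero]

/-- A homomorphism from `SL(2,q)`, `q` odd, to a `2`-group is trivial. -/
theorem hom_eq_one (hF : Odd (Fintype.card F)) {P : Type*} [Group P] (hP : IsPGroup 2 P)
    (f : Matrix.SpecialLinearGroup (Fin 2) F →* P) (A : Matrix.SpecialLinearGroup (Fin 2) F) : f A = 1 := by
  refine Cfsg.Agent.LieClassical.SLGen.transvection_induction (fun A => f A = 1) ?_ ?_ A
  · intro i j hij c
    obtain ⟨k, hk⟩ := hP (f (Matrix.SpecialLinearGroup.transvection hij c))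
    have h1 : f (Matrix.SpecialLinearGroup.transvection hij c) ^ Fintype.card F = 1 := by
      rw [← map_pow, transvection_pow_card, map_one]
    have h2 : orderOf (f (Matrix.SpecialLinearGroup.transvection hij c)) ∣ 2 ^ k := orderOf_dvd_of_pow_eq_one hk
    have h3 : orderOf (f (Matrix.SpecialLinearGroup.transvection hij c)) ∣ Fintype.card F :=
      orderOf_dvd_of_pow_eq_one h1
    have h4 : Nat.Coprime (2 ^ k) (Fintype.card F) := Nat.Coprime.pow_left _ (Nat.coprime_two_left.mpr hF)
    exact orderOf_eq_one_iff.mp (Nat.eq_one_of_dvd_coprimes h4 h2 h3)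
  · intro A B hA hB
    rw [map_mul, hA, hB, one_mul]

theorem card_eq_24 (h : Fintype.card F = 3) : Nat.card (Matrix.SpecialLinearGroup (Fin 2) F) = 24 := by
  rw [Cfsg.Agent.ClassicalGeometry.PSL2Basic.card_SL2, h]
  norm_num

theorem card_eq_three_of_le (hF : Odd (Fintype.card F))
    (h : Nat.card (Matrix.SpecialLinearGroup (Fin 2) F) ≤ 24) : Fintype.card F = 3 := by
  rw [Cfsg.Agent.ClassicalGeometry.PSL2Basic.card_SL2] at h
  have h1 := Fintype.one_lt_card (α := F)
  obtain ⟨k, hk⟩ := hF
  by_contra h3
  have h5 : 5 ≤ Fintype.card F := by omega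
  have h6 : 5 * (5 ^ 2 - 1) ≤ Fintype.card F * (Fintype.card F ^ 2 - 1) := by
    apply Nat.mul_le_mul h5
    have : 5 ^ 2 ≤ Fintype.card F ^ 2 := Nat.pow_le_pow_left h5 2
    omega
  omega

end Cfsg.Agent.TwoFusion.SLTwoFacts
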