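import Mathlib
import Cfsg.Prelude.Def_Transfer
import Cfsg.Prelude.Def_TwoFusion
import Cfsg.Agent.Transfer.ThompsonTransfer
set_option linter.all false

-- part: TwoFusion/DihedralSylow
section
/-!
# Dihedral Sylow 2-subgroups: coordinates and Klein four subgroups
-/

set_option autoImplicit false

namespace Cfsg.Agent.TwoFusion.DihedralSylow

open DihedralGroup

theorem zmod_two_mul_eq_zero {q : ℕ} (hq : 0 < q) (i : ZMod (2 * q)) (h : i + i = 0) :
    i = 0 ∨ i = (q : ZMod (2 * q)) := by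
  have : NeZero (2 * q) := ⟨by omega⟩
  have h1 : ((i.val + i.val : ℕ) : ZMod (2 * q)) = 0 := by
    rw [Nat.cast_add, ZMod.natCast_zmod_val, h]
  rw [ZMod.natCast_eq_zero_iff] at h1
  have h2 : i.val < 2 * q := ZMod.val_lt i
  obtain ⟨c, hc⟩ := h1
  have hc' : i.val = q * c := by nlinarith
  have hc2 : c < 2 := by
    by_contra h3
    push Not at h3
    nlinarith
  have h4 : c = 0 ∨ c = 1 := by omega
  rcases h4 with rfl | rfl
  · left
    rw [mul_zero] at hc'
    exact (ZMod.val_eq_zero i).1 hc'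
  · right
    rw [mul_one] at hc'
    rw [← ZMod.natCast_zmod_val i, hc']

/-- Coordinates of a dihedral subgroup of order `2m`, `m` even. -/
structure DihData {X : Type*} [Group X] (S : Subgroup X) (m : ℕ) (r z : X) : Prop where
  r_mem : r ∈ S
  relIndex : (Subgroup.zpowers r).relIndex S = 2
  z_mem : z ∈ Subgroup.zpowers r
  z_ne : z ≠ 1
  z_sq : z * z = 1
  z_comm : ∀ s ∈ S, s * z = z * s
  eq_z : ∀ a ∈ Subgroup.zpowers r, a * a = 1 → a = 1 ∨ a = z
  refl_sq : ∀ s ∈ S, s ∉ Subgroup.zpowers r → s * s = 1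
  refl_mul : ∀ s ∈ S, ∀ t ∈ S, s ∉ Subgroup.zpowers r → t ∉ Subgroup.zpowers r →
    s * t ∈ Subgroup.zpowers r
  exists_refl : ∃ t ∈ S, t ∉ Subgroup.zpowers r
  swap : 4 ∣ m → ∀ t ∈ S, t ∉ Subgroup.zpowers r → ∃ s ∈ S, s * t * s⁻¹ = z * t
  card : Nat.card S = 2 * m

theorem DihData.zpowers_le {X : Type*} [Group X] {S : Subgroup X} {m : ℕ} {r z : X}
    (h : DihData S m r z) : Subgroup.zpowers r ≤ S := by
  rw [Subgroup.zpowers_le]
  exact h.r_mem

theorem exists_dihData {X : Type*} [Group X] (S : Subgroup X) (q : ℕ) (hq : 0 < q)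
    (e : S ≃* DihedralGroup (2 * q)) : ∃ r z : X, DihData S (2 * q) r z := by
  have : NeZero (2 * q) := ⟨by omega⟩
  -- element of S with given coordinate
  have hmem : ∀ d : DihedralGroup (2 * q), ((e.symm d : S) : X) ∈ S := fun d => (e.symm d).2
  have hmul : ∀ d d' : DihedralGroup (2 * q),
      ((e.symm d : S) : X) * ((e.symm d' : S) : X) = ((e.symm (d * d') : S) : X) := by
    intro d d'
    rw [map_mul]; rfl
  have hinj : ∀ d d' : DihedralGroup (2 * q),
      ((e.symm d : S) : X) = ((e.symm d' : S) : X) → d = d' := by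
    intro d d' h
    exact e.symm.injective (Subtype.ext h)
  have hone : ((e.symm 1 : S) : X) = 1 := by rw [map_one]; rfl
  have hinv : ∀ d : DihedralGroup (2 * q), ((e.symm d : S) : X)⁻¹ = ((e.symm d⁻¹ : S) : X) := by
    intro d
    rw [map_inv]; rfl
  have hsurj : ∀ s ∈ S, ∃ d : DihedralGroup (2 * q), ((e.symm d : S) : X) = s := by
    intro s hs
    exact ⟨e ⟨s, hs⟩, by rw [MulEquiv.symm_apply_apply]⟩
  have hzpow : ∀ s : X, s ∈ Subgroup.zpowers ((e.symm (r 1) : S) : X) ↔
      ∃ i : ZMod (2 * q), ((e.symm (r i) : S) : X) = s := by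
    intro s
    rw [Subgroup.mem_zpowers_iff]
    constructor
    · rintro ⟨k, hk⟩
      refine ⟨(k : ZMod (2 * q)), ?_⟩
      rw [← hk, ← Subgroup.coe_zpow, ← map_zpow, r_zpow, one_mul]
    · rintro ⟨i, hi⟩
      refine ⟨(i.val : ℤ), ?_⟩
      rw [← hi, ← Subgroup.coe_zpow, ← map_zpow, r_zpow, one_mul]
      simp
  have hrefl : ∀ s ∈ S, s ∉ Subgroup.zpowers ((e.symm (r 1) : S) : X) →
      ∃ i : ZMod (2 * q), ((e.symm (sr i) : S) : X) = s := by
    intro s hs hs'
    obtain ⟨d, hd⟩ := hsurj s hs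
    rcases d with i | i
    · exact absurd ((hzpow s).2 ⟨i, hd⟩) hs'
    · exact ⟨i, hd⟩
  have hqne : ((q : ℕ) : ZMod (2 * q)) ≠ 0 := by
    intro h
    rw [ZMod.natCast_eq_zero_iff] at h
    have := Nat.le_of_dvd hq h
    omega
  have hqq : ((q : ℕ) : ZMod (2 * q)) + ((q : ℕ) : ZMod (2 * q)) = 0 := by
    rw [← Nat.cast_add, ← two_mul, ZMod.natCast_self]
  have hcard : Nat.card S = 2 * (2 * q) := by
    rw [Nat.card_congr e.toEquiv, DihedralGroup.nat_card]
  refine ⟨((e.symm (r 1) : S) : X), ((e.symm (r (q : ZMod (2 * q))) : S) : X), ?_⟩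
  refine ⟨hmem _, ?_, ?_, ?_, ?_, ?_, ?_, ?_, ?_, ?_, ?_, hcard⟩
  · have hord : orderOf ((e.symm (r 1) : S) : X) = 2 * q := by
      rw [Subgroup.orderOf_coe, MulEquiv.orderOf_eq, orderOf_r_one]
    have hle : Subgroup.zpowers ((e.symm (r 1) : S) : X) ≤ S := by
      rw [Subgroup.zpowers_le]
      exact hmem _
    have h1 := Subgroup.relIndex_mul_relIndex ⊥ _ _ bot_le hle
    rw [Subgroup.relIndex_bot_left, Subgroup.relIndex_bot_left, Nat.card_zpowers, hord, hcard] at h1
    have h2 : 0 < 2 * q := by omega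
    exact Nat.eq_of_mul_eq_mul_left h2 (by rw [h1, mul_comm])
  · exact (hzpow _).2 ⟨_, rfl⟩
  · intro h
    rw [← hone] at h
    have := hinj _ _ h
    rw [one_def, r.injEq] at this
    exact hqne this
  · rw [hmul, r_mul_r, hqq, r_zero, hone]
  · intro s hs
    obtain ⟨d, hd⟩ := hsurj s hs
    rw [← hd, hmul, hmul]
    rcases d with i | i
    · rw [r_mul_r, r_mul_r, add_comm]
    · rw [sr_mul_r, r_mul_sr]
      have h1 : i + (q : ZMod (2 * q)) = i - (q : ZMod (2 * q)) := by
        have h2 : (q : ZMod (2 * q)) = - (q : ZMod (2 * q)) := eq_neg_of_add_eq_zero_left hqq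
        rw [sub_eq_add_neg, ← h2]
      rw [h1]
  · intro a ha ha2
    obtain ⟨i, hi⟩ := (hzpow a).1 ha
    rw [← hi, hmul, ← hone] at ha2
    have h1 := hinj _ _ ha2
    rw [r_mul_r, one_def, r.injEq] at h1
    rcases zmod_two_mul_eq_zero hq i h1 with h | h
    · left
      rw [← hi, h, r_zero, hone]
    · right
      rw [← hi, h]
  · intro s hs hs'
    obtain ⟨i, hi⟩ := hrefl s hs hs'
    rw [← hi, hmul, sr_mul_self, hone]
  · intro s hs t ht hs' ht'
    obtain ⟨i, hi⟩ := hrefl s hs hs'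
    obtain ⟨j, hj⟩ := hrefl t ht ht'
    rw [← hi, ← hj, hmul, sr_mul_sr]
    exact (hzpow _).2 ⟨_, rfl⟩
  · refine ⟨((e.symm (sr 0) : S) : X), hmem _, ?_⟩
    intro h
    obtain ⟨i, hi⟩ := (hzpow _).1 h
    have := hinj _ _ hi
    exact absurd this (by simp)
  · intro h4 t ht ht'
    obtain ⟨i, hi⟩ := hrefl t ht ht'
    obtain ⟨c, hc⟩ := h4
    have hqc : q = c + c := by omega
    refine ⟨((e.symm (r (c : ZMod (2 * q))) : S) : X), hmem _, ?_⟩
    rw [← hi, hinv, hmul, hmul, hmul, r_mul_sr, inv_r, sr_mul_r, r_mul_sr]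
    congr 3
    have : ((q : ℕ) : ZMod (2 * q)) = (c : ZMod (2 * q)) + (c : ZMod (2 * q)) := by
      have h := congrArg (Nat.cast : ℕ → ZMod (2 * q)) hqc
      rw [Nat.cast_add] at h
      exact h
    rw [this]
    abel

/-- `m` is even and `S` has coordinates, when `S` is a Sylow 2-subgroup isomorphic to a dihedral
group of order `2m`. -/
theorem exists_data {X : Type*} [Group X] [Finite X] (S : Sylow 2 X) (m : ℕ) (hm : 2 ≤ m)
    (e : (S : Subgroup X) ≃* DihedralGroup m) :
    (m = 2 ∨ 4 ∣ m) ∧ ∃ r z : X, DihData (S : Subgroup X) m r z := by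
  have hcard : Nat.card (S : Subgroup X) = 2 * m := by
    rw [Nat.card_congr e.toEquiv, DihedralGroup.nat_card]
  obtain ⟨n, hn⟩ := S.2.exists_card_eq
  have hn' : 2 * m = 2 ^ n := by
    rw [← hcard]; exact hn
  have hm2 : ∃ k, m = 2 ^ (k + 1) := by
    rcases n with _ | _ | n
    · simp at hn'
    · omega
    · refine ⟨n, ?_⟩
      rw [pow_succ 2 (n + 1)] at hn'
      omega
  obtain ⟨k, rfl⟩ := hm2
  refine ⟨?_, ?_⟩
  · rcases k with _ | k
    · left; norm_num
    · right
      exact ⟨2 ^ k, by rw [pow_succ, pow_succ]; ring⟩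
  · have h : (2 : ℕ) ^ (k + 1) = 2 * 2 ^ k := by ring
    rw [h] at e ⊢
    exact exists_dihData _ _ (by positivity) e

end Cfsg.Agent.TwoFusion.DihedralSylow
end

-- part: TwoFusion/DihedralFusion
section
/-!
# Groups with dihedral Sylow 2-subgroups: Klein four subgroups and fusion of involutions
-/

set_option autoImplicit false

namespace Cfsg.Agent.TwoFusion.DihedralFusion

open Cfsg.Agent.TwoFusion.DihedralSylow

/-- The subgroup `{1, a, b, ab}` for commuting `a`, `b` with `a² = b² = 1`. -/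
def fourGroup {X : Type*} [Group X] (a b : X) (ha : a * a = 1) (hb : b * b = 1)
    (hab : a * b = b * a) : Subgroup X where
  carrier := {x | x = 1 ∨ x = a ∨ x = b ∨ x = a * b}
  one_mem' := Or.inl rfl
  mul_mem' := by
    have e1 : a * (a * b) = b := by rw [← mul_assoc, ha, one_mul]
    have e2 : b * (a * b) = a := by rw [hab, ← mul_assoc, hb, one_mul]
    have e3 : a * b * a = b := by rw [hab, mul_assoc, ha, mul_one]
    have e4 : a * b * b = a := by rw [mul_assoc, hb, mul_one]
    have e5 : a * b * (a * b) = 1 := by rw [← mul_assoc, e3, hb]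
    rintro x y (rfl | rfl | rfl | rfl) (rfl | rfl | rfl | rfl) <;>
      simp only [one_mul, mul_one, ha, hb, e1, e2, e3, e4, e5, Set.mem_ofPred_eq, true_or, or_true,
        ← hab]
  inv_mem' := by
    have e5 : a * b * (a * b) = 1 := by
      rw [mul_assoc, ← mul_assoc b a b, ← hab, mul_assoc a b b, hb, mul_one, ha]
    rintro x (rfl | rfl | rfl | rfl)
    · left; exact inv_one
    · right; left; exact inv_eq_of_mul_eq_one_left ha
    · right; right; left; exact inv_eq_of_mul_eq_one_left hb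
    · right; right; right; exact inv_eq_of_mul_eq_one_left e5

theorem mem_fourGroup {X : Type*} [Group X] {a b : X} {ha : a * a = 1} {hb : b * b = 1}
    {hab : a * b = b * a} {x : X} :
    x ∈ fourGroup a b ha hb hab ↔ x = 1 ∨ x = a ∨ x = b ∨ x = a * b := Iff.rfl

theorem left_mem_fourGroup {X : Type*} [Group X] {a b : X} (ha : a * a = 1) (hb : b * b = 1)
    (hab : a * b = b * a) : a ∈ fourGroup a b ha hb hab := Or.inr (Or.inl rfl)

theorem right_mem_fourGroup {X : Type*} [Group X] {a b : X} (ha : a * a = 1) (hb : b * b = 1)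
    (hab : a * b = b * a) : b ∈ fourGroup a b ha hb hab := Or.inr (Or.inr (Or.inl rfl))

theorem fourGroup_le {X : Type*} [Group X] {a b : X} (ha : a * a = 1) (hb : b * b = 1)
    (hab : a * b = b * a) {S : Subgroup X} (haS : a ∈ S) (hbS : b ∈ S) :
    fourGroup a b ha hb hab ≤ S := by
  rintro x (rfl | rfl | rfl | rfl)
  · exact S.one_mem
  · exact haS
  · exact hbS
  · exact S.mul_mem haS hbS

theorem sq_of_mem_fourGroup {X : Type*} [Group X] {a b : X} (ha : a * a = 1) (hb : b * b = 1)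
    (hab : a * b = b * a) {x : X} (hx : x ∈ fourGroup a b ha hb hab) : x * x = 1 := by
  rcases hx with rfl | rfl | rfl | rfl
  · exact one_mul 1
  · exact ha
  · exact hb
  · rw [mul_assoc, ← mul_assoc b a b, ← hab, mul_assoc a b b, hb, mul_one, ha]

theorem isKleinFour_fourGroup {X : Type*} [Group X] {a b : X} (ha : a * a = 1) (hb : b * b = 1)
    (hab : a * b = b * a) (ha1 : a ≠ 1) (hb1 : b ≠ 1) (hne : a ≠ b) :
    IsKleinFour (fourGroup a b ha hb hab) := by
  have hab1 : a * b ≠ 1 := by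
    intro h
    exact hne (by rw [eq_inv_of_mul_eq_one_left h]; exact inv_eq_of_mul_eq_one_left hb)
  have hcard : Nat.card (fourGroup a b ha hb hab) = 4 := by
    have h1 : ((fourGroup a b ha hb hab : Subgroup X) : Set X) = ({1, a, b, a * b} : Set X) := by
      ext x
      rw [SetLike.mem_coe, mem_fourGroup]
      rfl
    have h2 : Nat.card (fourGroup a b ha hb hab) =
        ((fourGroup a b ha hb hab : Subgroup X) : Set X).ncard := rfl
    rw [h2, h1]
    rw [Set.ncard_insert_of_notMem, Set.ncard_insert_of_notMem, Set.ncard_insert_of_notMem,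
      Set.ncard_singleton]
    · rw [Set.mem_singleton_iff]
      intro h
      exact ha1 (by simpa using h.symm)
    · rw [Set.mem_insert_iff, Set.mem_singleton_iff]
      rintro (h | h)
      · exact hne h
      · exact hb1 (by simpa using h.symm)
    · rw [Set.mem_insert_iff, Set.mem_insert_iff, Set.mem_singleton_iff]
      rintro (h | h | h)
      · exact ha1 h.symm
      · exact hb1 h.symm
      · exact hab1 h.symm
  have : Nontrivial (fourGroup a b ha hb hab) :=
    ⟨⟨⟨a, left_mem_fourGroup ha hb hab⟩, 1, fun h => ha1 (congrArg Subtype.val h)⟩⟩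
  refine ⟨hcard, ?_⟩
  rw [Monoid.exponent_eq_prime_iff Nat.prime_two]
  intro g hg
  refine orderOf_eq_prime ?_ hg
  apply Subtype.ext
  rw [sq]
  exact sq_of_mem_fourGroup ha hb hab g.2

/-- Squares in a Klein four-subgroup. -/
theorem sq_of_isKleinFour {X : Type*} [Group X] {U : Subgroup X} (hU : IsKleinFour U) {x : X}
    (hx : x ∈ U) : x * x = 1 :=
  congrArg Subtype.val (IsKleinFour.mul_self (⟨x, hx⟩ : U))

theorem comm_of_isKleinFour {X : Type*} [Group X] {U : Subgroup X} (hU : IsKleinFour U) {x y : X}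
    (hx : x ∈ U) (hy : y ∈ U) : x * y = y * x :=
  congrArg Subtype.val
    ((IsKleinFour.isMulCommutative (G := U)).is_comm.comm (⟨x, hx⟩ : U) (⟨y, hy⟩ : U))

theorem eq_of_isKleinFour {X : Type*} [Group X] {U : Subgroup X} (hU : IsKleinFour U) {x y w : X}
    (hx : x ∈ U) (hy : y ∈ U) (hw : w ∈ U) (hx1 : x ≠ 1) (hy1 : y ≠ 1) (hxy : x ≠ y) :
    w = 1 ∨ w = x ∨ w = y ∨ w = x * y := by
  by_cases h1 : w = 1
  · exact Or.inl h1
  by_cases h2 : w = x
  · exact Or.inr (Or.inl h2)
  by_cases h3 : w = y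
  · exact Or.inr (Or.inr (Or.inl h3))
  right; right; right
  have h := IsKleinFour.eq_mul_of_ne_all (x := (⟨x, hx⟩ : U)) (y := ⟨y, hy⟩) (z := ⟨w, hw⟩)
    (fun h => hx1 (congrArg Subtype.val h)) (fun h => hy1 (congrArg Subtype.val h))
    (fun h => hxy (congrArg Subtype.val h)) (fun h => h1 (congrArg Subtype.val h))
    (fun h => h2 (congrArg Subtype.val h)) (fun h => h3 (congrArg Subtype.val h))
  exact congrArg Subtype.val h

/-- An involution of a finite group is conjugate into the Sylow 2-subgroup; more generally a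
`p`-subgroup `V` of `C ≥ S` is conjugate in `C` into `S`. -/
theorem exists_conj_mem {X : Type*} [Group X] [Finite X] {p : ℕ} [Fact p.Prime] (S : Sylow p X)
    (C V : Subgroup X) (hSC : (S : Subgroup X) ≤ C) (hVC : V ≤ C) (hV : IsPGroup p V) :
    ∃ c ∈ C, ∀ v ∈ V, c * v * c⁻¹ ∈ (S : Subgroup X) := by
  have hV' : IsPGroup p (V.subgroupOf C) := by
    have e := Subgroup.subgroupOfEquivOfLe hVC
    exact hV.of_equiv e.symm
  obtain ⟨Q, hQ⟩ := hV'.exists_le_sylow
  obtain ⟨c, hc⟩ := MulAction.exists_smul_eq C Q (S.subtype hSC)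
  refine ⟨(c : X), c.2, ?_⟩
  intro v hv
  have h1 : (⟨v, hVC hv⟩ : C) ∈ (Q : Subgroup C) := hQ hv
  have h2 : c * (⟨v, hVC hv⟩ : C) * c⁻¹ ∈ ((c • Q : Sylow p C) : Subgroup C) := by
    rw [Sylow.coe_subgroup_smul]
    exact ⟨⟨v, hVC hv⟩, h1, rfl⟩
  rw [hc] at h2
  exact h2

/-- Every element of order two is conjugate into a Sylow 2-subgroup. -/
theorem exists_conj_mem_sylow {X : Type*} [Group X] [Finite X] (S : Sylow 2 X) (u : X)
    (hu : u * u = 1) : ∃ g : X, g * u * g⁻¹ ∈ (S : Subgroup X) := by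
  have hP : IsPGroup 2 (Subgroup.zpowers u) := by
    rw [IsPGroup.iff_card]
    by_cases h1 : u = 1
    · exact ⟨0, by rw [Nat.card_zpowers, h1, orderOf_one, pow_zero]⟩
    · exact ⟨1, by rw [Nat.card_zpowers, orderOf_eq_prime (by rw [sq, hu]) h1, pow_one]⟩
  obtain ⟨c, -, hc⟩ := exists_conj_mem S ⊤ (Subgroup.zpowers u) le_top le_top hP
  exact ⟨c, hc u (Subgroup.mem_zpowers u)⟩

section

variable {X : Type*} [Group X] [Finite X] (S : Sylow 2 X) {m : ℕ} {r z : X}

theorem orderOf_two_iff {X : Type*} [Group X] (u : X) : orderOf u = 2 ↔ u * u = 1 ∧ u ≠ 1 := by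
  constructor
  · intro h
    refine ⟨?_, ?_⟩
    · rw [← sq, ← h, pow_orderOf_eq_one]
    · rintro rfl
      rw [orderOf_one] at h
      exact absurd h (by norm_num)
  · rintro ⟨h1, h2⟩
    exact orderOf_eq_prime (by rw [sq, h1]) h2

/-- Conjugate of a nontrivial element with square one. -/
theorem conj_ne_one {X : Type*} [Group X] {u : X} (g : X) (hu : u ≠ 1) : g * u * g⁻¹ ≠ 1 := by
  intro h
  apply hu
  have h1 : g * u = g := by
    have := congrArg (· * g) h
    simpa using this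
  simpa using h1

theorem conj_sq {X : Type*} [Group X] {u : X} (g : X) (hu : u * u = 1) :
    (g * u * g⁻¹) * (g * u * g⁻¹) = 1 := by
  have : (g * u * g⁻¹) * (g * u * g⁻¹) = g * (u * u) * g⁻¹ := by group
  rw [this, hu]; group

/-- no subgroup of index two: all involutions are conjugate to `z`. -/
theorem isConj_z_of_no_index_two (hD : DihData (S : Subgroup X) m r z)
    (hX : ∀ H : Subgroup X, H.index ≠ 2) (u : X) (hu : orderOf u = 2) : IsConj u z := by
  obtain ⟨hu1, hu2⟩ := (orderOf_two_iff u).1 hu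
  rcases Cfsg.Agent.Transfer.ThompsonTransfer.thompson_transfer S (Subgroup.zpowers r)
    hD.zpowers_le hD.relIndex u (by rw [sq, hu1]) with ⟨M, -, hM, -⟩ | ⟨g, hg⟩
  · exact absurd hM (hX M)
  · rw [isConj_iff]
    refine ⟨g, ?_⟩
    rcases hD.eq_z _ hg (conj_sq g hu1) with h | h
    · exact absurd h (conj_ne_one g hu2)
    · exact h

/-- One class of involutions: no subgroup of index two. -/
theorem index_ne_two_of_isConj (hD : DihData (S : Subgroup X) m r z)
    (hX : ∀ a b : X, orderOf a = 2 → orderOf b = 2 → IsConj a b) (H : Subgroup X) :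
    H.index ≠ 2 := by
  intro hH
  have hN : H.Normal := Subgroup.normal_of_index_eq_two hH
  obtain ⟨t, htS, ht⟩ := hD.exists_refl
  have ht1 : t ≠ 1 := fun h => ht (h ▸ Subgroup.one_mem _)
  have ht2 := hD.refl_sq t htS ht
  have hzt : z * t ∉ Subgroup.zpowers r := by
    intro h
    apply ht
    have := Subgroup.mul_mem _ hD.z_mem h
    rwa [← mul_assoc, hD.z_sq, one_mul] at this
  have hztS : z * t ∈ (S : Subgroup X) := (S : Subgroup X).mul_mem (hD.zpowers_le hD.z_mem) htS
  have hzt1 : z * t ≠ 1 := fun h => hzt (h ▸ Subgroup.one_mem _)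
  have hzt2 := hD.refl_sq _ hztS hzt
  -- all involutions lie in H
  have hall : ∀ u : X, orderOf u = 2 → u ∈ H := by
    intro u hu
    have hconj : ∀ v : X, orderOf v = 2 → (v ∈ H ↔ u ∈ H) := by
      intro v hv
      obtain ⟨c, hc⟩ := isConj_iff.1 (hX v u hv hu)
      constructor
      · intro h
        rw [← hc]
        exact hN.conj_mem v h c
      · intro h
        have := hN.conj_mem u h c⁻¹
        rw [← hc] at this
        have e : c⁻¹ * (c * v * c⁻¹) * c⁻¹⁻¹ = v := by group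
        rwa [e] at this
    by_contra hcon
    have h1 : z ∉ H := fun h => hcon ((hconj z ((orderOf_two_iff z).2 ⟨hD.z_sq, hD.z_ne⟩)).1 h)
    have h2 : t ∉ H := fun h => hcon ((hconj t ((orderOf_two_iff t).2 ⟨ht2, ht1⟩)).1 h)
    have h3 : z * t ∉ H := fun h => hcon ((hconj _ ((orderOf_two_iff _).2 ⟨hzt2, hzt1⟩)).1 h)
    apply h3
    rw [Subgroup.mul_mem_iff_of_index_two hH]
    exact ⟨fun h => absurd h h1, fun h => absurd h h2⟩
  have hrefl : ∀ s ∈ (S : Subgroup X), s ∉ Subgroup.zpowers r → s ∈ H := by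
    intro s hs hs'
    exact hall s ((orderOf_two_iff s).2 ⟨hD.refl_sq s hs hs', fun h => hs' (h ▸ Subgroup.one_mem _)⟩)
  have hSH : (S : Subgroup X) ≤ H := by
    intro s hs
    by_cases hs' : s ∈ Subgroup.zpowers r
    · have h1 : s * t ∉ Subgroup.zpowers r := by
        intro h
        apply ht
        have := Subgroup.mul_mem _ (Subgroup.inv_mem _ hs') h
        rwa [inv_mul_cancel_left] at this
      have h2 : s * t ∈ H := hrefl _ ((S : Subgroup X).mul_mem hs htS) h1
      have h3 : t ∈ H := hrefl t htS ht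
      have := H.mul_mem h2 (H.inv_mem h3)
      rwa [mul_inv_cancel_right] at this
    · exact hrefl s hs hs'
  have hdvd : H.index ∣ (S : Subgroup X).index := Subgroup.index_dvd_of_le hSH
  rw [hH] at hdvd
  exact S.not_dvd_index hdvd


omit [Finite X] in
/-- One class of involutions: no isolated involution. -/
theorem not_isolated_of_isConj (hD : DihData (S : Subgroup X) m r z)
    (hX : ∀ a b : X, orderOf a = 2 → orderOf b = 2 → IsConj a b) (w : X) :
    ¬ Cfsg.IsIsolatedInvolution w := by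
  rintro ⟨hw, hiso⟩
  obtain ⟨t, htS, ht⟩ := hD.exists_refl
  have ht1 : t ≠ 1 := fun h => ht (h ▸ Subgroup.one_mem _)
  have ht2 := hD.refl_sq t htS ht
  have htz : t ≠ z := fun h => ht (h ▸ hD.z_mem)
  obtain ⟨c, hc⟩ := isConj_iff.1 (hX w z hw ((orderOf_two_iff z).2 ⟨hD.z_sq, hD.z_ne⟩))
  obtain ⟨d, hd⟩ := isConj_iff.1 (hX w t hw ((orderOf_two_iff t).2 ⟨ht2, ht1⟩))
  have hzt : t * z = z * t := hD.z_comm t htS
  have h1 := hiso (c⁻¹ * d) (by
    show w * (c⁻¹ * d * w * (c⁻¹ * d)⁻¹) = (c⁻¹ * d * w * (c⁻¹ * d)⁻¹) * w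
    have e1 : c⁻¹ * d * w * (c⁻¹ * d)⁻¹ = c⁻¹ * t * c := by
      rw [← hd]; group
    have e2 : w = c⁻¹ * z * c := by
      rw [← hc]; group
    rw [e1, e2]
    have e3 : c⁻¹ * z * c * (c⁻¹ * t * c) = c⁻¹ * (z * t) * c := by group
    have e4 : c⁻¹ * t * c * (c⁻¹ * z * c) = c⁻¹ * (t * z) * c := by group
    rw [e3, e4, hzt])
  have e1 : c⁻¹ * d * w * (c⁻¹ * d)⁻¹ = c⁻¹ * t * c := by
    rw [← hd]; group
  rw [e1] at h1
  apply htz
  rw [← hc, ← h1]
  group

end

/-- If `3` divides `|N(U) : C(U)|` for a Klein four-subgroup `U`, the involutions of `U` are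
conjugate. -/
theorem isConj_of_three_dvd {X : Type*} [Group X] [Finite X] {U : Subgroup X} (hU : IsKleinFour U)
    (h3 : 3 ∣ (Subgroup.centralizer (U : Set X)).relIndex (Subgroup.normalizer (U : Set X)))
    {x y : X} (hx : x ∈ U) (hy : y ∈ U) (hx1 : x ≠ 1) (hy1 : y ≠ 1) : IsConj x y := by
  have : Fact (Nat.Prime 3) := ⟨by norm_num⟩
  have hKn : ((Subgroup.centralizer (U : Set X)).subgroupOf
      (Subgroup.normalizer (U : Set X))).Normal := by
    rw [← Subgroup.normalizerMonoidHom_ker]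
    infer_instance
  obtain ⟨q, hq⟩ := exists_prime_orderOf_dvd_card'
    (G := Subgroup.normalizer (U : Set X) ⧸ (Subgroup.centralizer (U : Set X)).subgroupOf
      (Subgroup.normalizer (U : Set X))) 3 (by
        rw [← Subgroup.index_eq_card]
        exact h3)
  obtain ⟨n, rfl⟩ := QuotientGroup.mk_surjective q
  have hn3 : n ^ 3 ∈ (Subgroup.centralizer (U : Set X)).subgroupOf
      (Subgroup.normalizer (U : Set X)) := by
    rw [← QuotientGroup.eq_one_iff, QuotientGroup.mk_pow, ← hq, pow_orderOf_eq_one]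
  have hn1 : n ∉ (Subgroup.centralizer (U : Set X)).subgroupOf
      (Subgroup.normalizer (U : Set X)) := by
    intro h
    rw [← QuotientGroup.eq_one_iff] at h
    rw [h, orderOf_one] at hq
    exact absurd hq (by norm_num)
  rw [Subgroup.mem_subgroupOf] at hn3 hn1
  obtain ⟨n, hnN⟩ := n
  have hn3' : n ^ 3 ∈ Subgroup.centralizer (U : Set X) := hn3
  have hn1' : n ∉ Subgroup.centralizer (U : Set X) := hn1
  have hnU : ∀ w ∈ U, n * w * n⁻¹ ∈ U := fun w hw => (Subgroup.mem_normalizer_iff.1 hnN w).1 hw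
  have hfix3 : ∀ w ∈ U, n * (n * (n * w * n⁻¹) * n⁻¹) * n⁻¹ = w := by
    intro w hw
    have h1 := Subgroup.mem_centralizer_iff.1 hn3' w hw
    have h2 : n * (n * (n * w * n⁻¹) * n⁻¹) * n⁻¹ = n ^ 3 * w * (n ^ 3)⁻¹ := by
      rw [pow_succ, sq]
      simp only [mul_inv_rev, mul_assoc]
    rw [h2, ← h1, mul_inv_cancel_right]
  -- an involution moved by n
  have hmove : ∃ a ∈ U, n * a * n⁻¹ ≠ a := by
    by_contra hcon
    push Not at hcon
    apply hn1'
    rw [Subgroup.mem_centralizer_iff]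
    intro w hw
    have := hcon w hw
    rw [mul_inv_eq_iff_eq_mul] at this
    exact this.symm
  obtain ⟨a, ha, hmv⟩ := hmove
  have ha1 : a ≠ 1 := by
    rintro rfl
    apply hmv
    group
  have hinj : ∀ v w : X, n * v * n⁻¹ = n * w * n⁻¹ → v = w := by
    intro v w h
    have := mul_right_cancel h
    exact mul_left_cancel this
  set b := n * a * n⁻¹ with hb
  have hbU : b ∈ U := hnU a ha
  have hb1 : b ≠ 1 := conj_ne_one n ha1
  set c := n * b * n⁻¹ with hc
  have hcU : c ∈ U := hnU b hbU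
  have hc1 : c ≠ 1 := conj_ne_one n hb1
  have hca : n * c * n⁻¹ = a := hfix3 a ha
  have hcb : c ≠ b := fun h => hmv (hinj b a (by rw [← hc, h]))
  have hca' : c ≠ a := by
    intro h
    apply hmv
    rw [h] at hca
    rw [hb, hca]
  have hall : ∀ w ∈ U, w ≠ 1 → IsConj a w := by
    intro w hw hw1
    have hab : a ≠ b := fun h => hmv h.symm
    rcases eq_of_isKleinFour hU ha hbU hw ha1 hb1 hab with h | h | h | h
    · exact absurd h hw1
    · rw [h]
    · rw [h]; exact isConj_iff.2 ⟨n, rfl⟩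
    · rcases eq_of_isKleinFour hU ha hbU hcU ha1 hb1 hab with h' | h' | h' | h'
      · exact absurd h' hc1
      · exact absurd h' hca'
      · exact absurd h' hcb
      · rw [h, ← h', hc, hb]
        exact isConj_iff.2 ⟨n * n, by group⟩
  exact (hall x hx hx1).symm.trans (hall y hy hy1)

section

variable {X : Type*} [Group X] [Finite X] (S : Sylow 2 X) {m : ℕ} {r z : X}

/-- If `3` divides `|N(U) : C(U)|` for all Klein four-subgroups `U` of `S`, there is one class of
involutions. -/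
theorem isConj_of_forall_three_dvd (hD : DihData (S : Subgroup X) m r z)
    (h : ∀ U : Subgroup X, U ≤ S → IsKleinFour U →
      3 ∣ (Subgroup.centralizer (U : Set X)).relIndex (Subgroup.normalizer (U : Set X)))
    (a b : X) (ha : orderOf a = 2) (hb : orderOf b = 2) : IsConj a b := by
  have hz : ∀ u : X, orderOf u = 2 → IsConj u z := by
    intro u hu
    obtain ⟨hu1, hu2⟩ := (orderOf_two_iff u).1 hu
    obtain ⟨g, hg⟩ := exists_conj_mem_sylow S u hu1
    have h1 : IsConj u (g * u * g⁻¹) := isConj_iff.2 ⟨g, rfl⟩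
    refine h1.trans ?_
    by_cases h2 : g * u * g⁻¹ = z
    · rw [h2]
    · have h3 := isKleinFour_fourGroup hD.z_sq (conj_sq g hu1) (hD.z_comm _ hg).symm hD.z_ne
        (conj_ne_one g hu2) (Ne.symm h2)
      have h4 := fourGroup_le hD.z_sq (conj_sq g hu1) (hD.z_comm _ hg).symm
        (hD.zpowers_le hD.z_mem) hg
      exact isConj_of_three_dvd h3 (h _ h4 h3) (right_mem_fourGroup _ _ _)
        (left_mem_fourGroup _ _ _) (conj_ne_one g hu2) hD.z_ne
  exact (hz a ha).trans (hz b hb).symm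

end

end Cfsg.Agent.TwoFusion.DihedralFusion
end
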