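import Cfsg.Prelude.Def_TwoFusion
import Mathlib.GroupTheory.Sylow
import Mathlib.GroupTheory.Index
import Cfsg.Agent.S1180
set_option linter.all false

set_option autoImplicit false

/-!
# Isolated involutions and invariant Sylow subgroups

* `relIndex_centralizer_eq_card_inverted`: an involution `z` normalizing a subgroup `P` of odd
  order: `|P : C_P(z)|` is the number of elements of `P` inverted by `z`.
* `exists_centralizer_conj_sylow`: any two Sylow `p`-subgroups normalized by an isolated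
  involution `z` are conjugate by an element of `C(z)`.
* `not_dvd_relIndex_of_forall_le_invariant`: if some `z`-invariant Sylow `p`-subgroup contains a
  Sylow `p`-subgroup of `C(z)`, then every `z`-invariant one meets `C(z)` in a Sylow subgroup.
-/

namespace Cfsg.Agent.TwoFusion.IsolatedSylow

/-- If `z` has square one and normalizes the subgroup `P` of odd order, then `|P : C_P(z)|` is the
number of elements of `P` inverted by `z`. -/
theorem relIndex_centralizer_eq_card_inverted {G : Type*} [Group G] [Finite G] {z : G}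
    (hz : z * z = 1) (P : Subgroup G) (hP : Odd (Nat.card P))
    (hzP : z ∈ Subgroup.normalizer (P : Set G)) :
    (P ⊓ Subgroup.centralizer ({z} : Set G)).relIndex P =
      Nat.card {x : G // x ∈ P ∧ z * x * z⁻¹ = x⁻¹} := by
  classical
  have hzinv : z⁻¹ = z := inv_eq_of_mul_eq_one_right hz
  have hN : ∀ x, x ∈ P → z * x * z⁻¹ ∈ P := fun x hx =>
    ((Subgroup.mem_normalizer_iff.mp hzP) x).mp hx
  have hmem : ∀ x : P, (x : G) * (z * (x : G)⁻¹ * z⁻¹) ∈ P ∧
      z * ((x : G) * (z * (x : G)⁻¹ * z⁻¹)) * z⁻¹ = ((x : G) * (z * (x : G)⁻¹ * z⁻¹))⁻¹ := by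
    intro x
    refine ⟨P.mul_mem x.2 (hN _ (P.inv_mem x.2)), ?_⟩
    simp only [hzinv, mul_inv_rev, inv_inv, mul_assoc, hz, mul_one]
  rw [Subgroup.relIndex, Subgroup.index]
  set D : Subgroup P := (P ⊓ Subgroup.centralizer ({z} : Set G)).subgroupOf P with hD
  have hDmem : ∀ x : P, x ∈ D ↔ z * (x : G) * z⁻¹ = (x : G) := by
    intro x
    rw [hD, Subgroup.mem_subgroupOf, Subgroup.mem_inf, Subgroup.mem_centralizer_singleton_iff]
    constructor
    · rintro ⟨-, h⟩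
      rw [← h, mul_inv_cancel_right]
    · intro h
      refine ⟨x.2, ?_⟩
      rw [mul_inv_eq_iff_eq_mul] at h
      exact h.symm
  -- the map
  let f : P ⧸ D → {x : G // x ∈ P ∧ z * x * z⁻¹ = x⁻¹} :=
    Quotient.lift (fun x : P => ⟨(x : G) * (z * (x : G)⁻¹ * z⁻¹), hmem x⟩) (by
      intro x y hxy
      have h1 : x⁻¹ * y ∈ D := QuotientGroup.leftRel_apply.mp hxy
      rw [hDmem] at h1
      apply Subtype.ext
      show (x : G) * (z * (x : G)⁻¹ * z⁻¹) = (y : G) * (z * (y : G)⁻¹ * z⁻¹)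
      simp only [Subgroup.coe_mul, Subgroup.coe_inv] at h1
      -- z x⁻¹ y z⁻¹ = x⁻¹ y
      have h2 : z * (x : G)⁻¹ * z⁻¹ * (z * (y : G) * z⁻¹) = (x : G)⁻¹ * y := by
        rw [← h1]; group
      have h3 : z * (y : G)⁻¹ * z⁻¹ = (z * (y : G) * z⁻¹)⁻¹ := by group
      rw [h3, eq_mul_inv_iff_mul_eq, mul_assoc, h2, mul_inv_cancel_left])
  apply Nat.card_congr
  refine Equiv.ofBijective f ⟨?_, ?_⟩
  · intro a b
    refine Quotient.inductionOn₂ a b ?_
    intro x y hxy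
    have h1 : (x : G) * (z * (x : G)⁻¹ * z⁻¹) = (y : G) * (z * (y : G)⁻¹ * z⁻¹) :=
      congrArg Subtype.val hxy
    apply Quotient.sound
    show QuotientGroup.leftRel D x y
    rw [QuotientGroup.leftRel_apply, hDmem]
    simp only [Subgroup.coe_mul, Subgroup.coe_inv]
    have h3 : z * (y : G)⁻¹ * z⁻¹ = (z * (y : G) * z⁻¹)⁻¹ := by group
    rw [h3, eq_mul_inv_iff_mul_eq] at h1
    calc z * ((x : G)⁻¹ * (y : G)) * z⁻¹
        = z * (x : G)⁻¹ * z⁻¹ * (z * (y : G) * z⁻¹) := by group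
      _ = (x : G)⁻¹ * ((x : G) * (z * (x : G)⁻¹ * z⁻¹) * (z * (y : G) * z⁻¹)) := by group
      _ = (x : G)⁻¹ * y := by rw [h1]
  · rintro ⟨x, hx, hxz⟩
    have hodd : Odd (orderOf x) := by
      have h1 : orderOf x ∣ Nat.card P := by
        rw [← Subgroup.orderOf_mk x hx]; exact orderOf_dvd_natCard _
      exact Odd.of_dvd_nat hP h1
    obtain ⟨m, hm⟩ := hodd
    have hj : x ^ (m + 1) * x ^ (m + 1) = x := by
      rw [← pow_add]
      have : m + 1 + (m + 1) = orderOf x + 1 := by omega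
      rw [this, pow_succ, pow_orderOf_eq_one, one_mul]
    refine ⟨QuotientGroup.mk (⟨x ^ (m + 1), P.pow_mem hx _⟩ : P), ?_⟩
    apply Subtype.ext
    show x ^ (m + 1) * (z * (x ^ (m + 1))⁻¹ * z⁻¹) = x
    have h4 : z * (x ^ (m + 1))⁻¹ * z⁻¹ = x ^ (m + 1) := by
      rw [← inv_pow, ← conj_pow, ← inv_inv (z * x⁻¹ * z⁻¹)]
      have : (z * x⁻¹ * z⁻¹)⁻¹ = z * x * z⁻¹ := by group
      rw [this, hxz, inv_inv]
    rw [h4, hj]

/-- If `z` is an isolated involution normalizing the Sylow `p`-subgroups `P` and `Q`, then `P` and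
`Q` are conjugate by an element commuting with `z`. -/
theorem exists_centralizer_conj_sylow {G : Type*} [Group G] [Finite G] {z : G}
    (hz : Cfsg.IsIsolatedInvolution z) {p : ℕ} [Fact p.Prime] (P Q : Sylow p G)
    (hzP : z ∈ Subgroup.normalizer ((P : Subgroup G) : Set G))
    (hzQ : z ∈ Subgroup.normalizer ((Q : Subgroup G) : Set G)) :
    ∃ c ∈ Subgroup.centralizer ({z} : Set G),
      ∀ x : G, x ∈ (Q : Subgroup G) ↔ c⁻¹ * x * c ∈ (P : Subgroup G) := by
  obtain ⟨g, hg⟩ := MulAction.exists_smul_eq G P Q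
  have hQ : ∀ x : G, x ∈ (Q : Subgroup G) ↔ g⁻¹ * x * g ∈ (P : Subgroup G) := by
    intro x
    rw [← hg, Sylow.coe_subgroup_smul, Subgroup.mem_pointwise_smul_iff_inv_smul_mem,
      ← map_inv, MulAut.smul_def, MulAut.conj_apply, inv_inv]
  -- `g⁻¹ z g` normalizes `P`
  have h1 : g⁻¹ * z * g⁻¹⁻¹ ∈ Subgroup.normalizer ((P : Subgroup G) : Set G) := by
    rw [Subgroup.mem_normalizer_iff]
    intro x
    have h2 := (Subgroup.mem_normalizer_iff.mp hzQ) (g * x * g⁻¹)
    have h3 : g * x * g⁻¹ ∈ (Q : Subgroup G) ↔ x ∈ (P : Subgroup G) := by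
      rw [hQ (g * x * g⁻¹)]
      have h3' : g⁻¹ * (g * x * g⁻¹) * g = x := by group
      rw [h3']
    have h4 : z * (g * x * g⁻¹) * z⁻¹ ∈ (Q : Subgroup G) ↔
        g⁻¹ * z * g⁻¹⁻¹ * x * (g⁻¹ * z * g⁻¹⁻¹)⁻¹ ∈ (P : Subgroup G) := by
      rw [hQ (z * (g * x * g⁻¹) * z⁻¹)]
      have h4' : g⁻¹ * (z * (g * x * g⁻¹) * z⁻¹) * g =
          g⁻¹ * z * g⁻¹⁻¹ * x * (g⁻¹ * z * g⁻¹⁻¹)⁻¹ := by group
      rw [h4']
    rw [← h3, h2, h4]
  obtain ⟨h, hhN, hh⟩ := Cfsg.Agent.S1180.result z hz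
    (Subgroup.normalizer ((P : Subgroup G) : Set G)) hzP g⁻¹ h1
  refine ⟨g * h, ?_, ?_⟩
  · rw [Subgroup.mem_centralizer_singleton_iff]
    have h5 : g * (h * z * h⁻¹) = g * (g⁻¹ * z * g⁻¹⁻¹) := by rw [hh]
    have h6 : g * h * z = g * (h * z * h⁻¹) * h := by group
    rw [h6, h5]; group
  · intro x
    rw [hQ x]
    have h7 := (Subgroup.mem_normalizer_iff.mp hhN) (h⁻¹ * (g⁻¹ * x * g) * h)
    have h8 : h * (h⁻¹ * (g⁻¹ * x * g) * h) * h⁻¹ = g⁻¹ * x * g := by group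
    rw [h8] at h7
    have h9 : (g * h)⁻¹ * x * (g * h) = h⁻¹ * (g⁻¹ * x * g) * h := by group
    rw [h9]
    exact h7.symm

/-- Let `z` be an isolated involution, `P` a `z`-invariant Sylow `p`-subgroup, and suppose a
`z`-invariant Sylow `p`-subgroup `Q` of `G` contains a Sylow `p`-subgroup `R` of `C(z)`. Then
`P ∩ C(z)` has index prime to `p` in `C(z)`. -/
theorem not_dvd_relIndex_of_le_invariant {G : Type*} [Group G] [Finite G] {z : G}
    (hz : Cfsg.IsIsolatedInvolution z) {p : ℕ} [Fact p.Prime] (P Q : Sylow p G)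
    (hzP : z ∈ Subgroup.normalizer ((P : Subgroup G) : Set G))
    (hzQ : z ∈ Subgroup.normalizer ((Q : Subgroup G) : Set G))
    (R : Sylow p (Subgroup.centralizer ({z} : Set G)))
    (hRQ : (R : Subgroup (Subgroup.centralizer ({z} : Set G))).map
      (Subgroup.centralizer ({z} : Set G)).subtype ≤ (Q : Subgroup G)) :
    ¬ p ∣ ((P : Subgroup G) ⊓ Subgroup.centralizer ({z} : Set G)).relIndex
      (Subgroup.centralizer ({z} : Set G)) := by
  obtain ⟨c, hc, hcPQ⟩ := exists_centralizer_conj_sylow hz P Q hzP hzQ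
  obtain ⟨cC, hcC⟩ : ∃ cC : Subgroup.centralizer ({z} : Set G), (cC : G) = c := ⟨⟨c, hc⟩, rfl⟩
  have hle : ((cC⁻¹ • R : Sylow p (Subgroup.centralizer ({z} : Set G))) :
      Subgroup (Subgroup.centralizer ({z} : Set G))) ≤
      ((P : Subgroup G) ⊓ Subgroup.centralizer ({z} : Set G)).subgroupOf
        (Subgroup.centralizer ({z} : Set G)) := by
    intro x hx
    rw [Sylow.coe_subgroup_smul, Subgroup.mem_pointwise_smul_iff_inv_smul_mem,
      ← map_inv, inv_inv, MulAut.smul_def, MulAut.conj_apply] at hx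
    rw [Subgroup.mem_subgroupOf, Subgroup.mem_inf]
    refine ⟨?_, x.2⟩
    have h1 : (cC : G) * x * (cC : G)⁻¹ ∈ (Q : Subgroup G) :=
      hRQ (Subgroup.mem_map_of_mem _ hx)
    have h2 := (hcPQ _).mp h1
    have h3 : c⁻¹ * ((cC : G) * x * (cC : G)⁻¹) * c = (x : G) := by
      rw [hcC]; group
    rw [h3] at h2
    exact h2
  rw [Subgroup.relIndex]
  intro hdvd
  exact (cC⁻¹ • R).not_dvd_index (hdvd.trans (Subgroup.index_dvd_of_le hle))

/-- Every `p`-subgroup normalized by `z` lies in a maximal one. -/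
theorem exists_le_maximal_invariant {G : Type*} [Group G] [Finite G] (z : G) {p : ℕ}
    (Q : Subgroup G) (hQ : IsPGroup p Q) (hzQ : z ∈ Subgroup.normalizer (Q : Set G)) :
    ∃ M : Subgroup G, Q ≤ M ∧ IsPGroup p M ∧ z ∈ Subgroup.normalizer (M : Set G) ∧
      ∀ R : Subgroup G, IsPGroup p R → z ∈ Subgroup.normalizer (R : Set G) → M ≤ R → R = M := by
  have hfin : (Set.univ : Set (Subgroup G)).Finite := Set.toFinite _
  obtain ⟨M, hQM, hM⟩ := Set.Finite.exists_le_maximal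
    (s := {R : Subgroup G | IsPGroup p R ∧ z ∈ Subgroup.normalizer (R : Set G)})
    (Set.toFinite _) (a := Q) ⟨hQ, hzQ⟩
  refine ⟨M, hQM, hM.prop.1, hM.prop.2, ?_⟩
  intro R hR hzR hMR
  exact le_antisymm (hM.le_of_ge ⟨hR, hzR⟩ hMR) hMR

end Cfsg.Agent.TwoFusion.IsolatedSylow
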