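import Mathlib
import Cfsg.Agent.TwoFusion.PResidual
set_option linter.all false

/-!
Index-two subgroups from transfer: Thompson's transfer lemma in the form used for quasi-dihedral and
wreathed Sylow 2-subgroups, and fusion control by weakly closed subgroups.
-/

set_option autoImplicit false

namespace Cfsg.Agent.TwoFusion.IndexTwo

open Subgroup

/-- The homomorphism onto `{±1}` with kernel a given subgroup of index two. -/
noncomputable def signHom {S : Type*} [Group S] (M : Subgroup S) (hM : M.index = 2) : S →* ℤˣ :=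
  open scoped Classical in
  { toFun := fun g => if g ∈ M then 1 else -1
    map_one' := by simp [M.one_mem]
    map_mul' := by
      intro a b
      have := Subgroup.mul_mem_iff_of_index_two hM (a := a) (b := b)
      by_cases ha : a ∈ M <;> by_cases hb : b ∈ M <;> simp [this, ha, hb] }

theorem signHom_of_mem {S : Type*} [Group S] {M : Subgroup S} (hM : M.index = 2) {g : S}
    (hg : g ∈ M) : signHom M hM g = 1 := by
  classical
  show (if g ∈ M then (1 : ℤˣ) else -1) = 1
  rw [if_pos hg]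

theorem signHom_of_not_mem {S : Type*} [Group S] {M : Subgroup S} (hM : M.index = 2) {g : S}
    (hg : g ∉ M) : signHom M hM g = -1 := by
  classical
  show (if g ∈ M then (1 : ℤˣ) else -1) = -1
  rw [if_neg hg]

/-- A homomorphism to `{±1}` taking the value `-1` gives a subgroup of index two. -/
theorem exists_index_two_of_hom {G : Type*} [Group G] (f : G →* ℤˣ) (g : G) (hg : f g = -1) :
    ∃ H : Subgroup G, H.index = 2 := by
  refine ⟨f.ker, ?_⟩
  rw [Subgroup.index_ker]
  have h1 : f.range = ⊤ := by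
    rw [MonoidHom.range_eq_top]
    intro x
    rcases Int.units_eq_one_or x with h | h
    · exact ⟨1, by rw [map_one, h]⟩
    · exact ⟨g, by rw [hg, h]⟩
  rw [h1, Subgroup.card_top, Nat.card_eq_fintype_card]
  rfl

/-- Transfer criterion for a subgroup of index two. `S` has odd index in `G`, `M` has index two in
`S`, and `g ∈ S \ M` is such that a conjugate of a power `g ^ k` lying in `S` lies in `M` exactly
when `g ^ k` does. -/
theorem exists_index_two {G : Type*} [Group G] (S : Subgroup G) (hS : Odd S.index)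
    (M : Subgroup S) (hM : M.index = 2) (g : S) (hg : g ∉ M)
    (key : ∀ (k : ℕ) (g₀ : G) (h : g₀⁻¹ * (g : G) ^ k * g₀ ∈ S),
      (⟨g₀⁻¹ * (g : G) ^ k * g₀, h⟩ : S) ∈ M ↔ g ^ k ∈ M) :
    ∃ H : Subgroup G, H.index = 2 := by
  have : S.FiniteIndex := ⟨fun h => by rw [h] at hS; simp at hS⟩
  refine exists_index_two_of_hom (MonoidHom.transfer (signHom M hM)) (g : G) ?_
  rw [PResidual.transfer_eq_pow_index_of_fusion, signHom_of_not_mem hM hg, hS.neg_one_pow]
  intro k g₀ h
  by_cases hk : g ^ k ∈ M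
  · rw [signHom_of_mem hM hk, signHom_of_mem hM ((key k g₀ h).2 hk)]
  · rw [signHom_of_not_mem hM hk, signHom_of_not_mem hM (fun h' => hk ((key k g₀ h).1 h'))]

/-- **Thompson's transfer lemma** for an involution: if `S` has odd index in `G`, which has no
subgroup of index two, `M` has index two in `S` and `s ∈ S` is an involution, then some conjugate
of `s` lies in `M`. -/
theorem exists_conj_mem {G : Type*} [Group G] (hG : ∀ H : Subgroup G, H.index ≠ 2)
    (S : Subgroup G) (hS : Odd S.index) (M : Subgroup S) (hM : M.index = 2) (s : S)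
    (hs : s * s = 1) : ∃ (g : G) (h : g⁻¹ * (s : G) * g ∈ S), (⟨g⁻¹ * (s : G) * g, h⟩ : S) ∈ M := by
  by_contra hcon
  push Not at hcon
  have hs' : s ∉ M := by
    intro h
    refine hcon 1 (by simp) ?_
    convert h using 1
    simp
  obtain ⟨H, hH⟩ := exists_index_two S hS M hM s hs' (by
    intro k g₀ h
    rcases Nat.even_or_odd k with ⟨m, hm⟩ | ⟨m, hm⟩
    · have h1 : s ^ k = 1 := by rw [hm, ← two_mul, pow_mul, pow_two, hs, one_pow]
      have h2 : (s : G) ^ k = 1 := by
        have := congrArg (Subtype.val) h1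
        simpa using this
      have h3 : (⟨g₀⁻¹ * (s : G) ^ k * g₀, h⟩ : S) = 1 := Subtype.ext (by simp [h2])
      rw [h1, h3]
    · have h1 : s ^ k = s := by
        rw [hm, pow_succ, pow_mul, pow_two, hs, one_pow, one_mul]
      have h2 : (s : G) ^ k = s := by
        have := congrArg (Subtype.val) h1
        simpa using this
      rw [h1]
      constructor
      · intro h3
        exfalso
        have h4 : g₀⁻¹ * (s : G) * g₀ ∈ S := by rw [h2] at h; exact h
        refine hcon g₀ h4 ?_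
        convert h3 using 2
        rw [h2]
      · intro h3
        exact absurd h3 hs')
  exact hG H hH

/-- A Sylow 2-subgroup has odd index. -/
theorem odd_index_sylow {G : Type*} [Group G] [Finite G] (S : Sylow 2 G) :
    Odd (S : Subgroup G).index := by
  have : Fact (Nat.Prime 2) := ⟨Nat.prime_two⟩
  rw [← Nat.not_even_iff_odd, even_iff_two_dvd]
  exact S.not_dvd_index

/-- Fusion control by a weakly closed subgroup `U` of a Sylow `p`-subgroup: two `G`-conjugate
elements of `C_G(U)` are conjugate in `N_G(U)`. -/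
theorem exists_normalizer_conj {G : Type*} [Group G] [Finite G] {p : ℕ} [Fact p.Prime]
    (S : Sylow p G) (U : Subgroup G) (hUS : U ≤ S)
    (hwc : ∀ g : G, (∀ u ∈ U, g * u * g⁻¹ ∈ (S : Subgroup G)) → ∀ u ∈ U, g * u * g⁻¹ ∈ U)
    (a g : G) (ha : ∀ u ∈ U, u * a = a * u) (hb : ∀ u ∈ U, u * (g⁻¹ * a * g) = (g⁻¹ * a * g) * u) :
    ∃ h : G, (∀ u ∈ U, h * u * h⁻¹ ∈ U) ∧ g⁻¹ * a * g = h⁻¹ * a * h := by
  set b : G := g⁻¹ * a * g with hbdef
  -- the two subgroups of `C(b)`
  set C : Subgroup G := Subgroup.centralizer ({b} : Set G) with hC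
  have hmemC : ∀ x, x ∈ C ↔ x * b = b * x := by
    intro x
    rw [hC, Subgroup.mem_centralizer_singleton_iff]
  have hUC : U ≤ C := fun u hu => (hmemC u).2 (hb u hu)
  set V : Subgroup G := U.map (MulAut.conj g⁻¹).toMonoidHom with hV
  have hmemV : ∀ x, x ∈ V ↔ g * x * g⁻¹ ∈ U := by
    intro x
    rw [hV, Subgroup.mem_map]
    constructor
    · rintro ⟨u, hu, rfl⟩
      simpa [mul_assoc] using hu
    · intro hx
      exact ⟨_, hx, by simp [mul_assoc]⟩
  have hVC : V ≤ C := by
    intro x hx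
    rw [hmemV] at hx
    have h1 := ha _ hx
    rw [hmemC, hbdef]
    have h2 : g⁻¹ * ((g * x * g⁻¹) * a) * g = g⁻¹ * (a * (g * x * g⁻¹)) * g := by rw [h1]
    simpa [mul_assoc] using h2
  have hUp : IsPGroup p U := S.isPGroup'.to_le hUS
  have hVp : IsPGroup p V := hUp.map _
  obtain ⟨P, hP⟩ := (hUp.comap_subtype (H := U) (K := C)).exists_le_sylow
  obtain ⟨Q, hQ⟩ := (hVp.comap_subtype (H := V) (K := C)).exists_le_sylow
  obtain ⟨c, hc⟩ := MulAction.exists_smul_eq C Q P
  -- embed P in a Sylow subgroup of G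
  obtain ⟨T, hT⟩ := (P.isPGroup'.map C.subtype).exists_le_sylow
  obtain ⟨k, hk⟩ := MulAction.exists_smul_eq G T S
  have hTS : ∀ x, x ∈ (T : Subgroup G) → k * x * k⁻¹ ∈ (S : Subgroup G) := by
    intro x hx
    rw [← hk]
    exact ⟨x, hx, rfl⟩
  have hPT : ∀ x : C, x ∈ (P : Subgroup C) → (x : G) ∈ (T : Subgroup G) :=
    fun x hx => hT ⟨x, hx, rfl⟩
  have hQP : ∀ x : C, x ∈ (Q : Subgroup C) → c * x * c⁻¹ ∈ (P : Subgroup C) := by
    intro x hx
    rw [← hc]
    exact ⟨x, hx, rfl⟩
  have h1 : ∀ u ∈ U, k * u * k⁻¹ ∈ U := by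
    refine hwc k (fun u hu => hTS u ?_)
    exact hPT ⟨u, hUC hu⟩ (hP hu)
  have h2 : ∀ u ∈ U, (k * c * g⁻¹) * u * (k * c * g⁻¹)⁻¹ ∈ U := by
    refine hwc _ (fun u hu => ?_)
    have hx : g⁻¹ * u * g ∈ V := by rw [hmemV]; simpa [mul_assoc] using hu
    have h3 := hTS _ (hPT _ (hQP ⟨g⁻¹ * u * g, hVC hx⟩ (hQ hx)))
    simpa [mul_assoc] using h3
  -- finite: an element mapping `U` into `U` normalizes `U`
  have hinv : ∀ x : G, (∀ u ∈ U, x * u * x⁻¹ ∈ U) → ∀ u ∈ U, x⁻¹ * u * x ∈ U := by
    intro x hx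
    have hle : U.map (MulAut.conj x).toMonoidHom ≤ U := by
      rintro _ ⟨u, hu, rfl⟩
      exact hx u hu
    have heq : U.map (MulAut.conj x).toMonoidHom = U := by
      apply Subgroup.eq_of_le_of_card_ge hle
      rw [Subgroup.card_map_of_injective (MulAut.conj x).injective]
    intro u hu
    rw [← heq] at hu
    obtain ⟨v, hv, rfl⟩ := hu
    simpa [mul_assoc] using hv
  have h3 : ∀ u ∈ U, ((c : G) * g⁻¹) * u * ((c : G) * g⁻¹)⁻¹ ∈ U := by
    intro u hu
    have h4 := hinv k h1 _ (h2 u hu)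
    simpa [mul_assoc] using h4
  refine ⟨g * (c : G)⁻¹, ?_, ?_⟩
  · intro u hu
    have h4 := hinv _ h3 u hu
    simpa [mul_assoc] using h4
  · have h5 : (c : G) * b = b * c := (hmemC c).1 c.2
    have h6 : (g * (c : G)⁻¹)⁻¹ * a * (g * (c : G)⁻¹) = c * b * (c : G)⁻¹ := by
      rw [hbdef]; simp [mul_assoc]
    rw [h6, h5, mul_assoc, mul_inv_cancel, mul_one]

end Cfsg.Agent.TwoFusion.IndexTwo
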