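import Mathlib
import Cfsg.Prelude.Def_CaseTheorems
import Cfsg.Agent.TwoFusion.IndexTwo
import Cfsg.Agent.TwoFusion.PResidual
import Cfsg.Agent.TwoFusion.QDBasic
import Cfsg.Agent.TwoFusion.WreathedBasic
set_option linter.all false

/-!
A finite group with a quasi-dihedral or wreathed Sylow 2-subgroup and no subgroup of index two has
a single conjugacy class of involutions. Short proof by transfer.
-/

set_option autoImplicit false

namespace Cfsg.Agent.TwoFusion.OneClass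

open Subgroup Cfsg.Agent.TwoFusion.QDBasic Cfsg.Agent.TwoFusion.WreathedBasic
open Cfsg.Agent.TwoFusion.IndexTwo

/-! ### The quasi-dihedral case -/

section QD

variable {S : Type*} [Group S] {n : ℕ} {u : ZMod (2 ^ n) → S} {y : S}

/-- The generalized quaternion maximal subgroup of a quasi-dihedral group. -/
def quatSub (h : IsQDCoord n u y) : Subgroup S where
  carrier := {s | (∃ b, s = u (2 * b)) ∨ (∃ b, s = u (2 * b + 1) * y)}
  one_mem' := Or.inl ⟨0, by rw [mul_zero, h.u_zero]⟩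
  mul_mem' := by
    obtain ⟨m, hm⟩ : ∃ m, n - 1 = m + 1 := ⟨n - 2, by have := h.three_le; omega⟩
    rintro _ _ (⟨a, rfl⟩ | ⟨a, rfl⟩) (⟨b, rfl⟩ | ⟨b, rfl⟩)
    · left; exact ⟨a + b, by rw [h.u_mul]; congr 1; ring⟩
    · right; exact ⟨a + b, by rw [h.u_mul_uy]; congr 2; ring⟩
    · right
      refine ⟨a + (2 ^ (n - 1) - 1) * b, ?_⟩
      rw [h.uy_mul_u]; congr 2; ring
    · left
      refine ⟨a + (2 ^ (n - 1) - 1) * b + 2 ^ m, ?_⟩
      rw [h.uy_mul_uy]; congr 1
      rw [hm, pow_succ]; ring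
  inv_mem' := by
    rintro _ (⟨a, rfl⟩ | ⟨a, rfl⟩)
    · left; exact ⟨-a, by rw [h.u_inv]; congr 1; ring⟩
    · right
      obtain ⟨m, hm⟩ : ∃ m, n - 1 = m + 1 := ⟨n - 2, by have := h.three_le; omega⟩
      refine ⟨(1 - 2 ^ (n - 1)) * a - 2 ^ m, ?_⟩
      rw [h.uy_inv]
      congr 2
      rw [hm, pow_succ]; ring

theorem mem_quatSub (h : IsQDCoord n u y) (s : S) :
    s ∈ quatSub h ↔ (∃ b, s = u (2 * b)) ∨ (∃ b, s = u (2 * b + 1) * y) := Iff.rfl

theorem u_mem_quatSub (h : IsQDCoord n u y) (a : ZMod (2 ^ n)) :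
    u a ∈ quatSub h ↔ ∃ b, a = 2 * b := by
  rw [mem_quatSub]
  constructor
  · rintro (⟨b, hb⟩ | ⟨b, hb⟩)
    · exact ⟨b, h.u_inj _ _ hb⟩
    · exact absurd hb (h.u_ne _ _)
  · rintro ⟨b, rfl⟩
    exact Or.inl ⟨b, rfl⟩

theorem uy_mem_quatSub (h : IsQDCoord n u y) (a : ZMod (2 ^ n)) :
    u a * y ∈ quatSub h ↔ ∃ b, a = 2 * b + 1 := by
  rw [mem_quatSub]
  constructor
  · rintro (⟨b, hb⟩ | ⟨b, hb⟩)
    · exact absurd hb.symm (h.u_ne _ _)
    · exact ⟨b, h.u_inj _ _ (mul_right_cancel hb)⟩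
  · rintro ⟨b, rfl⟩
    exact Or.inr ⟨b, rfl⟩

theorem odd_iff_not_even (n : ℕ) (hn : 1 ≤ n) (a : ZMod (2 ^ n)) :
    (∃ b, a = 2 * b + 1) ↔ ¬ ∃ b, a = 2 * b := by
  constructor
  · rintro ⟨b, rfl⟩ ⟨c, hc⟩
    exact two_mul_ne_two_mul_add_one n hn c b hc.symm
  · intro h
    rcases even_or_odd' n a with hb | hb
    · exact absurd hb h
    · exact hb

theorem index_quatSub (h : IsQDCoord n u y) : (quatSub h).index = 2 := by
  rw [Subgroup.index_eq_two_iff]
  refine ⟨y, fun b => ?_⟩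
  rcases h.cases b with ⟨a, rfl⟩ | ⟨a, rfl⟩
  · rw [uy_mem_quatSub, u_mem_quatSub, odd_iff_not_even n h.one_le]
    rw [xor_def]
    tauto
  · rw [mul_assoc, h.y_y, mul_one, uy_mem_quatSub, u_mem_quatSub, odd_iff_not_even n h.one_le]
    rw [xor_def]
    tauto

/-- The only involution of the generalized quaternion maximal subgroup. -/
theorem eq_of_mem_quatSub (h : IsQDCoord n u y) (s : S) (hs : s ∈ quatSub h) (hs1 : s ≠ 1)
    (hs2 : s * s = 1) : s = u (2 ^ (n - 1)) := by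
  rcases h.cases s with ⟨a, rfl⟩ | ⟨a, rfl⟩
  · rw [h.u_mul, h.u_eq_one_iff, ← two_mul, two_mul_eq_zero_iff n h.one_le] at hs2
    rcases hs2 with h2 | h2
    · exact absurd (by rw [h2, h.u_zero]) hs1
    · rw [h2]
  · exfalso
    rw [uy_mem_quatSub] at hs
    obtain ⟨b, rfl⟩ := hs
    rw [← pow_two, h.uy_sq, half_mul_odd n h.one_le, h.u_eq_one_iff] at hs2
    exact half_ne_zero n h.one_le hs2

end QD

/-- Quasi-dihedral Sylow 2-subgroup, no subgroup of index two: every involution of the Sylow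
subgroup is conjugate to the central one. -/
theorem isConj_of_qd {G : Type*} [Group G] [Finite G] (S : Sylow 2 G)
    (hG : ∀ H : Subgroup G, H.index ≠ 2) {n : ℕ} {u : ZMod (2 ^ n) → (S : Subgroup G)}
    {y : (S : Subgroup G)}
    (h : IsQDCoord n u y) (s : (S : Subgroup G)) (hs1 : s ≠ 1) (hs2 : s * s = 1) :
    IsConj (s : G) (u (2 ^ (n - 1)) : G) := by
  obtain ⟨g, hg, hm⟩ := exists_conj_mem hG (S : Subgroup G) (odd_index_sylow S) (quatSub h)
    (index_quatSub h) s hs2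
  have h1 : (⟨g⁻¹ * (s : G) * g, hg⟩ : S) = u (2 ^ (n - 1)) := by
    refine eq_of_mem_quatSub h _ hm ?_ ?_
    · intro h2
      apply hs1
      have h3 : g⁻¹ * (s : G) * g = 1 := congrArg Subtype.val h2
      have h4 : (s : G) = 1 := by
        calc (s : G) = g * (g⁻¹ * (s : G) * g) * g⁻¹ := by group
          _ = 1 := by rw [h3]; group
      exact Subtype.ext h4
    · apply Subtype.ext
      have h4 : (s : G) * s = 1 := congrArg Subtype.val hs2
      calc (g⁻¹ * (s : G) * g) * (g⁻¹ * (s : G) * g) = g⁻¹ * ((s : G) * s) * g := by group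
        _ = 1 := by rw [h4]; group
  rw [← h1]
  exact isConj_iff.2 ⟨g⁻¹, by simp⟩

/-! ### The wreathed case -/

section Wr

variable {S : Type*} [Group S] {n : ℕ} {u : ZMod (2 ^ n) → ZMod (2 ^ n) → S} {z : S}

/-- The base subgroup is the only abelian subgroup of index two. -/
theorem eq_base_of_comm (h : IsWCoord n u z) (A : Subgroup S)
    (hA : ∀ a ∈ A, ∀ b ∈ A, a * b = b * a) (hi : A.index = 2) : A = h.base := by
  have hle : A ≤ h.base := by
    intro w hw
    by_contra hcon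
    rw [h.not_mem_base] at hcon
    obtain ⟨a, b, rfl⟩ := hcon
    have h1 : u 1 0 ^ 2 ∈ A := Subgroup.sq_mem_of_index_two hi _
    have h2 := hA _ hw _ h1
    have h3 := h.uz_conj_u a b (2 * 1) (2 * 0)
    rw [← h.u_sq, h2, mul_assoc, mul_inv_cancel, mul_one, h.u_sq] at h3
    obtain ⟨h4, -⟩ := h.u_inj _ _ _ _ h3
    have h5 : ((2 : ℕ) : ZMod (2 ^ n)) = 0 := by push_cast; linear_combination h4
    rw [natCast_eq_zero_iff] at h5
    have h6 := Nat.le_of_dvd two_pos h5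
    have h7 : 2 ^ 2 ≤ 2 ^ n := Nat.pow_le_pow_right (by norm_num) h.two_le
    omega
  have hfin := h.finite
  apply Subgroup.eq_of_le_of_card_ge hle
  have h1 := A.card_mul_index
  have h2 := h.base.card_mul_index
  rw [hi] at h1
  rw [h.index_base] at h2
  omega

/-- The maximal subgroup `{u a b, u a b * z : a + b even}`. -/
def evenSub (h : IsWCoord n u z) : Subgroup S where
  carrier := {s | ∃ a b, (∃ c, a + b = 2 * c) ∧ (s = u a b ∨ s = u a b * z)}
  one_mem' := ⟨0, 0, ⟨0, by ring⟩, Or.inl h.u_zero.symm⟩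
  mul_mem' := by
    rintro _ _ ⟨a, b, ⟨c, hc⟩, (rfl | rfl)⟩ ⟨a', b', ⟨c', hc'⟩, (rfl | rfl)⟩
    · exact ⟨a + a', b + b', ⟨c + c', by linear_combination hc + hc'⟩, Or.inl (h.u_mul _ _ _ _)⟩
    · exact ⟨a + a', b + b', ⟨c + c', by linear_combination hc + hc'⟩,
        Or.inr (h.u_mul_uz _ _ _ _)⟩
    · exact ⟨a + b', b + a', ⟨c + c', by linear_combination hc + hc'⟩,
        Or.inr (h.uz_mul_u _ _ _ _)⟩
    · exact ⟨a + b', b + a', ⟨c + c', by linear_combination hc + hc'⟩,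
        Or.inl (h.uz_mul_uz _ _ _ _)⟩
  inv_mem' := by
    rintro _ ⟨a, b, ⟨c, hc⟩, (rfl | rfl)⟩
    · exact ⟨-a, -b, ⟨-c, by linear_combination -hc⟩, Or.inl (h.u_inv _ _)⟩
    · exact ⟨-b, -a, ⟨-c, by linear_combination -hc⟩, Or.inr (h.uz_inv _ _)⟩

theorem mem_evenSub (h : IsWCoord n u z) (s : S) :
    s ∈ evenSub h ↔ ∃ a b, (∃ c, a + b = 2 * c) ∧ (s = u a b ∨ s = u a b * z) := Iff.rfl

theorem u_mem_evenSub (h : IsWCoord n u z) (a b : ZMod (2 ^ n)) :
    u a b ∈ evenSub h ↔ ∃ c, a + b = 2 * c := by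
  rw [mem_evenSub]
  constructor
  · rintro ⟨a', b', hc, (h1 | h1)⟩
    · obtain ⟨rfl, rfl⟩ := h.u_inj _ _ _ _ h1
      exact hc
    · exact absurd h1 (h.u_ne _ _ _ _)
  · intro hc
    exact ⟨a, b, hc, Or.inl rfl⟩

theorem uz_mem_evenSub (h : IsWCoord n u z) (a b : ZMod (2 ^ n)) :
    u a b * z ∈ evenSub h ↔ ∃ c, a + b = 2 * c := by
  rw [mem_evenSub]
  constructor
  · rintro ⟨a', b', hc, (h1 | h1)⟩
    · exact absurd h1.symm (h.u_ne _ _ _ _)
    · obtain ⟨rfl, rfl⟩ := h.u_inj _ _ _ _ (mul_right_cancel h1)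
      exact hc
  · intro hc
    exact ⟨a, b, hc, Or.inr rfl⟩

theorem index_evenSub (h : IsWCoord n u z) : (evenSub h).index = 2 := by
  rw [Subgroup.index_eq_two_iff]
  refine ⟨u 1 0, fun b => ?_⟩
  have key : ∀ e : ZMod (2 ^ n), (∃ c, e + 1 = 2 * c) ↔ ¬ ∃ c, e = 2 * c := by
    intro e
    rw [← odd_iff_not_even n h.one_le]
    constructor
    · rintro ⟨c, hc⟩
      exact ⟨c - 1, by linear_combination hc⟩
    · rintro ⟨c, hc⟩
      exact ⟨c + 1, by linear_combination hc⟩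
  rcases h.cases b with ⟨a, c, rfl⟩ | ⟨a, c, rfl⟩
  · rw [h.u_mul, u_mem_evenSub, u_mem_evenSub, show a + 1 + (c + 0) = (a + c) + 1 by ring, key]
    rw [xor_def]
    tauto
  · rw [h.uz_mul_u, uz_mem_evenSub, uz_mem_evenSub, show a + 0 + (c + 1) = (a + c) + 1 by ring,
      key]
    rw [xor_def]
    tauto

/-- involutions of the base -/
theorem involution_base (h : IsWCoord n u z) (a b : ZMod (2 ^ n)) (h1 : u a b ≠ 1)
    (h2 : u a b * u a b = 1) : (a = 2 ^ (n - 1) ∧ b = 0) ∨ (a = 0 ∧ b = 2 ^ (n - 1)) ∨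
      (a = 2 ^ (n - 1) ∧ b = 2 ^ (n - 1)) := by
  rw [← h.orderOf_u_eq_two_iff]
  exact orderOf_eq_prime (by rw [pow_two, h2]) h1

end Wr

/-- An element of odd order normalizing an abelian 2-subgroup `U` and centralizing its involutions
centralizes `U`. -/
theorem conj_eq_of_odd {G : Type*} [Group G] (U : Subgroup G)
    (hU : ∀ a ∈ U, ∀ b ∈ U, a * b = b * a) (k : G) (hk : Odd (orderOf k))
    (hn : ∀ v ∈ U, k * v * k⁻¹ ∈ U) (h1 : ∀ v ∈ U, v * v = 1 → k * v * k⁻¹ = v) (j : ℕ) :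
    ∀ v ∈ U, v ^ (2 ^ j) = 1 → k * v * k⁻¹ = v := by
  induction j with
  | zero =>
    intro v hv h
    rw [pow_zero, pow_one] at h
    rw [h]; simp
  | succ j ih =>
    intro v hv h
    have h2 : k * (v * v) * k⁻¹ = v * v := by
      refine ih (v * v) (U.mul_mem hv hv) ?_
      rw [← pow_two, ← pow_mul, ← pow_succ', h]
    set w : G := v⁻¹ * (k * v * k⁻¹) with hw
    have hwU : w ∈ U := U.mul_mem (U.inv_mem hv) (hn v hv)
    have hkv : k * v * k⁻¹ = v * w := by rw [hw]; group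
    have hvw : v * w = w * v := hU v hv w hwU
    have hw2 : w * w = 1 := by
      have h3 : (k * v * k⁻¹) * (k * v * k⁻¹) = k * (v * v) * k⁻¹ := by group
      rw [h2, hkv] at h3
      have h4 : v * w * (v * w) = v * v * (w * w) := by
        calc v * w * (v * w) = v * (w * v) * w := by group
          _ = v * (v * w) * w := by rw [hvw]
          _ = v * v * (w * w) := by group
      rw [h4] at h3
      exact mul_eq_left.1 h3
    have hkw : k * w * k⁻¹ = w := h1 w hwU hw2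
    have hpow : ∀ i : ℕ, k ^ i * v * (k ^ i)⁻¹ = v * w ^ i := by
      intro i
      induction i with
      | zero => simp
      | succ i ih' =>
        have h5 : k * w ^ i * k⁻¹ = w ^ i := by
          rw [← conj_pow, hkw]
        calc k ^ (i + 1) * v * (k ^ (i + 1))⁻¹ = k * (k ^ i * v * (k ^ i)⁻¹) * k⁻¹ := by
              rw [pow_succ']; group
          _ = k * (v * w ^ i) * k⁻¹ := by rw [ih']
          _ = (k * v * k⁻¹) * (k * w ^ i * k⁻¹) := by group
          _ = v * w * w ^ i := by rw [hkv, h5]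
          _ = v * w ^ (i + 1) := by rw [pow_succ', mul_assoc]
    have h6 := hpow (orderOf k)
    rw [pow_orderOf_eq_one] at h6
    have h7 : w ^ orderOf k = 1 := by
      have h8 : v = v * w ^ orderOf k := by simpa using h6
      exact (mul_eq_left.1 h8.symm)
    obtain ⟨m, hm⟩ := hk
    rw [hm, pow_succ, pow_mul, pow_two, hw2, one_pow, one_mul] at h7
    rw [hkv, h7, mul_one]

section WrG

variable {G : Type*} [Group G] (S : Sylow 2 G) {n : ℕ}
  {u : ZMod (2 ^ n) → ZMod (2 ^ n) → (S : Subgroup G)} {z : (S : Subgroup G)}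

/-- The base subgroup as a subgroup of the whole group is weakly closed. -/
theorem base_weakly_closed (h : IsWCoord n u z) (g : G)
    (hg : ∀ v ∈ h.base.map (S : Subgroup G).subtype, g * v * g⁻¹ ∈ (S : Subgroup G)) :
    ∀ v ∈ h.base.map (S : Subgroup G).subtype,
      g * v * g⁻¹ ∈ h.base.map (S : Subgroup G).subtype := by
  set U : Subgroup G := h.base.map (S : Subgroup G).subtype with hU
  set V : Subgroup G := U.map (MulAut.conj g).toMonoidHom with hV
  have hVS : V ≤ S := by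
    rintro _ ⟨v, hv, rfl⟩
    exact hg v hv
  have hcard : Nat.card (V.subgroupOf (S : Subgroup G)) = 2 ^ (2 * n) := by
    rw [Nat.card_congr (Subgroup.subgroupOfEquivOfLe hVS).toEquiv, hV,
      Subgroup.card_map_of_injective (MulAut.conj g).injective, hU,
      Subgroup.card_map_of_injective (Subgroup.subtype_injective _), h.card_base]
  have hidx : (V.subgroupOf (S : Subgroup G)).index = 2 := by
    have h1 := (V.subgroupOf (S : Subgroup G)).card_mul_index
    rw [hcard, h.card, pow_succ] at h1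
    exact Nat.eq_of_mul_eq_mul_left (by positivity) h1
  have hbase : V.subgroupOf (S : Subgroup G) = h.base := by
    refine eq_base_of_comm h _ ?_ hidx
    rintro ⟨a, ha⟩ ha' ⟨b, hb⟩ hb'
    rw [Subgroup.mem_subgroupOf] at ha' hb'
    obtain ⟨_, ⟨v, ⟨i, j, rfl⟩, rfl⟩, hv⟩ := ha'
    obtain ⟨_, ⟨w, ⟨k, l, rfl⟩, rfl⟩, hw⟩ := hb'
    apply Subtype.ext
    show a * b = b * a
    simp only at hv hw
    rw [← hv, ← hw, ← map_mul, ← map_mul, ← map_mul, ← map_mul, h.u_comm]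
  intro v hv
  have h1 : g * v * g⁻¹ ∈ (S : Subgroup G) := hg v hv
  have h2 : (⟨g * v * g⁻¹, h1⟩ : (S : Subgroup G)) ∈ V.subgroupOf (S : Subgroup G) := by
    rw [Subgroup.mem_subgroupOf]
    exact ⟨v, hv, rfl⟩
  rw [hbase] at h2
  exact ⟨_, h2, rfl⟩

/-- An element normalizing the base and centralizing its involutions centralizes it. -/
theorem centralizes_base [Finite G] (h : IsWCoord n u z) (k : G)
    (hk : ∀ v ∈ h.base.map (S : Subgroup G).subtype,
      k * v * k⁻¹ ∈ h.base.map (S : Subgroup G).subtype)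
    (h1 : k * (u (2 ^ (n - 1)) 0 : G) * k⁻¹ = (u (2 ^ (n - 1)) 0 : G))
    (h2 : k * (u 0 (2 ^ (n - 1)) : G) * k⁻¹ = (u 0 (2 ^ (n - 1)) : G))
    (v : G) (hv : v ∈ h.base.map (S : Subgroup G).subtype) : k * v * k⁻¹ = v := by
  set U : Subgroup G := h.base.map (S : Subgroup G).subtype with hU
  have hcomm : ∀ a ∈ U, ∀ b ∈ U, a * b = b * a := by
    rintro _ ⟨v, ⟨i, j, rfl⟩, rfl⟩ _ ⟨w, ⟨k, l, rfl⟩, rfl⟩
    rw [← map_mul, ← map_mul, h.u_comm]
  -- the subgroup of elements normalizing `U` and centralizing its involutions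
  have hinv : ∀ v ∈ U, v * v = 1 → k * v * k⁻¹ = v := by
    rintro _ ⟨v, ⟨i, j, rfl⟩, rfl⟩ hv
    by_cases hv1 : u i j = 1
    · rw [hv1]; simp
    · have hv2 : u i j * u i j = 1 := Subtype.ext hv
      rcases involution_base h i j hv1 hv2 with ⟨rfl, rfl⟩ | ⟨rfl, rfl⟩ | ⟨rfl, rfl⟩
      · exact h1
      · exact h2
      · have h3 : u (2 ^ (n - 1)) (2 ^ (n - 1)) = u (2 ^ (n - 1)) 0 * u 0 (2 ^ (n - 1)) := by
          rw [h.u_mul, zero_add, add_zero]
        rw [h3, map_mul]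
        calc k * ((S : Subgroup G).subtype (u (2 ^ (n - 1)) 0) *
              (S : Subgroup G).subtype (u 0 (2 ^ (n - 1)))) * k⁻¹
            = (k * (u (2 ^ (n - 1)) 0 : G) * k⁻¹) * (k * (u 0 (2 ^ (n - 1)) : G) * k⁻¹) := by
              simp [mul_assoc]
          _ = _ := by rw [h1, h2]; rfl
  set N : Subgroup G := Subgroup.normalizer (U : Set G) with hN
  have hNfin : ∀ x : G, (∀ v ∈ U, x * v * x⁻¹ ∈ U) → x ∈ N := by
    intro x hx
    have hle : U.map (MulAut.conj x).toMonoidHom ≤ U := by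
      rintro _ ⟨v, hv, rfl⟩
      exact hx v hv
    have heq : U.map (MulAut.conj x).toMonoidHom = U := by
      apply Subgroup.eq_of_le_of_card_ge hle
      exact (Subgroup.card_map_of_injective (K := U) (f := (MulAut.conj x).toMonoidHom)
        (MulAut.conj x).injective).ge
    rw [hN, Subgroup.mem_normalizer_iff]
    intro v
    refine ⟨hx v, fun hv => ?_⟩
    rw [← heq] at hv
    obtain ⟨w, hw, hw'⟩ := hv
    have : w = v := by
      have : x * w * x⁻¹ = x * v * x⁻¹ := hw'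
      simpa using this
    rwa [← this]
  have hkN : k ∈ N := hNfin k hk
  -- the centralizer of the involutions in `N`
  let C : Subgroup G := N ⊓ Subgroup.centralizer {v | v ∈ U ∧ v * v = 1}
  have hkC : k ∈ C := by
    refine ⟨hkN, Subgroup.mem_centralizer_iff.2 ?_⟩
    rintro v ⟨hv, hv2⟩
    have := hinv v hv hv2
    calc v * k = (k * v * k⁻¹) * k := by rw [this]
      _ = k * v := by group
  have hC2 : ∀ x ∈ C, ∀ v ∈ U, v * v = 1 → x * v * x⁻¹ = v := by
    rintro x ⟨-, hx⟩ v hv hv2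
    rw [← Subgroup.mem_centralizer_iff.1 hx v ⟨hv, hv2⟩]; group
  have hC1 : ∀ x ∈ C, ∀ v ∈ U, x * v * x⁻¹ ∈ U := by
    rintro x ⟨hx, -⟩ v hv
    exact (Subgroup.mem_normalizer_iff.1 hx v).1 hv
  have hSN : (S : Subgroup G) ≤ N := by
    intro x hx
    apply hNfin
    rintro _ ⟨v, hv, rfl⟩
    have h3 := h.base_normal
    exact ⟨_, h3.conj_mem v hv ⟨x, hx⟩, rfl⟩
  obtain ⟨a, b, hab, ⟨j, hj⟩, hodd⟩ := PResidual.exists_pPart_mul_pPrimePart 2 k
  have haC : k ^ a ∈ C := C.zpow_mem hkC a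
  have hbC : k ^ b ∈ C := C.zpow_mem hkC b
  -- the odd part
  have hb1 : k ^ b * v * (k ^ b)⁻¹ = v := by
    obtain ⟨w, hw, hw'⟩ := hv
    obtain ⟨l, hl⟩ := (IsPGroup.iff_orderOf.1 S.isPGroup') w
    refine conj_eq_of_odd U hcomm (k ^ b) ?_ (hC1 _ hbC) (hC2 _ hbC) l v ⟨w, hw, hw'⟩ ?_
    · rw [← Nat.not_even_iff_odd, even_iff_two_dvd]
      intro h3
      have h4 := Nat.dvd_gcd h3 (dvd_refl 2)
      rw [hodd] at h4
      omega
    · rw [← hw', ← map_pow, ← hl, pow_orderOf_eq_one, map_one]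
  -- the 2-part
  have ha1 : k ^ a ∈ U := by
    have h3 : IsPGroup 2 (Subgroup.zpowers (k ^ a)) :=
      IsPGroup.of_card (by rw [Nat.card_zpowers, hj])
    obtain ⟨P, hP⟩ := (h3.comap_subtype (K := N)).exists_le_sylow
    obtain ⟨m, hm⟩ := MulAction.exists_smul_eq N P (S.subtype hSN)
    have h4 : m * ⟨k ^ a, haC.1⟩ * m⁻¹ ∈ (S.subtype hSN : Subgroup N) := by
      rw [← hm]
      exact ⟨_, hP (Subgroup.mem_zpowers (k ^ a)), rfl⟩
    have h5 : (m : G) * k ^ a * (m : G)⁻¹ ∈ (S : Subgroup G) := h4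
    have hmU : ∀ v ∈ U, (m : G) * v * (m : G)⁻¹ ∈ U := fun v hv =>
      (Subgroup.mem_normalizer_iff.1 m.2 v).1 hv
    have hmU' : ∀ v ∈ U, (m : G)⁻¹ * v * (m : G) ∈ U := fun v hv => by
      have := (Subgroup.mem_normalizer_iff.1 (N.inv_mem m.2) v).1 hv
      simpa using this
    have h6 : (⟨(m : G) * k ^ a * (m : G)⁻¹, h5⟩ : (S : Subgroup G)) ∈ h.base := by
      by_contra hcon
      rw [h.not_mem_base] at hcon
      obtain ⟨c, d, hcd⟩ := hcon
      have h7 := h.uz_conj_u c d (2 ^ (n - 1)) 0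
      rw [← hcd] at h7
      have h8 : ((m : G) * k ^ a * (m : G)⁻¹) * (u (2 ^ (n - 1)) 0 : G) *
          ((m : G) * k ^ a * (m : G)⁻¹)⁻¹ = (u 0 (2 ^ (n - 1)) : G) := congrArg Subtype.val h7
      have h9 : (u (2 ^ (n - 1)) 0 : G) = (1 : G) * (u (2 ^ (n - 1)) 0 : G) := by simp
      have h10 := hC2 (k ^ a) haC ((m : G)⁻¹ * (u (2 ^ (n - 1)) 0 : G) * (m : G))
        (hmU' _ ⟨_, h.u_mem_base _ _, rfl⟩) (by
          have h11 : u (2 ^ (n - 1)) 0 * u (2 ^ (n - 1)) 0 = 1 := by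
            rw [h.u_mul, ← two_mul, two_mul_half n h.one_le, add_zero, h.u_zero]
          have h12 : ((u (2 ^ (n - 1)) 0 : G) : G) * (u (2 ^ (n - 1)) 0 : G) = 1 :=
            congrArg Subtype.val h11
          calc (m : G)⁻¹ * (u (2 ^ (n - 1)) 0 : G) * (m : G) *
                ((m : G)⁻¹ * (u (2 ^ (n - 1)) 0 : G) * (m : G))
              = (m : G)⁻¹ * (((u (2 ^ (n - 1)) 0 : G) : G) * (u (2 ^ (n - 1)) 0 : G)) * (m : G) := by
                group
            _ = 1 := by rw [h12]; group)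
      have h13 : ((u (2 ^ (n - 1)) 0 : G) : G) = (u 0 (2 ^ (n - 1)) : G) := by
        rw [← h8]
        calc ((u (2 ^ (n - 1)) 0 : G) : G)
            = (m : G) * ((m : G)⁻¹ * (u (2 ^ (n - 1)) 0 : G) * (m : G)) * (m : G)⁻¹ := by group
          _ = (m : G) * (k ^ a * ((m : G)⁻¹ * (u (2 ^ (n - 1)) 0 : G) * (m : G)) * (k ^ a)⁻¹) *
                (m : G)⁻¹ := by rw [h10]
          _ = _ := by group
      have h14 := h.u_inj _ _ _ _ (Subtype.ext h13)
      exact half_ne_zero n h.one_le h14.1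
    have h7 : (m : G) * k ^ a * (m : G)⁻¹ ∈ U := ⟨_, h6, rfl⟩
    have h8 := hmU' _ h7
    have h9 : (m : G)⁻¹ * ((m : G) * k ^ a * (m : G)⁻¹) * (m : G) = k ^ a := by group
    rwa [h9] at h8
  have ha2 : k ^ a * v * (k ^ a)⁻¹ = v := by
    rw [hcomm _ ha1 _ hv]; group
  calc k * v * k⁻¹ = (k ^ a * k ^ b) * v * (k ^ a * k ^ b)⁻¹ := by rw [← hab]
    _ = k ^ a * (k ^ b * v * (k ^ b)⁻¹) * (k ^ a)⁻¹ := by group
    _ = v := by rw [hb1, ha2]

/-- If the two classes of involutions of the base are not fused in `G`, then fusion in the base is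
that of the Sylow subgroup. -/
theorem base_fusion [Finite G] (h : IsWCoord n u z)
    (hnc : ¬ IsConj (u (2 ^ (n - 1)) 0 : G) (u (2 ^ (n - 1)) (2 ^ (n - 1)) : G))
    (a b c d : ZMod (2 ^ n)) (g : G) (hg : g⁻¹ * (u a b : G) * g = (u c d : G)) :
    (c = a ∧ d = b) ∨ (c = b ∧ d = a) := by
  have : Fact (Nat.Prime 2) := ⟨Nat.prime_two⟩
  set U : Subgroup G := h.base.map (S : Subgroup G).subtype with hU
  have hmem : ∀ a b, (u a b : G) ∈ U := fun a b => ⟨_, h.u_mem_base a b, rfl⟩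
  have hcomm : ∀ a ∈ U, ∀ b ∈ U, a * b = b * a := by
    rintro _ ⟨v, ⟨i, j, rfl⟩, rfl⟩ _ ⟨w, ⟨k, l, rfl⟩, rfl⟩
    rw [← map_mul, ← map_mul, h.u_comm]
  obtain ⟨k, hk, hk'⟩ := exists_normalizer_conj S U (by
      rintro _ ⟨v, -, rfl⟩
      exact v.2) (base_weakly_closed S h) (u a b : G) g
    (fun v hv => hcomm v hv _ (hmem a b)) (fun v hv => by
      rw [hg]; exact hcomm v hv _ (hmem c d))
  rw [hg] at hk'
  have hne1 : u (2 ^ (n - 1)) 0 ≠ 1 := by
    rw [ne_eq, h.u_eq_one_iff]; exact fun e => half_ne_zero n h.one_le e.1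
  have hne2 : u 0 (2 ^ (n - 1)) ≠ 1 := by
    rw [ne_eq, h.u_eq_one_iff]; exact fun e => half_ne_zero n h.one_le e.2
  have hsq1 : u (2 ^ (n - 1)) 0 * u (2 ^ (n - 1)) 0 = 1 := by
    rw [h.u_mul, ← two_mul, two_mul_half n h.one_le, add_zero, h.u_zero]
  have hsq2 : u 0 (2 ^ (n - 1)) * u 0 (2 ^ (n - 1)) = 1 := by
    rw [h.u_mul, add_zero, ← two_mul, two_mul_half n h.one_le, h.u_zero]
  have hz12 : IsConj (u (2 ^ (n - 1)) 0 : G) (u 0 (2 ^ (n - 1)) : G) := by
    rw [isConj_iff]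
    exact ⟨(z : G), congrArg Subtype.val (h.z_conj_u (2 ^ (n - 1)) 0)⟩
  -- conjugation by `k` on an involution of the base
  have hinv : ∀ v : (S : Subgroup G), v ∈ h.base → v ≠ 1 → v * v = 1 →
      k * (v : G) * k⁻¹ = (u (2 ^ (n - 1)) 0 : G) ∨ k * (v : G) * k⁻¹ = (u 0 (2 ^ (n - 1)) : G) ∨
      k * (v : G) * k⁻¹ = (u (2 ^ (n - 1)) (2 ^ (n - 1)) : G) := by
    intro v hv hv1 hv2
    obtain ⟨w, ⟨i, j, rfl⟩, hw⟩ := hk (v : G) ⟨v, hv, rfl⟩
    have hw' : (u i j : G) = k * (v : G) * k⁻¹ := hw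
    rw [← hw']
    rcases involution_base h i j (by
        intro e
        apply hv1
        have e' : (u i j : G) = 1 := by rw [e]; rfl
        rw [hw'] at e'
        have e2 : (v : G) = 1 := by
          calc (v : G) = k⁻¹ * (k * (v : G) * k⁻¹) * k := by group
            _ = 1 := by rw [e']; group
        exact Subtype.ext e2) (by
        apply Subtype.ext
        show (u i j : G) * (u i j : G) = 1
        rw [hw']
        have e2 : (v : G) * v = 1 := congrArg Subtype.val hv2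
        calc k * (v : G) * k⁻¹ * (k * (v : G) * k⁻¹) = k * ((v : G) * v) * k⁻¹ := by group
          _ = 1 := by rw [e2]; group) with ⟨rfl, rfl⟩ | ⟨rfl, rfl⟩ | ⟨rfl, rfl⟩
    · exact Or.inl rfl
    · exact Or.inr (Or.inl rfl)
    · exact Or.inr (Or.inr rfl)
  have h1 := hinv _ (h.u_mem_base _ _) hne1 hsq1
  have h2 := hinv _ (h.u_mem_base _ _) hne2 hsq2
  have h1' : ¬ k * (u (2 ^ (n - 1)) 0 : G) * k⁻¹ = (u (2 ^ (n - 1)) (2 ^ (n - 1)) : G) :=
    fun e => hnc (isConj_iff.2 ⟨k, e⟩)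
  have h2' : ¬ k * (u 0 (2 ^ (n - 1)) : G) * k⁻¹ = (u (2 ^ (n - 1)) (2 ^ (n - 1)) : G) :=
    fun e => hnc (hz12.trans (isConj_iff.2 ⟨k, e⟩))
  have hne12 : (u (2 ^ (n - 1)) 0 : G) ≠ (u 0 (2 ^ (n - 1)) : G) := by
    intro e
    exact half_ne_zero n h.one_le (h.u_inj _ _ _ _ (Subtype.ext e)).1
  have hinj : ∀ x y : G, k * x * k⁻¹ = k * y * k⁻¹ → x = y := by
    intro x y e
    simpa using e
  have hcases : (k * (u (2 ^ (n - 1)) 0 : G) * k⁻¹ = (u (2 ^ (n - 1)) 0 : G) ∧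
      k * (u 0 (2 ^ (n - 1)) : G) * k⁻¹ = (u 0 (2 ^ (n - 1)) : G)) ∨
      (k * (u (2 ^ (n - 1)) 0 : G) * k⁻¹ = (u 0 (2 ^ (n - 1)) : G) ∧
      k * (u 0 (2 ^ (n - 1)) : G) * k⁻¹ = (u (2 ^ (n - 1)) 0 : G)) := by
    rcases h1 with e1 | e1 | e1
    · rcases h2 with e2 | e2 | e2
      · exact absurd (hinj _ _ (e1.trans e2.symm)) hne12
      · exact Or.inl ⟨e1, e2⟩
      · exact absurd e2 h2'
    · rcases h2 with e2 | e2 | e2
      · exact Or.inr ⟨e1, e2⟩
      · exact absurd (hinj _ _ (e1.trans e2.symm)) hne12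
      · exact absurd e2 h2'
    · exact absurd e1 h1'
  rcases hcases with ⟨e1, e2⟩ | ⟨e1, e2⟩
  · left
    have h3 := centralizes_base S h k hk e1 e2 (u a b : G) (hmem a b)
    have h4 : (u c d : G) = (u a b : G) := by
      rw [hk']
      conv_lhs => rw [← h3]
      group
    exact h.u_inj _ _ _ _ (Subtype.ext h4)
  · right
    have hzc : ∀ i j, (z : G) * (u i j : G) * (z : G)⁻¹ = (u j i : G) := fun i j =>
      congrArg Subtype.val (h.z_conj_u i j)
    have h3 := centralizes_base S h ((z : G) * k) (by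
        intro v hv
        obtain ⟨w, ⟨i, j, rfl⟩, hw⟩ := hk v hv
        have hw' : (u i j : G) = k * v * k⁻¹ := hw
        have h5 : (z : G) * k * v * ((z : G) * k)⁻¹ = (u j i : G) := by
          rw [← hzc, hw']; group
        rw [h5]
        exact hmem _ _)
      (by
        calc (z : G) * k * (u (2 ^ (n - 1)) 0 : G) * ((z : G) * k)⁻¹
            = (z : G) * (k * (u (2 ^ (n - 1)) 0 : G) * k⁻¹) * (z : G)⁻¹ := by group
          _ = _ := by rw [e1, hzc])
      (by
        calc (z : G) * k * (u 0 (2 ^ (n - 1)) : G) * ((z : G) * k)⁻¹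
            = (z : G) * (k * (u 0 (2 ^ (n - 1)) : G) * k⁻¹) * (z : G)⁻¹ := by group
          _ = _ := by rw [e2, hzc]) (u b a : G) (hmem b a)
    have h4 : (u c d : G) = (u b a : G) := by
      rw [hk', ← hzc b a]
      have h6 : (u b a : G) = ((z : G) * k)⁻¹ * (u b a : G) * ((z : G) * k) := by
        conv_rhs => rw [← h3]
        group
      have h7 : (z : G)⁻¹ = z := by
        have := congrArg Subtype.val h.z_inv
        exact this
      have h8 : (z : G) * (u b a : G) * (z : G)⁻¹ = (z : G)⁻¹ * (u b a : G) * (z : G) := by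
        rw [h7]
      rw [h8]
      conv_rhs => rw [h6]
      group
    exact h.u_inj _ _ _ _ (Subtype.ext h4)

/-- No subgroup of index two: the two classes of involutions of the base are fused. -/
theorem isConj_base [Finite G] (hG : ∀ H : Subgroup G, H.index ≠ 2) (h : IsWCoord n u z) :
    IsConj (u (2 ^ (n - 1)) 0 : G) (u (2 ^ (n - 1)) (2 ^ (n - 1)) : G) := by
  by_contra hnc
  obtain ⟨H, hH⟩ := exists_index_two (S : Subgroup G) (odd_index_sylow S) (evenSub h)
    (index_evenSub h) (u 1 0) (by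
      rw [u_mem_evenSub, add_zero]
      rintro ⟨c, hc⟩
      exact two_mul_ne_two_mul_add_one n h.one_le c 0 (by rw [← hc]; ring)) (by
    intro k g₀ hk
    rw [h.u_pow, u_mem_evenSub, mul_one, mul_zero, add_zero]
    have hpow : (u 1 0 : G) ^ k = (u k 0 : G) := by
      have := congrArg Subtype.val (h.u_pow 1 0 k)
      simpa using this
    rcases h.cases ⟨g₀⁻¹ * (u 1 0 : G) ^ k * g₀, hk⟩ with ⟨c, d, e⟩ | ⟨c, d, e⟩
    · rw [e, u_mem_evenSub]
      have e' : g₀⁻¹ * (u k 0 : G) * g₀ = (u c d : G) := by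
        rw [← hpow]; exact congrArg Subtype.val e
      rcases base_fusion S h hnc _ _ _ _ _ e' with ⟨rfl, rfl⟩ | ⟨rfl, rfl⟩
      · rw [add_zero]
      · rw [zero_add]
    · rw [e, uz_mem_evenSub]
      have e' : g₀⁻¹ * (u k 0 : G) * g₀ = ((u c d * z : (S : Subgroup G)) : G) := by
        rw [← hpow]; exact congrArg Subtype.val e
      have e2 : g₀⁻¹ * (u (2 * k) (2 * 0) : G) * g₀ = (u (c + d) (c + d) : G) := by
        have h1 : (u (2 * k) (2 * 0) : G) = (u k 0 : G) * (u k 0 : G) := by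
          have := congrArg Subtype.val (h.u_sq k 0)
          rw [← this, pow_two]; rfl
        have h2 : (u (c + d) (c + d) : G) =
            ((u c d * z : (S : Subgroup G)) : G) * ((u c d * z : (S : Subgroup G)) : G) := by
          have := congrArg Subtype.val (h.uz_sq c d)
          rw [← this, pow_two]; rfl
        rw [h1, h2, ← e']
        group
      have e3 : c + d = 0 ∧ 2 * (k : ZMod (2 ^ n)) = 0 := by
        rcases base_fusion S h hnc _ _ _ _ _ e2 with ⟨h1, h2⟩ | ⟨h1, h2⟩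
        · rw [mul_zero] at h2
          exact ⟨h2, by rw [← h1, h2]⟩
        · rw [mul_zero] at h1
          exact ⟨h1, by rw [← h2, h1]⟩
      refine ⟨fun _ => ?_, fun _ => ⟨0, by rw [e3.1, mul_zero]⟩⟩
      obtain ⟨m, hm⟩ : ∃ m, n - 1 = m + 1 := ⟨n - 2, by have := h.two_le; omega⟩
      rcases (two_mul_eq_zero_iff n h.one_le _).1 e3.2 with h1 | h1
      · exact ⟨0, by rw [h1, mul_zero]⟩
      · exact ⟨2 ^ m, by rw [h1, hm, pow_succ']⟩)
  exact hG H hH

/-- Wreathed Sylow 2-subgroup, no subgroup of index two: every involution of the Sylow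
subgroup is conjugate to the central one. -/
theorem isConj_of_wreathed [Finite G] (hG : ∀ H : Subgroup G, H.index ≠ 2) (h : IsWCoord n u z)
    (s : (S : Subgroup G)) (hs1 : s ≠ 1) (hs2 : s * s = 1) :
    IsConj (s : G) (u (2 ^ (n - 1)) (2 ^ (n - 1)) : G) := by
  obtain ⟨g, hg, hm⟩ := exists_conj_mem hG (S : Subgroup G) (odd_index_sylow S) h.base
    h.index_base s hs2
  obtain ⟨a, b, hab⟩ := hm
  have hab' : g⁻¹ * (s : G) * g = (u a b : G) := congrArg Subtype.val hab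
  have h1 : IsConj (s : G) (u a b : G) := by
    rw [← hab']
    exact isConj_iff.2 ⟨g⁻¹, by simp⟩
  refine h1.trans ?_
  have hz12 : IsConj (u 0 (2 ^ (n - 1)) : G) (u (2 ^ (n - 1)) 0 : G) := by
    rw [isConj_iff]
    exact ⟨(z : G), congrArg Subtype.val (h.z_conj_u 0 (2 ^ (n - 1)))⟩
  rcases involution_base h a b (by
      intro e
      have e' : (u a b : G) = 1 := by rw [e]; rfl
      rw [← hab'] at e'
      apply hs1
      have h4 : (s : G) = 1 := by
        calc (s : G) = g * (g⁻¹ * (s : G) * g) * g⁻¹ := by group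
          _ = 1 := by rw [e']; group
      exact Subtype.ext h4) (by
      apply Subtype.ext
      show (u a b : G) * (u a b : G) = 1
      rw [← hab']
      have h4 : (s : G) * s = 1 := congrArg Subtype.val hs2
      calc (g⁻¹ * (s : G) * g) * (g⁻¹ * (s : G) * g) = g⁻¹ * ((s : G) * s) * g := by group
        _ = 1 := by rw [h4]; group) with ⟨rfl, rfl⟩ | ⟨rfl, rfl⟩ | ⟨rfl, rfl⟩
  · exact isConj_base S hG h
  · exact hz12.trans (isConj_base S hG h)
  · exact IsConj.refl _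

end WrG

/-- A finite group with a quasi-dihedral or wreathed Sylow 2-subgroup and no subgroup of index two
has a single conjugacy class of involutions. -/
theorem isConj_of_orderOf_two {G : Type*} [Group G] [Finite G] (S : Sylow 2 G)
    (hS : Cfsg.IsQuasiDihedral (S : Subgroup G) ∨ Cfsg.IsWreathed (S : Subgroup G))
    (hG : ∀ H : Subgroup G, H.index ≠ 2) (x y : G) (hx : orderOf x = 2) (hy : orderOf y = 2) :
    IsConj x y := by
  have : Fact (Nat.Prime 2) := ⟨Nat.prime_two⟩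
  -- a fixed involution to which every involution of `S` is conjugate
  obtain ⟨t, ht⟩ : ∃ t : G, ∀ s : (S : Subgroup G), s ≠ 1 → s * s = 1 → IsConj (s : G) t := by
    rcases hS with hS | hS
    · obtain ⟨n, u, y, h⟩ := exists_qdcoord hS
      exact ⟨_, fun s hs1 hs2 => isConj_of_qd S hG h s hs1 hs2⟩
    · obtain ⟨n, u, z, h⟩ := exists_wcoord hS
      exact ⟨_, fun s hs1 hs2 => isConj_of_wreathed S hG h s hs1 hs2⟩
  have key : ∀ x : G, orderOf x = 2 → IsConj x t := by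
    intro x hx
    have h1 : IsPGroup 2 (Subgroup.zpowers x) :=
      IsPGroup.of_card (n := 1) (by rw [Nat.card_zpowers, hx, pow_one])
    obtain ⟨T, hT⟩ := h1.exists_le_sylow
    obtain ⟨k, hk⟩ := MulAction.exists_smul_eq G T S
    have h2 : k * x * k⁻¹ ∈ (S : Subgroup G) := by
      rw [← hk]
      exact ⟨x, hT (Subgroup.mem_zpowers x), rfl⟩
    have h3 : IsConj x (k * x * k⁻¹) := isConj_iff.2 ⟨k, rfl⟩
    have hxx : x * x = 1 := by rw [← pow_two, ← hx, pow_orderOf_eq_one]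
    refine h3.trans (ht ⟨_, h2⟩ ?_ ?_)
    · intro e
      have e' : k * x * k⁻¹ = 1 := congrArg Subtype.val e
      have e2 : x = 1 := by
        calc x = k⁻¹ * (k * x * k⁻¹) * k := by group
          _ = 1 := by rw [e']; group
      rw [e2, orderOf_one] at hx
      omega
    · apply Subtype.ext
      show (k * x * k⁻¹) * (k * x * k⁻¹) = 1
      calc (k * x * k⁻¹) * (k * x * k⁻¹) = k * (x * x) * k⁻¹ := by group
        _ = 1 := by rw [hxx]; group
  exact (key x hx).trans (key y hy).symm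

end Cfsg.Agent.TwoFusion.OneClass
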