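import Mathlib
import Cfsg.Prelude.Def_Involutions
import Cfsg.Prelude.Def_CaseTheorems
import Cfsg.Agent.StrongEmb.TwoRank
import Cfsg.Agent.Lib.PGroupCoprimeAction
import Cfsg.Agent.Blocks.SylowIn
set_option linter.all false

/-!
# Groups without commuting pairs of involutions (the 2-rank one part of S1220)
-/

set_option autoImplicit false

namespace Cfsg.Agent.TwoFusion.BenderRankOne

open Cfsg Cfsg.Agent.TwoFusion.StronglyEmbeddedBasic Cfsg.Agent.StrongEmb.TwoRank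

variable {G : Type*} [Group G] [Finite G]

omit [Finite G] in
theorem not_commPair (N : Subgroup G)
    (hno : ∀ a ∈ N, ∀ b ∈ N, orderOf a = 2 → orderOf b = 2 → Commute a b → a = b) :
    ¬ CommPair N := by
  rintro ⟨x, y, hx, hy, hne, hc⟩
  refine hne (Subtype.ext (hno x x.2 y y.2 ?_ ?_ ?_))
  · rw [Subgroup.orderOf_coe, hx]
  · rw [Subgroup.orderOf_coe, hy]
  · exact congrArg Subtype.val hc

/-- the core of a subgroup without commuting pairs of involutions -/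
theorem exists_core (N : Subgroup G)
    (hno : ∀ a ∈ N, ∀ b ∈ N, orderOf a = 2 → orderOf b = 2 → Commute a b → a = b) :
    ∃ O : Subgroup G, O ≤ N ∧ Odd (Nat.card O) ∧ (∀ g ∈ N, ∀ o ∈ O, g * o * g⁻¹ ∈ O) ∧
      (∀ v ∈ N, orderOf v = 2 → ∀ g ∈ N, v * g * v⁻¹ * g⁻¹ ∈ O) ∧
      (∀ v ∈ N, ∀ w ∈ N, orderOf v = 2 → orderOf w = 2 → v * w ∈ O) := by
  have hr := not_commPair N hno
  refine ⟨(oddCore N).map N.subtype, ?_, ?_, ?_, ?_, ?_⟩
  · rintro _ ⟨x, -, rfl⟩; exact x.2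
  · rw [Subgroup.card_map_of_injective N.subtype_injective]
    exact odd_oddCore N
  · rintro g hg _ ⟨x, hx, rfl⟩
    have hn : (oddCore N).Normal := Cfsg.Agent.Lib.Cores.pPrimeCore_normal 2
    exact ⟨⟨g, hg⟩ * x * ⟨g, hg⟩⁻¹, hn.conj_mem x hx _, rfl⟩
  · intro v hv hv2 g hg
    have h := mem_oddCore_of_not_commPair hr (z := ⟨v, hv⟩)
      (by rw [Subgroup.orderOf_mk, hv2]) ⟨g, hg⟩
    exact ⟨_, h, rfl⟩
  · intro v hv w hw hv2 hw2
    have h := mul_mem_oddCore_of_not_commPair hr (z := ⟨v, hv⟩) (w := ⟨w, hw⟩)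
      (by rw [Subgroup.orderOf_mk, hv2]) (by rw [Subgroup.orderOf_mk, hw2])
    exact ⟨_, h, rfl⟩

/-- A `p`-subgroup `T` of `N` lies in a Sylow `p`-subgroup `R` of `N` normalised by a given
involution up to conjugation (`p` odd, all involutions of `N` central modulo `O`). -/
theorem exists_invariant (N O : Subgroup G) (hON : O ≤ N) (hOodd : Odd (Nat.card O))
    (hOn : ∀ g ∈ N, ∀ o ∈ O, g * o * g⁻¹ ∈ O)
    (hOc : ∀ v ∈ N, orderOf v = 2 → ∀ g ∈ N, v * g * v⁻¹ * g⁻¹ ∈ O)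
    (p : ℕ) [Fact p.Prime] (hp : p ≠ 2) {v : G} (hv : v ∈ N) (hv2 : orderOf v = 2)
    {T : Subgroup G} (hT : IsPGroup p T) (hTN : T ≤ N) :
    ∃ g ∈ N, ∃ R : Subgroup G, IsPGroup p R ∧ T ≤ R ∧ R ≤ N ∧
      (∀ r ∈ R, (g * v * g⁻¹) * r * (g * v * g⁻¹)⁻¹ ∈ R) ∧
      (∀ Q : Subgroup G, Q ≤ N → IsPGroup p Q → R ≤ Q → Q = R) := by
  have h2 : Fact (Nat.Prime 2) := ⟨Nat.prime_two⟩
  -- a Sylow subgroup of `N` above `T`
  have hT' : IsPGroup p (T.subgroupOf N) := hT.comap_subtype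
  obtain ⟨P₀, hP₀⟩ := hT'.exists_le_sylow
  obtain ⟨hPN, hPp, hPmax⟩ := Blocks.SylowIn.exists_sylow_map_eq_iff.mp
    ⟨P₀, (rfl : (P₀ : Subgroup N).map N.subtype = (P₀ : Subgroup N).map N.subtype)⟩
  set P : Subgroup G := (P₀ : Subgroup N).map N.subtype with hP
  have hTP : T ≤ P := by
    intro t ht
    exact ⟨⟨t, hTN ht⟩, hP₀ (Subgroup.mem_subgroupOf.mpr ht), rfl⟩
  -- the odd order group `P ⊔ O`
  have hPO : P ≤ Subgroup.normalizer (O : Set G) := by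
    intro x hx
    rw [Subgroup.mem_normalizer_iff]
    intro y
    constructor
    · intro hy; exact hOn x (hPN hx) y hy
    · intro hy
      have := hOn x⁻¹ (inv_mem (hPN hx)) _ hy
      have h3 : x⁻¹ * (x * y * x⁻¹) * x⁻¹⁻¹ = y := by group
      rwa [h3] at this
  have hmem : ∀ x, x ∈ P ⊔ O → ∃ a ∈ P, ∃ o ∈ O, x = a * o := by
    intro x hx
    rw [← SetLike.mem_coe, Subgroup.coe_mul_of_left_le_normalizer_right _ _ hPO] at hx
    obtain ⟨a, ha, o, ho, rfl⟩ := hx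
    exact ⟨a, ha, o, ho, rfl⟩
  have hXN : P ⊔ O ≤ N := sup_le hPN hON
  have hpow : ∀ a ∈ P, ∀ o ∈ O, ∀ n : ℕ, ∃ o' ∈ O, (a * o) ^ n = a ^ n * o' := by
    intro a ha o ho n
    induction n with
    | zero => exact ⟨1, one_mem _, by simp⟩
    | succ n ih =>
      obtain ⟨o', ho', hn⟩ := ih
      refine ⟨a⁻¹ * o' * a⁻¹⁻¹ * o, mul_mem (hOn a⁻¹ (inv_mem (hPN ha)) o' ho') ho, ?_⟩
      rw [pow_succ, hn, pow_succ]; group
  have hXodd : ¬ 2 ∣ Nat.card ↥(P ⊔ O) := by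
    intro h
    obtain ⟨⟨x, hx⟩, hx2⟩ := exists_prime_orderOf_dvd_card' (G := ↥(P ⊔ O)) 2 h
    rw [Subgroup.orderOf_mk] at hx2
    obtain ⟨a, ha, o, ho, rfl⟩ := hmem x hx
    obtain ⟨o', ho', hn⟩ := hpow a ha o ho (Nat.card P)
    have h3 : a ^ Nat.card P = 1 :=
      orderOf_dvd_iff_pow_eq_one.mp (P.orderOf_dvd_natCard ha)
    have hPodd : Odd (Nat.card P) := by
      obtain ⟨n, hn⟩ := IsPGroup.iff_card.mp hPp
      rw [hn]
      exact ((Nat.Prime.eq_two_or_odd' (Fact.out : p.Prime)).resolve_left hp).pow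
    obtain ⟨k, hk⟩ := hPodd
    have h4 : (a * o) ^ Nat.card P = a * o := by
      rw [hk, pow_succ, pow_mul, pow_two, mul_self_of_orderOf hx2, one_pow, one_mul]
    rw [h3, one_mul, h4] at hn
    exact not_odd_of_mem O (a * o) (hn ▸ ho') hx2 hOodd
  have hvX : ∀ b ∈ Subgroup.zpowers v, ∀ u ∈ P ⊔ O, b * u * b⁻¹ ∈ P ⊔ O := by
    have key : ∀ u ∈ P ⊔ O, v * u * v⁻¹ ∈ P ⊔ O := by
      intro u hu
      have h8 := hOc v hv hv2 u (hXN hu)
      have h9 : v * u * v⁻¹ = (v * u * v⁻¹ * u⁻¹) * u := by group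
      rw [h9]
      exact mul_mem (Subgroup.mem_sup_right h8) hu
    rintro b ⟨k, rfl⟩ u hu
    have hvv := mul_self_of_orderOf hv2
    rcases Int.even_or_odd' k with ⟨c, rfl | rfl⟩
    · have : v ^ (2 * c) = 1 := by rw [zpow_mul, zpow_two, hvv, one_zpow]
      show v ^ (2 * c) * u * (v ^ (2 * c))⁻¹ ∈ P ⊔ O
      rw [this]; simpa using hu
    · have : v ^ (2 * c + 1) = v := by
        rw [zpow_add, zpow_mul, zpow_two, hvv, one_zpow, zpow_one, one_mul]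
      show v ^ (2 * c + 1) * u * (v ^ (2 * c + 1))⁻¹ ∈ P ⊔ O
      rw [this]; exact key u hu
  have hvp : IsPGroup 2 (Subgroup.zpowers v) :=
    IsPGroup.of_card (n := 1) (by rw [Nat.card_zpowers, hv2, pow_one])
  obtain ⟨S, hS, hSv⟩ := Lib.PGroupCoprimeAction.exists_invariant_sylow hvp hXodd hvX p
  have hPX : ∃ S : Sylow p ↥(P ⊔ O), (S : Subgroup ↥(P ⊔ O)).map (P ⊔ O).subtype = P := by
    rw [Blocks.SylowIn.exists_sylow_map_eq_iff]
    exact ⟨le_sup_left, hPp, fun Q hQ hQp hPQ => hPmax Q (hQ.trans hXN) hQp hPQ⟩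
  obtain ⟨k, hk, hkS⟩ := Blocks.SylowIn.exists_conj_of_sylow_map_eq hPX hS
  refine ⟨k⁻¹, inv_mem (hXN hk), P, hPp, hTP, hPN, ?_, hPmax⟩
  intro r hr
  have h10 : k * r * k⁻¹ ∈ S := by
    rw [← hkS]; exact ⟨r, hr, rfl⟩
  have h11 := hSv v (Subgroup.mem_zpowers v) _ h10
  rw [← hkS] at h11
  obtain ⟨r', hr', hrr⟩ := h11
  have h12 : k * r' * k⁻¹ = v * (k * r * k⁻¹) * v⁻¹ := hrr
  have h13 : (k⁻¹ * v * k⁻¹⁻¹) * r * (k⁻¹ * v * k⁻¹⁻¹)⁻¹ = r' := by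
    calc (k⁻¹ * v * k⁻¹⁻¹) * r * (k⁻¹ * v * k⁻¹⁻¹)⁻¹ = k⁻¹ * (v * (k * r * k⁻¹) * v⁻¹) * k := by
          group
      _ = r' := by rw [← h12]; group
  rw [h13]; exact hr'

/-- the 2-rank one part of S1220 -/
theorem rank_one {H : Subgroup G} (hH : IsStronglyEmbedded H)
    (hno : ∀ a b : G, orderOf a = 2 → orderOf b = 2 → Commute a b → a = b) :
    (∀ S : Sylow 2 G, IsCyclic S ∨
      ∃ m : ℕ, 1 ≤ m ∧ Nonempty ((S : Subgroup G) ≃* QuaternionGroup (2 ^ m))) ∧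
    Cfsg.oddCore G ⊔ H = ⊤ := by
  have hr : ¬ CommPair G := by
    rintro ⟨x, y, hx, hy, hne, hc⟩
    exact hne (hno x y hx hy hc)
  refine ⟨fun S => sylow_of_not_commPair hr S, ?_⟩
  rw [eq_top_iff]
  intro g _
  obtain ⟨z, hzH, hz2⟩ := exists_involution hH
  obtain ⟨n, hn, c, hc, rfl⟩ := exists_mul_of_not_commPair hr hz2 g
  exact mul_mem (Subgroup.mem_sup_left hn) (Subgroup.mem_sup_right (mem_of_commute hH hzH hz2 hc))

end Cfsg.Agent.TwoFusion.BenderRankOne
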