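import Mathlib
import Cfsg.Prelude.Def_Involutions
import Cfsg.Agent.TwoFusion.StronglyEmbeddedBasic
import Cfsg.Agent.TwoFusion.InvariantSylow
import Cfsg.Agent.TwoFusion.IsolatedSylow
import Cfsg.Agent.SignalizersComponents.BenderCount
set_option linter.all false

/-!
# A closing criterion for strongly embedded subgroups

If `H` is strongly embedded in the finite group `G` and the prime `p` divides the number of
involutions of `H`, then `H` has an element of order `p` commuting with no involution of `H`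
(and inverted by an involution outside of `H`).

Consequence (`eq_top_of_prime`): let `t` be an involution of `G` and `H ≥ C_G(t)` a subgroup with one
class of involutions, `p` a prime dividing `|H : C_G(t)|`. If every element of order `p` of `H`
commutes with an involution of `H` then `H = G`.
-/

set_option autoImplicit false

namespace Cfsg.Agent.TwoFusion.ClosingPrime

open Cfsg Cfsg.Agent.TwoFusion.StronglyEmbeddedBasic Cfsg.Agent.SignalizersComponents.BenderCount

variable {G : Type*} [Group G] {H : Subgroup G}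

/-- An element of order `p` of a strongly embedded subgroup commuting with no involution. -/
theorem exists_orderOf_eq_prime [Finite G] (hH : IsStronglyEmbedded H) (p : ℕ) [hpf : Fact p.Prime]
    (hp : p ∣ (invs (H := H) ((1 : G) : G ⧸ H) ((1 : G) : G ⧸ H)).ncard) :
    ∃ k v : G, k ∈ H ∧ orderOf k = p ∧ orderOf v = 2 ∧ v ∉ H ∧ v * k * v⁻¹ = k⁻¹ ∧
      ∀ s ∈ H, orderOf s = 2 → ¬ Commute s k := by
  classical
  -- a second point
  obtain ⟨g, hg⟩ : ∃ g : G, g ∉ H := by
    by_contra hcon
    push Not at hcon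
    exact hH.1 ((Subgroup.eq_top_iff' H).2 hcon)
  set x : G ⧸ H := ((1 : G) : G ⧸ H) with hx
  set y : G ⧸ H := ((g : G) : G ⧸ H) with hy
  have hxy : x ≠ y := by
    intro h
    rw [hx, hy, QuotientGroup.eq] at h
    apply hg
    simpa using h
  obtain ⟨v, hv⟩ := exists_mem_invs hH x y
  have hvy := smul_of_mem_invs hv
  have hvi := inv_eq_self_of_orderOf hv.1
  have hvv := mul_self_of_orderOf hv.1
  have hvH : v ∉ H := by
    intro h
    apply hxy
    rw [← hv.2]
    exact ((smul_one_eq_iff v).2 h).symm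
  let D : Subgroup G := MulAction.stabilizer G x ⊓ MulAction.stabilizer G y
  have hD : ∀ d, d ∈ D ↔ d • x = x ∧ d • y = y := by
    intro d
    exact Iff.rfl
  have hDodd : Odd (Nat.card D) := odd_of_fixes_two hH hxy D (fun d hd => (hD d).1 hd)
  have hvD : v ∈ Subgroup.normalizer (D : Set G) := by
    apply InvariantSylow.mem_normalizer_of_conj_mem hvv
    intro d hd
    rw [hD] at hd ⊢
    rw [hvi]
    constructor
    · rw [mul_smul, mul_smul, hv.2, hd.2, hvy]
    · rw [mul_smul, mul_smul, hvy, hd.1, hv.2]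
  -- the number of inverted elements of `D`
  have hcard : Nat.card {k : G // k ∈ D ∧ v * k * v⁻¹ = k⁻¹} = (invs x x).ncard := by
    rw [← ncard_invs_eq hH x y, ← Nat.card_coe_set_eq]
    refine Nat.card_congr ⟨fun k => ⟨v * k.1, ?_, ?_⟩, fun w => ⟨v * w.1, ?_, ?_⟩, ?_, ?_⟩
    · apply orderOf_eq_two_of_mul_self
      · have h1 := k.2.2
        have h2 : v * k.1 * v = k.1⁻¹ := (congrArg (fun a => v * k.1 * a) hvi.symm).trans h1
        calc v * k.1 * (v * k.1) = (v * k.1 * v) * k.1 := by group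
          _ = 1 := by rw [h2]; group
      · intro h1
        have h2 : (v * k.1) • x = x := by rw [h1, one_smul]
        rw [mul_smul, ((hD _).1 k.2.1).1, hv.2] at h2
        exact hxy h2.symm
    · show (v * k.1) • x = y
      rw [mul_smul, ((hD _).1 k.2.1).1, hv.2]
    · rw [hD]
      have hw : w.1 ∈ invs x y := w.2
      constructor
      · rw [mul_smul, hw.2, hvy]
      · rw [mul_smul, smul_of_mem_invs hw, hv.2]
    · have hw : w.1 ∈ invs x y := w.2
      rw [mul_inv_rev, inv_eq_self_of_orderOf hw.1, hvi, ← mul_assoc, hvv, one_mul]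
    · intro k
      apply Subtype.ext
      show v * (v * k.1) = k.1
      rw [← mul_assoc, hvv, one_mul]
    · intro w
      apply Subtype.ext
      show v * (v * w.1) = w.1
      rw [← mul_assoc, hvv, one_mul]
  have hidx := IsolatedSylow.relIndex_centralizer_eq_card_inverted hvv D hDodd hvD
  rw [hcard] at hidx
  -- an invariant Sylow subgroup
  have hsylodd : Odd (Nat.card (Sylow p D)) := by
    obtain ⟨R0⟩ := (inferInstance : Nonempty (Sylow p D))
    exact Odd.of_dvd_nat hDodd ((Sylow.card_dvd_index R0).trans (Subgroup.index_dvd_card _))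
  obtain ⟨R, hR⟩ := InvariantSylow.exists_sylow_invariant hvv hvD hsylodd
  set P : Subgroup G := (R : Subgroup D).map D.subtype with hP
  have hPD : P ≤ D := Subgroup.map_subtype_le _
  have hPodd : Odd (Nat.card P) := Odd.of_dvd_nat hDodd (Subgroup.card_dvd_of_le hPD)
  have hPcard : Nat.card P = Nat.card R := Subgroup.card_subtype _ _
  have hPp : IsPGroup p P := R.isPGroup'.map _
  -- some element of `P` is not centralized by `v`
  obtain ⟨k, hkP, hk1, hkv⟩ : ∃ k ∈ P, k ≠ 1 ∧ v * k * v⁻¹ = k⁻¹ := by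
    by_contra hcon
    push Not at hcon
    have h1 := IsolatedSylow.relIndex_centralizer_eq_card_inverted hvv P hPodd hR
    have h2 : Nat.card {x : G // x ∈ P ∧ v * x * v⁻¹ = x⁻¹} = 1 := by
      rw [Nat.card_eq_one_iff_unique]
      refine ⟨⟨fun a b => ?_⟩, ⟨⟨1, P.one_mem, by simp⟩⟩⟩
      have ha : a.1 = 1 := by
        by_contra h
        exact hcon a.1 a.2.1 h a.2.2
      have hb : b.1 = 1 := by
        by_contra h
        exact hcon b.1 b.2.1 h b.2.2
      exact Subtype.ext (ha.trans hb.symm)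
    rw [h2, Subgroup.relIndex_eq_one] at h1
    have h3 : P ≤ D ⊓ Subgroup.centralizer ({v} : Set G) :=
      fun a ha => ⟨hPD ha, (h1 ha).2⟩
    have h4 : Nat.card P ∣ Nat.card (D ⊓ Subgroup.centralizer ({v} : Set G) : Subgroup G) :=
      Subgroup.card_dvd_of_le h3
    have h5 : (D ⊓ Subgroup.centralizer ({v} : Set G)).relIndex D *
        Nat.card (D ⊓ Subgroup.centralizer ({v} : Set G) : Subgroup G) = Nat.card D := by
      rw [mul_comm, Subgroup.relIndex, ← Subgroup.card_mul_index
        ((D ⊓ Subgroup.centralizer ({v} : Set G)).subgroupOf D)]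
      congr 1
      exact (Nat.card_congr (Subgroup.subgroupOfEquivOfLe inf_le_left).toEquiv).symm
    rw [hidx] at h5
    have h6 : p * Nat.card P ∣ Nat.card D := by
      rw [← h5]
      exact Nat.mul_dvd_mul hp h4
    -- contradiction with the Sylow property
    have h7 : ¬ p ∣ (R : Subgroup D).index := R.not_dvd_index
    apply h7
    have h8 : Nat.card D = Nat.card R * (R : Subgroup D).index := by
      rw [Subgroup.card_mul_index]
    rw [hPcard, h8, mul_comm p] at h6
    exact (Nat.mul_dvd_mul_iff_left Nat.card_pos).1 h6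
  -- an element of order `p`
  obtain ⟨n, hn⟩ : ∃ n, orderOf k = p ^ n := by
    obtain ⟨n, hn⟩ := (IsPGroup.iff_orderOf.1 hPp) ⟨k, hkP⟩
    exact ⟨n, by rw [← hn, Subgroup.orderOf_mk]⟩
  obtain ⟨n, rfl⟩ : ∃ n', n = n' + 1 := by
    rcases n with _ | n
    · exfalso
      rw [pow_zero, orderOf_eq_one_iff] at hn
      exact hk1 hn
    · exact ⟨n, rfl⟩
  have hord : orderOf (k ^ p ^ n) = p := by
    rw [orderOf_pow_of_dvd (pow_ne_zero _ hpf.out.ne_zero) (by rw [hn]; exact pow_dvd_pow _ (Nat.le_succ n)), hn, pow_succ,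
      Nat.mul_div_cancel_left _ (pow_pos hpf.out.pos _)]
  have hinv : v * (k ^ p ^ n) * v⁻¹ = (k ^ p ^ n)⁻¹ := by
    rw [← conj_pow, hkv, inv_pow]
  have hmemD : k ^ p ^ n ∈ D := D.pow_mem (hPD hkP) _
  have hmemH : k ^ p ^ n ∈ H := (smul_one_eq_iff _).1 ((hD _).1 hmemD).1
  refine ⟨k ^ p ^ n, v, hmemH, hord, hv.1, hvH, hinv, ?_⟩
  intro s hs hs2 hsk
  have h1 : k ^ p ^ n = 1 := by
    refine eq_one_of_inverted hH (x := x) (v := v) (s := s) hv.1 ?_ ((hD _).1 hmemD).1 ?_ ?_ hs2
      ((smul_one_eq_iff s).2 hs) hsk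
    · rw [hv.2]; exact hxy.symm
    · rw [hv.2]; exact ((hD _).1 hmemD).2
    · rw [← hinv]; group
  rw [h1, orderOf_one] at hord
  exact hpf.out.one_lt.ne hord

/-- A proper subgroup with one class of involutions, containing the centralizer of an involution, is
strongly embedded. -/
theorem isStronglyEmbedded_of_one_class [Finite G] {t : G} (ht : orderOf t = 2)
    (hC : Subgroup.centralizer ({t} : Set G) ≤ H)
    (hone : ∀ x ∈ H, orderOf x = 2 → ∃ g ∈ H, g * t * g⁻¹ = x) (hne : H ≠ ⊤) :
    IsStronglyEmbedded H := by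
  have htH : t ∈ H := hC (Subgroup.mem_centralizer_singleton_iff.2 rfl)
  refine ⟨hne, ?_, ?_⟩
  · rw [even_iff_two_dvd, ← ht]
    have h1 := orderOf_dvd_natCard (⟨t, htH⟩ : H)
    rwa [Subgroup.orderOf_mk] at h1
  · intro g hg
    rw [← Nat.not_even_iff_odd, even_iff_two_dvd]
    intro h2
    have : Fact (Nat.Prime 2) := ⟨Nat.prime_two⟩
    obtain ⟨⟨u, hu⟩, hu2⟩ := exists_prime_orderOf_dvd_card' 2 h2
    rw [Subgroup.orderOf_mk] at hu2
    obtain ⟨huH, w, hw, hwu⟩ := hu
    have hwu' : g * w * g⁻¹ = u := hwu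
    have hw2 : orderOf w = 2 := by rw [← orderOf_conj g w, hwu', hu2]
    obtain ⟨h, hh, hhu⟩ := hone u huH hu2
    obtain ⟨k, hk, hkw⟩ := hone w hw hw2
    apply hg
    have hc : h⁻¹ * g * k ∈ Subgroup.centralizer ({t} : Set G) := by
      rw [Subgroup.mem_centralizer_singleton_iff]
      have e1 : g * (k * t * k⁻¹) * g⁻¹ = h * t * h⁻¹ := by rw [hkw, hwu', hhu]
      calc h⁻¹ * g * k * t = h⁻¹ * (g * (k * t * k⁻¹) * g⁻¹) * g * k := by group
        _ = h⁻¹ * (h * t * h⁻¹) * g * k := by rw [e1]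
        _ = _ := by group
    have h3 : g = h * (h⁻¹ * g * k) * k⁻¹ := by group
    rw [h3]
    exact H.mul_mem (H.mul_mem hh (hC hc)) (H.inv_mem hk)

/-- The number of involutions of a subgroup `H ≥ C_G(t)` with one class of involutions. -/
theorem ncard_involutions_mul [Finite G] {t : G} (ht : orderOf t = 2)
    (hC : Subgroup.centralizer ({t} : Set G) ≤ H)
    (hone : ∀ x ∈ H, orderOf x = 2 → ∃ g ∈ H, g * t * g⁻¹ = x) :
    (invs (H := H) ((1 : G) : G ⧸ H) ((1 : G) : G ⧸ H)).ncard =
      (Subgroup.centralizer ({t} : Set G)).relIndex H := by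
  classical
  have htH : t ∈ H := hC (Subgroup.mem_centralizer_singleton_iff.2 rfl)
  rw [Subgroup.relIndex, Subgroup.index, ← Nat.card_coe_set_eq]
  symm
  have hrel : ∀ a b : H, (QuotientGroup.leftRel ((Subgroup.centralizer ({t} : Set G)).subgroupOf H)) a b ↔
      (a : G) * t * (a : G)⁻¹ = (b : G) * t * (b : G)⁻¹ := by
    intro a b
    rw [QuotientGroup.leftRel_apply, Subgroup.mem_subgroupOf, Subgroup.mem_centralizer_singleton_iff]
    show (a : G)⁻¹ * (b : G) * t = t * ((a : G)⁻¹ * (b : G)) ↔ _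
    constructor
    · intro h
      calc (a : G) * t * (a : G)⁻¹ = a * (t * ((a : G)⁻¹ * b)) * (b : G)⁻¹ := by group
        _ = a * ((a : G)⁻¹ * (b : G) * t) * (b : G)⁻¹ := by rw [h]
        _ = _ := by group
    · intro h
      calc (a : G)⁻¹ * (b : G) * t = (a : G)⁻¹ * ((b : G) * t * (b : G)⁻¹) * b := by group
        _ = (a : G)⁻¹ * ((a : G) * t * (a : G)⁻¹) * b := by rw [h]
        _ = _ := by group
  refine Nat.card_congr (Equiv.ofBijective (fun q => Quotient.liftOn' q
    (fun a : H => (⟨(a : G) * t * (a : G)⁻¹, by rw [orderOf_conj, ht], ?_⟩ :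
      (invs (H := H) ((1 : G) : G ⧸ H) ((1 : G) : G ⧸ H) : Set G)))
    (fun a b hab => Subtype.ext ((hrel a b).1 hab))) ⟨?_, ?_⟩)
  · exact (smul_one_eq_iff _).2 (H.mul_mem (H.mul_mem a.2 htH) (H.inv_mem a.2))
  · rintro ⟨a⟩ ⟨b⟩ hab
    apply Quotient.sound'
    apply (hrel a b).2
    exact congrArg Subtype.val hab
  · rintro ⟨x, hx2, hx⟩
    obtain ⟨k, hk, rfl⟩ := hone x ((smul_one_eq_iff x).1 hx) hx2
    exact ⟨QuotientGroup.mk ⟨k, hk⟩, rfl⟩

/-- **Closing criterion**: `H ≥ C_G(t)` with one class of involutions, `p` a prime dividing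
`|H : C_G(t)|` such that every element of order `p` of `H` commutes with an involution of `H`;
then `H = G`. -/
theorem eq_top_of_prime [Finite G] {t : G} (ht : orderOf t = 2)
    (hC : Subgroup.centralizer ({t} : Set G) ≤ H)
    (hone : ∀ x ∈ H, orderOf x = 2 → ∃ g ∈ H, g * t * g⁻¹ = x) (p : ℕ) (hp : p.Prime)
    (hdvd : p ∣ (Subgroup.centralizer ({t} : Set G)).relIndex H)
    (hcomm : ∀ k ∈ H, orderOf k = p → ∃ s ∈ H, orderOf s = 2 ∧ s * k = k * s) : H = ⊤ := by
  by_contra hne
  have : Fact p.Prime := ⟨hp⟩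
  have hSE := isStronglyEmbedded_of_one_class ht hC hone hne
  obtain ⟨k, v, hk, hkp, -, -, -, h⟩ := exists_orderOf_eq_prime hSE p
    (by rw [ncard_involutions_mul ht hC hone]; exact hdvd)
  obtain ⟨s, hs, hs2, hsk⟩ := hcomm k hk hkp
  exact h s hs hs2 hsk

end Cfsg.Agent.TwoFusion.ClosingPrime
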