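import Mathlib
import Cfsg.Prelude.Def_CaseTheorems
import Cfsg.Agent.Lib.Cores
import Cfsg.Agent.TwoFusion.OneClass
import Cfsg.Agent.TwoFusion.QDBasic
import Cfsg.Agent.TwoFusion.WreathedBasic
import Cfsg.Agent.TwoFusion.IndexTwo
set_option linter.all false

/-!
A core-free finite group with a quasi-dihedral or wreathed Sylow 2-subgroup and no subgroup of index
two has a simple normal subgroup of odd index.
-/

set_option autoImplicit false

namespace Cfsg.Agent.TwoFusion.SimpleOddIndex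

open Subgroup Cfsg.Agent.TwoFusion.QDBasic Cfsg.Agent.TwoFusion.WreathedBasic
open Cfsg.Agent.TwoFusion.IndexTwo

/-- A finite group of even order with a cyclic Sylow 2-subgroup has a subgroup of index two. -/
theorem exists_index_two_of_cyclic {G : Type*} [Group G] [Finite G] [Fact (Nat.Prime 2)]
    (P : Sylow 2 G) (hP : IsCyclic (P : Subgroup G)) (h2 : 2 ∣ Nat.card G) :
    ∃ H : Subgroup G, H.index = 2 := by
  have hmin : (Nat.card G).minFac = 2 := (Nat.minFac_eq_two_iff _).2 h2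
  have hK := IsCyclic.isComplement' hmin hP
  set K := (MonoidHom.transferSylow P (hP.normalizer_le_centralizer hmin)).ker with hKdef
  have hidx : K.index = Nat.card (P : Subgroup G) := hK.symm.index_eq_card
  obtain ⟨m, hm⟩ := IsPGroup.iff_card.1 P.isPGroup'
  have hm0 : m ≠ 0 := by
    rintro rfl
    have h3 := (P : Subgroup G).card_mul_index
    have h4 : Nat.card (P : Subgroup G) = 1 := by rw [hm, pow_zero]
    rw [h4, one_mul] at h3
    exact P.not_dvd_index (h3 ▸ h2)
  obtain ⟨l, rfl⟩ : ∃ l, m = l + 1 := ⟨m - 1, by omega⟩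
  have hcard : Nat.card (G ⧸ K) = 2 ^ (l + 1) := by
    rw [← Subgroup.index_eq_card, hidx]; exact hm
  obtain ⟨M, hM⟩ := Sylow.exists_subgroup_card_pow_prime (G := G ⧸ K) 2 (n := l)
    (by rw [hcard]; exact pow_dvd_pow 2 (by omega))
  refine ⟨M.comap (QuotientGroup.mk' K), ?_⟩
  rw [Subgroup.index_comap_of_surjective _ (QuotientGroup.mk'_surjective K)]
  have h3 := M.card_mul_index
  rw [hM, hcard, pow_succ] at h3
  exact Nat.eq_of_mul_eq_mul_left (by positivity) h3

/-- Interface: the facts on quasi-dihedral and wreathed groups used below. -/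
theorem interface {S : Type*} [Group S] [Finite S]
    (hS : Cfsg.IsQuasiDihedral S ∨ Cfsg.IsWreathed S) :
    ∃ x t : S, t ≠ 1 ∧ (∀ N : Subgroup S, N.Normal → N ≠ ⊥ → t ∈ N) ∧
      (∀ M : Subgroup S, M.Normal → (∀ s : S, s * s = 1 → s ∈ M) →
        ∀ s : S, ∃ k : ℕ, s * (x ^ k)⁻¹ ∈ M) ∧ ∃ a b : S, a * b ≠ b * a := by
  have : Fact (Nat.Prime 2) := ⟨Nat.prime_two⟩
  have hcard : ∃ k, Nat.card S = 2 ^ k := by
    rcases hS with ⟨n, -, h, -⟩ | ⟨n, -, h, -⟩
    · exact ⟨_, h⟩
    · exact ⟨_, h⟩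
  have hpS : IsPGroup 2 S := by
    obtain ⟨k, hk⟩ := hcard
    exact IsPGroup.of_card hk
  -- every nontrivial subgroup contains an involution
  have hinv : ∀ N : Subgroup S, N ≠ ⊥ → ∃ v ∈ N, v ≠ 1 ∧ v * v = 1 := by
    intro N hN
    obtain ⟨k, hk⟩ := IsPGroup.iff_card.1 (hpS.to_subgroup N)
    have hk0 : k ≠ 0 := by
      rintro rfl
      rw [pow_zero] at hk
      exact hN (Subgroup.card_eq_one.1 hk)
    obtain ⟨v, hv⟩ := exists_prime_orderOf_dvd_card' (G := N) 2
      (by rw [hk]; exact dvd_pow_self 2 hk0)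
    refine ⟨v, v.2, ?_, ?_⟩
    · intro e
      have : v = 1 := Subtype.ext e
      rw [this, orderOf_one] at hv
      omega
    · have h1 : v * v = 1 := by rw [← pow_two, ← hv, pow_orderOf_eq_one]
      exact congrArg Subtype.val h1
  rcases hS with hS | hS
  · obtain ⟨n, u, y, h⟩ := exists_qdcoord hS
    refine ⟨u 1, u (2 ^ (n - 1)), ?_, ?_, ?_, ?_⟩
    · rw [ne_eq, h.u_eq_one_iff]; exact half_ne_zero n h.one_le
    · intro N hN hN1
      obtain ⟨v, hv, hv1, hv2⟩ := hinv N hN1
      rcases h.cases v with ⟨a, rfl⟩ | ⟨a, rfl⟩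
      · rw [h.u_mul, h.u_eq_one_iff, ← two_mul, two_mul_eq_zero_iff n h.one_le] at hv2
        rcases hv2 with h2 | h2
        · exact absurd (by rw [h2, h.u_zero]) hv1
        · rw [← h2]; exact hv
      · have h3 := hN.conj_mem _ hv (u 1)
        rw [h.u_conj_uy] at h3
        have h4 := N.mul_mem h3 (N.inv_mem hv)
        have h5 : u (a + (2 - 2 ^ (n - 1)) * 1) * y * (u a * y)⁻¹ = u (2 - 2 ^ (n - 1)) := by
          rw [h.uy_inv, h.uy_mul_uy]
          congr 1
          have := half_mul_half n h.two_le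
          have h2 := two_mul_half n h.one_le
          linear_combination (-a) * this + a * h2
        rw [h5] at h4
        obtain ⟨m, hm⟩ : ∃ m, n - 1 = m + 1 := ⟨n - 2, by have := h.three_le; omega⟩
        have h6 := N.pow_mem h4 (2 ^ m)
        rw [h.u_pow] at h6
        have h7 : ((2 ^ m : ℕ) : ZMod (2 ^ n)) * (2 - 2 ^ (n - 1)) = 2 ^ (n - 1) := by
          obtain ⟨l, hl⟩ : ∃ l, m = l + 1 := ⟨m - 1, by have := h.three_le; omega⟩
          have h8 := two_mul_half n h.one_le
          push_cast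
          have h9 : (2 : ZMod (2 ^ n)) ^ m * 2 = 2 ^ (n - 1) := by rw [hm, pow_succ]
          have h10 : (2 : ZMod (2 ^ n)) ^ m * 2 ^ (n - 1) = 0 := by
            rw [hl, pow_succ, mul_assoc, h8, mul_zero]
          linear_combination h9 - h10
        rwa [h7] at h6
    · intro M hM hMinv s
      have hy : y ∈ M := hMinv y h.y_y
      rcases h.cases s with ⟨a, rfl⟩ | ⟨a, rfl⟩
      · refine ⟨a.val, ?_⟩
        rw [← h.u_eq_pow, mul_inv_cancel]
        exact M.one_mem
      · refine ⟨a.val, ?_⟩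
        rw [← h.u_eq_pow]
        exact hM.conj_mem y hy (u a)
    · refine ⟨y, u 1, ?_⟩
      intro e
      rw [h.y_u] at e
      have h1 := h.u_inj _ _ (mul_right_cancel e)
      have h2 := half_mul_half n h.two_le
      have h3 := two_mul_half n h.one_le
      -- (2^(n-1) - 1) = 1, multiply by 2
      have h4 : (4 : ZMod (2 ^ n)) = 0 := by linear_combination (-2) * h1 + h3
      have h5 : ((4 : ℕ) : ZMod (2 ^ n)) = 0 := by push_cast; exact h4
      rw [natCast_eq_zero_iff] at h5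
      have h6 := Nat.le_of_dvd (by norm_num) h5
      have h7 : 2 ^ 3 ≤ 2 ^ n := Nat.pow_le_pow_right (by norm_num) h.three_le
      omega
  · obtain ⟨n, u, z, h⟩ := exists_wcoord hS
    refine ⟨u 1 0, u (2 ^ (n - 1)) (2 ^ (n - 1)), ?_, ?_, ?_, ?_⟩
    · rw [ne_eq, h.u_eq_one_iff]; exact fun e => half_ne_zero n h.one_le e.1
    · intro N hN hN1
      obtain ⟨v, hv, hv1, hv2⟩ := hinv N hN1
      rcases h.cases v with ⟨a, b, rfl⟩ | ⟨a, b, rfl⟩
      · have h3 := hN.conj_mem _ hv z
        rw [h.z_conj_u] at h3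
        rcases OneClass.involution_base h a b hv1 hv2 with ⟨rfl, rfl⟩ | ⟨rfl, rfl⟩ | ⟨rfl, rfl⟩
        · have h4 := N.mul_mem hv h3
          rwa [h.u_mul, add_zero, zero_add] at h4
        · have h4 := N.mul_mem hv h3
          rwa [h.u_mul, add_zero, zero_add] at h4
        · exact hv
      · have h3 := hN.conj_mem _ hv (u 1 0)
        rw [h.u_conj_uz] at h3
        have h4 := N.mul_mem h3 (N.inv_mem hv)
        rw [h.uz_inv, h.uz_mul_uz] at h4
        have h5 : a + (1 - 0) + -a = (1 : ZMod (2 ^ n)) := by ring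
        have h5' : b - (1 - 0) + -b = (-1 : ZMod (2 ^ n)) := by ring
        rw [h5, h5'] at h4
        have h6 := N.pow_mem h4 (2 ^ (n - 1))
        rw [h.u_pow] at h6
        have h7 : ((2 ^ (n - 1) : ℕ) : ZMod (2 ^ n)) * 1 = 2 ^ (n - 1) := by push_cast; ring
        have h8 : ((2 ^ (n - 1) : ℕ) : ZMod (2 ^ n)) * (-1) = 2 ^ (n - 1) := by
          push_cast
          have h9 := two_mul_half n h.one_le
          linear_combination -h9
        rwa [h7, h8] at h6
    · intro M hM hMinv s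
      have hz : z ∈ M := hMinv z h.z_z
      have key : ∀ a b : ZMod (2 ^ n), u a b * (u 1 0 ^ (a + b).val)⁻¹ ∈ M := by
        intro a b
        rw [h.u_pow, ZMod.natCast_zmod_val, mul_one, mul_zero, h.u_inv, h.u_mul]
        have h1 : a + -(a + b) = -b := by ring
        rw [h1, neg_zero, add_zero]
        -- `u (-b) b` is the commutator of `u (-b) 0` and `z`
        have h2 := M.mul_mem (hM.conj_mem z hz (u (-b) 0)) (M.inv_mem hz)
        have h3 : u (-b) 0 * z * (u (-b) 0)⁻¹ * z⁻¹ = u (-b) b := by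
          rw [h.u_inv, h.uz_mul_u, mul_assoc, mul_inv_cancel, mul_one]
          congr 1 <;> ring
        rwa [h3] at h2
      rcases h.cases s with ⟨a, b, rfl⟩ | ⟨a, b, rfl⟩
      · exact ⟨_, key a b⟩
      · refine ⟨(a + b).val, ?_⟩
        have h1 := M.mul_mem (hM.conj_mem z hz (u a b)) (key a b)
        have h2 : u a b * z * (u a b)⁻¹ * (u a b * (u 1 0 ^ (a + b).val)⁻¹) =
            u a b * z * (u 1 0 ^ (a + b).val)⁻¹ := by group
        rwa [h2] at h1
    · refine ⟨z, u 1 0, ?_⟩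
      intro e
      rw [h.z_u] at e
      have h1 := h.u_inj _ _ _ _ (mul_right_cancel e)
      have h5 : ((1 : ℕ) : ZMod (2 ^ n)) = 0 := by push_cast; exact h1.1.symm
      rw [natCast_eq_zero_iff] at h5
      have h6 := Nat.le_of_dvd (by norm_num) h5
      have h7 : 2 ^ 2 ≤ 2 ^ n := Nat.pow_le_pow_right (by norm_num) h.two_le
      omega

/-- If `G` is finite with quasi-dihedral or wreathed Sylow 2-subgroup `S`, has no subgroup of index
two, and `L` is a normal subgroup of even order, then `L` has odd index. -/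
theorem odd_index_of_even {G : Type*} [Group G] [Finite G] (S : Sylow 2 G)
    (hS : Cfsg.IsQuasiDihedral (S : Subgroup G) ∨ Cfsg.IsWreathed (S : Subgroup G))
    (hG : ∀ H : Subgroup G, H.index ≠ 2) (L : Subgroup G) (hL : L.Normal)
    (h2 : 2 ∣ Nat.card L) : Odd L.index := by
  have : Fact (Nat.Prime 2) := ⟨Nat.prime_two⟩
  -- all involutions lie in `L`
  have hinv : ∀ s : G, s * s = 1 → s ∈ L := by
    intro s hs
    by_cases hs1 : s = 1
    · rw [hs1]; exact L.one_mem
    · obtain ⟨v, hv⟩ := exists_prime_orderOf_dvd_card' (G := L) 2 h2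
      have hv' : orderOf (v : G) = 2 := by rw [Subgroup.orderOf_coe, hv]
      have hs' : orderOf s = 2 := orderOf_eq_prime (by rw [pow_two, hs]) hs1
      obtain ⟨c, hc⟩ := isConj_iff.1 (OneClass.isConj_of_orderOf_two S hS hG _ _ hv' hs')
      rw [← hc]
      exact hL.conj_mem _ v.2 c
  obtain ⟨x, t, -, -, hx, -⟩ := interface hS
  set f := QuotientGroup.mk' L with hf
  have hfs : Function.Surjective f := QuotientGroup.mk'_surjective L
  let P : Sylow 2 (G ⧸ L) := S.mapSurjective hfs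
  have hPc : IsCyclic (P : Subgroup (G ⧸ L)) := by
    have hxP : f x ∈ (P : Subgroup (G ⧸ L)) := ⟨x, x.2, rfl⟩
    refine ⟨⟨⟨f x, hxP⟩, ?_⟩⟩
    rintro ⟨q, hq⟩
    obtain ⟨s, hs, rfl⟩ : ∃ s ∈ (S : Subgroup G), f s = q := hq
    have hn : (L.subgroupOf (S : Subgroup G)).Normal := hL.subgroupOf _
    obtain ⟨k, hk⟩ := hx (L.subgroupOf (S : Subgroup G)) hn (by
      intro s hs
      rw [Subgroup.mem_subgroupOf]
      exact hinv _ (congrArg Subtype.val hs)) ⟨s, hs⟩
    rw [Subgroup.mem_subgroupOf] at hk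
    have hk' : s * ((x : G) ^ k)⁻¹ ∈ L := hk
    have h3 : f (s * ((x : G) ^ k)⁻¹) = 1 := (QuotientGroup.eq_one_iff _).2 hk'
    rw [map_mul, map_inv, map_pow, mul_inv_eq_one] at h3
    refine ⟨k, ?_⟩
    apply Subtype.ext
    simp only [zpow_natCast, SubmonoidClass.mk_pow]
    exact h3.symm
  rw [← Nat.not_even_iff_odd, even_iff_two_dvd]
  intro h3
  obtain ⟨H, hH⟩ := exists_index_two_of_cyclic P hPc (by rwa [← Subgroup.index_eq_card])
  exact hG (H.comap f) (by rw [Subgroup.index_comap_of_surjective _ hfs, hH])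

/-- The core-free case of S1214. -/
theorem exists_simple_of_core_free {G : Type*} [Group G] [Finite G] (S : Sylow 2 G)
    (hS : Cfsg.IsQuasiDihedral (S : Subgroup G) ∨ Cfsg.IsWreathed (S : Subgroup G))
    (hG : ∀ H : Subgroup G, H.index ≠ 2) (hO : Cfsg.pPrimeCore 2 G = ⊥) :
    ∃ L : Subgroup G, L.Normal ∧ Odd L.index ∧ IsSimpleGroup L ∧ ¬ IsMulCommutative L := by
  have : Fact (Nat.Prime 2) := ⟨Nat.prime_two⟩
  obtain ⟨x, t, ht1, ht, -, a, b, hab⟩ := interface hS
  have htG : (t : G) ≠ 1 := fun e => ht1 (Subtype.ext e)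
  -- a minimal normal subgroup
  obtain ⟨L, ⟨hLn, hL1⟩, hLmin⟩ : ∃ L : Subgroup G, (L.Normal ∧ L ≠ ⊥) ∧
      ∀ M : Subgroup G, (M.Normal ∧ M ≠ ⊥) → M ≤ L → L ≤ M := by
    have hne : {L : Subgroup G | L.Normal ∧ L ≠ ⊥}.Nonempty := by
      refine ⟨⊤, inferInstance, ?_⟩
      intro e
      exact htG ((Subgroup.mem_bot).1 (e ▸ Subgroup.mem_top (t : G)))
    obtain ⟨L, hL⟩ := (Set.toFinite {L : Subgroup G | L.Normal ∧ L ≠ ⊥}).exists_minimal hne
    exact ⟨L, hL.prop, fun M hM hML => hL.le_of_le hM hML⟩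
  -- odd order subgroups which are normal in a normal subgroup are trivial
  have hodd : ∀ N : Subgroup G, N.Normal → ∀ M : Subgroup N, M.Normal → M ≠ ⊥ → 2 ∣ Nat.card M := by
    intro N hN M hM hM1
    by_contra h2
    have hcop : (Nat.card M).Coprime 2 := ((Nat.Prime.coprime_iff_not_dvd Nat.prime_two).2 h2).symm
    have h3 : M ≤ Cfsg.pPrimeCore 2 N := Lib.Cores.le_pPrimeCore hM hcop
    have h4 := Lib.Cores.map_subtype_pPrimeCore (G := G) 2 hN
    rw [hO, inf_bot_eq, Subgroup.map_eq_bot_iff_of_injective _ (Subgroup.subtype_injective _)] at h4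
    rw [h4, le_bot_iff] at h3
    exact hM1 h3
  have hLeven : 2 ∣ Nat.card L := by
    have h3 := hodd ⊤ inferInstance (L.subgroupOf ⊤) (hLn.subgroupOf _) (by
      rw [ne_eq, Subgroup.subgroupOf_eq_bot, disjoint_top]
      exact hL1)
    rwa [Nat.card_congr (Subgroup.subgroupOfEquivOfLe (le_top : L ≤ ⊤)).toEquiv] at h3
  have hLodd : Odd L.index := odd_index_of_even S hS hG L hLn hLeven
  -- every Sylow 2-subgroup lies in `L`
  have hSL : (S : Subgroup G) ≤ L := by
    intro s hs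
    rw [← QuotientGroup.eq_one_iff, ← orderOf_eq_one_iff]
    obtain ⟨k, hk⟩ := IsPGroup.iff_orderOf.1 S.isPGroup' ⟨s, hs⟩
    rw [Subgroup.orderOf_mk] at hk
    have h3 : orderOf (s : G ⧸ L) ∣ 2 ^ k := by
      rw [← hk]; exact orderOf_map_dvd (QuotientGroup.mk' L) s
    have h4 : orderOf (s : G ⧸ L) ∣ L.index := by
      rw [Subgroup.index_eq_card]; exact orderOf_dvd_natCard _
    have h5 : Nat.Coprime (2 ^ k) L.index :=
      Nat.Coprime.pow_left k (Nat.coprime_two_left.2 hLodd)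
    exact Nat.eq_one_of_dvd_coprimes h5 h3 h4
  -- every nontrivial normal subgroup of `L` contains `t`
  have htM : ∀ M : Subgroup L, M.Normal → M ≠ ⊥ → (⟨t, hSL t.2⟩ : L) ∈ M := by
    intro M hM hM1
    have h2 := hodd L hLn M hM hM1
    obtain ⟨v, hv⟩ := exists_prime_orderOf_dvd_card' (G := M) 2 h2
    -- conjugate `v` into `S` inside `L`
    have h3 : IsPGroup 2 (Subgroup.zpowers (v : L)) :=
      IsPGroup.of_card (n := 1) (by rw [Nat.card_zpowers, Subgroup.orderOf_coe, hv, pow_one])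
    obtain ⟨T, hT⟩ := h3.exists_le_sylow
    obtain ⟨m, hm⟩ := MulAction.exists_smul_eq L T (S.subtype hSL)
    have h4 : m * (v : L) * m⁻¹ ∈ (S.subtype hSL : Subgroup L) := by
      rw [← hm]
      exact ⟨_, hT (Subgroup.mem_zpowers (v : L)), rfl⟩
    have h5 : ((m * (v : L) * m⁻¹ : L) : G) ∈ (S : Subgroup G) := h4
    have h6 : m * (v : L) * m⁻¹ ∈ M := hM.conj_mem _ v.2 m
    -- the intersection of `M` with `S`
    let N : Subgroup (S : Subgroup G) := M.comap (Subgroup.inclusion hSL)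
    have hN : N.Normal := hM.comap _
    have hN1 : N ≠ ⊥ := by
      intro e
      have h7 : (⟨_, h5⟩ : (S : Subgroup G)) ∈ N := h6
      rw [e, Subgroup.mem_bot] at h7
      have h8 : ((m * (v : L) * m⁻¹ : L) : G) = 1 := congrArg Subtype.val h7
      have h9 : m * (v : L) * m⁻¹ = 1 := Subtype.ext h8
      have h10 : (v : L) = 1 := by
        calc (v : L) = m⁻¹ * (m * (v : L) * m⁻¹) * m := by group
          _ = 1 := by rw [h9]; group
      have h11 : v = 1 := Subtype.ext h10
      rw [h11, orderOf_one] at hv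
      omega
    exact ht N hN hN1
  refine ⟨L, hLn, hLodd, ?_, ?_⟩
  · -- simplicity
    have hnt : Nontrivial L := (Subgroup.nontrivial_iff_ne_bot L).2 hL1
    refine ⟨fun N hN => ?_⟩
    by_cases hN1 : N = ⊥
    · exact Or.inl hN1
    right
    -- a minimal normal subgroup `M ≤ N` of `L`
    obtain ⟨M, ⟨hMn, hM1, hMN⟩, hMmin⟩ : ∃ M : Subgroup L, (M.Normal ∧ M ≠ ⊥ ∧ M ≤ N) ∧
        ∀ K : Subgroup L, (K.Normal ∧ K ≠ ⊥ ∧ K ≤ N) → K ≤ M → M ≤ K := by
      obtain ⟨M, hM⟩ := (Set.toFinite {M : Subgroup L | M.Normal ∧ M ≠ ⊥ ∧ M ≤ N}).exists_minimal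
        ⟨N, hN, hN1, le_rfl⟩
      exact ⟨M, hM.prop, fun K hK hKM => hM.le_of_le hK hKM⟩
    -- conjugation by `g`
    have hMG : (M.map L.subtype).Normal := by
      refine ⟨?_⟩
      rintro _ ⟨v, hv, rfl⟩ g
      -- conjugate of `M` by `g⁻¹`
      let φ : L →* L := (MulAut.conjNormal (g : G)).toMonoidHom
      have hφ : ∀ w : L, ((φ w : L) : G) = g * w * g⁻¹ := fun w => MulAut.conjNormal_apply _ _
      have hφs : Function.Surjective φ := (MulAut.conjNormal (g : G)).surjective
      have hφi : Function.Injective φ := (MulAut.conjNormal (g : G)).injective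
      have hK : (M.comap φ).Normal := hMn.comap _
      have hK1 : M.comap φ ≠ ⊥ := by
        intro e
        have h3 := congrArg (Subgroup.map φ) e
        rw [Subgroup.map_comap_eq_self_of_surjective hφs, Subgroup.map_bot] at h3
        exact hM1 h3
      have hI : (M ⊓ M.comap φ) ≠ ⊥ := by
        intro e
        have h3 : (⟨t, hSL t.2⟩ : L) ∈ M ⊓ M.comap φ := ⟨htM M hMn hM1, htM _ hK hK1⟩
        rw [e, Subgroup.mem_bot] at h3
        exact htG (congrArg Subtype.val h3)
      have h3 := hMmin (M ⊓ M.comap φ) ⟨inferInstance, hI, inf_le_left.trans hMN⟩ inf_le_left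
      have h4 : φ v ∈ M := (h3 hv).2
      exact ⟨φ v, h4, hφ v⟩
    have h3 := hLmin (M.map L.subtype) ⟨hMG, by
      rw [ne_eq, Subgroup.map_eq_bot_iff_of_injective _ (Subgroup.subtype_injective _)]
      exact hM1⟩ (Subgroup.map_subtype_le M)
    rw [eq_top_iff]
    intro w _
    obtain ⟨v, hv, hv'⟩ := h3 w.2
    have h4 : v = w := Subtype.ext hv'
    rw [← h4]
    exact hMN hv
  · intro hc
    apply hab
    have h3 := hc.is_comm.comm (⟨a, hSL a.2⟩ : L) ⟨b, hSL b.2⟩
    have h4 : (a : G) * b = b * a := congrArg Subtype.val h3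
    exact Subtype.ext h4

end Cfsg.Agent.TwoFusion.SimpleOddIndex
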