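import Mathlib
import Cfsg.Prelude.Def_CaseTheorems
import Cfsg.Agent.Lib.Cores
import Cfsg.Agent.TwoFusion.IsolatedCenter
import Cfsg.Agent.TwoFusion.QuatCover
import Cfsg.Agent.TwoFusion.SimpleOddIndex
import Cfsg.Agent.S0016
set_option linter.all false

/-!
# Groups with a unique involution `z`: Sylow 2-subgroups, the quotient by `⟨z⟩`
-/

set_option autoImplicit false

open Subgroup Cfsg

namespace Cfsg.Agent.TwoFusion.QuatQuotient

/-- The core of the quotient by a central subgroup of order two of a core-free group is trivial. -/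
theorem oddCore_quotient_eq_bot {G : Type*} [Group G] [Finite G] (hO : Cfsg.oddCore G = ⊥) (z : G)
    (hzc : z ∈ Subgroup.center G) (hz2 : orderOf z = 2) [hZn : (Subgroup.zpowers z).Normal] :
    Cfsg.oddCore (G ⧸ Subgroup.zpowers z) = ⊥ := by
  set Z := Subgroup.zpowers z with hZdef
  have hZc : Z ≤ Subgroup.center G := by
    rw [hZdef]; exact (Subgroup.zpowers_le).mpr hzc
  have hZcard : Nat.card Z = 2 := by rw [hZdef, Nat.card_zpowers, hz2]
  have hM : (Cfsg.oddCore (G ⧸ Z)).comap (QuotientGroup.mk' Z) = Z := by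
    set M := (Cfsg.oddCore (G ⧸ Z)).comap (QuotientGroup.mk' Z) with hMdef
    have hMn : M.Normal := inferInstance
    have hZM : Z ≤ M := by
      intro w hw
      rw [hMdef, Subgroup.mem_comap]
      have : (QuotientGroup.mk' Z) w = 1 := by
        rw [← MonoidHom.mem_ker, QuotientGroup.ker_mk']; exact hw
      rw [this]; exact Subgroup.one_mem _
    have hMcard : Nat.card M = Nat.card Z * Nat.card (Cfsg.oddCore (G ⧸ Z)) :=
      QuotientGroup.card_preimage_mk Z (Cfsg.oddCore (G ⧸ Z) : Set (G ⧸ Z))
    have hMO : Cfsg.oddCore M = ⊥ := by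
      have h1 := Cfsg.Agent.Lib.Cores.map_subtype_pPrimeCore (G := G) 2 (N := M) hMn
      have h2 : (pPrimeCore 2 G) = ⊥ := hO
      rw [h2, inf_bot_eq] at h1
      exact (Subgroup.map_eq_bot_iff_of_injective _ M.subtype_injective).mp h1
    have h3 := IsolatedCenter.eq_top_of_central (M := M) (Z.subgroupOf M) (by
        intro w hw
        rw [Subgroup.mem_center_iff]
        intro v
        ext
        have := Subgroup.mem_center_iff.mp (hZc (Subgroup.mem_subgroupOf.mp hw)) v
        simpa using this) ?_ ?_ hMO
    · exact le_antisymm (Subgroup.subgroupOf_eq_top.mp h3) hZM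
    · exact (IsPGroup.of_card (n := 1) (by rw [hZcard]; rfl)).comap_subtype
    · have h4 := Subgroup.card_mul_index (Z.subgroupOf M)
      rw [Nat.card_congr (Subgroup.subgroupOfEquivOfLe hZM).toEquiv, hMcard] at h4
      have h5 : (Z.subgroupOf M).index = Nat.card (Cfsg.oddCore (G ⧸ Z)) :=
        Nat.eq_of_mul_eq_mul_left (by rw [hZcard]; norm_num) h4
      rw [h5]
      exact Nat.coprime_two_right.mp (Cfsg.Agent.Lib.Cores.pPrimeCore_coprime 2)
  have h2 := congrArg (Subgroup.map (QuotientGroup.mk' Z)) hM
  rw [map_comap_eq_self_of_surjective (QuotientGroup.mk'_surjective _)] at h2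
  rw [h2, Subgroup.map_eq_bot_iff, QuotientGroup.ker_mk']

/-- Two surjective homomorphisms with the same kernel have isomorphic images. -/
theorem nonempty_mulEquiv_of_ker_eq {G A B : Type*} [Group G] [Group A] [Group B] (f : G →* A) (g : G →* B)
    (hf : Function.Surjective f) (hg : Function.Surjective g) (h : f.ker = g.ker) : Nonempty (A ≃* B) :=
  ⟨(QuotientGroup.quotientKerEquivOfSurjective f hf).symm.trans
    ((QuotientGroup.quotientMulEquivOfEq h).trans (QuotientGroup.quotientKerEquivOfSurjective g hg))⟩

/-- The quotient of the generalized quaternion group by its centre. -/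
theorem exists_hom_dihedral (n : ℕ) [NeZero n] :
    ∃ f : QuaternionGroup n →* DihedralGroup n, Function.Surjective f ∧
      ∀ x, f x = 1 ↔ x = 1 ∨ x = QuaternionGroup.a (n : ZMod (2 * n)) := by
  have hr : ∀ k : ℕ, (DihedralGroup.r 1 : DihedralGroup n) ^ k = DihedralGroup.r (k : ZMod n) :=
    fun k => DihedralGroup.r_one_pow k
  have hn0 : (DihedralGroup.r 1 : DihedralGroup n) ^ n = 1 := by
    rw [hr]; simp
  have h2n : (DihedralGroup.r 1 : DihedralGroup n) ^ (2 * n) = 1 := by
    rw [mul_comm, pow_mul, hn0, one_pow]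
  obtain ⟨f, hfa, hfx⟩ := QuatCover.exists_hom n (DihedralGroup.r 1 : DihedralGroup n) (DihedralGroup.sr 0)
    h2n (by rw [hn0, sq]; simp) (by simp)
  have hfa' : ∀ i : ZMod (2 * n), f (QuaternionGroup.a i) = DihedralGroup.r (i.val : ZMod n) := by
    intro i; rw [hfa, hr]
  have hfx' : ∀ i : ZMod (2 * n), f (QuaternionGroup.xa i) = DihedralGroup.sr (i.val : ZMod n) := by
    intro i; rw [hfx, hr]; simp
  refine ⟨f, ?_, ?_⟩
  · rintro (j | j)
    · refine ⟨QuaternionGroup.a ((j.val : ℕ) : ZMod (2 * n)), ?_⟩
      rw [hfa, QuatCover.pow_val_natCast h2n, hr, ZMod.natCast_zmod_val]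
    · refine ⟨QuaternionGroup.xa ((j.val : ℕ) : ZMod (2 * n)), ?_⟩
      rw [hfx, QuatCover.pow_val_natCast h2n, hr, ZMod.natCast_zmod_val]
      simp
  · rintro (i | i)
    · rw [hfa']
      have hlt : i.val < 2 * n := ZMod.val_lt i
      have hn : 0 < n := Nat.pos_of_ne_zero (NeZero.ne n)
      constructor
      · intro h
        rw [DihedralGroup.one_def] at h
        have h1 : ((i.val : ℕ) : ZMod n) = 0 := DihedralGroup.r.inj h
        rw [ZMod.natCast_eq_zero_iff] at h1
        obtain ⟨c, hc⟩ := h1
        have hc2 : c < 2 := by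
          by_contra h
          have : 2 ≤ c := by omega
          nlinarith
        have hi : (((i.val : ℕ) : ZMod (2 * n))) = i := ZMod.natCast_zmod_val i
        interval_cases c
        · left
          rw [hc, mul_zero, Nat.cast_zero] at hi
          rw [← hi]; rfl
        · right
          rw [hc, mul_one] at hi
          rw [← hi]
      · rintro (h | h)
        · rw [QuaternionGroup.one_def] at h
          have h1 : i = 0 := QuaternionGroup.a.inj h
          rw [h1, ZMod.val_zero, Nat.cast_zero]; rfl
        · have h1 : i = (n : ZMod (2 * n)) := QuaternionGroup.a.inj h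
          rw [h1, ZMod.val_natCast, Nat.mod_eq_of_lt (by omega), ZMod.natCast_self]; rfl
    · rw [hfx']
      constructor
      · intro h
        rw [DihedralGroup.one_def] at h
        cases h
      · rintro (h | h)
        · rw [QuaternionGroup.one_def] at h
          cases h
        · cases h

theorem mem_sylow_of_central {L : Type*} [Group L] (z : L)
    (hz2 : orderOf z = 2) [hn : (Subgroup.zpowers z).Normal] (P : Sylow 2 L) : z ∈ (P : Subgroup L) := by
  have h1 : IsPGroup 2 (Subgroup.zpowers z) :=
    IsPGroup.of_card (n := 1) (by rw [Nat.card_zpowers, hz2]; rfl)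
  exact h1.le_sylow_of_normal P (Subgroup.mem_zpowers z)

/-- The Sylow `2`-subgroups of the quotient of a group with quaternion Sylow `2`-subgroups by a central
involution are dihedral. -/
theorem sylow_quotient {L : Type*} [Group L] [Finite L] (z : L)
    (hz2 : orderOf z = 2) [hn : (Subgroup.zpowers z).Normal] (P : Sylow 2 L) (m : ℕ)
    (e : (P : Subgroup L) ≃* QuaternionGroup (2 ^ m)) :
    Nonempty (((P.mapSurjective (QuotientGroup.mk'_surjective (Subgroup.zpowers z)) :
      Sylow 2 (L ⧸ Subgroup.zpowers z)) : Subgroup (L ⧸ Subgroup.zpowers z)) ≃* DihedralGroup (2 ^ m)) := by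
  have hne : NeZero (2 ^ m) := ⟨by positivity⟩
  have hzP := mem_sylow_of_central z hz2 P
  have hz1 : z ≠ 1 := by
    rintro rfl
    simp at hz2
  have hzsq : z ^ 2 = 1 := by rw [← hz2, pow_orderOf_eq_one]
  have hez : e ⟨z, hzP⟩ = QuaternionGroup.a ((2 ^ m : ℕ) : ZMod (2 * 2 ^ m)) := by
    apply QuatCover.eq_a_of_sq_eq_one
    · rw [← map_pow]
      have : (⟨z, hzP⟩ : (P : Subgroup L)) ^ 2 = 1 := by
        ext
        simpa using hzsq
      rw [this, map_one]
    · intro h
      rw [map_eq_one_iff e e.injective] at h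
      exact hz1 (congrArg Subtype.val h)
  obtain ⟨f, hfs, hf⟩ := exists_hom_dihedral (2 ^ m)
  rw [Sylow.coe_mapSurjective]
  refine nonempty_mulEquiv_of_ker_eq
    ((QuotientGroup.mk' (Subgroup.zpowers z)).subgroupMap (P : Subgroup L)) (f.comp e.toMonoidHom)
    ((QuotientGroup.mk' (Subgroup.zpowers z)).subgroupMap_surjective (P : Subgroup L))
    (hfs.comp e.surjective) ?_
  ext x
  rw [MonoidHom.mem_ker, MonoidHom.mem_ker]
  have h1 : ((QuotientGroup.mk' (Subgroup.zpowers z)).subgroupMap (P : Subgroup L)) x = 1 ↔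
      (x : L) ∈ Subgroup.zpowers z := by
    rw [Subtype.ext_iff]
    change (QuotientGroup.mk (x : L) : L ⧸ Subgroup.zpowers z) = 1 ↔ _
    rw [QuotientGroup.eq_one_iff]
  rw [h1]
  change _ ↔ f (e x) = 1
  rw [hf]
  constructor
  · intro h
    rcases QuatCover.mem_zpowers_of_orderOf_two hz2 h with h | h
    · left
      have : x = 1 := Subtype.ext h
      rw [this, map_one]
    · right
      rw [← hez]
      congr 1
      exact Subtype.ext h
  · rintro (h | h)
    · rw [map_eq_one_iff e e.injective] at h
      rw [h]; exact one_mem _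
    · rw [← hez] at h
      have := e.injective h
      rw [this]
      exact Subgroup.mem_zpowers z

/-- Sylow `2`-subgroups of a perfect group with a unique involution are generalized quaternion. -/
theorem exists_quaternion_sylow {L : Type*} [Group L] [Finite L] (hperf : commutator L = ⊤) (z : L)
    (hz2 : orderOf z = 2) (hu : ∀ x : L, orderOf x = 2 → x = z) (P : Sylow 2 L) :
    ∃ m : ℕ, 1 ≤ m ∧ Nonempty ((P : Subgroup L) ≃* QuaternionGroup (2 ^ m)) := by
  have hu2 : ∀ H K : Subgroup (P : Subgroup L), Nat.card H = 2 → Nat.card K = 2 → H = K := by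
    have key : ∀ H : Subgroup (P : Subgroup L), Nat.card H = 2 → ∀ x : (P : Subgroup L), x ∈ H ↔
        ((x : L) = 1 ∨ (x : L) = z) := by
      intro H hH x
      have h2 : Fact (Nat.Prime 2) := ⟨Nat.prime_two⟩
      obtain ⟨w, hw⟩ := exists_prime_orderOf_dvd_card' (G := H) 2 (by rw [hH])
      have hwz : ((w : (P : Subgroup L)) : L) = z := by
        apply hu
        rw [Subgroup.orderOf_coe, Subgroup.orderOf_coe, hw]
      constructor
      · intro hx
        by_cases h1 : (x : L) = 1
        · exact Or.inl h1
        · right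
          apply hu
          rw [Subgroup.orderOf_coe]
          have h3 : orderOf (⟨x, hx⟩ : H) ∣ 2 := by
            have h5 := orderOf_dvd_natCard (⟨x, hx⟩ : H)
            rwa [hH] at h5
          rw [← Subgroup.orderOf_coe] at h3
          rcases (Nat.dvd_prime Nat.prime_two).mp h3 with h4 | h4
          · exfalso
            apply h1
            have := orderOf_eq_one_iff.mp h4
            simpa using congrArg Subtype.val this
          · exact h4
      · rintro (h | h)
        · have : x = 1 := Subtype.ext h
          rw [this]; exact one_mem _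
        · have : x = (w : (P : Subgroup L)) := Subtype.ext (h.trans hwz.symm)
          rw [this]; exact w.2
    intro H K hH hK
    ext x
    rw [key H hH, key K hK]
  have hnc : ¬ IsCyclic (P : Subgroup L) := by
    intro hc
    have hdvd : 2 ∣ Nat.card L := by
      rw [← hz2]; exact orderOf_dvd_natCard z
    have h2 : Fact (Nat.Prime 2) := ⟨Nat.prime_two⟩
    obtain ⟨M, hM⟩ := Cfsg.Agent.TwoFusion.SimpleOddIndex.exists_index_two_of_cyclic P hc hdvd
    have hMn : M.Normal := Subgroup.normal_of_index_eq_two hM
    have hcard : Nat.card (L ⧸ M) = 2 := hM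
    have hcomm : commutator L ≤ M := by
      have hcyc : IsCyclic (L ⧸ M) := isCyclic_of_prime_card hcard
      have h3 : ∀ a b : L ⧸ M, a * b = b * a := by
        intro a b
        obtain ⟨g, hg⟩ := hcyc.exists_generator
        obtain ⟨i, hi⟩ := hg a
        obtain ⟨j, hj⟩ := hg b
        rw [← hi, ← hj]
        simp only
        rw [← zpow_add, ← zpow_add, add_comm]
      rw [commutator_eq_closure, Subgroup.closure_le]
      rintro _ ⟨a, b, rfl⟩
      rw [SetLike.mem_coe, ← QuotientGroup.eq_one_iff]
      rw [commutatorElement_def, QuotientGroup.mk_mul, QuotientGroup.mk_mul, QuotientGroup.mk_mul,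
        QuotientGroup.mk_inv, QuotientGroup.mk_inv, h3 (a : L ⧸ M) b]
      group
    rw [hperf, top_le_iff] at hcomm
    rw [hcomm, Subgroup.index_top] at hM
    omega
  rcases Cfsg.Agent.S0016.result 2 P.2 hu2 with h | ⟨-, n, hn⟩
  · exact absurd h hnc
  · refine ⟨n, ?_, hn⟩
    by_contra h0
    have h1 : n = 0 := by omega
    subst h1
    apply hnc
    obtain ⟨e⟩ := hn
    have h1 : IsCyclic (QuaternionGroup (2 ^ 0)) := QuaternionGroup.quaternionGroup_one_isCyclic
    exact isCyclic_of_surjective e.symm.toMonoidHom e.symm.surjective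

end Cfsg.Agent.TwoFusion.QuatQuotient
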