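import Mathlib
import Cfsg.Prelude.Def_Classical
set_option linter.all false

/-!
The unitary group `GU(2,q)` of the standard Hermitian form: membership by entries and the order.
-/

set_option autoImplicit false

open scoped MatrixGroups Matrix

namespace Cfsg.Agent.TwoFusion.GUTwo

variable {F : Type*} [Field F] [Fintype F] {q : ℕ}

theorem two_le (hF : Fintype.card F = q ^ 2) : 2 ≤ q := by
  have h1 : 1 < Fintype.card F := Fintype.one_lt_card
  rw [hF] at h1
  by_contra h
  have : q = 0 ∨ q = 1 := by omega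
  rcases this with rfl | rfl <;> simp at h1

theorem pow_q_pow_q (hF : Fintype.card F = q ^ 2) (x : F) : (x ^ q) ^ q = x := by
  rw [← pow_mul, ← sq, ← hF]
  exact FiniteField.pow_card x

theorem add_pow_q (hF : Fintype.card F = q ^ 2) (x y : F) : (x + y) ^ q = x ^ q + y ^ q := by
  obtain ⟨p, hp⟩ := CharP.exists F
  obtain ⟨n, hprime, hn⟩ := FiniteField.card F p
  have hdvd : q ∣ p ^ (n : ℕ) := by
    rw [← hn, hF, sq]
    exact Dvd.intro _ rfl
  obtain ⟨k, _, rfl⟩ := (Nat.dvd_prime_pow hprime).1 hdvd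
  have : Fact p.Prime := ⟨hprime⟩
  exact add_pow_char_pow x y p k

theorem card_units_eq (hF : Fintype.card F = q ^ 2) : Nat.card Fˣ = (q - 1) * (q + 1) := by
  rw [Nat.card_units, Nat.card_eq_fintype_card, hF, mul_comm, ← Nat.sq_sub_sq, one_pow]

/-- Elements fixed by the `q`-power map are norms. -/
theorem exists_norm_eq (hF : Fintype.card F = q ^ 2) {k : F} (hk0 : k ≠ 0) (hk : k ^ q = k) :
    ∃ a : F, a ^ (q + 1) = k := by
  have h2 := two_le hF
  have hc := card_units_eq hF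
  have hle : (powMonoidHom (q + 1) : Fˣ →* Fˣ).range ≤ (powMonoidHom (q - 1) : Fˣ →* Fˣ).ker := by
    rintro _ ⟨a, rfl⟩
    rw [MonoidHom.mem_ker]
    show (a ^ (q + 1)) ^ (q - 1) = 1
    rw [← pow_mul, mul_comm, ← hc]
    exact pow_card_eq_one'
  have heq : (powMonoidHom (q + 1) : Fˣ →* Fˣ).range = (powMonoidHom (q - 1) : Fˣ →* Fˣ).ker := by
    apply Subgroup.eq_of_le_of_card_ge hle
    rw [IsCyclic.card_powMonoidHom_ker, IsCyclic.card_powMonoidHom_range, hc,
      Nat.gcd_eq_right (Dvd.intro _ rfl), Nat.gcd_eq_right (Dvd.intro_left _ rfl),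
      Nat.mul_div_cancel _ (by omega)]
  have hmem : Units.mk0 k hk0 ∈ (powMonoidHom (q - 1) : Fˣ →* Fˣ).ker := by
    rw [MonoidHom.mem_ker]
    show (Units.mk0 k hk0) ^ (q - 1) = 1
    apply Units.ext
    push_cast
    rw [Units.val_mk0]
    have : k * k ^ (q - 1) = k * 1 := by
      rw [← pow_succ', mul_one, Nat.sub_add_cancel (by omega)]
      exact hk
    exact mul_left_cancel₀ hk0 this
  rw [← heq] at hmem
  obtain ⟨a, ha⟩ := hmem
  refine ⟨a, ?_⟩
  have := congrArg Units.val ha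
  simpa using this

theorem exists_primitiveRoot (hF : Fintype.card F = q ^ 2) {d : ℕ} (hd : d ∣ (q - 1) * (q + 1)) :
    ∃ u : Fˣ, orderOf u = d := by
  have h2 := two_le hF
  obtain ⟨g, hg⟩ := IsCyclic.exists_ofOrder_eq_natCard (α := Fˣ)
  rw [card_units_eq hF] at hg
  obtain ⟨e, he⟩ := hd
  have hpos : 0 < (q - 1) * (q + 1) := Nat.mul_pos (by omega) (by omega)
  have he0 : e ≠ 0 := by rintro rfl; omega
  refine ⟨g ^ e, ?_⟩
  rw [orderOf_pow_of_dvd he0 (by rw [hg, he]; exact Dvd.intro_left _ rfl), hg, he,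
    Nat.mul_div_cancel _ (Nat.pos_of_ne_zero he0)]

theorem card_fibre (hF : Fintype.card F = q ^ 2) {k : F} (hk0 : k ≠ 0) (hk : k ^ q = k) :
    Nat.card {a : F // a ^ (q + 1) = k} = q + 1 := by
  classical
  obtain ⟨u, hu⟩ := exists_primitiveRoot hF (d := q + 1) (Dvd.intro_left _ rfl)
  have hζ : IsPrimitiveRoot (u : F) (q + 1) := by
    rw [IsPrimitiveRoot.coe_units_iff, IsPrimitiveRoot.iff_orderOf]
    exact hu
  obtain ⟨a, ha⟩ := exists_norm_eq hF hk0 hk
  have h1 : Multiset.card (Polynomial.nthRoots (q + 1) k) = q + 1 := by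
    rw [hζ.card_nthRoots k, if_pos ⟨a, ha⟩]
  have h2 : (Polynomial.nthRoots (q + 1) k).Nodup := hζ.nthRoots_nodup hk0
  rw [← Multiset.toFinset_card_of_nodup h2] at h1
  refine Eq.trans ?_ h1
  rw [Nat.card_eq_fintype_card]
  refine Fintype.card_of_subtype _ ?_
  intro x
  rw [Multiset.mem_toFinset, Polynomial.mem_nthRoots (Nat.succ_pos q)]

/-- The number of vectors of norm one in the plane. -/
theorem card_unit_vectors (hF : Fintype.card F = q ^ 2) :
    Nat.card {v : F × F // v.1 ^ (q + 1) + v.2 ^ (q + 1) = 1} = (q + 1) * (q * (q - 1)) := by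
  classical
  have h2 := two_le hF
  have hstep : ∀ c : F, Nat.card {a : F // a ^ (q + 1) + c ^ (q + 1) = 1} =
      if c ^ (q + 1) = 1 then 1 else (q + 1) := by
    intro c
    split_ifs with hc
    · rw [Nat.card_eq_one_iff_unique]
      refine ⟨⟨?_⟩, ⟨⟨0, ?_⟩⟩⟩
      · rintro ⟨a, ha⟩ ⟨b, hb⟩
        rw [hc] at ha hb
        have ha' : a ^ (q + 1) = 0 := by linear_combination ha
        have hb' : b ^ (q + 1) = 0 := by linear_combination hb
        have ha'' : a = 0 := by simpa using ha'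
        have hb'' : b = 0 := by simpa using hb'
        rw [Subtype.mk.injEq, ha'', hb'']
      · rw [hc]; simp
    · have hk0 : (1 - c ^ (q + 1) : F) ≠ 0 := fun h => hc (sub_eq_zero.1 h).symm
      have hk : (1 - c ^ (q + 1) : F) ^ q = 1 - c ^ (q + 1) := by
        have h3 : ((1 - c ^ (q + 1)) + c ^ (q + 1) : F) ^ q =
            (1 - c ^ (q + 1)) ^ q + (c ^ (q + 1)) ^ q := add_pow_q hF _ _
        have h4 : (c ^ (q + 1)) ^ q = c ^ (q + 1) := by
          rw [pow_succ, mul_pow, pow_q_pow_q hF, mul_comm]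
        rw [h4] at h3
        simp only [sub_add_cancel, one_pow] at h3
        linear_combination -h3
      refine Eq.trans ?_ (card_fibre hF hk0 hk)
      refine Nat.card_congr (Equiv.subtypeEquivRight ?_)
      intro a
      constructor
      · intro h; linear_combination h
      · intro h; linear_combination h
  have e : {v : F × F // v.1 ^ (q + 1) + v.2 ^ (q + 1) = 1} ≃
      (Σ c : F, {a : F // a ^ (q + 1) + c ^ (q + 1) = 1}) :=
    { toFun := fun v => ⟨v.1.2, ⟨v.1.1, v.2⟩⟩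
      invFun := fun s => ⟨(s.2.1, s.1), s.2.2⟩
      left_inv := fun v => rfl
      right_inv := fun s => rfl }
  rw [Nat.card_congr e, Nat.card_sigma]
  simp only [hstep]
  rw [Finset.sum_ite]
  simp only [Finset.sum_const, smul_eq_mul, mul_one]
  have hA : (Finset.univ.filter (fun c : F => c ^ (q + 1) = 1)).card = q + 1 := by
    refine Eq.trans ?_ (card_fibre hF (one_ne_zero) (one_pow q))
    rw [Nat.card_eq_fintype_card, Fintype.card_subtype]
  have hB : (Finset.univ.filter (fun c : F => ¬ c ^ (q + 1) = 1)).card = q ^ 2 - (q + 1) := by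
    have := Finset.card_filter_add_card_filter_not (s := (Finset.univ : Finset F)) (fun c : F => c ^ (q + 1) = 1)
    rw [hA, Finset.card_univ, hF] at this
    omega
  rw [hA, hB]
  have h5 : q ^ 2 - (q + 1) + 1 = q * (q - 1) := by
    obtain ⟨r, rfl⟩ := Nat.exists_eq_add_of_le h2
    have : 2 + r - 1 = 1 + r := by omega
    rw [this]
    have h6 : (2 + r + 1) ≤ (2 + r) ^ 2 := by nlinarith
    zify [h6]
    ring
  rw [← h5]
  ring

/-- The subgroup `GU(2,q)` of `GL(2,F)`, as in the statements. -/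
abbrev GU2 (F : Type*) [Field F] (q : ℕ) : Subgroup (Matrix (Fin 2) (Fin 2) F)ˣ :=
  Cfsg.preserving (Units.coeHom (Matrix (Fin 2) (Fin 2) F)) (Cfsg.hermForm 2 F q)

/-- Membership in `GU(2,q)` by entries. -/
theorem mem_iff (hF : Fintype.card F = q ^ 2) (g : (Matrix (Fin 2) (Fin 2) F)ˣ) :
    g ∈ GU2 F q ↔
      (g.1 0 0 * g.1 0 0 ^ q + g.1 1 0 * g.1 1 0 ^ q = 1 ∧
       g.1 0 1 * g.1 0 1 ^ q + g.1 1 1 * g.1 1 1 ^ q = 1 ∧
       g.1 0 0 * g.1 0 1 ^ q + g.1 1 0 * g.1 1 1 ^ q = 0) := by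
  have h2 := two_le hF
  have hdef : g ∈ GU2 F q ↔ ∀ u v : Fin 2 → F,
      Cfsg.hermForm 2 F q (g.1 *ᵥ u) (g.1 *ᵥ v) = Cfsg.hermForm 2 F q u v := Iff.rfl
  have hform : ∀ u v : Fin 2 → F, Cfsg.hermForm 2 F q u v = u 0 * v 0 ^ q + u 1 * v 1 ^ q := by
    intro u v
    show ∑ i, u i * (v i) ^ q = _
    rw [Fin.sum_univ_two]
  have hmv : ∀ (u : Fin 2 → F) (i : Fin 2), (g.1 *ᵥ u) i = g.1 i 0 * u 0 + g.1 i 1 * u 1 := by
    intro u i
    rw [Matrix.mulVec, dotProduct, Fin.sum_univ_two]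
  rw [hdef]
  simp only [hform, hmv]
  constructor
  · intro h
    refine ⟨?_, ?_, ?_⟩
    · have := h ![1, 0] ![1, 0]
      simpa [zero_pow (show q ≠ 0 by omega)] using this
    · have := h ![0, 1] ![0, 1]
      simpa [zero_pow (show q ≠ 0 by omega)] using this
    · have := h ![1, 0] ![0, 1]
      simpa [zero_pow (show q ≠ 0 by omega)] using this
  · rintro ⟨h1, h3, h4⟩ u v
    have h5 : g.1 0 1 * g.1 0 0 ^ q + g.1 1 1 * g.1 1 0 ^ q = 0 := by
      have := congrArg (fun t => t ^ q) h4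
      simp only [add_pow_q hF, mul_pow, pow_q_pow_q hF, zero_pow (show q ≠ 0 by omega)] at this
      linear_combination this
    simp only [add_pow_q hF, mul_pow]
    linear_combination (u 0 * v 0 ^ q) * h1 + (u 1 * v 1 ^ q) * h3 + (u 0 * v 1 ^ q) * h4 +
      (u 1 * v 0 ^ q) * h5

theorem neg_pow_q (hF : Fintype.card F = q ^ 2) (x : F) : (-x) ^ q = - x ^ q := by
  have h2 := two_le hF
  have := add_pow_q hF (-x) x
  rw [neg_add_cancel, zero_pow (by omega)] at this
  linear_combination -this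

/-- The fourth relation between the entries of an element of `GU(2,q)`. -/
theorem mem_rel (hF : Fintype.card F = q ^ 2) {a b c d : F} (h4 : a * b ^ q + c * d ^ q = 0) :
    b * a ^ q + d * c ^ q = 0 := by
  have h2 := two_le hF
  have := congrArg (fun t => t ^ q) h4
  simp only [add_pow_q hF, mul_pow, pow_q_pow_q hF, zero_pow (show q ≠ 0 by omega)] at this
  linear_combination this

/-- The determinant of an element of `GU(2,q)` has norm one. -/
theorem det_norm (hF : Fintype.card F = q ^ 2) {a b c d : F} (h1 : a * a ^ q + c * c ^ q = 1)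
    (h3 : b * b ^ q + d * d ^ q = 1) (h4 : a * b ^ q + c * d ^ q = 0) :
    (a * d - b * c) ^ (q + 1) = 1 := by
  have h5 := mem_rel hF h4
  have h6 : (a * d - b * c) ^ q = a ^ q * d ^ q - b ^ q * c ^ q := by
    rw [sub_eq_add_neg, add_pow_q hF, neg_pow_q hF, mul_pow, mul_pow]
    ring
  rw [pow_succ, h6]
  linear_combination (b * b ^ q + d * d ^ q) * h1 + h3 - (b * a ^ q + d * c ^ q) * h4

/-- The element of `GU(2,q)` with given first column and determinant. -/
noncomputable def mkGL {a c l : F} (h1 : a ^ (q + 1) + c ^ (q + 1) = 1) (hl : l ^ (q + 1) = 1) :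
    (Matrix (Fin 2) (Fin 2) F)ˣ :=
  Matrix.GeneralLinearGroup.mkOfDetNeZero !![a, -l * c ^ q; c, l * a ^ q] (by
    rw [Matrix.det_fin_two_of]
    simp only [pow_succ] at h1
    have h3 : l ≠ 0 := by
      rintro rfl
      simp at hl
    intro h0
    apply h3
    linear_combination h0 - l * h1)

theorem mkGL_mem (hF : Fintype.card F = q ^ 2) {a c l : F} (h1 : a ^ (q + 1) + c ^ (q + 1) = 1)
    (hl : l ^ (q + 1) = 1) : mkGL h1 hl ∈ GU2 F q := by
  rw [mem_iff hF]
  simp only [pow_succ] at h1 hl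
  show a * a ^ q + c * c ^ q = 1 ∧
    (-l * c ^ q) * (-l * c ^ q) ^ q + (l * a ^ q) * (l * a ^ q) ^ q = 1 ∧
    a * (-l * c ^ q) ^ q + c * (l * a ^ q) ^ q = 0
  simp only [mul_pow, neg_pow_q hF, pow_q_pow_q hF]
  refine ⟨by linear_combination h1, ?_, ?_⟩
  · linear_combination (l ^ q * l) * h1 + hl
  · ring

/-- The coordinates of an element of `GU(2,q)`: first column and determinant. -/
noncomputable def coord (hF : Fintype.card F = q ^ 2) (g : GU2 F q) :
    {v : F × F // v.1 ^ (q + 1) + v.2 ^ (q + 1) = 1} × {l : F // l ^ (q + 1) = 1} :=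
  (⟨(g.1.1 0 0, g.1.1 1 0), by
      have := ((mem_iff hF g.1).1 g.2).1
      simp only [pow_succ]
      linear_combination this⟩,
    ⟨g.1.1 0 0 * g.1.1 1 1 - g.1.1 0 1 * g.1.1 1 0,
      det_norm hF ((mem_iff hF g.1).1 g.2).1 ((mem_iff hF g.1).1 g.2).2.1
        ((mem_iff hF g.1).1 g.2).2.2⟩)

theorem coord_injective (hF : Fintype.card F = q ^ 2) : Function.Injective (coord (F := F) hF) := by
  intro g g' h
  have ha : g.1.1 0 0 = g'.1.1 0 0 := congrArg (fun s => s.1.1.1) h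
  have hc : g.1.1 1 0 = g'.1.1 1 0 := congrArg (fun s => s.1.1.2) h
  have hl : g.1.1 0 0 * g.1.1 1 1 - g.1.1 0 1 * g.1.1 1 0 =
      g'.1.1 0 0 * g'.1.1 1 1 - g'.1.1 0 1 * g'.1.1 1 0 := congrArg (fun s => s.2.1) h
  obtain ⟨h1, h3, h4⟩ := (mem_iff hF g.1).1 g.2
  obtain ⟨h1', h3', h4'⟩ := (mem_iff hF g'.1).1 g'.2
  have h5 := mem_rel hF h4
  have h5' := mem_rel hF h4'
  apply Subtype.ext
  apply Units.ext
  have hb : g.1.1 0 1 = g'.1.1 0 1 := by
    rw [← ha, ← hc] at hl h5'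
    linear_combination -(g.1.1 0 1 - g'.1.1 0 1) * h1 + g.1.1 0 0 * (h5 - h5')
      - g.1.1 1 0 ^ q * hl
  have hd : g.1.1 1 1 = g'.1.1 1 1 := by
    rw [← ha, ← hc] at hl h5'
    linear_combination -(g.1.1 1 1 - g'.1.1 1 1) * h1 + g.1.1 1 0 * (h5 - h5')
      + g.1.1 0 0 ^ q * hl
  ext i j
  fin_cases i <;> fin_cases j
  · exact ha
  · exact hb
  · exact hc
  · exact hd

theorem coord_surjective (hF : Fintype.card F = q ^ 2) :
    Function.Surjective (coord (F := F) hF) := by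
  rintro ⟨⟨⟨a, c⟩, h1⟩, ⟨l, hl⟩⟩
  refine ⟨⟨mkGL h1 hl, mkGL_mem hF h1 hl⟩, ?_⟩
  apply Prod.ext
  · rfl
  · apply Subtype.ext
    show a * (l * a ^ q) - (-l * c ^ q) * c = l
    simp only [pow_succ] at h1
    linear_combination l * h1

/-- The order of `GU(2,q)`. -/
theorem card_GU2 (hF : Fintype.card F = q ^ 2) :
    Nat.card (GU2 F q) = (q + 1) * (q * (q - 1)) * (q + 1) := by
  rw [Nat.card_congr (Equiv.ofBijective (coord hF) ⟨coord_injective hF, coord_surjective hF⟩),
    Nat.card_prod, card_unit_vectors hF,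
    card_fibre hF one_ne_zero (one_pow q)]

end Cfsg.Agent.TwoFusion.GUTwo
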