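import Mathlib
import Cfsg.Prelude.Def_CaseTheorems
import Cfsg.Agent.TwoFusion.QDBasic
import Cfsg.Agent.Lib.FrattiniPGroup
import Cfsg.Agent.SporadicB.DihedralLift
set_option linter.all false

/-!
Structure of quasi-dihedral 2-groups: derived subgroup, Frattini subgroup, centre, and the subgroup
generated by the involutions.
-/

set_option autoImplicit false

namespace Cfsg.Agent.TwoFusion.QDStructure

open Cfsg.Agent.TwoFusion.QDBasic
open scoped commutatorElement

variable {S : Type*} [Group S] {n : ℕ} {u : ZMod (2 ^ n) → S} {y : S}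

/-- membership in the cyclic subgroup generated by `u 2`. -/
theorem mem_zpowers_u_two (h : IsQDCoord n u y) (s : S) :
    s ∈ Subgroup.zpowers (u 2) ↔ ∃ a, s = u (2 * a) := by
  have := h.finite
  constructor
  · intro hs
    rw [← mem_powers_iff_mem_zpowers] at hs
    obtain ⟨k, hk⟩ := hs
    refine ⟨k, ?_⟩
    rw [← hk]
    show u 2 ^ k = _
    rw [h.u_pow, mul_comm]
  · rintro ⟨a, rfl⟩
    have h1 : u (2 * a) = u 2 ^ a.val := by
      rw [h.u_pow, ZMod.natCast_zmod_val, mul_comm]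
    rw [h1]
    exact Subgroup.pow_mem _ (Subgroup.mem_zpowers _) _

/-- membership in the cyclic subgroup generated by `u 1`. -/
theorem mem_zpowers_u_one (h : IsQDCoord n u y) (s : S) :
    s ∈ Subgroup.zpowers (u 1) ↔ ∃ a, s = u a := by
  have := h.finite
  constructor
  · intro hs
    rw [← mem_powers_iff_mem_zpowers] at hs
    obtain ⟨k, hk⟩ := hs
    refine ⟨k, ?_⟩
    rw [← hk]
    show u 1 ^ k = _
    rw [h.u_pow, mul_one]
  · rintro ⟨a, rfl⟩
    rw [h.u_eq_pow a]
    exact Subgroup.pow_mem _ (Subgroup.mem_zpowers _) _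

theorem orderOf_u_one (h : IsQDCoord n u y) : orderOf (u 1) = 2 ^ n := by
  refine orderOf_eq_of_pow_and_pow_div_prime (x := u 1) (by positivity) ?_ ?_
  · rw [h.u_one_pow, ← h.u_zero]; congr 1
    push_cast; exact two_pow_eq_zero n
  · intro p hp hpd
    have hp2 : p = 2 := (Nat.prime_dvd_prime_iff_eq hp Nat.prime_two).1 (hp.dvd_of_dvd_pow hpd)
    subst hp2
    have h1 : 2 ^ n / 2 = 2 ^ (n - 1) := by
      obtain ⟨m, hm⟩ : ∃ m, n = m + 1 := ⟨n - 1, by have := h.one_le; omega⟩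
      subst hm
      rw [pow_succ]; simp
    rw [h1, h.u_one_pow, Ne, h.u_eq_one_iff]
    push_cast
    exact half_ne_zero n h.one_le

theorem orderOf_u_two (h : IsQDCoord n u y) : orderOf (u 2) = 2 ^ (n - 1) := by
  have h1 : u 2 = u 1 ^ 2 := by rw [h.u_one_pow]; simp
  obtain ⟨m, hm⟩ : ∃ m, n = m + 1 := ⟨n - 1, by have := h.one_le; omega⟩
  rw [h1, orderOf_pow' _ (by norm_num), orderOf_u_one h]
  subst hm
  have h2 : Nat.gcd (2 ^ (m + 1)) 2 = 2 := by
    apply Nat.gcd_eq_right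
    exact dvd_pow_self 2 (by omega)
  rw [h2, pow_succ]; simp

/-- the commutator of `u c` and `y` -/
theorem commutator_u_y (h : IsQDCoord n u y) (c : ZMod (2 ^ n)) :
    ⁅u c, y⁆ = u ((2 - 2 ^ (n - 1)) * c) := by
  rw [commutatorElement_def, mul_assoc (u c), mul_assoc (u c), h.u_inv, h.y_conj, h.u_mul]
  congr 1; ring

theorem exists_two_sub_half (n : ℕ) (hn : 3 ≤ n) (a : ZMod (2 ^ n)) :
    ∃ c, (2 - 2 ^ (n - 1)) * c = 2 * a := by
  obtain ⟨m, hm⟩ : ∃ m, n = m + 3 := ⟨n - 3, by omega⟩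
  subst hm
  have hu : IsUnit (2 * (-(2 : ZMod (2 ^ (m + 3))) ^ m) + 1) := isUnit_odd _ _
  obtain ⟨w, hw⟩ := hu
  refine ⟨(↑w⁻¹ : ZMod (2 ^ (m + 3))) * a, ?_⟩
  have h1 : (2 - 2 ^ (m + 3 - 1) : ZMod (2 ^ (m + 3))) = 2 * w := by
    rw [hw]
    have : m + 3 - 1 = m + 2 := by omega
    rw [this]; ring
  rw [h1]
  calc 2 * (w : ZMod (2 ^ (m + 3))) * (↑w⁻¹ * a) = 2 * (w * ↑w⁻¹) * a := by ring
    _ = 2 * a := by rw [Units.mul_inv, mul_one]

/-- `zpowers (u 2)` is normal. -/
theorem zpowers_u_two_normal (h : IsQDCoord n u y) : (Subgroup.zpowers (u 2)).Normal := by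
  constructor
  intro s hs g
  rw [mem_zpowers_u_two h] at hs ⊢
  obtain ⟨a, rfl⟩ := hs
  rcases h.cases g with ⟨c, rfl⟩ | ⟨c, rfl⟩
  · exact ⟨a, h.u_conj_u _ _⟩
  · rw [h.uy_conj_u]
    exact ⟨(2 ^ (n - 1) - 1) * a, by congr 1; ring⟩

/-- `2 ^ (n - 1)` is even. -/
theorem half_even (n : ℕ) (hn : 3 ≤ n) : (2 : ZMod (2 ^ n)) ^ (n - 1) = 2 * 2 ^ (n - 2) := by
  obtain ⟨m, hm⟩ : ∃ m, n = m + 3 := ⟨n - 3, by omega⟩
  subst hm
  have h2 : m + 3 - 1 = m + 2 := by omega
  have h3 : m + 3 - 2 = m + 1 := by omega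
  rw [h2, h3]; ring

/-- all squares are in `zpowers (u 2)`. -/
theorem sq_mem (h : IsQDCoord n u y) (s : S) : s ^ 2 ∈ Subgroup.zpowers (u 2) := by
  rw [mem_zpowers_u_two h]
  rcases h.cases s with ⟨a, rfl⟩ | ⟨a, rfl⟩
  · exact ⟨a, by rw [h.u_pow]; simp⟩
  · refine ⟨2 ^ (n - 2) * a, ?_⟩
    rw [h.uy_sq, half_even n h.three_le]
    congr 1; ring

/-- all commutators are in `zpowers (u 2)`. -/
theorem commutator_mem (h : IsQDCoord n u y) (s t : S) : ⁅s, t⁆ ∈ Subgroup.zpowers (u 2) := by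
  have hN := zpowers_u_two_normal h
  have h1 : ⁅s, t⁆ = (s * t) ^ 2 * (t⁻¹ * (s⁻¹) ^ 2 * t⁻¹⁻¹) * (t⁻¹) ^ 2 := by
    rw [commutatorElement_def]; simp only [pow_two]; group
  rw [h1]
  exact mul_mem (mul_mem (sq_mem h _) (hN.conj_mem _ (sq_mem h _) _)) (sq_mem h _)

theorem commutator_eq (h : IsQDCoord n u y) : commutator S = Subgroup.zpowers (u 2) := by
  apply le_antisymm
  · rw [commutator_def, Subgroup.commutator_le]
    intro s _ t _
    exact commutator_mem h s t
  · intro s hs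
    rw [mem_zpowers_u_two h] at hs
    obtain ⟨a, rfl⟩ := hs
    obtain ⟨c, hc⟩ := exists_two_sub_half n h.three_le a
    rw [← hc, ← commutator_u_y h]
    exact Subgroup.commutator_mem_commutator (Subgroup.mem_top _) (Subgroup.mem_top _)

theorem isPGroup (h : IsQDCoord n u y) : IsPGroup 2 S := IsPGroup.of_card h.card

theorem frattini_eq (h : IsQDCoord n u y) : frattini S = Subgroup.zpowers (u 2) := by
  have := h.finite
  have : Fact (Nat.Prime 2) := ⟨Nat.prime_two⟩
  apply le_antisymm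
  · have := zpowers_u_two_normal h
    exact Cfsg.Agent.Lib.FrattiniPGroup.frattini_le (p := 2) _ (commutator_mem h) (sq_mem h)
  · rw [← commutator_eq h]
    exact Cfsg.Agent.Lib.FrattiniPGroup.commutator_le_frattini (isPGroup h)

theorem card_zpowers_u_two (h : IsQDCoord n u y) :
    Nat.card (Subgroup.zpowers (u 2)) = 2 ^ (n - 1) := by
  rw [Nat.card_zpowers, orderOf_u_two h]

/-- The centre of a quasi-dihedral group consists of `1` and `u (2 ^ (n - 1))`. -/
theorem mem_center_iff (h : IsQDCoord n u y) (s : S) :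
    s ∈ Subgroup.center S ↔ s = u 0 ∨ s = u (2 ^ (n - 1)) := by
  rw [Subgroup.mem_center_iff]
  have hu : IsUnit (2 * (-(2 : ZMod (2 ^ n)) ^ (n - 3)) + 1) := isUnit_odd _ _
  have hk : (2 : ZMod (2 ^ n)) - 2 ^ (n - 1) = 2 * (2 * (-(2 : ZMod (2 ^ n)) ^ (n - 3)) + 1) := by
    obtain ⟨m, hm⟩ : ∃ m, n = m + 3 := ⟨n - 3, by have := h.three_le; omega⟩
    subst hm
    have h2 : m + 3 - 1 = m + 2 := by omega
    have h3 : m + 3 - 3 = m := by omega
    rw [h2, h3]; ring
  constructor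
  · intro hc
    rcases h.cases s with ⟨a, rfl⟩ | ⟨a, rfl⟩
    · have h1 := hc y
      rw [h.y_u] at h1
      have h2 := h.u_inj _ _ (mul_right_cancel h1)
      have h3 : (2 - 2 ^ (n - 1)) * a = 0 := by linear_combination -h2
      rw [hk, mul_comm 2, mul_assoc, hu.mul_right_eq_zero] at h3
      rcases (two_mul_eq_zero_iff n h.one_le a).1 h3 with h4 | h4
      · left; rw [h4]
      · right; rw [h4]
    · exfalso
      have h1 := hc (u 1)
      rw [h.u_mul_uy, h.uy_mul_u] at h1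
      have h2 := h.u_inj _ _ (mul_right_cancel h1)
      have h3 : (2 - 2 ^ (n - 1)) * (1 : ZMod (2 ^ n)) = 0 := by linear_combination h2
      rw [hk, mul_comm 2, mul_assoc, hu.mul_right_eq_zero] at h3
      exact two_mul_ne_two_mul_add_one n h.one_le (2 ^ (n - 2)) (-1) (by
        have h4 := half_even n h.three_le
        rcases (two_mul_eq_zero_iff n h.one_le 1).1 h3 with h5 | h5
        · have h6 := half_ne_zero n h.one_le
          exact absurd (by rw [← mul_one ((2 : ZMod (2 ^ n)) ^ (n - 1)), h5, mul_zero]) h6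
        · linear_combination (-1 : ZMod (2 ^ n)) * h4 - h5 + h3)
  · rintro (rfl | rfl) g
    · rw [h.u_zero]; simp
    · rcases h.cases g with ⟨a, rfl⟩ | ⟨a, rfl⟩
      · rw [h.u_mul, h.u_mul, add_comm]
      · rw [h.uy_mul_u, h.u_mul_uy]
        congr 2
        have h1 := half_mul_half n h.two_le
        have h2 := two_mul_half n h.one_le
        linear_combination h1 - h2

theorem card_center (h : IsQDCoord n u y) : Nat.card (Subgroup.center S) = 2 := by
  have := h.finite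
  rw [Nat.card_eq_two_iff]
  refine ⟨⟨u 0, (mem_center_iff h _).2 (Or.inl rfl)⟩,
    ⟨u (2 ^ (n - 1)), (mem_center_iff h _).2 (Or.inr rfl)⟩, ?_, ?_⟩
  · intro he
    have h1 : u 0 = u (2 ^ (n - 1)) := congrArg Subtype.val he
    exact half_ne_zero n h.one_le (h.u_inj _ _ h1).symm
  · ext ⟨s, hs⟩
    simp only [Set.mem_insert_iff, Set.mem_singleton_iff, Set.mem_univ, iff_true, Subtype.mk.injEq]
    exact (mem_center_iff h s).1 hs

/-- The involutions of a quasi-dihedral group. -/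
theorem orderOf_eq_two_iff (h : IsQDCoord n u y) (s : S) :
    orderOf s = 2 ↔ s = u (2 ^ (n - 1)) ∨ ∃ a, s = u (2 * a) * y := by
  rw [orderOf_eq_prime_iff]
  constructor
  · rintro ⟨h1, h2⟩
    rcases h.cases s with ⟨a, rfl⟩ | ⟨a, rfl⟩
    · left
      rw [h.u_pow, h.u_eq_one_iff, Nat.cast_ofNat] at h1
      rcases (two_mul_eq_zero_iff n h.one_le a).1 h1 with h4 | h4
      · exfalso; apply h2; rw [h4, h.u_zero]
      · rw [h4]
    · right
      rw [h.uy_sq, h.u_eq_one_iff] at h1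
      obtain ⟨b, rfl⟩ := (half_mul_eq_zero_iff n h.one_le a).1 h1
      exact ⟨b, rfl⟩
  · rintro (rfl | ⟨a, rfl⟩)
    · constructor
      · rw [h.u_pow, h.u_eq_one_iff, Nat.cast_ofNat]
        exact two_mul_half n h.one_le
      · rw [Ne, h.u_eq_one_iff]
        exact half_ne_zero n h.one_le
    · constructor
      · rw [h.uy_sq, h.u_eq_one_iff]
        exact (half_mul_eq_zero_iff n h.one_le _).2 ⟨a, rfl⟩
      · rw [← h.u_zero]
        intro he
        exact h.u_ne _ _ he.symm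

theorem orderOf_y (h : IsQDCoord n u y) : orderOf y = 2 := by
  rw [orderOf_eq_two_iff h]
  right
  exact ⟨0, by rw [mul_zero, h.u_zero, one_mul]⟩

theorem orderOf_u_two_mul_y (h : IsQDCoord n u y) : orderOf (u 2 * y) = 2 := by
  rw [orderOf_eq_two_iff h]
  right
  exact ⟨1, by rw [mul_one]⟩

theorem closure_involutions_eq (h : IsQDCoord n u y) :
    Subgroup.closure {x : S | orderOf x = 2} = Subgroup.closure {u 2 * y, y} := by
  have hy : y ∈ Subgroup.closure {u 2 * y, y} := Subgroup.subset_closure (by simp)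
  have hz : u 2 * y ∈ Subgroup.closure {u 2 * y, y} := Subgroup.subset_closure (by simp)
  have hu2 : u 2 ∈ Subgroup.closure {u 2 * y, y} := by
    have := mul_mem hz hy
    rwa [mul_assoc, h.y_y, mul_one] at this
  have hle : Subgroup.zpowers (u 2) ≤ Subgroup.closure {u 2 * y, y} := by
    rw [Subgroup.zpowers_le]; exact hu2
  apply le_antisymm
  · rw [Subgroup.closure_le]
    intro s hs
    rw [Set.mem_ofPred_eq, orderOf_eq_two_iff h] at hs
    rcases hs with rfl | ⟨a, rfl⟩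
    · apply hle
      rw [mem_zpowers_u_two h]
      exact ⟨2 ^ (n - 2), by rw [half_even n h.three_le]⟩
    · exact mul_mem (hle ((mem_zpowers_u_two h _).2 ⟨a, rfl⟩)) hy
  · rw [Subgroup.closure_le]
    rintro s (rfl | rfl)
    · exact Subgroup.subset_closure (orderOf_u_two_mul_y h)
    · exact Subgroup.subset_closure (orderOf_y h)

theorem closure_involutions_dihedral (h : IsQDCoord n u y) :
    Nonempty (↥(Subgroup.closure {x : S | orderOf x = 2}) ≃* DihedralGroup (2 ^ (n - 1))) := by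
  rw [closure_involutions_eq h]
  apply Cfsg.Agent.SporadicB.DihedralLift.closure_pair_equiv_dihedral' (orderOf_u_two_mul_y h)
    (orderOf_y h)
  rw [mul_assoc, h.y_y, mul_one, orderOf_u_two h]

end Cfsg.Agent.TwoFusion.QDStructure
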