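import Mathlib
import Cfsg.Agent.TwoFusion.QDBasic
set_option linter.all false

/-!
# Arithmetic and conjugation in quasi-dihedral 2-groups, in coordinates
-/

set_option autoImplicit false

namespace Cfsg.Agent.TwoFusion.QDSubgroups

open Cfsg.Agent.TwoFusion.QDBasic (IsQDCoord)

/-! ### Arithmetic in `ZMod (2 ^ n)` -/

section arith

variable {n : ℕ}

theorem two_pow_self (n : ℕ) : (2 : ZMod (2 ^ n)) ^ n = 0 := by
  have h : ((2 ^ n : ℕ) : ZMod (2 ^ n)) = 0 := ZMod.natCast_self _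
  rw [Nat.cast_pow, Nat.cast_ofNat] at h
  exact h

theorem two_pow_eq_zero {k : ℕ} (h : n ≤ k) : (2 : ZMod (2 ^ n)) ^ k = 0 := by
  obtain ⟨j, rfl⟩ := Nat.exists_eq_add_of_le h
  rw [pow_add, two_pow_self, zero_mul]

/-- Multiplication by `2 ^ k` kills exactly the multiples of `2 ^ (n - k)`. -/
theorem two_pow_mul_eq_zero {k : ℕ} (hk : k ≤ n) (a : ZMod (2 ^ n)) :
    2 ^ k * a = 0 ↔ ∃ b, a = 2 ^ (n - k) * b := by
  constructor
  · intro h
    obtain ⟨a, rfl⟩ := ZMod.intCast_surjective a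
    have h1 : (((2 ^ k * a : ℤ)) : ZMod (2 ^ n)) = 0 := by push_cast; exact h
    rw [ZMod.intCast_zmod_eq_zero_iff_dvd] at h1
    have h2 : ((2 ^ n : ℕ) : ℤ) = 2 ^ k * 2 ^ (n - k) := by
      rw [← pow_add, Nat.add_sub_cancel' hk]; push_cast; rfl
    rw [h2] at h1
    obtain ⟨c, hc⟩ := Int.dvd_of_mul_dvd_mul_left (by positivity) h1
    refine ⟨(c : ZMod (2 ^ n)), ?_⟩
    rw [hc]; push_cast; rfl
  · rintro ⟨b, rfl⟩
    rw [← mul_assoc, ← pow_add, Nat.add_sub_cancel' hk, two_pow_self, zero_mul]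

/-- Every element is even or odd. -/
theorem even_or_odd' (a : ZMod (2 ^ n)) : (∃ b, a = 2 * b) ∨ (∃ b, a = 2 * b + 1) := by
  obtain ⟨a, rfl⟩ := ZMod.intCast_surjective a
  rcases Int.even_or_odd' a with ⟨b, h | h⟩
  · left; exact ⟨b, by rw [h]; push_cast; rfl⟩
  · right; exact ⟨b, by rw [h]; push_cast; rfl⟩

/-- For `n ≠ 0` no element is both even and odd. -/
theorem not_even_odd (hn : n ≠ 0) (a b : ZMod (2 ^ n)) : 2 * a ≠ 2 * b + 1 := by
  intro h
  obtain ⟨a, rfl⟩ := ZMod.intCast_surjective a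
  obtain ⟨b, rfl⟩ := ZMod.intCast_surjective b
  have h1 : (((2 * a - (2 * b + 1) : ℤ)) : ZMod (2 ^ n)) = 0 := by push_cast; rw [h]; ring
  rw [ZMod.intCast_zmod_eq_zero_iff_dvd] at h1
  have h2 : (2 : ℤ) ∣ ((2 ^ n : ℕ) : ℤ) := by
    push_cast
    exact dvd_pow_self 2 hn
  have h3 := h2.trans h1
  omega

/-- Odd elements are units. -/
theorem isUnit_odd (b : ZMod (2 ^ n)) : IsUnit (2 * b + 1) := by
  obtain ⟨b, rfl⟩ := ZMod.intCast_surjective b
  have h : (2 * (b : ZMod (2 ^ n)) + 1) = ((2 * b + 1 : ℤ) : ZMod (2 ^ n)) := by push_cast; rfl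
  rw [h, ZMod.coe_int_isUnit_iff_isCoprime]
  push_cast
  exact (Int.isCoprime_iff_gcd_eq_one.2 (by
    rw [← Int.isCoprime_iff_gcd_eq_one]
    exact ⟨-b, 1, by ring⟩ : Int.gcd 2 (2 * b + 1) = 1)).pow_left

/-- Cancellation of an odd factor. -/
theorem odd_mul_eq_zero (b a : ZMod (2 ^ n)) : (2 * b + 1) * a = 0 ↔ a = 0 := by
  rw [(isUnit_odd b).mul_right_eq_zero]

theorem two_mul_eq_zero (hn : n ≠ 0) (b : ZMod (2 ^ n)) :
    2 * b = 0 ↔ b = 0 ∨ b = 2 ^ (n - 1) := by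
  constructor
  · intro h
    rw [← pow_one (2 : ZMod (2 ^ n)), two_pow_mul_eq_zero (by omega)] at h
    obtain ⟨c, rfl⟩ := h
    rcases even_or_odd' c with ⟨d, rfl⟩ | ⟨d, rfl⟩
    · left
      rw [← mul_assoc, ← pow_succ, two_pow_eq_zero (by omega), zero_mul]
    · right
      rw [mul_add, ← mul_assoc, ← pow_succ, two_pow_eq_zero (by omega), zero_mul, zero_add,
        mul_one]
  · rintro (rfl | rfl)
    · exact mul_zero _
    · rw [← pow_succ', two_pow_eq_zero (by omega)]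

theorem half_ne_zero (hn : n ≠ 0) : (2 : ZMod (2 ^ n)) ^ (n - 1) ≠ 0 := by
  intro h
  have h1 : ((2 ^ (n - 1) : ℕ) : ZMod (2 ^ n)) = 0 := by push_cast; exact h
  rw [ZMod.natCast_eq_zero_iff] at h1
  have h2 := (Nat.pow_dvd_pow_iff_le_right (x := 2) (k := n) (l := n - 1) (by norm_num)).1 h1
  omega

theorem half_mul_even (hn : n ≠ 0) (c : ZMod (2 ^ n)) :
    (2 : ZMod (2 ^ n)) ^ (n - 1) * (2 * c) = 0 := by
  rw [← mul_assoc, ← pow_succ, two_pow_eq_zero (by omega), zero_mul]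

theorem half_mul_odd (hn : n ≠ 0) (c : ZMod (2 ^ n)) :
    (2 : ZMod (2 ^ n)) ^ (n - 1) * (2 * c + 1) = 2 ^ (n - 1) := by
  rw [mul_add, half_mul_even hn, zero_add, mul_one]

/-- `2 - 2 ^ (n - 1)` is twice a unit. -/
theorem two_sub_half (hn : 3 ≤ n) :
    ∃ v : (ZMod (2 ^ n))ˣ, (2 : ZMod (2 ^ n)) - 2 ^ (n - 1) = 2 * v := by
  obtain ⟨v, hv⟩ := isUnit_odd (n := n) (-2 ^ (n - 3))
  refine ⟨v, ?_⟩
  rw [hv]
  obtain ⟨m, rfl⟩ := Nat.exists_eq_add_of_le' hn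
  simp only [Nat.add_sub_cancel, show m + 3 - 1 = m + 2 from rfl]
  ring

theorem two_sub_half_mul_eq_zero (hn : 3 ≤ n) (b : ZMod (2 ^ n)) :
    (2 - 2 ^ (n - 1)) * b = 0 ↔ b = 0 ∨ b = 2 ^ (n - 1) := by
  obtain ⟨v, hv⟩ := two_sub_half hn
  rw [hv, mul_right_comm, v.isUnit.mul_left_eq_zero, two_mul_eq_zero (by omega)]

theorem exists_two_sub_half_mul (hn : 3 ≤ n) (c : ZMod (2 ^ n)) :
    ∃ b, (2 - 2 ^ (n - 1)) * b = 2 * c := by
  obtain ⟨v, hv⟩ := two_sub_half hn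
  refine ⟨(v⁻¹ : (ZMod (2 ^ n))ˣ) * c, ?_⟩
  rw [hv, mul_assoc, ← mul_assoc (v : ZMod (2 ^ n)), Units.mul_inv, one_mul]

end arith

variable {S : Type*} [Group S] {n : ℕ} {u : ZMod (2 ^ n) → S} {y : S}

section coords

variable (h : IsQDCoord n u y)

include h

theorem n_ne : n ≠ 0 := by have := h.three_le; omega

theorem u_inv (a : ZMod (2 ^ n)) : (u a)⁻¹ = u (-a) := by
  rw [inv_eq_iff_mul_eq_one, h.u_mul, add_neg_cancel, h.u_zero]

theorem y_inv : y⁻¹ = y := by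
  rw [inv_eq_iff_mul_eq_one, h.y_y]

theorem uy_mul_u (a b : ZMod (2 ^ n)) : u a * y * u b = u (a + (2 ^ (n - 1) - 1) * b) * y := by
  rw [mul_assoc, h.y_u, ← mul_assoc, h.u_mul]

theorem uy_mul_uy (a b : ZMod (2 ^ n)) : u a * y * (u b * y) = u (a + (2 ^ (n - 1) - 1) * b) := by
  rw [← mul_assoc, uy_mul_u h, mul_assoc, h.y_y, mul_one]

theorem u_mul_uy (a b : ZMod (2 ^ n)) : u a * (u b * y) = u (a + b) * y := by
  rw [← mul_assoc, h.u_mul]

theorem u_eq_iff (a b : ZMod (2 ^ n)) : u a = u b ↔ a = b :=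
  ⟨h.u_inj a b, fun h => h ▸ rfl⟩

theorem uy_eq_iff (a b : ZMod (2 ^ n)) : u a * y = u b * y ↔ a = b := by
  rw [mul_left_inj, u_eq_iff h]

/-- conjugating `u a * y` by `u b` -/
theorem conj_u_uy (a b : ZMod (2 ^ n)) :
    u b * (u a * y) * (u b)⁻¹ = u (a + (2 - 2 ^ (n - 1)) * b) * y := by
  rw [u_inv h, u_mul_uy h, uy_mul_u h]
  congr 2
  ring

theorem conj_u_u (a b : ZMod (2 ^ n)) : u b * u a * (u b)⁻¹ = u a := by
  rw [u_inv h, h.u_mul, h.u_mul]
  congr 1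
  ring

theorem conj_uy_u (a b : ZMod (2 ^ n)) :
    (u b * y) * u a * (u b * y)⁻¹ = u ((2 ^ (n - 1) - 1) * a) := by
  rw [uy_mul_u h, mul_inv_rev, y_inv h, ← mul_assoc, mul_assoc _ y y, h.y_y, mul_one, u_inv h,
    h.u_mul]
  congr 1
  ring

/-- The centralizer of a non-central element outside the cyclic maximal subgroup. -/
theorem commute_uy_iff (a : ZMod (2 ^ n)) (s : S) :
    s * (u a * y) = (u a * y) * s ↔
      s = 1 ∨ s = u (2 ^ (n - 1)) ∨ s = u a * y ∨ s = u (a + 2 ^ (n - 1)) * y := by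
  have hn := h.three_le
  have key : ∀ b, u b * (u a * y) = (u a * y) * u b ↔ b = 0 ∨ b = 2 ^ (n - 1) := by
    intro b
    rw [← mul_inv_eq_iff_eq_mul, conj_u_uy h, uy_eq_iff h, ← two_sub_half_mul_eq_zero hn b]
    exact add_eq_left
  rcases h.cases s with ⟨b, rfl⟩ | ⟨b, rfl⟩
  · rw [key b]
    constructor
    · rintro (rfl | rfl)
      · left; exact h.u_zero
      · right; left; rfl
    · rintro (h1 | h1 | h1 | h1)
      · left; exact h.u_inj _ _ (h1.trans h.u_zero.symm)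
      · right; exact h.u_inj _ _ h1
      · exact absurd h1 (h.u_ne _ _)
      · exact absurd h1 (h.u_ne _ _)
  · have e : u b * y = u (b - a) * (u a * y) := by
      rw [u_mul_uy h, sub_add_cancel]
    have key2 : u b * y * (u a * y) = u a * y * (u b * y) ↔
        u (b - a) * (u a * y) = (u a * y) * u (b - a) := by
      rw [e]
      rw [← mul_assoc (u a * y), mul_left_inj]
    rw [key2, key]
    constructor
    · rintro (h1 | h1)
      · right; right; left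
        rw [sub_eq_zero.1 h1]
      · right; right; right
        rw [← h1, add_sub_cancel]
    · rintro (h1 | h1 | h1 | h1)
      · exact absurd (h.u_zero.trans h1.symm) (h.u_ne _ _)
      · exact absurd h1.symm (h.u_ne _ _)
      · left; rw [sub_eq_zero]; exact (uy_eq_iff h _ _).1 h1
      · right; rw [(uy_eq_iff h _ _).1 h1]; ring

theorem uy_sq (a : ZMod (2 ^ n)) : u a * y * (u a * y) = u (2 ^ (n - 1) * a) := by
  rw [uy_mul_uy h]; congr 1; ring

theorem uy_sq_even (c : ZMod (2 ^ n)) : u (2 * c) * y * (u (2 * c) * y) = 1 := by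
  rw [uy_sq h, half_mul_even (n_ne h), h.u_zero]

theorem uy_sq_odd (c : ZMod (2 ^ n)) :
    u (2 * c + 1) * y * (u (2 * c + 1) * y) = u (2 ^ (n - 1)) := by
  rw [uy_sq h, half_mul_odd (n_ne h)]

/-- All elements `u a * y` with `a` of a given parity are conjugate. -/
theorem conj_uy_of_sub_even (a c : ZMod (2 ^ n)) :
    ∃ b, u b * (u a * y) * (u b)⁻¹ = u (a + 2 * c) * y := by
  obtain ⟨b, hb⟩ := exists_two_sub_half_mul h.three_le c
  exact ⟨b, by rw [conj_u_uy h, hb]⟩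

theorem u_half_ne_one : u (2 ^ (n - 1)) ≠ 1 := by
  intro h1
  exact half_ne_zero (n_ne h) (h.u_inj _ _ (h1.trans h.u_zero.symm))

/-- The unique involution of the cyclic maximal subgroup. -/
theorem u_sq_eq_one (a : ZMod (2 ^ n)) : u a * u a = 1 ↔ a = 0 ∨ a = 2 ^ (n - 1) := by
  rw [h.u_mul, ← two_mul, ← h.u_zero, u_eq_iff h, two_mul_eq_zero (n_ne h)]

theorem u_half_comm (s : S) : s * u (2 ^ (n - 1)) = u (2 ^ (n - 1)) * s := by
  rcases h.cases s with ⟨b, rfl⟩ | ⟨b, rfl⟩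
  · rw [h.u_mul, h.u_mul, add_comm]
  · rw [← (commute_uy_iff h b (u (2 ^ (n - 1)))).2 (Or.inr (Or.inl rfl))]

end coords

end Cfsg.Agent.TwoFusion.QDSubgroups
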