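import Mathlib
set_option linter.all false

/-!
Automizers of Klein four-subgroups and of quaternion subgroups of order 8:
`|N(T) : C(T)|` divides 6 and `|N(Q) : Q C(Q)|` divides 6.
-/

set_option autoImplicit false

namespace Cfsg.Agent.TwoFusion.LocalIndex

/-- The automorphism group of a Klein four-group has order dividing 6. -/
theorem card_mulAut_kleinFour_dvd {V : Type*} [Group V] (hV : IsKleinFour V) :
    Nat.card (MulAut V) ∣ 6 := by
  classical
  have hfin : Finite V := IsKleinFour.instFinite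
  let f : MulAut V →* Equiv.Perm {x : V // x ≠ 1} :=
    { toFun := fun e => (e.toEquiv).subtypeEquiv (fun x => by
        show x ≠ 1 ↔ e x ≠ 1
        rw [Ne, Ne, map_eq_one_iff e e.injective])
      map_one' := by ext x; rfl
      map_mul' := fun a b => by ext x; rfl }
  have hf : Function.Injective f := by
    intro a b h
    ext x
    by_cases hx : x = 1
    · rw [hx, map_one, map_one]
    · have := congrArg (fun g : Equiv.Perm {x : V // x ≠ 1} => ((g ⟨x, hx⟩ : {x : V // x ≠ 1}) : V)) h
      exact this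
  have h1 := Subgroup.card_dvd_of_injective f hf
  have h2 : Nat.card {x : V // x ≠ 1} = 3 := by
    have hc := IsKleinFour.card_four (G := V)
    have : Fintype V := Fintype.ofFinite V
    rw [Nat.card_eq_fintype_card] at hc ⊢
    rw [Fintype.card_subtype_compl (fun x : V => x = 1), hc]
    simp
  have h3 : Nat.card (Equiv.Perm {x : V // x ≠ 1}) = 6 := by
    rw [Nat.card_perm, h2]; rfl
  rwa [h3] at h1

/-- `|N(T) : C(T)|` divides `|Aut T|`. -/
theorem relIndex_centralizer_dvd {G : Type*} [Group G] (T : Subgroup G) [Finite T] :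
    (Subgroup.centralizer (T : Set G)).relIndex (Subgroup.normalizer (T : Set G)) ∣
      Nat.card (MulAut T) := by
  have key := Subgroup.card_dvd_of_injective _
    (QuotientGroup.kerLift_injective T.normalizerMonoidHom)
  rwa [Subgroup.normalizerMonoidHom_ker] at key

theorem relIndex_kleinFour_dvd {G : Type*} [Group G] (T : Subgroup G) (hT : IsKleinFour T) :
    (Subgroup.centralizer (T : Set G)).relIndex (Subgroup.normalizer (T : Set G)) ∣ 6 := by
  have hfin : Finite T := IsKleinFour.instFinite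
  exact (relIndex_centralizer_dvd T).trans (card_mulAut_kleinFour_dvd hT)

/-! ### The quaternion group of order 8 -/

open QuaternionGroup

theorem quaternion_gen : ∀ x : QuaternionGroup 2, ∃ k : Fin 4, ∃ l : Fin 2,
    x = (a 1 : QuaternionGroup 2) ^ (k : ℕ) * (xa 0 : QuaternionGroup 2) ^ (l : ℕ) := by
  decide

theorem quaternion_mem_center : ∀ x : QuaternionGroup 2,
    (∀ y : QuaternionGroup 2, y * x = x * y) ↔ (x = 1 ∨ x = a 2) := by
  decide

theorem quaternion_inner : ∀ p q : QuaternionGroup 2, (p = a 1 ∨ p = a 1 * a 2) →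
    (q = xa 0 ∨ q = xa 0 * a 2) → ∃ s : QuaternionGroup 2, s * a 1 * s⁻¹ = p ∧
      s * xa 0 * s⁻¹ = q := by
  decide

theorem quaternion_sq : ∀ x : QuaternionGroup 2, (x * x = 1 ∨ x * x = a 2) := by
  decide

/-- an automorphism of `Q₈` that is trivial modulo the centre is inner. -/
theorem quaternion_aut_inner (φ : MulAut (QuaternionGroup 2))
    (h : ∀ x : QuaternionGroup 2, φ x = x ∨ φ x = x * a 2) :
    ∃ s : QuaternionGroup 2, ∀ x, φ x = s * x * s⁻¹ := by
  obtain ⟨s, h1, h2⟩ := quaternion_inner (φ (a 1)) (φ (xa 0)) (h _) (h _)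
  refine ⟨s, fun x => ?_⟩
  obtain ⟨k, l, hx⟩ := quaternion_gen x
  have h3 : φ x = MulAut.conj s x := by
    rw [hx, map_mul, map_mul, map_pow, map_pow, map_pow, map_pow, MulAut.conj_apply,
      MulAut.conj_apply, h1, h2]
  rw [h3, MulAut.conj_apply]

/-- The map `Aut H → Aut (H / Z(H))`. -/
noncomputable def autQuot (H : Type*) [Group H] :
    MulAut H →* MulAut (H ⧸ Subgroup.center H) where
  toFun φ := QuotientGroup.congr (Subgroup.center H) (Subgroup.center H) φ
    (Subgroup.characteristic_iff_map_eq.1 inferInstance φ)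
  map_one' := by ext ⟨x⟩; rfl
  map_mul' a b := by ext ⟨x⟩; rfl

theorem autQuot_mk {H : Type*} [Group H] (φ : MulAut H) (x : H) :
    autQuot H φ (QuotientGroup.mk x) = QuotientGroup.mk (φ x) := rfl

theorem center_quaternion_mem (x : QuaternionGroup 2) :
    x ∈ Subgroup.center (QuaternionGroup 2) ↔ (x = 1 ∨ x = a 2) := by
  rw [Subgroup.mem_center_iff]
  exact quaternion_mem_center x

theorem card_center_quaternion : Nat.card (Subgroup.center (QuaternionGroup 2)) = 2 := by
  have h : ((Subgroup.center (QuaternionGroup 2) : Subgroup (QuaternionGroup 2)) :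
      Set (QuaternionGroup 2)) = ({1, a 2} : Set (QuaternionGroup 2)) := by
    ext x
    rw [SetLike.mem_coe, center_quaternion_mem]
    rfl
  have h2 : Nat.card (Subgroup.center (QuaternionGroup 2)) =
      Set.ncard ({1, a 2} : Set (QuaternionGroup 2)) := by
    rw [← h]; rfl
  rw [h2, Set.ncard_pair (by decide)]

theorem isKleinFour_quot : IsKleinFour (QuaternionGroup 2 ⧸ Subgroup.center (QuaternionGroup 2)) where
  card_four := by
    have h := Subgroup.card_eq_card_quotient_mul_card_subgroup
      (Subgroup.center (QuaternionGroup 2))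
    rw [card_center_quaternion, Nat.card_eq_fintype_card, QuaternionGroup.card] at h
    omega
  exponent_two := by
    have hsq : ∀ x : QuaternionGroup 2 ⧸ Subgroup.center (QuaternionGroup 2), x ^ 2 = 1 := by
      rintro ⟨x⟩
      show ((x ^ 2 : QuaternionGroup 2) : QuaternionGroup 2 ⧸ Subgroup.center (QuaternionGroup 2)) = 1
      rw [QuotientGroup.eq_one_iff, center_quaternion_mem, pow_two]
      exact quaternion_sq x
    have h1 : Monoid.exponent (QuaternionGroup 2 ⧸ Subgroup.center (QuaternionGroup 2)) ∣ 2 :=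
      Monoid.exponent_dvd_of_forall_pow_eq_one hsq
    rcases (Nat.dvd_prime Nat.prime_two).1 h1 with h | h
    · exfalso
      rw [Monoid.exp_eq_one_iff] at h
      have h3 : ((a 1 : QuaternionGroup 2) :
        QuaternionGroup 2 ⧸ Subgroup.center (QuaternionGroup 2)) = 1 := Subsingleton.elim _ _
      rw [QuotientGroup.eq_one_iff, center_quaternion_mem] at h3
      revert h3
      decide
    · exact h

/-- an automorphism in the kernel of `Aut Q₈ → Aut (Q₈ / Z)` is inner. -/
theorem inner_of_autQuot_eq_one (φ : MulAut (QuaternionGroup 2))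
    (h : autQuot _ φ = 1) : ∃ s : QuaternionGroup 2, ∀ x, φ x = s * x * s⁻¹ := by
  apply quaternion_aut_inner
  intro x
  have h1 : autQuot _ φ (QuotientGroup.mk x) = QuotientGroup.mk x := by rw [h]; rfl
  rw [autQuot_mk, eq_comm, QuotientGroup.eq, center_quaternion_mem] at h1
  rcases h1 with h1 | h1
  · left
    exact (inv_mul_eq_one.1 h1).symm
  · right
    rw [← h1, mul_inv_cancel_left]

theorem relIndex_quaternion_dvd {G : Type*} [Group G] (Q : Subgroup G)
    (eQ : Q ≃* QuaternionGroup 2) :
    (Q ⊔ Subgroup.centralizer (Q : Set G)).relIndex (Subgroup.normalizer (Q : Set G)) ∣ 6 := by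
  let ψ : Subgroup.normalizer (Q : Set G) →*
      MulAut (QuaternionGroup 2 ⧸ Subgroup.center (QuaternionGroup 2)) :=
    (autQuot (QuaternionGroup 2)).comp ((MulAut.congr eQ).toMonoidHom.comp Q.normalizerMonoidHom)
  have key := Subgroup.card_dvd_of_injective _ (QuotientGroup.kerLift_injective ψ)
  have key2 := key.trans (card_mulAut_kleinFour_dvd isKleinFour_quot)
  refine dvd_trans ?_ key2
  show ((Q ⊔ Subgroup.centralizer (Q : Set G)).subgroupOf (Subgroup.normalizer (Q : Set G))).index ∣
    ψ.ker.index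
  apply Subgroup.index_dvd_of_le
  intro g hg
  rw [MonoidHom.mem_ker] at hg
  obtain ⟨s, hs⟩ := inner_of_autQuot_eq_one _ hg
  rw [Subgroup.mem_subgroupOf]
  set t : Q := eQ.symm s with ht
  have h1 : ∀ q : Q, (g : G) * q * (g : G)⁻¹ = t * q * (t : G)⁻¹ := by
    intro q
    have h2 := hs (eQ q)
    have h3 : (((MulAut.congr eQ).toMonoidHom.comp Q.normalizerMonoidHom) g) (eQ q) =
        eQ (Q.normalizerMonoidHom g q) := by
      show eQ (Q.normalizerMonoidHom g (eQ.symm (eQ q))) = _
      rw [MulEquiv.symm_apply_apply]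
    rw [h3] at h2
    have h4 := congrArg eQ.symm h2
    rw [MulEquiv.symm_apply_apply, map_mul, map_mul, MulEquiv.symm_apply_apply, map_inv, ← ht] at h4
    have h5 := congrArg (fun q : Q => (q : G)) h4
    exact h5
  have h2 : (t : G)⁻¹ * g ∈ Subgroup.centralizer (Q : Set G) := by
    rw [Subgroup.mem_centralizer_iff]
    intro q hq
    have h3 := h1 ⟨q, hq⟩
    have h4 : (t : G)⁻¹ * (g * q * (g : G)⁻¹) * g = (t : G)⁻¹ * (t * q * (t : G)⁻¹) * g := by
      rw [h3]
    have h5 : (t : G)⁻¹ * (g * q * (g : G)⁻¹) * g = (t : G)⁻¹ * g * q := by group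
    have h6 : (t : G)⁻¹ * (t * q * (t : G)⁻¹) * g = q * ((t : G)⁻¹ * g) := by group
    rw [← h6, ← h4, h5]
  have h3 : (g : G) = t * ((t : G)⁻¹ * g) := by group
  rw [h3]
  exact Subgroup.mul_mem _ ((le_sup_left : Q ≤ _) t.2) ((le_sup_right : _ ≤ Q ⊔ _) h2)

/-! ### Parity -/

/-- an element of `2`-power order in a subgroup `N` lies in every subgroup that is normal in `N`
and has odd index in `N`. -/
theorem mem_of_odd_relIndex {G : Type*} [Group G] (C N : Subgroup G)
    (hn : (C.subgroupOf N).Normal) (hodd : Odd (C.relIndex N)) (s : G) (hs : s ∈ N)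
    (k : ℕ) (hk : s ^ 2 ^ k = 1) : s ∈ C := by
  have h1 : (⟨s, hs⟩ : N) ^ (C.subgroupOf N).index ∈ C.subgroupOf N :=
    Subgroup.pow_index_mem (C.subgroupOf N) _
  rw [Subgroup.mem_subgroupOf] at h1
  have h2 : s ^ (C.relIndex N) ∈ C := h1
  have hcop : Nat.Coprime (C.relIndex N) (2 ^ k) :=
    Nat.Coprime.pow_right _ (Nat.coprime_two_right.2 hodd)
  have h3 : s ^ (1 : ℤ) ∈ C := by
    have hb := Nat.gcd_eq_gcd_ab (C.relIndex N) (2 ^ k)
    rw [hcop] at hb
    have hb' : (1 : ℤ) = (C.relIndex N : ℤ) * Nat.gcdA (C.relIndex N) (2 ^ k) +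
      ((2 ^ k : ℕ) : ℤ) * Nat.gcdB (C.relIndex N) (2 ^ k) := by exact_mod_cast hb
    rw [hb', zpow_add, zpow_mul, zpow_mul, zpow_natCast, zpow_natCast, hk, one_zpow, mul_one]
    exact C.zpow_mem h2 _
  rwa [zpow_one] at h3

theorem centralizer_subgroupOf_normal {G : Type*} [Group G] (T : Subgroup G) :
    ((Subgroup.centralizer (T : Set G)).subgroupOf (Subgroup.normalizer (T : Set G))).Normal := by
  rw [← Subgroup.normalizerMonoidHom_ker]
  infer_instance

theorem centralizer_le_normalizer' {G : Type*} [Group G] (T : Subgroup G) :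
    Subgroup.centralizer (T : Set G) ≤ Subgroup.normalizer (T : Set G) := by
  intro g hg
  rw [Subgroup.mem_normalizer_iff]
  intro h
  rw [Subgroup.mem_centralizer_iff] at hg
  constructor
  · intro hh
    rw [← hg h hh, mul_inv_cancel_right]
    exact hh
  · intro hh
    have h1 := hg _ hh
    have h2 : h = g * h * g⁻¹ := by
      have h3 : g * h * g⁻¹ * g = g * h := by group
      rw [h3] at h1
      have h4 : h = g * h * g⁻¹ := mul_left_cancel h1
      exact h4
    rw [h2]; exact hh

theorem sup_centralizer_subgroupOf_normal {G : Type*} [Group G] (Q : Subgroup G) :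
    ((Q ⊔ Subgroup.centralizer (Q : Set G)).subgroupOf
      (Subgroup.normalizer (Q : Set G))).Normal := by
  rw [Subgroup.subgroupOf_sup Subgroup.le_normalizer (centralizer_le_normalizer' Q)]
  have h1 := centralizer_subgroupOf_normal Q
  have h2 : (Q.subgroupOf (Subgroup.normalizer (Q : Set G))).Normal := inferInstance
  exact Subgroup.sup_normal _ _

theorem exists_of_mem_sup_centralizer {G : Type*} [Group G] (Q : Subgroup G) {s : G}
    (hs : s ∈ Q ⊔ Subgroup.centralizer (Q : Set G)) :
    ∃ q ∈ Q, ∃ c ∈ Subgroup.centralizer (Q : Set G), q * c = s := by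
  rw [← SetLike.mem_coe, Subgroup.coe_mul_of_right_le_normalizer_left _ _
    (centralizer_le_normalizer' Q)] at hs
  obtain ⟨q, hq, c, hc, h⟩ := hs
  exact ⟨q, hq, c, hc, h⟩

/-- an element of `N_S(X) \ X` -/
theorem exists_mem_normalizer_not_mem {G : Type*} [Group G] (S X : Subgroup G) (hXS : X ≤ S)
    (h : (X.subgroupOf S).relIndex
      (Subgroup.normalizer ((X.subgroupOf S : Subgroup S) : Set S)) = 2) :
    ∃ s ∈ S, s ∈ Subgroup.normalizer (X : Set G) ∧ s ∉ X := by
  have h1 : ¬ (Subgroup.normalizer ((X.subgroupOf S : Subgroup S) : Set S) ≤ X.subgroupOf S) := by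
    intro hle
    rw [← Subgroup.relIndex_eq_one] at hle
    omega
  rw [SetLike.not_le_iff_exists] at h1
  obtain ⟨s, hs, hsX⟩ := h1
  refine ⟨s, s.2, ?_, hsX⟩
  rw [Subgroup.mem_normalizer_iff] at hs ⊢
  intro t
  constructor
  · intro ht
    exact (hs ⟨t, hXS ht⟩).1 ht
  · intro ht
    have htS : t ∈ S := by
      have h2 : t = (s : G)⁻¹ * (s * t * (s : G)⁻¹) * s := by group
      rw [h2]
      exact S.mul_mem (S.mul_mem (S.inv_mem s.2) (hXS ht)) s.2
    exact (hs ⟨t, htS⟩).2 ht

theorem not_odd_relIndex {G : Type*} [Group G] (S : Sylow 2 G) (C N : Subgroup G)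
    (hn : (C.subgroupOf N).Normal) (s : G) (hsS : s ∈ (S : Subgroup G)) (hsN : s ∈ N)
    (hsC : s ∉ C) : ¬ Odd (C.relIndex N) := by
  intro hodd
  obtain ⟨k, hk⟩ := S.isPGroup' ⟨s, hsS⟩
  apply hsC
  refine mem_of_odd_relIndex C N hn hodd s hsN k ?_
  exact congrArg (fun x : (S : Subgroup G) => (x : G)) hk

theorem isKleinFour_of_mulEquiv {V W : Type*} [Group V] [Group W] (e : V ≃* W)
    (h : IsKleinFour V) : IsKleinFour W where
  card_four := by rw [← Nat.card_congr e.toEquiv]; exact h.card_four
  exponent_two := by rw [← Monoid.exponent_eq_of_mulEquiv e]; exact h.exponent_two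

theorem eq_two_or_six_of {m : ℕ} (h6 : m ∣ 6) (hm : ¬ Odd m) : m = 2 ∨ m = 6 := by
  have h1 : m ≤ 6 := Nat.le_of_dvd (by norm_num) h6
  interval_cases m
  · exfalso; revert h6; decide
  · exact absurd odd_one hm
  · left; rfl
  · exact absurd (by decide) hm
  · exfalso; revert h6; decide
  · exact absurd (by decide) hm
  · right; rfl

end Cfsg.Agent.TwoFusion.LocalIndex
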