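import Mathlib
import Cfsg.Prelude.Def_CaseTheorems
import Cfsg.Agent.TwoFusion.QDBasic
set_option linter.all false

-- part: TwoFusion/QDFusion
section
/-!
# Fusion of involutions and of elements of order 4 in a group with quasi-dihedral Sylow 2-subgroup

`QDFus S z v`: the facts on a quasi-dihedral subgroup `S` of `G` that the fusion arguments use,
`z` the central involution, `v` an element of order 4 of the cyclic maximal subgroup.
-/

set_option autoImplicit false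

namespace Cfsg.Agent.TwoFusion.QDFusion

open Subgroup

/-- The facts about a quasi-dihedral group `S` used in the fusion arguments. -/
structure QDFus {G : Type*} [Group G] (S : Subgroup G) (z v : G) : Prop where
  vS : v ∈ S
  z1 : z ≠ 1
  zz : z * z = 1
  vv : v * v = z
  zc : ∀ s ∈ S, s * z * s⁻¹ = z
  vc : ∀ s ∈ S, s * v * s⁻¹ = v ∨ s * v * s⁻¹ = v⁻¹
  ts : ∀ t ∈ S, t * t = 1 → t ≠ 1 → t ≠ z → ∃ s ∈ S, s * t * s⁻¹ = z * t
  wv : ∀ w ∈ S, orderOf w = 4 → w ≠ v → w ≠ v⁻¹ → w * v * w⁻¹ = v⁻¹ ∧ w * w = z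
  ws : ∀ w ∈ S, orderOf w = 4 → w ≠ v → w ≠ v⁻¹ → ∃ s ∈ S, s * v * s⁻¹ = v ∧ s * w * s⁻¹ = v * w
  two : ∀ r ∈ S, ∀ r' ∈ S, r * r = 1 → r ≠ 1 → r ≠ z → r' * r' = 1 → r' ≠ 1 → r' ≠ z →
    ∃ s ∈ S, s * r * s⁻¹ = r'
  four : ∀ r ∈ S, ∀ r' ∈ S, orderOf r = 4 → r ≠ v → r ≠ v⁻¹ → orderOf r' = 4 → r' ≠ v → r' ≠ v⁻¹ →
    ∃ s ∈ S, s * v * s⁻¹ = v ∧ s * r * s⁻¹ = r'
  klein : ∀ T : Subgroup G, T ≤ S → IsKleinFour T → z ∈ T
  quat : ∀ Q : Subgroup G, Q ≤ S → Nonempty (Q ≃* QuaternionGroup 2) → v ∈ Q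
  ext : ∃ t ∈ S, t * t = 1 ∧ t ≠ 1 ∧ t ≠ z
  exw : ∃ w ∈ S, orderOf w = 4 ∧ w ≠ v ∧ w ≠ v⁻¹

section general

variable {G : Type*} [Group G]

theorem relIndex_le_two {H K : Subgroup G}
    (h : ∀ a ∈ K, ∀ b ∈ K, a ∉ H → b ∉ H → a * b ∈ H) : H.relIndex K = 1 ∨ H.relIndex K = 2 := by
  by_cases hK : K ≤ H
  · left; exact relIndex_eq_one.2 hK
  · right
    rw [SetLike.not_le_iff_exists] at hK
    obtain ⟨a, haK, haH⟩ := hK
    rw [relIndex_eq_two_iff]
    refine ⟨a, haK, fun b hb => ?_⟩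
    by_cases hbH : b ∈ H
    · right
      exact ⟨hbH, fun hba => haH ((H.mul_mem_cancel_left hbH).1 hba)⟩
    · left
      exact ⟨h b hb a haK hbH haH, hbH⟩

theorem mul_mem_of_relIndex_two {H K : Subgroup G} (h : H.relIndex K = 2) {a b : G}
    (ha : a ∈ K) (hb : b ∈ K) (haH : a ∉ H) (hbH : b ∉ H) : a * b ∈ H := by
  have h1 := Subgroup.mul_mem_iff_of_index_two (H := H.subgroupOf K) h (a := ⟨a, ha⟩) (b := ⟨b, hb⟩)
  simp only [mem_subgroupOf] at h1
  exact h1.2 (by simp [haH, hbH])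

/-- Sylow's theorem in an intermediate group `L ≥ S`. -/
theorem exists_conj_mem_sylow [Finite G] {p : ℕ} [Fact p.Prime] (S : Sylow p G) (L : Subgroup G)
    (hL : (S : Subgroup G) ≤ L) (R : Subgroup G) (hR : IsPGroup p R) (hRL : R ≤ L) :
    ∃ h ∈ L, ∀ r ∈ R, h * r * h⁻¹ ∈ (S : Subgroup G) := by
  have hR' : IsPGroup p (R.subgroupOf L) := hR.comap_subtype
  obtain ⟨P, hP⟩ := hR'.exists_le_sylow
  obtain ⟨h, hh⟩ := MulAction.exists_smul_eq L P (S.subtype hL)
  refine ⟨h, h.2, fun r hr => ?_⟩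
  have h1 : (⟨r, hRL hr⟩ : L) ∈ P := hP (mem_subgroupOf.2 hr)
  have h2 : h * ⟨r, hRL hr⟩ * h⁻¹ ∈ (h • P : Sylow p L) := by
    exact Subgroup.smul_mem_pointwise_smul (⟨r, hRL hr⟩ : L) (MulAut.conj h) (P : Subgroup L) h1
  rw [hh] at h2
  exact h2

theorem mem_normalizer_of_conj_mem {T : Subgroup G} [Finite T] {m : G}
    (h : ∀ x ∈ T, m * x * m⁻¹ ∈ T) : m ∈ normalizer (T : Set G) := by
  rw [mem_normalizer_iff_conj_image_eq]
  refine Set.eq_of_subset_of_ncard_le ?_ ?_ (Set.toFinite _)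
  · rintro _ ⟨x, hx, rfl⟩
    exact h x hx
  · rw [Set.ncard_image_of_injective _ (MulAut.conj m).injective]

theorem conj_mul_conj (a b g : G) : a * b * g * (a * b)⁻¹ = a * (b * g * b⁻¹) * a⁻¹ := by group

/-- the elements conjugating `x` to `x` or `x⁻¹` -/
def pmc (x : G) : Subgroup G where
  carrier := {g | g * x * g⁻¹ = x ∨ g * x * g⁻¹ = x⁻¹}
  one_mem' := by left; group
  mul_mem' := by
    intro a b ha hb
    simp only [Set.mem_ofPred_eq] at ha hb ⊢
    rcases hb with hb | hb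
    · rw [show a * b * x * (a * b)⁻¹ = a * (b * x * b⁻¹) * a⁻¹ by group, hb]; exact ha
    · rw [show a * b * x * (a * b)⁻¹ = a * (b * x * b⁻¹) * a⁻¹ by group, hb, ← conj_inv]
      rcases ha with ha | ha
      · right; rw [ha]
      · left; rw [ha, inv_inv]
  inv_mem' := by
    intro a ha
    simp only [Set.mem_ofPred_eq] at ha ⊢
    rcases ha with ha | ha
    · left
      calc a⁻¹ * x * a⁻¹⁻¹ = a⁻¹ * (a * x * a⁻¹) * a := by rw [ha, inv_inv]
        _ = x := by group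
    · right
      have h2 : a * x⁻¹ * a⁻¹ = x := by rw [← conj_inv, ha, inv_inv]
      calc a⁻¹ * x * a⁻¹⁻¹ = a⁻¹ * (a * x⁻¹ * a⁻¹) * a := by rw [h2, inv_inv]
        _ = x⁻¹ := by group

theorem mem_pmc {x g : G} : g ∈ pmc x ↔ g * x * g⁻¹ = x ∨ g * x * g⁻¹ = x⁻¹ := Iff.rfl

theorem card_classes_one {P : G → Prop} (a : G) (ha : P a) (h : ∀ t, P t → IsConj a t) :
    Nat.card {C : ConjClasses G // ∃ t : G, P t ∧ ConjClasses.mk t = C} = 1 := by
  rw [Nat.card_eq_one_iff_exists]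
  refine ⟨⟨ConjClasses.mk a, a, ha, rfl⟩, ?_⟩
  rintro ⟨C, t, ht, rfl⟩
  apply Subtype.ext
  exact (ConjClasses.mk_eq_mk_iff_isConj.2 (h t ht)).symm

theorem card_classes_two {P : G → Prop} (a b : G) (ha : P a) (hb : P b) (hab : ¬ IsConj a b)
    (h : ∀ t, P t → IsConj a t ∨ IsConj b t) :
    Nat.card {C : ConjClasses G // ∃ t : G, P t ∧ ConjClasses.mk t = C} = 2 := by
  rw [Nat.card_eq_two_iff]
  refine ⟨⟨ConjClasses.mk a, a, ha, rfl⟩, ⟨ConjClasses.mk b, b, hb, rfl⟩, ?_, ?_⟩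
  · intro he
    exact hab (ConjClasses.mk_eq_mk_iff_isConj.1 (Subtype.ext_iff.1 he))
  · rw [Set.eq_univ_iff_forall]
    rintro ⟨C, t, ht, rfl⟩
    rcases h t ht with h1 | h1
    · left; exact Subtype.ext (ConjClasses.mk_eq_mk_iff_isConj.2 h1).symm
    · right; exact Subtype.ext (ConjClasses.mk_eq_mk_iff_isConj.2 h1).symm

/-- every element of `p`-power order is conjugate into a given Sylow `p`-subgroup -/
theorem exists_isConj_mem_sylow [Finite G] {p : ℕ} [Fact p.Prime] (S : Sylow p G) (t : G)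
    (k : ℕ) (ht : orderOf t = p ^ k) : ∃ s ∈ (S : Subgroup G), IsConj s t := by
  have h1 : IsPGroup p (zpowers t) := by
    rw [IsPGroup.iff_card]
    exact ⟨k, by rw [Nat.card_zpowers, ht]⟩
  obtain ⟨h, -, hh⟩ := exists_conj_mem_sylow S ⊤ le_top (zpowers t) h1 le_top
  refine ⟨_, hh t (mem_zpowers t), ?_⟩
  rw [isConj_comm, isConj_iff]
  exact ⟨h, rfl⟩

end general

namespace QDFus

variable {G : Type*} [Group G] {S : Subgroup G} {z v : G}

theorem zS (h : QDFus S z v) : z ∈ S := by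
  rw [← h.vv]; exact mul_mem h.vS h.vS

theorem z_inv (h : QDFus S z v) : z⁻¹ = z := inv_eq_of_mul_eq_one_left h.zz

theorem z_comm (h : QDFus S z v) {s : G} (hs : s ∈ S) : s * z = z * s :=
  mul_inv_eq_iff_eq_mul.1 (h.zc s hs)

theorem orderOf_z (h : QDFus S z v) : orderOf z = 2 :=
  orderOf_eq_prime (by rw [pow_two, h.zz]) h.z1

theorem orderOf_v (h : QDFus S z v) : orderOf v = 4 := by
  have h1 : orderOf v = 2 ^ (1 + 1) := by
    apply orderOf_eq_prime_pow
    · rw [pow_one, pow_two, h.vv]; exact h.z1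
    · rw [show 2 ^ (1 + 1) = 2 * 2 by norm_num, pow_mul, pow_two v, h.vv, pow_two, h.zz]
  rw [h1]; norm_num

theorem v_inv (h : QDFus S z v) : v⁻¹ = z * v := by
  rw [inv_eq_iff_mul_eq_one, ← h.z_comm h.vS, ← mul_assoc, h.vv, h.zz]

theorem v_inv' (h : QDFus S z v) : v⁻¹ = v * z := by
  rw [h.v_inv, h.z_comm h.vS]

theorem v_ne_v_inv (h : QDFus S z v) : v ≠ v⁻¹ := by
  intro he
  rw [h.v_inv] at he
  exact h.z1 (mul_eq_right.1 he.symm)

/-! #### Klein four-subgroups -/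

theorem klein_mem (h : QDFus S z v) {T : Subgroup G} (hTS : T ≤ S) (hT : IsKleinFour T) :
    ∃ t ∈ T, t * t = 1 ∧ t ≠ 1 ∧ t ≠ z ∧ ∀ g, g ∈ T ↔ g = 1 ∨ g = z ∨ g = t ∨ g = z * t := by
  have hz := h.klein T hTS hT
  have hc : Nat.card T = 4 := IsKleinFour.card_four
  have hfin : Finite T := Nat.finite_of_card_ne_zero (by rw [hc]; norm_num)
  have hex : ∃ t ∈ T, t ≠ 1 ∧ t ≠ z := by
    by_contra hcon
    push Not at hcon
    have : (T : Set G) ⊆ {1, z} := by
      intro g hg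
      by_cases h1 : g = 1
      · left; exact h1
      · right; exact hcon g hg h1
    have h3 := Set.ncard_le_ncard this (Set.toFinite _)
    have h4 : (T : Set G).ncard = 4 := hc
    have h5 : ({1, z} : Set G).ncard ≤ 2 := Set.ncard_insert_le _ _ |>.trans (by simp)
    omega
  obtain ⟨t, htT, ht1, htz⟩ := hex
  have htt : t * t = 1 := by
    have := IsKleinFour.mul_self (⟨t, htT⟩ : T)
    exact Subtype.ext_iff.1 this
  refine ⟨t, htT, htt, ht1, htz, fun g => ⟨fun hg => ?_, ?_⟩⟩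
  · have hsub : ({1, z, t, z * t} : Set G) ⊆ (T : Set G) := by
      intro x hx
      rcases hx with rfl | rfl | rfl | rfl
      · exact one_mem T
      · exact hz
      · exact htT
      · exact mul_mem hz htT
    have hcard : ({1, z, t, z * t} : Set G).ncard = 4 := by
      rw [Set.ncard_insert_of_notMem, Set.ncard_insert_of_notMem, Set.ncard_pair]
      · intro he
        exact h.z1 (mul_eq_right.1 he.symm)
      · simp only [Set.mem_insert_iff, Set.mem_singleton_iff, not_or]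
        exact ⟨fun he => htz he.symm, fun he => ht1 (mul_eq_left.1 he.symm)⟩
      · simp only [Set.mem_insert_iff, Set.mem_singleton_iff, not_or]
        refine ⟨fun he => h.z1 he.symm, fun he => ht1 he.symm, fun he => htz ?_⟩
        have : t = z⁻¹ := (inv_eq_of_mul_eq_one_right he.symm).symm
        rw [this, h.z_inv]
    have heq : ({1, z, t, z * t} : Set G) = (T : Set G) :=
      Set.eq_of_subset_of_ncard_le hsub (by rw [hcard]; exact hc.le) (Set.toFinite _)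
    have : g ∈ ({1, z, t, z * t} : Set G) := by rw [heq]; exact hg
    simpa using this
  · rintro (rfl | rfl | rfl | rfl)
    · exact one_mem T
    · exact hz
    · exact htT
    · exact mul_mem hz htT

/-- an element normalizing a four-group and fixing one of its involutions. -/
theorem klein_normalizer_of (h : QDFus S z v) {T : Subgroup G} {t : G}
    (hT : ∀ g, g ∈ T ↔ g = 1 ∨ g = z ∨ g = t ∨ g = z * t) [Finite T] {m : G}
    (h1 : m * z * m⁻¹ ∈ T) (h2 : m * t * m⁻¹ ∈ T) : m ∈ normalizer (T : Set G) := by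
  apply mem_normalizer_of_conj_mem
  intro x hx
  rcases (hT x).1 hx with rfl | rfl | rfl | rfl
  · simp
  · exact h1
  · exact h2
  · rw [← conj_mul]; exact mul_mem h1 h2

theorem mul_ne_of {x : G} (h : QDFus S z v) (hx : x ≠ z) : z * x ≠ 1 := by
  intro he
  exact hx (by rw [← inv_eq_of_mul_eq_one_right he, h.z_inv])

/-- If every element normalizing the four-group `T` fixes `z`, then `|N(T) : C(T)| ≤ 2`. -/
theorem exists_normalizer_moving_z (h : QDFus S z v) {T : Subgroup G} (hTS : T ≤ S)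
    (hT : IsKleinFour T) (h6 : (centralizer (T : Set G)).relIndex (normalizer (T : Set G)) = 6) :
    ∃ m ∈ normalizer (T : Set G), m * z * m⁻¹ ≠ z := by
  by_contra hcon
  push Not at hcon
  obtain ⟨t, htT, htt, ht1, htz, hmem⟩ := h.klein_mem hTS hT
  have key : ∀ a ∈ normalizer (T : Set G), a ∉ centralizer (T : Set G) → a * t * a⁻¹ = z * t := by
    intro a ha hac
    have h1 : a * t * a⁻¹ ∈ T := (mem_normalizer_iff.1 ha t).1 htT
    rcases (hmem _).1 h1 with h2 | h2 | h2 | h2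
    · exact absurd (conj_eq_one_iff.1 h2) ht1
    · exfalso
      apply htz
      have h3 := hcon a ha
      rw [← h3] at h2
      exact (MulAut.conj a).injective h2
    · exfalso
      apply hac
      rw [mem_centralizer_iff]
      intro g hg
      rcases (hmem g).1 hg with rfl | rfl | rfl | rfl
      · simp
      · exact (mul_inv_eq_iff_eq_mul.1 (hcon a ha)).symm
      · exact (mul_inv_eq_iff_eq_mul.1 h2).symm
      · have h3 := mul_inv_eq_iff_eq_mul.1 (hcon a ha)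
        have h4 := mul_inv_eq_iff_eq_mul.1 h2
        rw [mul_assoc, ← h4, ← mul_assoc, ← h3, mul_assoc]
    · exact h2
  have h12 : (centralizer (T : Set G)).relIndex (normalizer (T : Set G)) = 1 ∨
      (centralizer (T : Set G)).relIndex (normalizer (T : Set G)) = 2 := by
    apply relIndex_le_two
    intro a ha b hb hac hbc
    have hab : a * b * t * (a * b)⁻¹ = t := by
      rw [conj_mul_conj, key b hb hbc, ← conj_mul, hcon a ha, key a ha hac, ← mul_assoc, h.zz,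
        one_mul]
    have habz := hcon (a * b) (mul_mem ha hb)
    rw [mem_centralizer_iff]
    intro g hg
    rcases (hmem g).1 hg with rfl | rfl | rfl | rfl
    · simp
    · exact (mul_inv_eq_iff_eq_mul.1 habz).symm
    · exact (mul_inv_eq_iff_eq_mul.1 hab).symm
    · have h3 := mul_inv_eq_iff_eq_mul.1 habz
      have h4 := mul_inv_eq_iff_eq_mul.1 hab
      rw [mul_assoc, ← h4, ← mul_assoc, ← h3, mul_assoc]
  omega

theorem isConj_of_two (h : QDFus S z v) {r r' : G} (hr : r ∈ S) (hrr : r * r = 1) (hr1 : r ≠ 1)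
    (hrz : r ≠ z) (hr' : r' ∈ S) (hrr' : r' * r' = 1) (hr1' : r' ≠ 1)
    (hrz' : r' ≠ z) : IsConj r r' := by
  obtain ⟨s, -, hs⟩ := h.two r hr r' hr' hrr hr1 hrz hrr' hr1' hrz'
  exact isConj_iff.2 ⟨s, hs⟩

theorem isConj_of_four (h : QDFus S z v) {r r' : G} (hr : r ∈ S) (hrr : orderOf r = 4) (hr1 : r ≠ v)
    (hrz : r ≠ v⁻¹) (hr' : r' ∈ S) (hrr' : orderOf r' = 4) (hr1' : r' ≠ v)
    (hrz' : r' ≠ v⁻¹) : IsConj r r' := by
  obtain ⟨s, -, -, hs⟩ := h.four r hr r' hr' hrr hr1 hrz hrr' hr1' hrz'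
  exact isConj_iff.2 ⟨s, hs⟩

/-- `|N(T) : C(T)| = 6`: all involutions of `S` are conjugate in `G`. -/
theorem isConj_z_of_six (h : QDFus S z v) {T : Subgroup G} (hTS : T ≤ S)
    (hT : IsKleinFour T) (h6 : (centralizer (T : Set G)).relIndex (normalizer (T : Set G)) = 6)
    {t : G} (ht : t ∈ S) (htt : t * t = 1) (ht1 : t ≠ 1) : IsConj z t := by
  by_cases htz : t = z
  · rw [htz]
  obtain ⟨m, hm, hmz⟩ := h.exists_normalizer_moving_z hTS hT h6
  have h1 : m * z * m⁻¹ ∈ T := (mem_normalizer_iff.1 hm z).1 (h.klein T hTS hT)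
  have h2 : IsConj z (m * z * m⁻¹) := isConj_iff.2 ⟨m, rfl⟩
  refine h2.trans (h.isConj_of_two (hTS h1) ?_ ?_ hmz ht htt ht1 htz)
  · rw [conj_mul, h.zz]; group
  · rw [Ne, conj_eq_one_iff]; exact h.z1

/-- If the central involution `z` of the Sylow subgroup `S` is conjugate to an involution
`r ≠ z` of `S`, then for every four-group `T = {1, z, t, zt}` of `S` some element of the
normalizer of `T` interchanges `z` and `t`. -/
theorem klein_swap [Finite G] {S : Sylow 2 G} (h : QDFus (S : Subgroup G) z v) {T : Subgroup G}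
    {t : G} (hTS : T ≤ S) (hT : ∀ g, g ∈ T ↔ g = 1 ∨ g = z ∨ g = t ∨ g = z * t)
    (htt : t * t = 1) (ht1 : t ≠ 1) (htz : t ≠ z) {r : G} (hr : r ∈ S) (hr1 : r ≠ 1) (hrz : r ≠ z)
    (hc : IsConj z r) : ∃ m ∈ normalizer (T : Set G), m * z * m⁻¹ = t ∧ m * t * m⁻¹ = z := by
  have htT : t ∈ T := (hT t).2 (by simp)
  have hzT : z ∈ T := (hT z).2 (by simp)
  have hrr : r * r = 1 := by
    obtain ⟨c, hc⟩ := isConj_iff.1 hc
    rw [← hc, conj_mul, h.zz]; group
  have hrt : IsConj r t := h.isConj_of_two hr hrr hr1 hrz (hTS htT) htt ht1 htz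
  obtain ⟨g, hg⟩ := isConj_iff.1 (hc.trans hrt).symm
  have hL : (S : Subgroup G) ≤ centralizer {z} := by
    intro s hs
    rw [mem_centralizer_singleton_iff]
    exact h.z_comm hs
  have hTcomm : ∀ a ∈ T, a * t * a⁻¹ = t := by
    intro a ha
    rcases (hT a).1 ha with rfl | rfl | rfl | rfl
    · simp
    · rw [← h.z_comm (hTS htT)]; group
    · group
    · rw [mul_inv_rev, show z * t * t * (t⁻¹ * z⁻¹) = z * t * z⁻¹ by group,
        ← h.z_comm (hTS htT)]; group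
  -- move `g T g⁻¹` into `S` by an element of `C(z)`
  have hP : IsPGroup 2 (T.map (MulAut.conj g).toMonoidHom) :=
    (S.isPGroup'.to_le hTS : IsPGroup 2 T).map _
  have hPL : T.map (MulAut.conj g).toMonoidHom ≤ centralizer {z} := by
    rintro _ ⟨a, ha, rfl⟩
    rw [mem_centralizer_singleton_iff]
    change g * a * g⁻¹ * z = z * (g * a * g⁻¹)
    rw [← hg]
    have h3 := hTcomm a ha
    rw [mul_inv_eq_iff_eq_mul] at h3
    calc g * a * g⁻¹ * (g * t * g⁻¹) = g * (a * t) * g⁻¹ := by group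
      _ = g * (t * a) * g⁻¹ := by rw [h3]
      _ = _ := by group
  obtain ⟨k, hkL, hk⟩ := exists_conj_mem_sylow S (centralizer {z}) hL
    (T.map (MulAut.conj g).toMonoidHom) hP hPL
  have hkz : k * z * k⁻¹ = z := by
    rw [mem_centralizer_singleton_iff] at hkL
    rw [hkL]; group
  have h4 : k * (g * z * g⁻¹) * k⁻¹ ∈ (S : Subgroup G) := hk _ ⟨z, hzT, rfl⟩
  have h5 : k * (g * t * g⁻¹) * k⁻¹ = z := by rw [hg, hkz]
  have h6 : k * (g * z * g⁻¹) * k⁻¹ ≠ z := by
    intro he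
    exact htz ((MulAut.conj g).injective ((MulAut.conj k).injective (he.trans h5.symm))).symm
  obtain ⟨s, hsS, hs⟩ := h.two _ h4 t (hTS htT) (by
    rw [conj_mul, conj_mul, h.zz]; group) (by
    rw [Ne, conj_eq_one_iff, conj_eq_one_iff]; exact h.z1) h6 htt ht1 htz
  have h7 : s * k * g * z * (s * k * g)⁻¹ = t := by
    rw [← hs]; group
  have h8 : s * k * g * t * (s * k * g)⁻¹ = z := by
    calc s * k * g * t * (s * k * g)⁻¹ = s * (k * (g * t * g⁻¹) * k⁻¹) * s⁻¹ := by group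
      _ = z := by rw [h5, h.zc s hsS]
  have hfin : Finite T := inferInstance
  exact ⟨s * k * g, h.klein_normalizer_of hT (by rw [h7]; exact htT) (by rw [h8]; exact hzT), h7, h8⟩

/-- `|N(T) : C(T)| = 2`: the central involution of `S` is conjugate to no other element of `S`. -/
theorem not_isConj_z_of_two [Finite G] {S : Sylow 2 G} (h : QDFus (S : Subgroup G) z v)
    {T : Subgroup G} (hTS : T ≤ S) (hT : IsKleinFour T)
    (h2 : (centralizer (T : Set G)).relIndex (normalizer (T : Set G)) = 2)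
    {r : G} (hr : r ∈ S) (hrz : r ≠ z) : ¬ IsConj z r := by
  intro hc
  have hr1 : r ≠ 1 := by
    rintro rfl
    rw [isConj_comm, isConj_one_right] at hc
    exact h.z1 hc
  obtain ⟨t, htT, htt, ht1, htz, hmem⟩ := h.klein_mem hTS hT
  obtain ⟨m, hm, hmz, hmt⟩ := h.klein_swap hTS hmem htt ht1 htz hr hr1 hrz hc
  obtain ⟨u, huS, hut⟩ := h.ts t (hTS htT) htt ht1 htz
  have huz := h.zc u huS
  have hzT : z ∈ T := (hmem z).2 (by simp)
  have hfin : Finite T := inferInstance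
  have hu : u ∈ normalizer (T : Set G) := h.klein_normalizer_of hmem (by rw [huz]; exact hzT)
    (by rw [hut]; exact mul_mem hzT htT)
  have hmC : m ∉ centralizer (T : Set G) := by
    intro hmC
    rw [mem_centralizer_iff] at hmC
    apply htz
    rw [← hmz, ← hmC z hzT]; group
  have huC : u ∉ centralizer (T : Set G) := by
    intro huC
    rw [mem_centralizer_iff] at huC
    apply h.z1
    have h3 : u * t * u⁻¹ = t := by rw [← huC t htT]; group
    rw [hut] at h3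
    exact mul_eq_right.1 h3
  have h4 := mul_mem_of_relIndex_two h2 hm hu hmC huC
  rw [mem_centralizer_iff] at h4
  apply htz
  have h5 : m * u * z * (m * u)⁻¹ = t := by
    rw [conj_mul_conj, huz, hmz]
  rw [← h5, ← h4 z hzT]; group

/-! #### Quaternion subgroups of order 8 -/

theorem orderOf_conj (g x : G) : orderOf (g * x * g⁻¹) = orderOf x :=
  (MulAut.conj g).orderOf_eq x

theorem wv_mul (h : QDFus S z v) {w : G} (hw : w ∈ S) (h4 : orderOf w = 4) (h1 : w ≠ v)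
    (h2 : w ≠ v⁻¹) : w * v = v⁻¹ * w :=
  mul_inv_eq_iff_eq_mul.1 (h.wv w hw h4 h1 h2).1

theorem quat_mem (h : QDFus S z v) {Q : Subgroup G} (hQS : Q ≤ S)
    (hQ : Nonempty (Q ≃* QuaternionGroup 2)) :
    ∃ w ∈ Q, orderOf w = 4 ∧ w ≠ v ∧ w ≠ v⁻¹ ∧
      ∀ g, g ∈ Q ↔ (g = 1 ∨ g = z ∨ g = v ∨ g = v⁻¹) ∨
        (g = w ∨ g = z * w ∨ g = v * w ∨ g = v⁻¹ * w) := by
  have hv := h.quat Q hQS hQ
  obtain ⟨e⟩ := hQ
  have hc : Nat.card Q = 8 := by
    rw [Nat.card_congr e.toEquiv, Nat.card_eq_fintype_card]; decide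
  have hfin : Finite Q := Nat.finite_of_card_ne_zero (by rw [hc]; norm_num)
  have hz : z ∈ Q := by rw [← h.vv]; exact mul_mem hv hv
  have hex : ∃ w ∈ Q, ¬ (w = 1 ∨ w = z ∨ w = v ∨ w = v⁻¹) := by
    by_contra hcon
    push Not at hcon
    have : (Q : Set G) ⊆ {1, z, v, v⁻¹} := by
      intro g hg
      have := hcon g hg
      simpa using this
    have h3 := Set.ncard_le_ncard this (Set.toFinite _)
    have h4 : (Q : Set G).ncard = 8 := hc
    have h5 : ({1, z, v, v⁻¹} : Set G).ncard ≤ 4 := by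
      have h6 := Set.ncard_insert_le (1 : G) {z, v, v⁻¹}
      have h7 := Set.ncard_insert_le z {v, v⁻¹}
      have h8 := Set.ncard_insert_le v {v⁻¹}
      have h9 := Set.ncard_singleton v⁻¹
      omega
    omega
  obtain ⟨w, hw, hne⟩ := hex
  push Not at hne
  obtain ⟨hw1, hwz, hwv, hwv'⟩ := hne
  -- in the quaternion group of order 8 there is just one involution
  have huniq : ∀ a b : QuaternionGroup 2, a * a = 1 → a ≠ 1 → b * b = 1 → b ≠ 1 → a = b := by
    decide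
  have hpow : ∀ a : QuaternionGroup 2, a ^ 4 = 1 := by decide
  have hww : w * w ≠ 1 := by
    intro hww
    apply hwz
    have h3 := huniq (e ⟨w, hw⟩) (e ⟨z, hz⟩) (by
      rw [← map_mul, ← map_one e]; congr 1; exact Subtype.ext hww) (by
      rw [Ne, map_eq_one_iff e e.injective]; intro h4; exact hw1 (Subtype.ext_iff.1 h4)) (by
      rw [← map_mul, ← map_one e]; congr 1; exact Subtype.ext h.zz) (by
      rw [Ne, map_eq_one_iff e e.injective]; intro h4; exact h.z1 (Subtype.ext_iff.1 h4))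
    exact Subtype.ext_iff.1 (e.injective h3)
  have h4 : orderOf w = 4 := by
    have h5 : orderOf w = 2 ^ (1 + 1) := by
      apply orderOf_eq_prime_pow
      · rw [pow_one, pow_two]; exact hww
      · have h6 := hpow (e ⟨w, hw⟩)
        rw [← map_pow, map_eq_one_iff e e.injective] at h6
        exact Subtype.ext_iff.1 h6
    rw [h5]; norm_num
  refine ⟨w, hw, h4, hwv, hwv', fun g => ⟨fun hg => ?_, ?_⟩⟩
  · have hA : ({1, z, v, v⁻¹} : Set G) ⊆ (Q : Set G) := by
      intro x hx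
      rcases hx with rfl | rfl | rfl | rfl
      · exact one_mem Q
      · exact hz
      · exact hv
      · exact inv_mem hv
    have hzv : z ≠ v := by
      intro he; apply h.z1; rw [← h.vv, ← he, h.zz]
    have hzv' : z ≠ v⁻¹ := by
      intro he
      apply hzv
      rw [← h.z_inv, he, inv_inv]
    have hv1 : v ≠ 1 := by
      intro he; apply h.z1; rw [← h.vv, he, one_mul]
    have hAc : ({1, z, v, v⁻¹} : Set G).ncard = 4 := by
      rw [Set.ncard_insert_of_notMem, Set.ncard_insert_of_notMem, Set.ncard_pair h.v_ne_v_inv]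
      · simp only [Set.mem_insert_iff, Set.mem_singleton_iff, not_or]
        exact ⟨hzv, hzv'⟩
      · simp only [Set.mem_insert_iff, Set.mem_singleton_iff, not_or]
        exact ⟨fun he => h.z1 he.symm, fun he => hv1 he.symm, fun he => hv1 (inv_eq_one.1 he.symm)⟩
    have hBsub : (fun a => a * w) '' ({1, z, v, v⁻¹} : Set G) ⊆ (Q : Set G) := by
      rintro _ ⟨x, hx, rfl⟩
      exact mul_mem (hA hx) hw
    have hBc : ((fun a => a * w) '' ({1, z, v, v⁻¹} : Set G)).ncard = 4 := by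
      rw [Set.ncard_image_of_injective _ (mul_left_injective w), hAc]
    have hAmul : ∀ a ∈ ({1, z, v, v⁻¹} : Set G), ∀ b ∈ ({1, z, v, v⁻¹} : Set G),
        a⁻¹ * b ∈ ({1, z, v, v⁻¹} : Set G) := by
      have hvz : v⁻¹ * z = v := by rw [h.v_inv', mul_assoc, h.zz, mul_one]
      have hvv' : v⁻¹ * v⁻¹ = z := by rw [← mul_inv_rev, h.vv, h.z_inv]
      have hzv2 : z * v⁻¹ = v := by rw [h.v_inv, ← mul_assoc, h.zz, one_mul]
      rintro a (rfl | rfl | rfl | rfl) b (rfl | rfl | rfl | rfl) <;>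
        simp [h.z_inv, h.zz, h.vv, hvz, hvv', ← h.v_inv, ← h.v_inv', hzv2]
    have hdisj : Disjoint ({1, z, v, v⁻¹} : Set G)
        ((fun a => a * w) '' ({1, z, v, v⁻¹} : Set G)) := by
      rw [Set.disjoint_left]
      rintro x hx ⟨a, ha, rfl⟩
      have h5 := hAmul a ha _ hx
      simp only [inv_mul_cancel_left] at h5
      rcases h5 with h5 | h5 | h5 | h5
      · exact hw1 h5
      · exact hwz h5
      · exact hwv h5
      · exact hwv' h5
    have heq : ({1, z, v, v⁻¹} : Set G) ∪ (fun a => a * w) '' ({1, z, v, v⁻¹} : Set G) =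
        (Q : Set G) := by
      apply Set.eq_of_subset_of_ncard_le (Set.union_subset hA hBsub) _ (Set.toFinite _)
      rw [Set.ncard_union_eq hdisj, hAc, hBc]
      exact hc.le
    have hg' : g ∈ ({1, z, v, v⁻¹} : Set G) ∪ (fun a => a * w) '' ({1, z, v, v⁻¹} : Set G) := by
      rw [heq]; exact hg
    rcases hg' with hg' | ⟨a, ha, rfl⟩
    · left; simpa using hg'
    · right
      rcases ha with rfl | rfl | rfl | rfl
      · left; simp
      · right; left; rfl
      · right; right; left; rfl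
      · right; right; right; rfl
  · rintro ((rfl | rfl | rfl | rfl) | (rfl | rfl | rfl | rfl))
    · exact one_mem Q
    · exact hz
    · exact hv
    · exact inv_mem hv
    · exact hw
    · exact mul_mem hz hw
    · exact mul_mem hv hw
    · exact mul_mem (inv_mem hv) hw

theorem w_z (h : QDFus S z v) {w : G} (hw : w ∈ S) : w * z = z * w := h.z_comm hw

theorem w_inv (h : QDFus S z v) {w : G} (hw : w ∈ S) (h4 : orderOf w = 4) (h1 : w ≠ v)
    (h2 : w ≠ v⁻¹) : w⁻¹ = z * w := by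
  rw [inv_eq_iff_mul_eq_one, ← h.z_comm hw, ← mul_assoc, (h.wv w hw h4 h1 h2).2, h.zz]

theorem v_conj_w (h : QDFus S z v) {w : G} (hw : w ∈ S) (h4 : orderOf w = 4) (h1 : w ≠ v)
    (h2 : w ≠ v⁻¹) : v * w * v⁻¹ = w⁻¹ := by
  have h3 := h.wv_mul hw h4 h1 h2
  rw [h.w_inv hw h4 h1 h2]
  have h5 : v * w = w * v⁻¹ := by
    rw [eq_mul_inv_iff_mul_eq, mul_assoc, h3]; group
  rw [h5, mul_assoc, ← mul_inv_rev, h.vv, h.z_inv, h.z_comm hw]

theorem quat_normalizer_of (h : QDFus S z v) {Q : Subgroup G} [Finite Q] {w : G}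
    (hQ : ∀ g, g ∈ Q ↔ (g = 1 ∨ g = z ∨ g = v ∨ g = v⁻¹) ∨
        (g = w ∨ g = z * w ∨ g = v * w ∨ g = v⁻¹ * w)) {m : G}
    (h1 : m * v * m⁻¹ ∈ Q) (h2 : m * w * m⁻¹ ∈ Q) : m ∈ normalizer (Q : Set G) := by
  apply mem_normalizer_of_conj_mem
  have hz : m * z * m⁻¹ ∈ Q := by
    rw [← h.vv, ← conj_mul]; exact mul_mem h1 h1
  intro x hx
  rcases (hQ x).1 hx with (rfl | rfl | rfl | rfl) | (rfl | rfl | rfl | rfl)
  · simp
  · exact hz
  · exact h1
  · rw [← conj_inv]; exact inv_mem h1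
  · exact h2
  · rw [← conj_mul]; exact mul_mem hz h2
  · rw [← conj_mul]; exact mul_mem h1 h2
  · rw [← conj_mul, ← conj_inv]; exact mul_mem (inv_mem h1) h2

/-- if `m` centralizes `v` and `w` it centralizes `Q`. -/
theorem quat_centralizer_of (h : QDFus S z v) {Q : Subgroup G} {w : G}
    (hQ : ∀ g, g ∈ Q ↔ (g = 1 ∨ g = z ∨ g = v ∨ g = v⁻¹) ∨
        (g = w ∨ g = z * w ∨ g = v * w ∨ g = v⁻¹ * w)) {m : G}
    (h1 : m * v * m⁻¹ = v) (h2 : m * w * m⁻¹ = w) : m ∈ centralizer (Q : Set G) := by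
  rw [mem_centralizer_iff]
  have hz : m * z * m⁻¹ = z := by
    rw [← h.vv, ← conj_mul, h1]
  have hall : ∀ x ∈ Q, m * x * m⁻¹ = x := by
    intro x hx
    rcases (hQ x).1 hx with (rfl | rfl | rfl | rfl) | (rfl | rfl | rfl | rfl)
    · simp
    · exact hz
    · exact h1
    · rw [← conj_inv, h1]
    · exact h2
    · rw [← conj_mul, hz, h2]
    · rw [← conj_mul, h1, h2]
    · rw [← conj_mul, ← conj_inv, h1, h2]
  intro g hg
  exact (mul_inv_eq_iff_eq_mul.1 (hall g hg)).symm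

/-- `Q C(Q)` preserves `{v, v⁻¹}` and `{w, w⁻¹}`. -/
theorem sup_le_pmc (h : QDFus S z v) {Q : Subgroup G} {w : G} (hw : w ∈ S) (h4 : orderOf w = 4)
    (hwv : w ≠ v) (hwv' : w ≠ v⁻¹)
    (hQ : ∀ g, g ∈ Q ↔ (g = 1 ∨ g = z ∨ g = v ∨ g = v⁻¹) ∨
        (g = w ∨ g = z * w ∨ g = v * w ∨ g = v⁻¹ * w)) :
    Q ⊔ centralizer (Q : Set G) ≤ pmc v ⊓ pmc w := by
  have hvQ : v ∈ Q := (hQ v).2 (by simp)
  have hwQ : w ∈ Q := (hQ w).2 (by simp)
  have hC : centralizer (Q : Set G) ≤ pmc v ⊓ pmc w := by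
    intro c hc
    rw [mem_centralizer_iff] at hc
    refine ⟨Or.inl ?_, Or.inl ?_⟩
    · rw [← hc v hvQ]; group
    · rw [← hc w hwQ]; group
  have hv1 : v ∈ pmc v ⊓ pmc w := ⟨Or.inl (by group), Or.inr (h.v_conj_w hw h4 hwv hwv')⟩
  have hw1 : w ∈ pmc v ⊓ pmc w := ⟨Or.inr (h.wv w hw h4 hwv hwv').1, Or.inl (by group)⟩
  have hz1 : z ∈ pmc v ⊓ pmc w := by rw [← h.vv]; exact mul_mem hv1 hv1
  refine sup_le ?_ hC
  intro x hx
  rcases (hQ x).1 hx with (rfl | rfl | rfl | rfl) | (rfl | rfl | rfl | rfl)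
  · exact one_mem _
  · exact hz1
  · exact hv1
  · exact inv_mem hv1
  · exact hw1
  · exact mul_mem hz1 hw1
  · exact mul_mem hv1 hw1
  · exact mul_mem (inv_mem hv1) hw1

theorem exists_normalizer_moving_v (h : QDFus S z v) {Q : Subgroup G} (hQS : Q ≤ S)
    (hQ : Nonempty (Q ≃* QuaternionGroup 2))
    (h6 : (Q ⊔ centralizer (Q : Set G)).relIndex (normalizer (Q : Set G)) = 6) :
    ∃ m ∈ normalizer (Q : Set G), m * v * m⁻¹ ≠ v ∧ m * v * m⁻¹ ≠ v⁻¹ := by
  by_contra hcon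
  push Not at hcon
  have hcon' : ∀ m ∈ normalizer (Q : Set G), m * v * m⁻¹ = v ∨ m * v * m⁻¹ = v⁻¹ := by
    intro m hm
    by_cases h1 : m * v * m⁻¹ = v
    · exact Or.inl h1
    · exact Or.inr (hcon m hm h1)
  obtain ⟨w, hwQ, h4, hwv, hwv', hmem⟩ := h.quat_mem hQS hQ
  have hwS := hQS hwQ
  have hvQ : v ∈ Q := (hmem v).2 (by simp)
  have hzw := h.w_inv hwS h4 hwv hwv'
  have hvw := h.v_conj_w hwS h4 hwv hwv'
  have hwvw := (h.wv w hwS h4 hwv hwv').1
  have hle : Q ≤ Q ⊔ centralizer (Q : Set G) := le_sup_left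
  have hle' : centralizer (Q : Set G) ≤ Q ⊔ centralizer (Q : Set G) := le_sup_right
  -- an element of `N(Q)` with `a w a⁻¹ = w^{±1}` lies in `Q C(Q)`
  have claim : ∀ a ∈ normalizer (Q : Set G), (a * w * a⁻¹ = w ∨ a * w * a⁻¹ = w⁻¹) →
      a ∈ Q ⊔ centralizer (Q : Set G) := by
    intro a ha haw
    have hav := hcon' a ha
    have key : ∀ q ∈ Q, q * v * q⁻¹ = a * v * a⁻¹ → q * w * q⁻¹ = a * w * a⁻¹ →
        a ∈ Q ⊔ centralizer (Q : Set G) := by
      intro q hq h1 h2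
      have h3 : q⁻¹ * a ∈ centralizer (Q : Set G) := by
        apply h.quat_centralizer_of hmem
        · rw [conj_mul_conj, ← h1]; group
        · rw [conj_mul_conj, ← h2]; group
      have h5 : a = q * (q⁻¹ * a) := by group
      rw [h5]
      exact mul_mem (hle hq) (hle' h3)
    rcases hav with hav | hav <;> rcases haw with haw | haw
    · exact key 1 (one_mem _) (by rw [hav]; group) (by rw [haw]; group)
    · exact key v hvQ (by rw [hav]; group) (by rw [haw, hvw])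
    · exact key w hwQ (by rw [hav, hwvw]) (by rw [haw]; group)
    · refine key (v * w) (mul_mem hvQ hwQ) ?_ ?_
      · rw [conj_mul_conj, hwvw, hav]; group
      · rw [conj_mul_conj, haw, show w * w * w⁻¹ = w by group, hvw]
  have key : ∀ a ∈ normalizer (Q : Set G), a ∉ Q ⊔ centralizer (Q : Set G) →
      a * w * a⁻¹ = v * w ∨ a * w * a⁻¹ = v⁻¹ * w := by
    intro a ha hac
    have h1 : a * w * a⁻¹ ∈ Q := (mem_normalizer_iff.1 ha w).1 hwQ
    have haz : a * z * a⁻¹ = z := by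
      have h2 : a * z * a⁻¹ = (a * v * a⁻¹) * (a * v * a⁻¹) := by rw [conj_mul, h.vv]
      rcases hcon' a ha with h3 | h3
      · rw [h2, h3, h.vv]
      · rw [h2, h3, ← mul_inv_rev, h.vv, h.z_inv]
    have hinj := (MulAut.conj a).injective
    have hord : orderOf (a * w * a⁻¹) = 4 := by rw [orderOf_conj, h4]
    rcases (hmem _).1 h1 with (h2 | h2 | h2 | h2) | (h2 | h2 | h2 | h2)
    · rw [h2, orderOf_one] at hord; omega
    · rw [h2, h.orderOf_z] at hord; omega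
    · exfalso
      rcases hcon' a ha with h3 | h3
      · exact hwv (hinj (h2.trans h3.symm))
      · apply hwv'
        apply hinj
        change a * w * a⁻¹ = a * v⁻¹ * a⁻¹
        rw [← conj_inv, h3, inv_inv, h2]
    · exfalso
      rcases hcon' a ha with h3 | h3
      · apply hwv'
        apply hinj
        change a * w * a⁻¹ = a * v⁻¹ * a⁻¹
        rw [← conj_inv, h3, h2]
      · exact hwv (hinj (h2.trans h3.symm))
    · exact absurd (claim a ha (Or.inl h2)) hac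
    · rw [← hzw] at h2
      exact absurd (claim a ha (Or.inr h2)) hac
    · exact Or.inl h2
    · exact Or.inr h2
  have h12 : (Q ⊔ centralizer (Q : Set G)).relIndex (normalizer (Q : Set G)) = 1 ∨
      (Q ⊔ centralizer (Q : Set G)).relIndex (normalizer (Q : Set G)) = 2 := by
    apply relIndex_le_two
    intro a ha b hb hac hbc
    apply claim _ (mul_mem ha hb)
    rw [conj_mul_conj]
    have hav := hcon' a ha
    have haw := key a ha hac
    have hav' : a * v⁻¹ * a⁻¹ = v ∨ a * v⁻¹ * a⁻¹ = v⁻¹ := by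
      rw [← conj_inv]
      rcases hav with h1 | h1
      · right; rw [h1]
      · left; rw [h1, inv_inv]
    have hfin : ∀ x, (x = v ∨ x = v⁻¹) → ∀ y, (y = v * w ∨ y = v⁻¹ * w) → x * y = w ∨ x * y = w⁻¹ := by
      rintro x (rfl | rfl) y (rfl | rfl)
      · right; rw [hzw, ← h.vv]; group
      · left; group
      · left; group
      · right; rw [hzw, ← mul_assoc, ← mul_inv_rev, h.vv, h.z_inv]
    rcases key b hb hbc with h1 | h1
    · rw [h1, ← conj_mul]
      exact hfin _ hav _ haw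
    · rw [h1, ← conj_mul]
      exact hfin _ hav' _ haw
  omega

/-- `|N(Q) : Q C(Q)| = 6`: all elements of order 4 of `S` are conjugate in `G`. -/
theorem isConj_v_of_six (h : QDFus S z v) {Q : Subgroup G} (hQS : Q ≤ S)
    (hQ : Nonempty (Q ≃* QuaternionGroup 2))
    (h6 : (Q ⊔ centralizer (Q : Set G)).relIndex (normalizer (Q : Set G)) = 6)
    {t : G} (ht : t ∈ S) (ht4 : orderOf t = 4) (htv : t ≠ v⁻¹) : IsConj v t := by
  by_cases htz : t = v
  · rw [htz]
  obtain ⟨m, hm, hmz, hmz'⟩ := h.exists_normalizer_moving_v hQS hQ h6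
  have h1 : m * v * m⁻¹ ∈ Q := (mem_normalizer_iff.1 hm v).1 (h.quat Q hQS hQ)
  have h2 : IsConj v (m * v * m⁻¹) := isConj_iff.2 ⟨m, rfl⟩
  refine h2.trans (h.isConj_of_four (hQS h1) ?_ hmz hmz' ht ht4 htz htv)
  rw [orderOf_conj, h.orderOf_v]

theorem isConj_v_v_inv (h : QDFus S z v) : IsConj v v⁻¹ := by
  obtain ⟨w, hw, h4, h1, h2⟩ := h.exw
  exact isConj_iff.2 ⟨w, (h.wv w hw h4 h1 h2).1⟩

/-- If `v` is conjugate to an element `r ≠ v, v⁻¹` of order 4 of `S`, then for every quaternion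
subgroup `Q = ⟨v, w⟩` of `S` some element `m` of the normalizer of `Q` satisfies `m v m⁻¹ = w`
and `m w m⁻¹ = v` or `v⁻¹`. -/
theorem quat_swap [Finite G] {S : Sylow 2 G} (h : QDFus (S : Subgroup G) z v) {Q : Subgroup G}
    {w : G} (hQS : Q ≤ S) (h4 : orderOf w = 4) (hwv : w ≠ v) (hwv' : w ≠ v⁻¹)
    (hQ : ∀ g, g ∈ Q ↔ (g = 1 ∨ g = z ∨ g = v ∨ g = v⁻¹) ∨
        (g = w ∨ g = z * w ∨ g = v * w ∨ g = v⁻¹ * w))
    {r : G} (hr : r ∈ S) (hr1 : r ≠ v) (hrz : r ≠ v⁻¹)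
    (hc : IsConj v r) : ∃ m ∈ normalizer (Q : Set G), m * v * m⁻¹ = w ∧
      (m * w * m⁻¹ = v ∨ m * w * m⁻¹ = v⁻¹) := by
  have hvQ : v ∈ Q := (hQ v).2 (by simp)
  have hwQ : w ∈ Q := (hQ w).2 (by simp)
  have hr4 : orderOf r = 4 := by
    obtain ⟨c, hc⟩ := isConj_iff.1 hc
    rw [← hc, orderOf_conj, h.orderOf_v]
  have hrt : IsConj r w := h.isConj_of_four hr hr4 hr1 hrz (hQS hwQ) h4 hwv hwv'
  obtain ⟨g, hg⟩ := isConj_iff.1 (hc.trans hrt).symm
  have hL : (S : Subgroup G) ≤ pmc v := fun s hs => h.vc s hs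
  have hQw : Q ≤ pmc w :=
    le_sup_left.trans ((h.sup_le_pmc (hQS hwQ) h4 hwv hwv' hQ).trans inf_le_right)
  have hP : IsPGroup 2 (Q.map (MulAut.conj g).toMonoidHom) :=
    (S.isPGroup'.to_le hQS : IsPGroup 2 Q).map _
  have hPL : Q.map (MulAut.conj g).toMonoidHom ≤ pmc v := by
    rintro _ ⟨a, ha, rfl⟩
    rw [mem_pmc]
    change g * a * g⁻¹ * v * (g * a * g⁻¹)⁻¹ = v ∨ g * a * g⁻¹ * v * (g * a * g⁻¹)⁻¹ = v⁻¹
    have h3 : g * a * g⁻¹ * v * (g * a * g⁻¹)⁻¹ = g * (a * w * a⁻¹) * g⁻¹ := by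
      rw [← hg]; group
    rw [h3]
    rcases hQw ha with h5 | h5
    · left; rw [h5, hg]
    · right; rw [h5, ← conj_inv, hg]
  obtain ⟨k, hkL, hk⟩ := exists_conj_mem_sylow S (pmc v) hL
    (Q.map (MulAut.conj g).toMonoidHom) hP hPL
  have h4' : k * (g * v * g⁻¹) * k⁻¹ ∈ (S : Subgroup G) := hk _ ⟨v, hvQ, rfl⟩
  have h5 : k * (g * w * g⁻¹) * k⁻¹ = v ∨ k * (g * w * g⁻¹) * k⁻¹ = v⁻¹ := by
    rw [hg]; exact hkL
  have hinj : ∀ a b : G, k * (g * a * g⁻¹) * k⁻¹ = k * (g * b * g⁻¹) * k⁻¹ → a = b := fun a b hab =>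
    (MulAut.conj g).injective ((MulAut.conj k).injective hab)
  have h6 : k * (g * v * g⁻¹) * k⁻¹ ≠ v ∧ k * (g * v * g⁻¹) * k⁻¹ ≠ v⁻¹ := by
    have h7 : k * (g * w⁻¹ * g⁻¹) * k⁻¹ = (k * (g * w * g⁻¹) * k⁻¹)⁻¹ := by group
    have hwv2 : w⁻¹ ≠ v := fun he => hwv' (by rw [← he, inv_inv])
    rcases h5 with h5 | h5
    · refine ⟨fun he => hwv (hinj _ _ (h5.trans he.symm)), fun he => hwv2 (hinj _ _ ?_)⟩
      rw [h7, h5, he]
    · refine ⟨fun he => hwv2 (hinj _ _ ?_), fun he => hwv (hinj _ _ (h5.trans he.symm))⟩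
      rw [h7, h5, he, inv_inv]
  obtain ⟨s, hsS, hsv, hs⟩ := h.four _ h4' w (hQS hwQ) (by
    rw [orderOf_conj, orderOf_conj, h.orderOf_v]) h6.1 h6.2 h4 hwv hwv'
  have h7 : s * k * g * v * (s * k * g)⁻¹ = w := by
    rw [← hs]; group
  have h8 : s * k * g * w * (s * k * g)⁻¹ = v ∨ s * k * g * w * (s * k * g)⁻¹ = v⁻¹ := by
    have h9 : s * k * g * w * (s * k * g)⁻¹ = s * (k * (g * w * g⁻¹) * k⁻¹) * s⁻¹ := by group
    rw [h9]
    rcases h5 with h5 | h5
    · left; rw [h5, hsv]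
    · right; rw [h5, ← conj_inv, hsv]
  have hfin : Finite Q := inferInstance
  refine ⟨s * k * g, h.quat_normalizer_of hQ (by rw [h7]; exact hwQ) ?_, h7, h8⟩
  rcases h8 with h8 | h8
  · rw [h8]; exact hvQ
  · rw [h8]; exact inv_mem hvQ

/-- `|N(Q) : Q C(Q)| = 2`: `v` is conjugate to no element of `S` but `v`, `v⁻¹`. -/
theorem not_isConj_v_of_two [Finite G] {S : Sylow 2 G} (h : QDFus (S : Subgroup G) z v)
    {Q : Subgroup G} (hQS : Q ≤ S) (hQ : Nonempty (Q ≃* QuaternionGroup 2))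
    (h2 : (Q ⊔ centralizer (Q : Set G)).relIndex (normalizer (Q : Set G)) = 2)
    {r : G} (hr : r ∈ S) (hrv : r ≠ v) (hrv' : r ≠ v⁻¹) : ¬ IsConj v r := by
  intro hc
  obtain ⟨w, hwQ, h4, hwv, hwv', hmem⟩ := h.quat_mem hQS hQ
  obtain ⟨m, hm, hmv, hmw⟩ := h.quat_swap hQS h4 hwv hwv' hmem hr hrv hrv' hc
  obtain ⟨u, huS, huv, huw⟩ := h.ws w (hQS hwQ) h4 hwv hwv'
  have hvQ : v ∈ Q := (hmem v).2 (by simp)
  have hfin : Finite Q := inferInstance
  have hu : u ∈ normalizer (Q : Set G) := h.quat_normalizer_of hmem (by rw [huv]; exact hvQ)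
    (by rw [huw]; exact mul_mem hvQ hwQ)
  have hle := h.sup_le_pmc (hQS hwQ) h4 hwv hwv' hmem
  have hmC : m ∉ Q ⊔ centralizer (Q : Set G) := by
    intro hmC
    rcases (hle hmC).1 with h3 | h3
    · exact hwv (hmv.symm.trans h3)
    · exact hwv' (hmv.symm.trans h3)
  have hzw := h.w_inv (hQS hwQ) h4 hwv hwv'
  have huC : u ∉ Q ⊔ centralizer (Q : Set G) := by
    intro huC
    have hv1 : v ≠ 1 := by
      intro he; apply h.z1; rw [← h.vv, he, one_mul]
    have hvz : v ≠ z := by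
      intro he; apply h.z1; rw [← h.vv, he, h.zz]
    rcases (hle huC).2 with h3 | h3
    · rw [huw] at h3
      exact hv1 (mul_eq_right.1 h3)
    · rw [huw, hzw] at h3
      exact hvz (mul_right_cancel h3)
  have h5 := mul_mem_of_relIndex_two h2 hm hu hmC huC
  have h6 : m * u * v * (m * u)⁻¹ = w := by
    rw [conj_mul_conj, huv, hmv]
  rcases (hle h5).1 with h3 | h3
  · exact hwv (h6.symm.trans h3)
  · exact hwv' (h6.symm.trans h3)

/-! #### Numbers of conjugacy classes -/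

theorem card_involution_classes_of_six [Finite G] {S : Sylow 2 G} (h : QDFus (S : Subgroup G) z v)
    {T : Subgroup G} (hTS : T ≤ S) (hT : IsKleinFour T)
    (h6 : (centralizer (T : Set G)).relIndex (normalizer (T : Set G)) = 6) :
    Nat.card {C : ConjClasses G // ∃ t : G, orderOf t = 2 ∧ ConjClasses.mk t = C} = 1 := by
  refine card_classes_one z h.orderOf_z (fun t ht => ?_)
  obtain ⟨s, hs, hst⟩ := exists_isConj_mem_sylow S t 1 (by rw [ht]; norm_num)
  refine IsConj.trans ?_ hst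
  have h2 : orderOf s = 2 := by
    obtain ⟨c, hc⟩ := isConj_iff.1 hst
    rw [← ht, ← hc, orderOf_conj]
  refine h.isConj_z_of_six hTS hT h6 hs ?_ ?_
  · rw [← pow_two, ← h2, pow_orderOf_eq_one]
  · rintro rfl
    rw [orderOf_one] at h2; omega

theorem card_involution_classes_of_two [Finite G] {S : Sylow 2 G} (h : QDFus (S : Subgroup G) z v)
    {T : Subgroup G} (hTS : T ≤ S) (hT : IsKleinFour T)
    (h2 : (centralizer (T : Set G)).relIndex (normalizer (T : Set G)) = 2) :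
    Nat.card {C : ConjClasses G // ∃ t : G, orderOf t = 2 ∧ ConjClasses.mk t = C} = 2 := by
  obtain ⟨t, htS, htt, ht1, htz⟩ := h.ext
  refine card_classes_two z t h.orderOf_z (orderOf_eq_prime (by rw [pow_two, htt]) ht1)
    (h.not_isConj_z_of_two hTS hT h2 htS htz) (fun r hr => ?_)
  obtain ⟨s, hs, hsr⟩ := exists_isConj_mem_sylow S r 1 (by rw [hr]; norm_num)
  have h2 : orderOf s = 2 := by
    obtain ⟨c, hc⟩ := isConj_iff.1 hsr
    rw [← hr, ← hc, orderOf_conj]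
  by_cases hsz : s = z
  · left; rw [← hsz]; exact hsr
  · right
    refine IsConj.trans (h.isConj_of_two htS htt ht1 htz hs ?_ ?_ hsz) hsr
    · rw [← pow_two, ← h2, pow_orderOf_eq_one]
    · rintro rfl
      rw [orderOf_one] at h2; omega

theorem card_order_four_classes_of_six [Finite G] {S : Sylow 2 G}
    (h : QDFus (S : Subgroup G) z v) {Q : Subgroup G} (hQS : Q ≤ S)
    (hQ : Nonempty (Q ≃* QuaternionGroup 2))
    (h6 : (Q ⊔ centralizer (Q : Set G)).relIndex (normalizer (Q : Set G)) = 6) :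
    Nat.card {C : ConjClasses G // ∃ t : G, orderOf t = 4 ∧ ConjClasses.mk t = C} = 1 := by
  refine card_classes_one v h.orderOf_v (fun t ht => ?_)
  obtain ⟨s, hs, hst⟩ := exists_isConj_mem_sylow S t 2 (by rw [ht]; norm_num)
  refine IsConj.trans ?_ hst
  have h4 : orderOf s = 4 := by
    obtain ⟨c, hc⟩ := isConj_iff.1 hst
    rw [← ht, ← hc, orderOf_conj]
  by_cases hsv : s = v⁻¹
  · rw [hsv]; exact h.isConj_v_v_inv
  · exact h.isConj_v_of_six hQS hQ h6 hs h4 hsv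

theorem card_order_four_classes_of_two [Finite G] {S : Sylow 2 G}
    (h : QDFus (S : Subgroup G) z v) {Q : Subgroup G} (hQS : Q ≤ S)
    (hQ : Nonempty (Q ≃* QuaternionGroup 2))
    (h2 : (Q ⊔ centralizer (Q : Set G)).relIndex (normalizer (Q : Set G)) = 2) :
    Nat.card {C : ConjClasses G // ∃ t : G, orderOf t = 4 ∧ ConjClasses.mk t = C} = 2 := by
  obtain ⟨w, hwS, hw4, hwv, hwv'⟩ := h.exw
  refine card_classes_two v w h.orderOf_v hw4 (h.not_isConj_v_of_two hQS hQ h2 hwS hwv hwv')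
    (fun r hr => ?_)
  obtain ⟨s, hs, hsr⟩ := exists_isConj_mem_sylow S r 2 (by rw [hr]; norm_num)
  have h4 : orderOf s = 4 := by
    obtain ⟨c, hc⟩ := isConj_iff.1 hsr
    rw [← hr, ← hc, orderOf_conj]
  by_cases hsv : s = v
  · left; rw [← hsv]; exact hsr
  by_cases hsv' : s = v⁻¹
  · left; refine IsConj.trans h.isConj_v_v_inv ?_; rw [← hsv']; exact hsr
  · right
    exact (h.isConj_of_four hwS hw4 hwv hwv' hs h4 hsv hsv').trans hsr

end QDFus

end Cfsg.Agent.TwoFusion.QDFusion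
end

-- part: TwoFusion/QDFusCoord
section
/-!
# The fusion data of a quasi-dihedral subgroup, from its coordinates
-/

set_option autoImplicit false

namespace Cfsg.Agent.TwoFusion.QDFusCoord

open Subgroup Cfsg.Agent.TwoFusion.QDBasic Cfsg.Agent.TwoFusion.QDFusion

section coord

variable {S : Type*} [Group S] {n : ℕ} {u : ZMod (2 ^ n) → S} {y : S}

theorem two_mul_q (h : IsQDCoord n u y) : (2 : ZMod (2 ^ n)) * 2 ^ (n - 2) = 2 ^ (n - 1) := by
  have := h.three_le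
  rw [← pow_succ']; congr 1; omega

theorem two_mul_p (h : IsQDCoord n u y) : (2 : ZMod (2 ^ n)) * 2 ^ (n - 3) = 2 ^ (n - 2) := by
  have := h.three_le
  rw [← pow_succ']; congr 1; omega

theorem c_mul_q (h : IsQDCoord n u y) : (2 : ZMod (2 ^ n)) ^ (n - 1) * 2 ^ (n - 2) = 0 := by
  have := h.three_le
  rw [← pow_add]
  have : n - 1 + (n - 2) = n + (n - 3) := by omega
  rw [this, pow_add, two_pow_eq_zero, zero_mul]

theorem q_cube (h : IsQDCoord n u y) :
    (2 : ZMod (2 ^ n)) ^ (n - 2) * 2 ^ (n - 2) * 2 ^ (n - 2) = 0 := by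
  have := h.three_le
  rw [← pow_add, ← pow_add]
  have : n - 2 + (n - 2) + (n - 2) = n + (2 * n - 6) := by omega
  rw [this, pow_add, two_pow_eq_zero, zero_mul]

theorem two_c (h : IsQDCoord n u y) : (2 : ZMod (2 ^ n)) * 2 ^ (n - 1) = 0 :=
  two_mul_half n h.one_le

theorem c_ne (h : IsQDCoord n u y) : (2 : ZMod (2 ^ n)) ^ (n - 1) ≠ 0 :=
  half_ne_zero n h.one_le

theorem cases_two (h : IsQDCoord n u y) {s : S} (hs : s * s = 1) :
    s = 1 ∨ s = u (2 ^ (n - 1)) ∨ ∃ b, s = u (2 * b) * y := by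
  rcases h.cases s with ⟨a, rfl⟩ | ⟨a, rfl⟩
  · rw [h.u_mul, h.u_eq_one_iff, ← two_mul, two_mul_eq_zero_iff n h.one_le] at hs
    rcases hs with rfl | rfl
    · left; exact h.u_zero
    · right; left; rfl
  · right; right
    rw [← pow_two, h.uy_sq, h.u_eq_one_iff, half_mul_eq_zero_iff n h.one_le] at hs
    obtain ⟨b, rfl⟩ := hs
    exact ⟨b, rfl⟩

theorem order_four_iff {s : S} (hs : orderOf s = 4) : s * s ≠ 1 ∧ (s * s) * (s * s) = 1 := by
  constructor
  · intro h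
    have : orderOf s ∣ 2 := orderOf_dvd_of_pow_eq_one (by rw [pow_two, h])
    rw [hs] at this
    omega
  · have := pow_orderOf_eq_one s
    rw [hs] at this
    rw [← this]
    simp only [pow_succ, pow_zero, one_mul, mul_assoc]

theorem cases_four (h : IsQDCoord n u y) {s : S} (hs : orderOf s = 4) :
    s = u (2 ^ (n - 2)) ∨ s = (u (2 ^ (n - 2)))⁻¹ ∨ ∃ b, s = u (2 * b + 1) * y := by
  obtain ⟨h1, h2⟩ := order_four_iff hs
  rcases h.cases s with ⟨a, rfl⟩ | ⟨a, rfl⟩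
  · rw [h.u_mul, h.u_mul, h.u_eq_one_iff] at h2
    rw [h.u_mul, Ne, h.u_eq_one_iff] at h1
    have h3 : 2 * (2 * a) = 0 := by rw [← h2]; ring
    rw [two_mul_eq_zero_iff n h.one_le] at h3
    rcases h3 with h3 | h3
    · exact absurd (by rw [← h3]; ring) h1
    · have h4 : 2 * (a - 2 ^ (n - 2)) = 0 := by
        rw [mul_sub, h3, two_mul_q h, sub_self]
      rw [two_mul_eq_zero_iff n h.one_le] at h4
      rcases h4 with h4 | h4
      · left; rw [sub_eq_zero.1 h4]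
      · right; left
        rw [h.u_inv, h.u_eq_iff]
        have h5 := two_mul_q h
        have h6 := two_c h
        linear_combination h4 + h5 + h6
  · right; right
    rw [← pow_two, h.uy_sq, Ne, h.u_eq_one_iff, half_mul_eq_zero_iff n h.one_le] at h1
    rcases even_or_odd' n a with h3 | ⟨b, rfl⟩
    · exact absurd h3 h1
    · exact ⟨b, rfl⟩

theorem inv_uq (h : IsQDCoord n u y) : (u (2 ^ (n - 2)))⁻¹ = u (-2 ^ (n - 2)) := h.u_inv _

theorem uy_conj_uc (h : IsQDCoord n u y) (s : S) :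
    s * u (2 ^ (n - 1)) * s⁻¹ = u (2 ^ (n - 1)) := by
  rcases h.cases s with ⟨a, rfl⟩ | ⟨a, rfl⟩
  · exact h.u_conj_u _ _
  · rw [h.uy_conj_u]
    congr 1
    have h1 := half_mul_half n h.two_le
    have h2 := two_c h
    linear_combination h1 - h2

theorem uy_conj_uq (h : IsQDCoord n u y) (a : ZMod (2 ^ n)) :
    (u a * y) * u (2 ^ (n - 2)) * (u a * y)⁻¹ = (u (2 ^ (n - 2)))⁻¹ := by
  rw [h.uy_conj_u, h.u_inv]
  congr 1
  have h1 := c_mul_q h
  linear_combination h1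

/-- conjugation by `u c` moves `u a * y` to `u b * y` for a suitable `c` when `b - a` is even -/
theorem exists_conj (h : IsQDCoord n u y) (a b : ZMod (2 ^ n)) :
    ∃ c, ∀ d, u c * (u (2 * a + d) * y) * (u c)⁻¹ = u (2 * b + d) * y := by
  refine ⟨(b - a) * (1 + 2 ^ (n - 2)), fun d => ?_⟩
  rw [h.u_conj_uy]
  congr 2
  have h1 := c_mul_q h
  have h2 := two_mul_q h
  linear_combination (-(b - a)) * h1 + (b - a) * h2

theorem uy_sq_odd (h : IsQDCoord n u y) (b : ZMod (2 ^ n)) :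
    (u (2 * b + 1) * y) * (u (2 * b + 1) * y) = u (2 ^ (n - 1)) := by
  rw [← pow_two, h.uy_sq, half_mul_odd n h.one_le]

theorem uy_sq_even (h : IsQDCoord n u y) (b : ZMod (2 ^ n)) :
    (u (2 * b) * y) * (u (2 * b) * y) = 1 := by
  rw [← pow_two, h.uy_sq, (half_mul_eq_zero_iff n h.one_le (2 * b)).2 ⟨b, rfl⟩, h.u_zero]

theorem orderOf_uy_odd (h : IsQDCoord n u y) (b : ZMod (2 ^ n)) :
    orderOf (u (2 * b + 1) * y) = 4 := by
  have h1 : orderOf (u (2 * b + 1) * y) = 2 ^ (1 + 1) := by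
    apply orderOf_eq_prime_pow
    · rw [pow_one, pow_two, uy_sq_odd h, h.u_eq_one_iff]; exact c_ne h
    · rw [show 2 ^ (1 + 1) = 2 * 2 by norm_num, pow_mul, pow_two (u (2 * b + 1) * y), uy_sq_odd h,
        pow_two, h.u_mul, h.u_eq_one_iff, ← two_mul]
      exact two_c h
  rw [h1]; norm_num

end coord

/-- A subgroup `S` of `G` with quasi-dihedral coordinates satisfies `QDFus`. -/
theorem qdFus_of_coord {G : Type*} [Group G] {S : Subgroup G} {n : ℕ} {u : ZMod (2 ^ n) → S} {y : S}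
    (h : IsQDCoord n u y) : QDFus S (u (2 ^ (n - 1)) : G) (u (2 ^ (n - 2)) : G) := by
  have hc2 : ∀ s : S, (s : G) * (s : G) = 1 → s = 1 ∨ s = u (2 ^ (n - 1)) ∨ ∃ b, s = u (2 * b) * y :=
    fun s hs => cases_two h (Subtype.ext hs)
  have hc4 : ∀ s : S, orderOf (s : G) = 4 →
      s = u (2 ^ (n - 2)) ∨ s = (u (2 ^ (n - 2)))⁻¹ ∨ ∃ b, s = u (2 * b + 1) * y :=
    fun s hs => cases_four h (by rw [← hs]; exact (Subgroup.orderOf_coe s).symm)
  have hvv : (u (2 ^ (n - 2))) * (u (2 ^ (n - 2))) = u (2 ^ (n - 1)) := by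
    rw [h.u_mul, ← two_mul, two_mul_q h]
  have hfour : ∀ r : S, orderOf (r : G) = 4 → (r : G) ≠ u (2 ^ (n - 2)) →
      (r : G) ≠ (u (2 ^ (n - 2)) : G)⁻¹ → ∃ b, r = u (2 * b + 1) * y := by
    intro r hr h1 h2
    rcases hc4 r hr with h3 | h3 | h3
    · exact absurd (by rw [h3]) h1
    · exact absurd (by rw [h3]; rfl) h2
    · exact h3
  have htwo : ∀ r : S, (r : G) * r = 1 → (r : G) ≠ 1 →
      (r : G) ≠ (u (2 ^ (n - 1)) : G) → ∃ b, r = u (2 * b) * y := by
    intro r hr h1 h2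
    rcases hc2 r hr with h3 | h3 | h3
    · exact absurd (by rw [h3]; rfl) h1
    · exact absurd (by rw [h3]) h2
    · exact h3
  refine ⟨(u _).2, ?_, ?_, ?_, ?_, ?_, ?_, ?_, ?_, ?_, ?_, ?_, ?_, ?_, ?_⟩
  · intro he
    have : u (2 ^ (n - 1)) = 1 := Subtype.ext he
    rw [h.u_eq_one_iff] at this
    exact c_ne h this
  · have : u (2 ^ (n - 1)) * u (2 ^ (n - 1)) = 1 := by
      rw [h.u_mul, ← two_mul, two_c h, h.u_zero]
    exact Subtype.ext_iff.1 this
  · exact Subtype.ext_iff.1 hvv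
  · intro s hs
    exact Subtype.ext_iff.1 (uy_conj_uc h ⟨s, hs⟩)
  · intro s hs
    rcases h.cases ⟨s, hs⟩ with ⟨a, ha⟩ | ⟨a, ha⟩
    · left
      have := h.u_conj_u a (2 ^ (n - 2))
      rw [← ha] at this
      exact Subtype.ext_iff.1 this
    · right
      have := uy_conj_uq h a
      rw [← ha] at this
      exact Subtype.ext_iff.1 this
  · -- ts
    intro t ht htt ht1 htz
    obtain ⟨b, hb⟩ := htwo ⟨t, ht⟩ htt ht1 htz
    refine ⟨u (2 ^ (n - 2)), (u _).2, ?_⟩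
    have : u (2 ^ (n - 2)) * (u (2 * b) * y) * (u (2 ^ (n - 2)))⁻¹ =
        u (2 ^ (n - 1)) * (u (2 * b) * y) := by
      rw [h.u_conj_uy, h.u_mul_uy]
      congr 2
      have h1 := c_mul_q h
      have h2 := two_mul_q h
      linear_combination h2 - h1
    rw [← hb] at this
    exact Subtype.ext_iff.1 this
  · -- wv
    intro w hw h4 h1 h2
    obtain ⟨b, hb⟩ := hfour ⟨w, hw⟩ h4 h1 h2
    constructor
    · have := uy_conj_uq h (2 * b + 1)
      rw [← hb] at this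
      exact Subtype.ext_iff.1 this
    · have := uy_sq_odd h b
      rw [← hb] at this
      exact Subtype.ext_iff.1 this
  · -- ws
    intro w hw h4 h1 h2
    obtain ⟨b, hb⟩ := hfour ⟨w, hw⟩ h4 h1 h2
    refine ⟨u (2 ^ (n - 3) * (1 + 2 ^ (n - 2))), (u _).2, ?_, ?_⟩
    · exact Subtype.ext_iff.1 (h.u_conj_u _ _)
    · have : u (2 ^ (n - 3) * (1 + 2 ^ (n - 2))) * (u (2 * b + 1) * y) *
          (u (2 ^ (n - 3) * (1 + 2 ^ (n - 2))))⁻¹ = u (2 ^ (n - 2)) * (u (2 * b + 1) * y) := by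
        rw [h.u_conj_uy, h.u_mul_uy]
        congr 2
        have h3 := two_mul_q h
        have h5 := two_mul_p h
        have h6 := q_cube h
        rw [← h3, ← h5] at *
        linear_combination (-1) * h6
      rw [← hb] at this
      exact Subtype.ext_iff.1 this
  · -- two
    intro r hr r' hr' hrr hr1 hrz hrr' hr1' hrz'
    obtain ⟨a, ha⟩ := htwo ⟨r, hr⟩ hrr hr1 hrz
    obtain ⟨b, hb⟩ := htwo ⟨r', hr'⟩ hrr' hr1' hrz'
    obtain ⟨c, hc⟩ := exists_conj h a b
    refine ⟨u c, (u c).2, ?_⟩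
    have := hc 0
    rw [add_zero, add_zero, ← ha, ← hb] at this
    exact Subtype.ext_iff.1 this
  · -- four
    intro r hr r' hr' hrr hr1 hrz hrr' hr1' hrz'
    obtain ⟨a, ha⟩ := hfour ⟨r, hr⟩ hrr hr1 hrz
    obtain ⟨b, hb⟩ := hfour ⟨r', hr'⟩ hrr' hr1' hrz'
    obtain ⟨c, hc⟩ := exists_conj h a b
    refine ⟨u c, (u c).2, Subtype.ext_iff.1 (h.u_conj_u _ _), ?_⟩
    have := hc 1
    rw [← ha, ← hb] at this
    exact Subtype.ext_iff.1 this
  · -- klein
    intro T hTS hT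
    have hc : Nat.card T = 4 := IsKleinFour.card_four
    have hfin : Finite T := Nat.finite_of_card_ne_zero (by rw [hc]; norm_num)
    have hsq : ∀ t ∈ T, t * t = 1 := fun t ht =>
      Subtype.ext_iff.1 (IsKleinFour.mul_self (⟨t, ht⟩ : T))
    by_contra hz
    have hex : ∃ t ∈ T, t ≠ 1 := by
      by_contra hcon
      push Not at hcon
      have h1 : T = ⊥ := (eq_bot_iff_forall T).2 hcon
      rw [h1, card_bot] at hc
      omega
    obtain ⟨t, ht, ht1⟩ := hex
    have hex2 : ∃ r ∈ T, r ≠ 1 ∧ r ≠ t := by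
      by_contra hcon
      push Not at hcon
      have : (T : Set G) ⊆ {1, t} := by
        intro g hg
        by_cases h1 : g = 1
        · left; exact h1
        · right; exact hcon g hg h1
      have h3 := Set.ncard_le_ncard this (Set.toFinite _)
      have h4 : (T : Set G).ncard = 4 := hc
      have h5 : ({1, t} : Set G).ncard ≤ 2 := Set.ncard_insert_le _ _ |>.trans (by simp)
      omega
    obtain ⟨r, hr, hr1, hrt⟩ := hex2
    have htz : t ≠ u (2 ^ (n - 1)) := fun he => hz (he ▸ ht)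
    have hrz : r ≠ u (2 ^ (n - 1)) := fun he => hz (he ▸ hr)
    obtain ⟨a, ha⟩ := htwo ⟨t, hTS ht⟩ (hsq t ht) ht1 htz
    obtain ⟨b, hb⟩ := htwo ⟨r, hTS hr⟩ (hsq r hr) hr1 hrz
    have h1 : (⟨t, hTS ht⟩ : S) * ⟨r, hTS hr⟩ = u (2 * a + (2 ^ (n - 1) - 1) * (2 * b)) := by
      rw [ha, hb, h.uy_mul_uy]
    rcases hc2 (⟨t, hTS ht⟩ * ⟨r, hTS hr⟩) (hsq (t * r) (mul_mem ht hr)) with h2 | h2 | ⟨d, h2⟩
    · have h3 : t * r = 1 := Subtype.ext_iff.1 h2
      apply hrt
      have h4 : t * t = 1 := hsq t ht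
      exact mul_left_cancel (h3.trans h4.symm)
    · apply hz
      rw [← h2]
      exact mul_mem ht hr
    · rw [h1] at h2
      exact h.u_ne _ _ h2
  · -- quat
    rintro Q hQS ⟨e⟩
    have key : ∀ x : G, x ∈ Q → orderOf x = 4 → (∀ b, ∀ hx : x ∈ S, (⟨x, hx⟩ : S) ≠ u (2 * b + 1) * y) →
        (u (2 ^ (n - 2)) : G) ∈ Q := by
      intro x hxQ hx4 hx
      rcases hc4 ⟨x, hQS hxQ⟩ hx4 with h1 | h1 | ⟨b, h1⟩
      · rw [← h1]; exact hxQ
      · rw [← inv_mem_iff]
        have : (u (2 ^ (n - 2)) : G)⁻¹ = x := by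
          rw [← Subgroup.coe_inv, ← h1]
        rw [this]; exact hxQ
      · exact absurd h1 (hx b (hQS hxQ))
    have ho : ∀ q : QuaternionGroup 2, q ^ 2 ≠ 1 → q ^ 4 = 1 → orderOf ((e.symm q : Q) : G) = 4 := by
      intro q h1 h2
      rw [Subgroup.orderOf_coe, e.symm.orderOf_eq]
      have h3 : orderOf q = 2 ^ (1 + 1) := by
        apply orderOf_eq_prime_pow
        · rw [pow_one]; exact h1
        · exact h2
      rw [h3]; norm_num
    have hi := ho (QuaternionGroup.a 1) (by decide) (by decide)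
    have hj := ho (QuaternionGroup.xa 0) (by decide) (by decide)
    have hk := ho (QuaternionGroup.a 1 * QuaternionGroup.xa 0) (by decide) (by decide)
    rcases hc4 ⟨_, hQS (e.symm (QuaternionGroup.a 1)).2⟩ hi with h1 | h1 | ⟨a, ha⟩
    · refine key _ (e.symm (QuaternionGroup.a 1)).2 hi (fun b hx hb => ?_)
      rw [h1] at hb; exact h.u_ne _ _ hb
    · refine key _ (e.symm (QuaternionGroup.a 1)).2 hi (fun b hx hb => ?_)
      rw [h1, h.u_inv] at hb; exact h.u_ne _ _ hb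
    rcases hc4 ⟨_, hQS (e.symm (QuaternionGroup.xa 0)).2⟩ hj with h1 | h1 | ⟨b, hb⟩
    · refine key _ (e.symm (QuaternionGroup.xa 0)).2 hj (fun b hx hb => ?_)
      rw [h1] at hb; exact h.u_ne _ _ hb
    · refine key _ (e.symm (QuaternionGroup.xa 0)).2 hj (fun b hx hb => ?_)
      rw [h1, h.u_inv] at hb; exact h.u_ne _ _ hb
    · refine key _ (e.symm (QuaternionGroup.a 1 * QuaternionGroup.xa 0)).2 hk (fun d hx hd => ?_)
      have h3 : (⟨_, hx⟩ : S) = ⟨_, hQS (e.symm (QuaternionGroup.a 1)).2⟩ *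
          ⟨_, hQS (e.symm (QuaternionGroup.xa 0)).2⟩ := by
        apply Subtype.ext
        simp only [map_mul, Subgroup.coe_mul]
      rw [h3, ha, hb, h.uy_mul_uy] at hd
      exact h.u_ne _ _ hd
  · -- ext
    refine ⟨y, y.2, ?_, ?_, ?_⟩
    · exact Subtype.ext_iff.1 h.y_y
    · intro he
      have h1 : y = 1 := Subtype.ext he
      apply h.u_ne 0 0
      rw [h1, mul_one]
    · intro he
      have h1 : y = u (2 ^ (n - 1)) := Subtype.ext he
      apply h.u_ne (2 ^ (n - 1)) 0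
      rw [h.u_zero, one_mul, h1]
  · -- exw
    refine ⟨u (2 * 0 + 1) * y, mul_mem (u _).2 y.2, ?_, ?_, ?_⟩
    · rw [← Subgroup.coe_mul, Subgroup.orderOf_coe]
      exact orderOf_uy_odd h 0
    · intro he
      have h1 : u (2 * 0 + 1) * y = u (2 ^ (n - 2)) := Subtype.ext he
      exact h.u_ne _ _ h1.symm
    · intro he
      have h1 : u (2 * 0 + 1) * y = (u (2 ^ (n - 2)))⁻¹ := Subtype.ext he
      rw [h.u_inv] at h1
      exact h.u_ne _ _ h1.symm

end Cfsg.Agent.TwoFusion.QDFusCoord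
end

-- part: TwoFusion/QDIndexTwoNormal
section
/-!
# Involutions and elements of order 4 lie in all subgroups of index 2
-/

set_option autoImplicit false

namespace Cfsg.Agent.TwoFusion.QDIndexTwoNormal

open Subgroup Cfsg.Agent.TwoFusion.QDFusion

theorem conj_mem_iff {K : Type*} [Group K] {H : Subgroup K} (hH : H.index = 2) (k x : K) :
    k * x * k⁻¹ ∈ H ↔ x ∈ H := by
  have := Subgroup.normal_of_index_eq_two hH
  exact ⟨fun h => by
    have := this.conj_mem _ h k⁻¹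
    have h2 : k⁻¹ * (k * x * k⁻¹) * k⁻¹⁻¹ = x := by group
    rwa [h2] at this, fun h => this.conj_mem x h k⟩

theorem klein_aux {K : Type*} [Group K] {H : Subgroup K} (hH : H.index = 2) {z t k : K}
    (h1 : k * z * k⁻¹ = z * t) (h2 : k * t * k⁻¹ = z) : z ∈ H ∧ t ∈ H := by
  have h3 := conj_mem_iff hH k z
  rw [h1, mul_mem_iff_of_index_two hH] at h3
  have h4 := conj_mem_iff hH k t
  rw [h2] at h4
  tauto

theorem quat_aux {K : Type*} [Group K] {H : Subgroup K} (hH : H.index = 2) {v w k v' w' : K}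
    (hv' : v' = v ∨ v' = v⁻¹) (hw' : w' = w ∨ w' = w⁻¹)
    (h1 : k * v * k⁻¹ = w * v') (h2 : k * w * k⁻¹ = w * v' * w') : v ∈ H ∧ w ∈ H := by
  have hv : v' ∈ H ↔ v ∈ H := by
    rcases hv' with rfl | rfl
    · rfl
    · exact inv_mem_iff
  have hw : w' ∈ H ↔ w ∈ H := by
    rcases hw' with rfl | rfl
    · rfl
    · exact inv_mem_iff
  have h3 := conj_mem_iff hH k v
  rw [h1, mul_mem_iff_of_index_two hH, hv] at h3
  have h4 := conj_mem_iff hH k w
  rw [h2, mul_mem_iff_of_index_two hH, mul_mem_iff_of_index_two hH, hv, hw] at h4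
  tauto

variable {G : Type*} [Group G] [Finite G] {S : Sylow 2 G} {z v : G}

omit [Finite G] in
theorem mem_of_index {K : Subgroup G} (hK : K.index = 1 ∨ K.index = 2) {x : G}
    (hx : K.index = 2 → x ∈ K) : x ∈ K := by
  rcases hK with h | h
  · rw [index_eq_one.1 h]; exact mem_top x
  · exact hx h

omit [Finite G] in
/-- the conjugate of an index 2 subgroup -/
theorem exists_conj_index_two {K : Subgroup G} [K.Normal] (H : Subgroup K) (hH : H.index = 2)
    (s : G) : ∃ H' : Subgroup K, H'.index = 2 ∧ ∀ x : G, ∀ hx : x ∈ K, ∀ hx' : s * x * s⁻¹ ∈ K,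
      (⟨x, hx⟩ : K) ∈ H' ↔ (⟨s * x * s⁻¹, hx'⟩ : K) ∈ H := by
  refine ⟨H.comap (MulAut.conjNormal s : K ≃* K).toMonoidHom, ?_, ?_⟩
  · rw [← hH]
    exact index_comap_of_surjective H (MulAut.conjNormal s : K ≃* K).surjective
  · intro x hx hx'
    rw [mem_comap]
    have : (MulAut.conjNormal s : K ≃* K).toMonoidHom ⟨x, hx⟩ = ⟨s * x * s⁻¹, hx'⟩ := by
      apply Subtype.ext
      simp
    rw [this]

theorem exists_three_cycle (h : QDFus (S : Subgroup G) z v) {T : Subgroup G}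
    (hTS : T ≤ S) (hT : IsKleinFour T)
    (h6 : (centralizer (T : Set G)).relIndex (normalizer (T : Set G)) = 6) :
    ∃ t ∈ (S : Subgroup G), t * t = 1 ∧ t ≠ 1 ∧ t ≠ z ∧ ∃ k : G, (k * k) * z * (k * k)⁻¹ = z * t ∧
      (k * k) * t * (k * k)⁻¹ = z := by
  obtain ⟨t, htT, htt, ht1, htz, hmem⟩ := h.klein_mem hTS hT
  obtain ⟨m, hm, hmz, hmt⟩ := h.klein_swap hTS hmem htt ht1 htz (hTS htT) ht1 htz
    (h.isConj_z_of_six hTS hT h6 (hTS htT) htt ht1)
  obtain ⟨u, huS, hut⟩ := h.ts t (hTS htT) htt ht1 htz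
  have huz := h.zc u huS
  refine ⟨t, hTS htT, htt, ht1, htz, m * u, ?_, ?_⟩
  · have h1 : m * u * z * (m * u)⁻¹ = t := by rw [conj_mul_conj, huz, hmz]
    have h2 : m * u * t * (m * u)⁻¹ = z * t := by
      rw [conj_mul_conj, hut, ← conj_mul, hmz, hmt, h.z_comm (hTS htT)]
    rw [conj_mul_conj, h1, h2]
  · have h2 : m * u * t * (m * u)⁻¹ = z * t := by
      rw [conj_mul_conj, hut, ← conj_mul, hmz, hmt, h.z_comm (hTS htT)]
    have h1 : m * u * z * (m * u)⁻¹ = t := by rw [conj_mul_conj, huz, hmz]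
    rw [conj_mul_conj, h2, ← conj_mul, h1, h2, ← mul_assoc, h.z_comm (hTS htT), mul_assoc, htt,
      mul_one]

/-- `|N(T) : C(T)| = 6`: every involution of `S` lies in every subgroup of index 2 of every
normal subgroup of index 1 or 2. -/
theorem involution_mem (h : QDFus (S : Subgroup G) z v) {T : Subgroup G}
    (hTS : T ≤ S) (hT : IsKleinFour T)
    (h6 : (centralizer (T : Set G)).relIndex (normalizer (T : Set G)) = 6)
    (K : Subgroup G) [K.Normal] (hK : K.index = 1 ∨ K.index = 2) {r : G} (hr : r ∈ S)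
    (hrr : r * r = 1) : ∃ hrK : r ∈ K, ∀ H : Subgroup K, H.index = 2 → (⟨r, hrK⟩ : K) ∈ H := by
  by_cases hr1 : r = 1
  · subst hr1
    exact ⟨one_mem K, fun H _ => one_mem H⟩
  obtain ⟨t, htS, htt, ht1, htz, k, h1, h2⟩ := exists_three_cycle h hTS hT h6
  have hzK : z ∈ K := mem_of_index hK fun hK2 => (klein_aux hK2 h1 h2).1
  have htK : t ∈ K := mem_of_index hK fun hK2 => (klein_aux hK2 h1 h2).2
  have hkK : k * k ∈ K := mem_of_index hK fun hK2 => mul_self_mem_of_index_two hK2 k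
  have hH : ∀ H : Subgroup K, H.index = 2 → (⟨z, hzK⟩ : K) ∈ H ∧ (⟨t, htK⟩ : K) ∈ H := by
    intro H hH
    exact klein_aux (k := (⟨k * k, hkK⟩ : K)) hH (Subtype.ext h1) (Subtype.ext h2)
  by_cases hrz : r = z
  · subst hrz
    exact ⟨hzK, fun H hH2 => (hH H hH2).1⟩
  obtain ⟨s, hsS, hs⟩ := h.two t htS r hr htt ht1 htz hrr hr1 hrz
  have hrK : r ∈ K := by
    rw [← hs]; exact (inferInstance : K.Normal).conj_mem t htK s
  refine ⟨hrK, fun H hH2 => ?_⟩
  obtain ⟨H', hH', hHH⟩ := exists_conj_index_two H hH2 s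
  have h3 := (hHH t htK (by rw [hs]; exact hrK)).1 (hH H' hH').2
  have h4 : (⟨r, hrK⟩ : K) = ⟨s * t * s⁻¹, by rw [hs]; exact hrK⟩ := Subtype.ext hs.symm
  rw [h4]; exact h3

theorem exists_three_cycle_quat (h : QDFus (S : Subgroup G) z v) {Q : Subgroup G}
    (hQS : Q ≤ S) (hQ : Nonempty (Q ≃* QuaternionGroup 2))
    (h6 : (Q ⊔ centralizer (Q : Set G)).relIndex (normalizer (Q : Set G)) = 6) :
    ∃ w ∈ (S : Subgroup G), orderOf w = 4 ∧ w ≠ v ∧ w ≠ v⁻¹ ∧ ∃ k v' w' : G,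
      (v' = v ∨ v' = v⁻¹) ∧ (w' = w ∨ w' = w⁻¹) ∧
      (k * k) * v * (k * k)⁻¹ = w * v' ∧ (k * k) * w * (k * k)⁻¹ = w * v' * w' := by
  obtain ⟨w, hwQ, h4, hwv, hwv', hmem⟩ := h.quat_mem hQS hQ
  obtain ⟨m, hm, hmv, hmw⟩ := h.quat_swap hQS h4 hwv hwv' hmem (hQS hwQ) hwv hwv'
    (h.isConj_v_of_six hQS hQ h6 (hQS hwQ) h4 hwv')
  obtain ⟨u, huS, huv, huw⟩ := h.ws w (hQS hwQ) h4 hwv hwv'
  refine ⟨w, hQS hwQ, h4, hwv, hwv', m * u, m * w * m⁻¹, (m * u) * (m * w * m⁻¹) * (m * u)⁻¹, hmw,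
    ?_, ?_, ?_⟩
  · have h1 : m * u * v * (m * u)⁻¹ = w := by rw [conj_mul_conj, huv, hmv]
    rcases hmw with h2 | h2
    · left; rw [h2, h1]
    · right; rw [h2, ← conj_inv, h1]
  · have h1 : m * u * v * (m * u)⁻¹ = w := by rw [conj_mul_conj, huv, hmv]
    have h2 : m * u * w * (m * u)⁻¹ = w * (m * w * m⁻¹) := by
      rw [conj_mul_conj, huw, ← conj_mul, hmv]
    rw [conj_mul_conj, h1, h2]
  · have h2 : m * u * w * (m * u)⁻¹ = w * (m * w * m⁻¹) := by
      rw [conj_mul_conj, huw, ← conj_mul, hmv]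
    rw [conj_mul_conj, h2, ← conj_mul, h2]

/-- `|N(Q) : Q C(Q)| = 6`: every element of order 4 of `S` lies in every subgroup of index 2 of
every normal subgroup of index 1 or 2. -/
theorem order_four_mem (h : QDFus (S : Subgroup G) z v) {Q : Subgroup G}
    (hQS : Q ≤ S) (hQ : Nonempty (Q ≃* QuaternionGroup 2))
    (h6 : (Q ⊔ centralizer (Q : Set G)).relIndex (normalizer (Q : Set G)) = 6)
    (K : Subgroup G) [K.Normal] (hK : K.index = 1 ∨ K.index = 2) {r : G} (hr : r ∈ S)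
    (hr4 : orderOf r = 4) : ∃ hrK : r ∈ K, ∀ H : Subgroup K, H.index = 2 → (⟨r, hrK⟩ : K) ∈ H := by
  obtain ⟨w, hwS, hw4, hwv, hwv', k, v', w', hv', hw', h1, h2⟩ := exists_three_cycle_quat h hQS hQ h6
  have hvK : v ∈ K := mem_of_index hK fun hK2 => (quat_aux hK2 hv' hw' h1 h2).1
  have hwK : w ∈ K := mem_of_index hK fun hK2 => (quat_aux hK2 hv' hw' h1 h2).2
  have hkK : k * k ∈ K := mem_of_index hK fun hK2 => mul_self_mem_of_index_two hK2 k
  have hvK' : v' ∈ K := by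
    rcases hv' with rfl | rfl
    · exact hvK
    · exact inv_mem hvK
  have hwK' : w' ∈ K := by
    rcases hw' with rfl | rfl
    · exact hwK
    · exact inv_mem hwK
  have hH : ∀ H : Subgroup K, H.index = 2 → (⟨v, hvK⟩ : K) ∈ H ∧ (⟨w, hwK⟩ : K) ∈ H := by
    intro H hH
    refine quat_aux (k := (⟨k * k, hkK⟩ : K)) (v' := ⟨v', hvK'⟩) (w' := ⟨w', hwK'⟩) hH ?_ ?_
      (Subtype.ext h1) (Subtype.ext h2)
    · rcases hv' with h3 | h3
      · exact Or.inl (Subtype.ext h3)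
      · exact Or.inr (Subtype.ext h3)
    · rcases hw' with h3 | h3
      · exact Or.inl (Subtype.ext h3)
      · exact Or.inr (Subtype.ext h3)
  by_cases hrz : r = v
  · subst hrz
    exact ⟨hvK, fun H hH2 => (hH H hH2).1⟩
  by_cases hrz' : r = v⁻¹
  · subst hrz'
    exact ⟨inv_mem hvK, fun H hH2 => inv_mem (hH H hH2).1⟩
  obtain ⟨s, hsS, -, hs⟩ := h.four w hwS r hr hw4 hwv hwv' hr4 hrz hrz'
  have hrK : r ∈ K := by
    rw [← hs]; exact (inferInstance : K.Normal).conj_mem w hwK s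
  refine ⟨hrK, fun H hH2 => ?_⟩
  obtain ⟨H', hH', hHH⟩ := exists_conj_index_two H hH2 s
  have h3 := (hHH w hwK (by rw [hs]; exact hrK)).1 (hH H' hH').2
  have h4 : (⟨r, hrK⟩ : K) = ⟨s * w * s⁻¹, by rw [hs]; exact hrK⟩ := Subtype.ext hs.symm
  rw [h4]; exact h3

end Cfsg.Agent.TwoFusion.QDIndexTwoNormal
end

-- part: TwoFusion/QDFusionMain
section
/-!
# Fusion of involutions and elements of order 4, template-style hypotheses
-/

set_option autoImplicit false

namespace Cfsg.Agent.TwoFusion.QDFusionMain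

open Subgroup

variable {G : Type*} [Group G] [Finite G] (S : Sylow 2 G)
  (hS : Cfsg.IsQuasiDihedral (S : Subgroup G))

include hS

theorem exists_qdFus : ∃ z v : G, QDFusion.QDFus (S : Subgroup G) z v := by
  obtain ⟨n, u, y, h⟩ := QDBasic.exists_qdcoord hS
  exact ⟨_, _, QDFusCoord.qdFus_of_coord h⟩

/-- (A1) -/
theorem card_involution_classes_of_six (T : Subgroup G) (hT : IsKleinFour T) (hTS : T ≤ S)
    (h₁ : (centralizer (T : Set G)).relIndex (normalizer (T : Set G)) = 6) :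
    Nat.card {C : ConjClasses G // ∃ t : G, orderOf t = 2 ∧ ConjClasses.mk t = C} = 1 := by
  obtain ⟨z, v, h⟩ := exists_qdFus S hS
  exact h.card_involution_classes_of_six hTS hT h₁

/-- (A2) -/
theorem card_involution_classes_of_two (T : Subgroup G) (hT : IsKleinFour T) (hTS : T ≤ S)
    (h₁ : (centralizer (T : Set G)).relIndex (normalizer (T : Set G)) = 2) :
    Nat.card {C : ConjClasses G // ∃ t : G, orderOf t = 2 ∧ ConjClasses.mk t = C} = 2 := by
  obtain ⟨z, v, h⟩ := exists_qdFus S hS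
  exact h.card_involution_classes_of_two hTS hT h₁

/-- (B1) -/
theorem card_order_four_classes_of_six (Q : Subgroup G) (hQS : Q ≤ S) (eQ : Q ≃* QuaternionGroup 2)
    (h₂ : (Q ⊔ centralizer (Q : Set G)).relIndex (normalizer (Q : Set G)) = 6) :
    Nat.card {C : ConjClasses G // ∃ t : G, orderOf t = 4 ∧ ConjClasses.mk t = C} = 1 := by
  obtain ⟨z, v, h⟩ := exists_qdFus S hS
  exact h.card_order_four_classes_of_six hQS ⟨eQ⟩ h₂

/-- (B2) -/
theorem card_order_four_classes_of_two (Q : Subgroup G) (hQS : Q ≤ S) (eQ : Q ≃* QuaternionGroup 2)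
    (h₂ : (Q ⊔ centralizer (Q : Set G)).relIndex (normalizer (Q : Set G)) = 2) :
    Nat.card {C : ConjClasses G // ∃ t : G, orderOf t = 4 ∧ ConjClasses.mk t = C} = 2 := by
  obtain ⟨z, v, h⟩ := exists_qdFus S hS
  exact h.card_order_four_classes_of_two hQS ⟨eQ⟩ h₂

/-- (C1) -/
theorem involution_mem_of_index_two (T : Subgroup G) (hT : IsKleinFour T) (hTS : T ≤ S)
    (h₁ : (centralizer (T : Set G)).relIndex (normalizer (T : Set G)) = 6)
    (K : Subgroup G) (hK : K.Normal) (hi : K.index ∣ 2) (H : Subgroup K) (hH : H.index = 2)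
    (t : G) (ht : t ∈ S) (htt : t * t = 1) : t ∈ H.map K.subtype := by
  obtain ⟨z, v, h⟩ := exists_qdFus S hS
  obtain ⟨h3, h4⟩ := QDIndexTwoNormal.involution_mem h hTS hT h₁ K
    ((Nat.dvd_prime Nat.prime_two).1 hi) ht htt
  exact ⟨_, h4 H hH, rfl⟩

/-- (C1) for four-groups -/
theorem kleinFour_le_of_index_two (T : Subgroup G) (hT : IsKleinFour T) (hTS : T ≤ S)
    (h₁ : (centralizer (T : Set G)).relIndex (normalizer (T : Set G)) = 6)
    (K : Subgroup G) (hK : K.Normal) (hi : K.index ∣ 2) (H : Subgroup K) (hH : H.index = 2)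
    (T' : Subgroup G) (hT' : IsKleinFour T') (hTS' : T' ≤ S) : T' ≤ H.map K.subtype := by
  intro t ht
  exact involution_mem_of_index_two S hS T hT hTS h₁ K hK hi H hH t (hTS' ht)
    (Subtype.ext_iff.1 (IsKleinFour.mul_self (⟨t, ht⟩ : T')))

/-- (C2) -/
theorem order_four_mem_of_index_two (Q : Subgroup G) (hQS : Q ≤ S) (eQ : Q ≃* QuaternionGroup 2)
    (h₂ : (Q ⊔ centralizer (Q : Set G)).relIndex (normalizer (Q : Set G)) = 6)
    (K : Subgroup G) (hK : K.Normal) (hi : K.index ∣ 2) (H : Subgroup K) (hH : H.index = 2)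
    (t : G) (ht : t ∈ S) (ht4 : orderOf t = 4) : t ∈ H.map K.subtype := by
  obtain ⟨z, v, h⟩ := exists_qdFus S hS
  obtain ⟨h3, h4⟩ := QDIndexTwoNormal.order_four_mem h hQS ⟨eQ⟩ h₂ K
    ((Nat.dvd_prime Nat.prime_two).1 hi) ht ht4
  exact ⟨_, h4 H hH, rfl⟩

/-- (C2) for quaternion groups -/
theorem quaternion_le_of_index_two (Q : Subgroup G) (hQS : Q ≤ S) (eQ : Q ≃* QuaternionGroup 2)
    (h₂ : (Q ⊔ centralizer (Q : Set G)).relIndex (normalizer (Q : Set G)) = 6)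
    (K : Subgroup G) (hK : K.Normal) (hi : K.index ∣ 2) (H : Subgroup K) (hH : H.index = 2)
    (Q' : Subgroup G) (hQS' : Q' ≤ S) (e : Q' ≃* QuaternionGroup 2) : Q' ≤ H.map K.subtype := by
  have key : ∀ t ∈ Q', orderOf t = 4 → t ∈ H.map K.subtype := fun t ht ht4 =>
    order_four_mem_of_index_two S hS Q hQS eQ h₂ K hK hi H hH t (hQS' ht) ht4
  intro t ht
  have hgen : ∀ q : QuaternionGroup 2, ∃ a b : QuaternionGroup 2, q = a * b ∧ a ^ 2 ≠ 1 ∧ b ^ 2 ≠ 1 ∧
      a ^ 4 = 1 ∧ b ^ 4 = 1 := by decide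
  obtain ⟨a, b, hab, ha, hb, ha4, hb4⟩ := hgen (e ⟨t, ht⟩)
  have ho : ∀ q : QuaternionGroup 2, q ^ 2 ≠ 1 → q ^ 4 = 1 → orderOf ((e.symm q : Q') : G) = 4 := by
    intro q h1 h2
    rw [Subgroup.orderOf_coe, e.symm.orderOf_eq]
    have h3 : orderOf q = 2 ^ (1 + 1) := by
      apply orderOf_eq_prime_pow
      · rw [pow_one]; exact h1
      · exact h2
    rw [h3]; norm_num
  have h5 : t = (e.symm a : G) * (e.symm b : G) := by
    rw [← Subgroup.coe_mul, ← map_mul, ← hab, e.symm_apply_apply]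
  rw [h5]
  exact mul_mem (key _ (e.symm a).2 (ho a ha ha4)) (key _ (e.symm b).2 (ho b hb hb4))

end Cfsg.Agent.TwoFusion.QDFusionMain
end
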