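import Mathlib
set_option linter.all false

/-!
# Normal subgroups of index `p` from control of fusion (transfer)
-/

set_option autoImplicit false

namespace Cfsg.Agent.TwoFusion.TransferIndex

open Subgroup
open scoped commutatorElement

/-- Let `S` be a Sylow `p`-subgroup of the finite group `G` and `D ≤ S` with `|S : D| = m`, such
that `s⁻¹ s' ∈ D` whenever `s, s' ∈ S` are conjugate in `G`. Then `G` has a normal subgroup `K` of
index `m` with `K ∩ S = D`. -/
theorem exists_normal_of_fusion {G : Type*} [Group G] [Finite G] {p : ℕ} [Fact p.Prime]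
    (S : Sylow p G) (D : Subgroup G) (hD : D ≤ S)
    (hf : ∀ s ∈ S, ∀ g : G, g * s * g⁻¹ ∈ S → s⁻¹ * (g * s * g⁻¹) ∈ D) :
    ∃ K : Subgroup G, K.Normal ∧ K.index = D.relIndex S ∧ K ⊓ S = D := by
  have hfoc : (S : Subgroup G).focalSubgroup ≤ D := by
    rw [focalSubgroup_def, closure_le]
    rintro g ⟨hg, x, hx, t, rfl⟩
    have h1 : ⁅x, t⁆ = (x⁻¹)⁻¹ * (t * x⁻¹ * t⁻¹) := by
      rw [commutatorElement_def]; group
    rw [SetLike.mem_coe, h1]
    apply hf _ (inv_mem hx)
    have h2 : t * x⁻¹ * t⁻¹ = x⁻¹ * ⁅x, t⁆ := by rw [commutatorElement_def]; group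
    rw [h2]
    exact mul_mem (inv_mem hx) hg
  set V := (S : Subgroup G).transferFocal with hV
  have hVs : Function.Surjective V := transferFocal_surjective S
  set π := QuotientGroup.mk' ((S : Subgroup G).focalSubgroupOf) with hπ
  have hπs : Function.Surjective π := QuotientGroup.mk'_surjective _
  have hcomm : ∀ a b : S ⧸ (S : Subgroup G).focalSubgroupOf, a * b = b * a :=
    fun a b => (inferInstance : IsMulCommutative (S ⧸ (S : Subgroup G).focalSubgroupOf)).is_comm.comm a b
  -- preimage of `D` in the quotient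
  have hnorm : ((D.subgroupOf S).map π).Normal := by
    constructor
    intro a ha b
    rw [hcomm b a, mul_assoc, mul_inv_cancel, mul_one]; exact ha
  refine ⟨((D.subgroupOf S).map π).comap V, inferInstance, ?_, ?_⟩
  · rw [index_comap_of_surjective _ hVs]
    have h1 : (((D.subgroupOf S).map π).comap π).index = ((D.subgroupOf S).map π).index :=
      index_comap_of_surjective _ hπs
    have h2 : ((D.subgroupOf S).map π).comap π = D.subgroupOf S := by
      apply comap_map_eq_self
      rw [hπ, QuotientGroup.ker_mk']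
      exact comap_mono hfoc
    rw [← h1, h2]; rfl
  · have h3 : ∀ s : S, V (s : G) ∈ (D.subgroupOf S).map π ↔ (s : G) ∈ D := by
      intro s
      have h4 : V (s : G) = π s ^ (S : Subgroup G).index := transferFocal_eq_pow _ s
      rw [h4, ← map_pow]
      have h5 : π (s ^ (S : Subgroup G).index) ∈ (D.subgroupOf S).map π ↔
          s ^ (S : Subgroup G).index ∈ D.subgroupOf S := by
        constructor
        · rintro ⟨d, hd, hde⟩
          have h6 : d⁻¹ * s ^ (S : Subgroup G).index ∈ D.subgroupOf S := by
            have h7 : d⁻¹ * s ^ (S : Subgroup G).index ∈ π.ker := by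
              rw [MonoidHom.mem_ker, map_mul, map_inv, hde]; group
            rw [hπ, QuotientGroup.ker_mk'] at h7
            exact (comap_mono hfoc : _ ≤ D.subgroupOf S) h7
          have h8 : s ^ (S : Subgroup G).index = d * (d⁻¹ * s ^ (S : Subgroup G).index) := by group
          rw [h8]
          exact mul_mem hd h6
        · intro hs
          exact ⟨_, hs, rfl⟩
      rw [h5, mem_subgroupOf, coe_pow]
      constructor
      · intro hs
        obtain ⟨k, hk⟩ := IsPGroup.iff_orderOf.1 S.isPGroup' s
        have hcop : Nat.Coprime (orderOf (s : G)) (S : Subgroup G).index := by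
          rw [Subgroup.orderOf_coe, hk]
          exact Nat.Coprime.pow_left k ((Nat.Prime.coprime_iff_not_dvd Fact.out).2 S.not_dvd_index)
        obtain ⟨j, hj⟩ := exists_pow_eq_self_of_coprime hcop.symm
        rw [← hj]
        exact pow_mem hs j
      · intro hs
        exact pow_mem hs _
    ext x
    rw [mem_inf, mem_comap]
    constructor
    · rintro ⟨h1, h2⟩
      exact (h3 ⟨x, h2⟩).1 h1
    · intro hx
      exact ⟨(h3 ⟨x, hD hx⟩).2 hx, hD hx⟩

/-- A normal subgroup meets a Sylow subgroup in a Sylow subgroup: `|K : K ∩ S|` is prime to `p`. -/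
theorem not_dvd_relIndex_inf {G : Type*} [Group G] [Finite G] {p : ℕ} [Fact p.Prime]
    (S : Sylow p G) (K : Subgroup G) [K.Normal] : ¬ p ∣ (K ⊓ S).relIndex K := by
  rw [inf_comm, inf_relIndex_right]
  intro h
  apply S.not_dvd_index
  refine h.trans ?_
  have h1 : K.relIndex ((S : Subgroup G) ⊔ K) = K.relIndex S := relIndex_sup_right _ _
  have h2 : (S : Subgroup G).relIndex K = (S : Subgroup G).relIndex ((S : Subgroup G) ⊔ K) := by
    have a1 := relIndex_mul_relIndex ((S : Subgroup G) ⊓ K) K ((S : Subgroup G) ⊔ K)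
      inf_le_right le_sup_right
    have a2 := relIndex_mul_relIndex ((S : Subgroup G) ⊓ K) S ((S : Subgroup G) ⊔ K)
      inf_le_left le_sup_left
    rw [← a2, inf_relIndex_right, inf_relIndex_left, h1, mul_comm] at a1
    exact Nat.eq_of_mul_eq_mul_left (Nat.pos_of_ne_zero index_ne_zero_of_finite) a1
  rw [h2]
  exact relIndex_dvd_index_of_le le_sup_left

end Cfsg.Agent.TwoFusion.TransferIndex
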