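import Mathlib
set_option linter.all false

/-!
# Fusion of a cyclic normal subgroup of a Sylow 2-subgroup
-/

set_option autoImplicit false

namespace Cfsg.Agent.TwoFusion.CyclicAut

open Subgroup

/-- elements of the same order in a finite cyclic group generate the same subgroup -/
theorem zpowers_eq_of_orderOf_eq {C : Type*} [Group C] [Finite C] [IsCyclic C] (a b : C)
    (h : orderOf a = orderOf b) : zpowers a = zpowers b := by
  classical
  have := Fintype.ofFinite C
  have key : ∀ c : C, orderOf c = orderOf a → (zpowers c : Set C) = {x | x ^ orderOf a = 1} := by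
    intro c hc
    apply Set.eq_of_subset_of_ncard_le
    · rintro x ⟨i, rfl⟩
      change (c ^ i) ^ orderOf a = 1
      rw [← zpow_natCast, ← zpow_mul, mul_comm, zpow_mul, zpow_natCast, ← hc, pow_orderOf_eq_one,
        one_zpow]
    · have h1 := IsCyclic.card_pow_eq_one_le (α := C) (orderOf_pos a)
      have h2 : ({x : C | x ^ orderOf a = 1} : Set C).ncard ≤ orderOf a := by
        rw [Set.ncard_eq_toFinset_card']
        convert h1 using 2
        ext x; simp
      have h3 : (zpowers c : Set C).ncard = orderOf a := by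
        rw [← hc, ← Nat.card_zpowers c]; rfl
      rw [h3]; exact h2
    · exact Set.toFinite _
  apply SetLike.coe_injective
  rw [key a rfl, key b h.symm]

/-- The automorphism group of a cyclic `2`-group is a `2`-group. -/
theorem isPGroup_mulAut {C : Type*} [Group C] [Finite C] [IsCyclic C] (k : ℕ)
    (h : Nat.card C = 2 ^ k) : IsPGroup 2 (MulAut C) := by
  rw [IsPGroup.iff_card, IsCyclic.card_mulAut, h]
  rcases k with _ | k
  · exact ⟨0, by simp⟩
  · exact ⟨k, by rw [Nat.totient_prime_pow_succ Nat.prime_two]; simp⟩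

/-- If the Sylow 2-subgroup `S` normalizes `⟨s⟩`, `s` a 2-element, every element of `N(⟨s⟩)` acts on
`s` as some element of `S`. -/
theorem exists_conj_eq {G : Type*} [Group G] [Finite G] (S : Sylow 2 G) (s : G) (k : ℕ)
    (hs : orderOf s = 2 ^ k) (hN : (S : Subgroup G) ≤ normalizer (zpowers s : Set G)) (g : G)
    (hg : g ∈ normalizer (zpowers s : Set G)) : ∃ u ∈ (S : Subgroup G), u * s * u⁻¹ = g * s * g⁻¹ := by
  have hcard : Nat.card (zpowers s) = 2 ^ k := by rw [Nat.card_zpowers, hs]
  have hA := isPGroup_mulAut (C := zpowers s) k hcard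
  set f := (zpowers s).normalizerMonoidHom with hf
  have hR : IsPGroup 2 f.range := hA.to_subgroup _
  let S' : Sylow 2 (normalizer (zpowers s : Set G)) := S.subtype hN
  let T : Sylow 2 f.range := S'.mapSurjective f.rangeRestrict_surjective
  have hT : (T : Subgroup f.range) = ⊤ := by
    have h1 : IsPGroup 2 (⊤ : Subgroup f.range) := hR.to_subgroup _
    exact (T.is_maximal' h1 le_top).symm
  have h2 : f.rangeRestrict ⟨g, hg⟩ ∈ (T : Subgroup f.range) := by rw [hT]; exact mem_top _
  obtain ⟨u, hu, hug⟩ := h2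
  refine ⟨u, hu, ?_⟩
  have h3 : f u = f ⟨g, hg⟩ := Subtype.ext_iff.1 hug
  have h4 : (f u) ⟨s, mem_zpowers s⟩ = (f ⟨g, hg⟩) ⟨s, mem_zpowers s⟩ := by rw [h3]
  exact Subtype.ext_iff.1 h4

end Cfsg.Agent.TwoFusion.CyclicAut
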