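import Mathlib
import Cfsg.Prelude.Def_CaseTheorems
set_option linter.all false

/-!
Recognising quasi-dihedral / wreathed Sylow 2-subgroups of a finite group `G` from elements of `G`
satisfying the defining relations and the order of a Sylow 2-subgroup.
-/

set_option autoImplicit false

namespace Cfsg.Agent.TwoFusion.SylowTypeTransfer

/-- Being quasi-dihedral is invariant under isomorphism. -/
theorem isQuasiDihedral_of_mulEquiv {S T : Type*} [Group S] [Group T] (e : S ≃* T)
    (h : Cfsg.IsQuasiDihedral S) : Cfsg.IsQuasiDihedral T := by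
  obtain ⟨n, hn, hc, x, y, hx, hy, hxy⟩ := h
  refine ⟨n, hn, ?_, e x, e y, ?_, ?_, ?_⟩
  · rw [← hc]; exact Nat.card_congr e.symm.toEquiv
  · rw [← hx]; exact orderOf_injective e.toMonoidHom e.injective x
  · rw [← hy]; exact orderOf_injective e.toMonoidHom e.injective y
  · rw [← map_inv, ← map_mul, ← map_mul, hxy, map_pow]

/-- Being wreathed is invariant under isomorphism. -/
theorem isWreathed_of_mulEquiv {S T : Type*} [Group S] [Group T] (e : S ≃* T)
    (h : Cfsg.IsWreathed S) : Cfsg.IsWreathed T := by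
  obtain ⟨n, hn, hc, x, y, z, hx, hxy, hinf, hz, hzxy⟩ := h
  refine ⟨n, hn, ?_, e x, e y, e z, ?_, ?_, ?_, ?_, ?_⟩
  · rw [← hc]; exact Nat.card_congr e.symm.toEquiv
  · rw [← hx]; exact orderOf_injective e.toMonoidHom e.injective x
  · rw [← map_mul, hxy, map_mul]
  · have h1 : Subgroup.zpowers (e x) = (Subgroup.zpowers x).map e.toMonoidHom := by
      rw [MonoidHom.map_zpowers]; rfl
    have h2 : Subgroup.zpowers (e y) = (Subgroup.zpowers y).map e.toMonoidHom := by
      rw [MonoidHom.map_zpowers]; rfl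
    rw [h1, h2, ← Subgroup.map_inf _ _ _ e.injective, hinf, Subgroup.map_bot]
  · rw [← hz]; exact orderOf_injective e.toMonoidHom e.injective z
  · rw [← map_inv, ← map_mul, ← map_mul, hzxy]

/-- If `H` is a subgroup which is a `p`-group, normalised by a `p`-element `z`, then `⟨z⟩ H` is a
`p`-group. -/
theorem isPGroup_zpowers_sup {G : Type*} [Group G] {p : ℕ} {H : Subgroup G} (hH : IsPGroup p H)
    {z : G} {k : ℕ} (hz : orderOf z = p ^ k)
    (hn : ∀ h ∈ H, z * h * z⁻¹ ∈ H) (hn' : ∀ h ∈ H, z⁻¹ * h * z ∈ H) :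
    IsPGroup p (Subgroup.zpowers z ⊔ H : Subgroup G) := by
  refine IsPGroup.to_sup_of_normal_right' ?_ hH ?_
  · exact IsPGroup.of_card (by rw [Nat.card_zpowers, hz])
  · rw [Subgroup.zpowers_le, Subgroup.mem_normalizer_iff]
    intro h
    refine ⟨hn h, fun hh => ?_⟩
    have := hn' _ hh
    simpa [mul_assoc] using this

/-- A Sylow 2-subgroup of the right order is quasi-dihedral as soon as the group has elements
satisfying the quasi-dihedral relations. -/
theorem sylow_isQuasiDihedral {G : Type*} [Group G] [Finite G] (P : Sylow 2 G) {n : ℕ}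
    (hn : 3 ≤ n) (hcard : (Nat.card G).factorization 2 = n + 1) (x y : G)
    (hx : orderOf x = 2 ^ n) (hy : orderOf y = 2) (hyx : y * x * y⁻¹ = x ^ (2 ^ (n - 1) - 1)) :
    Cfsg.IsQuasiDihedral (P : Subgroup G) := by
  have : Fact (Nat.Prime 2) := ⟨Nat.prime_two⟩
  have hy' : y⁻¹ = y := by
    rw [inv_eq_iff_mul_eq_one, ← sq, ← hy]; exact pow_orderOf_eq_one y
  have h1 : ∀ h ∈ Subgroup.zpowers x, y * h * y⁻¹ ∈ Subgroup.zpowers x := by
    rintro h ⟨k, rfl⟩
    refine ⟨((2 ^ (n - 1) - 1 : ℕ) : ℤ) * k, ?_⟩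
    show x ^ (((2 ^ (n - 1) - 1 : ℕ) : ℤ) * k) = y * x ^ k * y⁻¹
    rw [zpow_mul, zpow_natCast, ← hyx, conj_zpow]
  have hQ : IsPGroup 2 (Subgroup.zpowers y ⊔ Subgroup.zpowers x : Subgroup G) := by
    refine isPGroup_zpowers_sup (k := 1) (IsPGroup.of_card (n := n) (by rw [Nat.card_zpowers, hx]))
      (by rw [hy, pow_one]) h1 ?_
    intro h hh
    have := h1 h hh
    rwa [hy'] at this ⊢
  obtain ⟨R, hR⟩ := hQ.exists_le_sylow
  have hyR : y ∈ (R : Subgroup G) := hR (Subgroup.mem_sup_left (Subgroup.mem_zpowers y))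
  have hxR : x ∈ (R : Subgroup G) := hR (Subgroup.mem_sup_right (Subgroup.mem_zpowers x))
  have hRqd : Cfsg.IsQuasiDihedral (R : Subgroup G) := by
    refine ⟨n, hn, ?_, ⟨x, hxR⟩, ⟨y, hyR⟩, ?_, ?_, ?_⟩
    · have := R.card_eq_multiplicity
      rw [hcard] at this
      exact this
    · rw [Subgroup.orderOf_mk]; exact hx
    · rw [Subgroup.orderOf_mk]; exact hy
    · apply Subtype.ext
      simpa using hyx
  exact isQuasiDihedral_of_mulEquiv (R.equiv P) hRqd

/-- A Sylow 2-subgroup of the right order is wreathed as soon as the group has elements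
satisfying the wreathed relations. -/
theorem sylow_isWreathed {G : Type*} [Group G] [Finite G] (P : Sylow 2 G) {n : ℕ}
    (hn : 2 ≤ n) (hcard : (Nat.card G).factorization 2 = 2 * n + 1) (x y z : G)
    (hx : orderOf x = 2 ^ n) (hxy : x * y = y * x)
    (hinf : Subgroup.zpowers x ⊓ Subgroup.zpowers y = ⊥) (hz : orderOf z = 2)
    (hzx : z * x * z⁻¹ = y) :
    Cfsg.IsWreathed (P : Subgroup G) := by
  have : Fact (Nat.Prime 2) := ⟨Nat.prime_two⟩
  have hz2 : z * z = 1 := by rw [← sq, ← hz]; exact pow_orderOf_eq_one z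
  have hz' : z⁻¹ = z := by rw [inv_eq_iff_mul_eq_one]; exact hz2
  have hzy : z * y * z⁻¹ = x := by
    rw [← hzx, hz']
    calc z * (z * x * z) * z = (z * z) * x * (z * z) := by simp only [mul_assoc]
      _ = x := by rw [hz2, one_mul, mul_one]
  have hy : orderOf y = 2 ^ n := by
    rw [← hx, ← hzx]; exact (MulAut.conj z).orderOf_eq x
  have hcomm : Commute x y := hxy
  -- the abelian group ⟨x⟩⟨y⟩
  have hA : IsPGroup 2 (Subgroup.zpowers y ⊔ Subgroup.zpowers x : Subgroup G) := by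
    refine isPGroup_zpowers_sup (k := n) (IsPGroup.of_card (n := n) (by rw [Nat.card_zpowers, hx]))
      hy ?_ ?_
    · rintro h ⟨k, rfl⟩
      refine ⟨k, ?_⟩
      show x ^ k = y * x ^ k * y⁻¹
      rw [← (hcomm.zpow_left k).eq, mul_inv_cancel_right]
    · rintro h ⟨k, rfl⟩
      refine ⟨k, ?_⟩
      show x ^ k = y⁻¹ * x ^ k * y
      rw [mul_assoc, (hcomm.zpow_left k).eq, inv_mul_cancel_left]
  have hconj : ∀ h ∈ (Subgroup.zpowers y ⊔ Subgroup.zpowers x : Subgroup G),
      z * h * z⁻¹ ∈ (Subgroup.zpowers y ⊔ Subgroup.zpowers x : Subgroup G) := by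
    have : (Subgroup.zpowers y ⊔ Subgroup.zpowers x : Subgroup G) ≤
        (Subgroup.zpowers y ⊔ Subgroup.zpowers x : Subgroup G).comap
          (MulAut.conj z).toMonoidHom := by
      rw [sup_le_iff, Subgroup.zpowers_le, Subgroup.zpowers_le, Subgroup.mem_comap,
        Subgroup.mem_comap]
      constructor
      · show z * y * z⁻¹ ∈ _
        rw [hzy]; exact Subgroup.mem_sup_right (Subgroup.mem_zpowers x)
      · show z * x * z⁻¹ ∈ _
        rw [hzx]; exact Subgroup.mem_sup_left (Subgroup.mem_zpowers y)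
    intro h hh
    exact this hh
  have hQ : IsPGroup 2 (Subgroup.zpowers z ⊔ (Subgroup.zpowers y ⊔ Subgroup.zpowers x) :
      Subgroup G) := by
    refine isPGroup_zpowers_sup (k := 1) hA (by rw [hz, pow_one]) hconj ?_
    intro h hh
    have := hconj h hh
    rwa [hz'] at this ⊢
  obtain ⟨R, hR⟩ := hQ.exists_le_sylow
  have hzR : z ∈ (R : Subgroup G) := hR (Subgroup.mem_sup_left (Subgroup.mem_zpowers z))
  have hyR : y ∈ (R : Subgroup G) :=
    hR (Subgroup.mem_sup_right (Subgroup.mem_sup_left (Subgroup.mem_zpowers y)))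
  have hxR : x ∈ (R : Subgroup G) :=
    hR (Subgroup.mem_sup_right (Subgroup.mem_sup_right (Subgroup.mem_zpowers x)))
  have hRw : Cfsg.IsWreathed (R : Subgroup G) := by
    refine ⟨n, hn, ?_, ⟨x, hxR⟩, ⟨y, hyR⟩, ⟨z, hzR⟩, ?_, ?_, ?_, ?_, ?_⟩
    · have := R.card_eq_multiplicity
      rw [hcard] at this
      exact this
    · rw [Subgroup.orderOf_mk]; exact hx
    · apply Subtype.ext
      simpa using hxy
    · rw [eq_bot_iff]
      rintro ⟨g, hg⟩ ⟨⟨a, ha⟩, ⟨b, hb⟩⟩
      have ha' : x ^ a = g := congrArg Subtype.val ha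
      have hb' : y ^ b = g := congrArg Subtype.val hb
      have : g ∈ Subgroup.zpowers x ⊓ Subgroup.zpowers y := ⟨⟨a, ha'⟩, ⟨b, hb'⟩⟩
      rw [hinf, Subgroup.mem_bot] at this
      rw [Subgroup.mem_bot]
      exact Subtype.ext this
    · rw [Subgroup.orderOf_mk]; exact hz
    · apply Subtype.ext
      simpa using hzx
  exact isWreathed_of_mulEquiv (R.equiv P) hRw

end Cfsg.Agent.TwoFusion.SylowTypeTransfer
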