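import Mathlib
import Cfsg.Agent.TwoFusion.QDBasic
import Cfsg.Agent.TwoFusion.WreathedBasic
import Cfsg.Agent.TwoFusion.WreathedAdapted
set_option linter.all false

-- part: TwoFusion/WreathedGCoord
section
/-!
Coordinates of a wreathed Sylow 2-subgroup `S` inside the ambient group `G`, and elementary fusion
facts: with `U` the base (`{v a b}`) and `V = {v a b, v a b * w : 2 * (a - b) = 0}` (that is
`V = Q Z(S)` for a quaternion subgroup `Q` of order 8):
* `N(U)` controls fusion in `U`;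
* consequences of `|N(U) : C(U)| = 2`, `|N(U) : C(U)| = 6` and `|N(V) : V C(V)| = 6`.
-/

set_option autoImplicit false

namespace Cfsg.Agent.TwoFusion.WreathedGCoord

open Cfsg.Agent.TwoFusion.QDBasic Cfsg.Agent.TwoFusion.WreathedBasic

/-! ### General lemmas -/

/-- An element of order 3 modulo the centralizer, acting on a commutative 2-subgroup and fixing all
its involutions, centralizes it. -/
theorem fixes_of_cube {G : Type*} [Group G] (A : Subgroup G)
    (hA : ∀ a ∈ A, ∀ b ∈ A, a * b = b * a)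
    (g : G) (hg : ∀ a ∈ A, g * a * g⁻¹ ∈ A) (h3 : ∀ a ∈ A, g ^ 3 * a * (g ^ 3)⁻¹ = a)
    (hinv : ∀ a ∈ A, a ^ 2 = 1 → g * a * g⁻¹ = a) (k : ℕ) :
    ∀ a ∈ A, a ^ 2 ^ k = 1 → g * a * g⁻¹ = a := by
  induction k with
  | zero => intro a _ h; rw [pow_zero, pow_one] at h; rw [h]; simp
  | succ k ih =>
    intro a ha h
    have h1 : (a ^ 2) ^ 2 ^ k = 1 := by rw [← pow_mul, ← pow_succ']; exact h
    have h2 := ih (a ^ 2) (A.pow_mem ha 2) h1
    obtain ⟨b, hb⟩ : ∃ b, b = g * a * g⁻¹ := ⟨_, rfl⟩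
    have hbA : b ∈ A := by rw [hb]; exact hg a ha
    have hb2 : b ^ 2 = a ^ 2 := by rw [hb, conj_pow]; exact h2
    have he : (b * a⁻¹) ^ 2 = 1 := by
      have hc : Commute b a⁻¹ := hA b hbA a⁻¹ (A.inv_mem ha)
      rw [hc.mul_pow, inv_pow, hb2, mul_inv_cancel]
    have h4 := hinv (b * a⁻¹) (A.mul_mem hbA (A.inv_mem ha)) he
    have h5 : g * b * g⁻¹ = b * a⁻¹ * b := by
      calc g * b * g⁻¹ = (g * (b * a⁻¹) * g⁻¹) * (g * a * g⁻¹) := by group
        _ = b * a⁻¹ * b := by rw [h4, ← hb]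
    have h6 : b * a⁻¹ * b = a := by
      rw [mul_assoc, hA a⁻¹ (A.inv_mem ha) b hbA, ← mul_assoc, ← pow_two, hb2, pow_two, mul_assoc,
        mul_inv_cancel, mul_one]
    have h7 := h3 a ha
    have h8 : g ^ 3 * a * (g ^ 3)⁻¹ = g * (g * (g * a * g⁻¹) * g⁻¹) * g⁻¹ := by
      rw [pow_succ, pow_two]; group
    rw [h8, ← hb, h5, h6, ← hb] at h7
    rw [← hb]; exact h7

/-- Cauchy for the prime 3 in `N / C`. -/
theorem exists_cube {G : Type*} [Group G] [Finite G] (C N : Subgroup G)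
    (hn : (C.subgroupOf N).Normal) (h : 3 ∣ C.relIndex N) : ∃ g ∈ N, g ∉ C ∧ g ^ 3 ∈ C := by
  have hcard : Nat.card (N ⧸ C.subgroupOf N) = C.relIndex N := rfl
  have : Fact (Nat.Prime 3) := ⟨Nat.prime_three⟩
  obtain ⟨q, hq⟩ := exists_prime_orderOf_dvd_card' (G := N ⧸ C.subgroupOf N) 3
    (by rw [hcard]; exact h)
  obtain ⟨g, rfl⟩ := QuotientGroup.mk_surjective q
  refine ⟨g, g.2, ?_, ?_⟩
  · intro hg
    have h1 : (QuotientGroup.mk g : N ⧸ C.subgroupOf N) = 1 :=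
      (QuotientGroup.eq_one_iff g).2 (Subgroup.mem_subgroupOf.2 hg)
    rw [h1, orderOf_one] at hq
    omega
  · have h1 := pow_orderOf_eq_one (QuotientGroup.mk g : N ⧸ C.subgroupOf N)
    rw [hq, ← QuotientGroup.mk_pow, QuotientGroup.eq_one_iff, Subgroup.mem_subgroupOf] at h1
    exact h1

/-- The normalizer permutes the centralizer. -/
theorem conj_mem_centralizer {G : Type*} [Group G] (U : Subgroup G) (g : G)
    (hg : g ∈ Subgroup.normalizer (U : Set G)) (c : G)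
    (hc : c ∈ Subgroup.centralizer (U : Set G)) :
    g * c * g⁻¹ ∈ Subgroup.centralizer (U : Set G) := by
  rw [Subgroup.mem_centralizer_iff] at hc ⊢
  intro h hh
  have h1 : g⁻¹ * h * g ∈ (U : Set G) := by
    have h2 := (Subgroup.mem_normalizer_iff.1 (inv_mem hg) h).1 hh
    simpa using h2
  have h2 := hc _ h1
  calc h * (g * c * g⁻¹) = g * ((g⁻¹ * h * g) * c) * g⁻¹ := by group
    _ = g * (c * (g⁻¹ * h * g)) * g⁻¹ := by rw [h2]
    _ = g * c * g⁻¹ * h := by group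

theorem centralizer_le_normalizer {G : Type*} [Group G] (U : Subgroup G) :
    Subgroup.centralizer (U : Set G) ≤ Subgroup.normalizer (U : Set G) := by
  intro c hc
  rw [Subgroup.mem_centralizer_iff] at hc
  rw [Subgroup.mem_normalizer_iff]
  intro h
  constructor
  · intro hh
    rw [← hc h hh, mul_assoc, mul_inv_cancel, mul_one]; exact hh
  · intro hh
    have h1 := hc _ hh
    have h2 : c * h * c⁻¹ = h := by
      have h3 : c * (c * h * c⁻¹) = c * (c * (h * c⁻¹)) := by group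
      have h4 : c * h = c * (c * h * c⁻¹) := by rw [← h1]; group
      exact (mul_left_cancel h4).symm
    rw [← h2]; exact hh

theorem centralizer_subgroupOf_normal {G : Type*} [Group G] (U : Subgroup G) :
    ((Subgroup.centralizer (U : Set G)).subgroupOf (Subgroup.normalizer (U : Set G))).Normal := by
  constructor
  intro c hc g
  rw [Subgroup.mem_subgroupOf] at hc ⊢
  exact conj_mem_centralizer U g g.2 c hc

/-- The normalizer permutes `V C(V)`. -/
theorem conj_mem_sup {G : Type*} [Group G] (V : Subgroup G) (g : G)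
    (hg : g ∈ Subgroup.normalizer (V : Set G)) (c : G)
    (hc : c ∈ V ⊔ Subgroup.centralizer (V : Set G)) :
    g * c * g⁻¹ ∈ V ⊔ Subgroup.centralizer (V : Set G) := by
  have h1 : V ⊔ Subgroup.centralizer (V : Set G) ≤
      (V ⊔ Subgroup.centralizer (V : Set G)).comap (MulAut.conj g).toMonoidHom := by
    refine sup_le ?_ ?_
    · intro x hx
      exact Subgroup.mem_sup_left ((Subgroup.mem_normalizer_iff.1 hg x).1 hx)
    · intro x hx
      exact Subgroup.mem_sup_right (conj_mem_centralizer V g hg x hx)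
  exact h1 hc

theorem sup_subgroupOf_normal {G : Type*} [Group G] (V : Subgroup G) :
    ((V ⊔ Subgroup.centralizer (V : Set G)).subgroupOf
      (Subgroup.normalizer (V : Set G))).Normal := by
  constructor
  intro c hc g
  rw [Subgroup.mem_subgroupOf] at hc ⊢
  exact conj_mem_sup V g g.2 c hc

/-- Sylow conjugation inside a subgroup `C`: two 2-subgroups of `C` can be conjugated inside a
common Sylow subgroup of `G`. -/
theorem exists_conj_le_sylow {G : Type*} [Group G] [Finite G] {p : ℕ} [Fact p.Prime]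
    (S : Sylow p G) (C A B : Subgroup G) (hA : A ≤ C) (hB : B ≤ C) (hAp : IsPGroup p A)
    (hBp : IsPGroup p B) :
    ∃ c ∈ C, ∃ k : G, (∀ a ∈ A, k * a * k⁻¹ ∈ (S : Subgroup G)) ∧
      (∀ b ∈ B, k * (c * b * c⁻¹) * k⁻¹ ∈ (S : Subgroup G)) := by
  have hA' : IsPGroup p (A.subgroupOf C) :=
    hAp.comap_of_injective C.subtype C.subtype_injective
  have hB' : IsPGroup p (B.subgroupOf C) :=
    hBp.comap_of_injective C.subtype C.subtype_injective
  obtain ⟨P, hP⟩ := hA'.exists_le_sylow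
  obtain ⟨Q, hQ⟩ := hB'.exists_le_sylow
  obtain ⟨c, hc⟩ := MulAction.exists_smul_eq C Q P
  have hPp : IsPGroup p ((P : Subgroup C).map C.subtype) := P.isPGroup'.map C.subtype
  obtain ⟨R, hR⟩ := hPp.exists_le_sylow
  obtain ⟨k, hk⟩ := MulAction.exists_smul_eq G R S
  have hkR : ∀ r ∈ (R : Subgroup G), k * r * k⁻¹ ∈ (S : Subgroup G) := by
    intro r hr
    rw [← hk]
    exact Subgroup.smul_mem_pointwise_smul r (MulAut.conj k) R hr
  refine ⟨c, c.2, k, ?_, ?_⟩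
  · intro a ha
    apply hkR
    apply hR
    exact ⟨⟨a, hA ha⟩, hP (Subgroup.mem_subgroupOf.2 ha), rfl⟩
  · intro b hb
    apply hkR
    apply hR
    refine ⟨c * ⟨b, hB hb⟩ * c⁻¹, ?_, rfl⟩
    rw [← hc]
    exact Subgroup.smul_mem_pointwise_smul (⟨b, hB hb⟩ : C) (MulAut.conj c) Q
      (hQ (Subgroup.mem_subgroupOf.2 hb))

/-! ### Coordinates in the ambient group -/

/-- Coordinates of a wreathed 2-subgroup `S` of `G`. -/
structure GW {G : Type*} [Group G] (S : Subgroup G) (n : ℕ)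
    (v : ZMod (2 ^ n) → ZMod (2 ^ n) → G) (w : G) : Prop where
  two_le : 2 ≤ n
  card : Nat.card S = 2 ^ (2 * n + 1)
  v_mem : ∀ a b, v a b ∈ S
  w_mem : w ∈ S
  v_zero : v 0 0 = 1
  v_mul : ∀ a b c d, v a b * v c d = v (a + c) (b + d)
  v_inj : ∀ a b c d, v a b = v c d → a = c ∧ b = d
  w_v : ∀ a b, w * v a b = v b a * w
  w_w : w * w = 1
  v_ne : ∀ a b c d, v a b ≠ v c d * w
  cases : ∀ s ∈ S, (∃ a b, s = v a b) ∨ (∃ a b, s = v a b * w)

theorem GW.of_isWCoord {G : Type*} [Group G] {S : Subgroup G} {n : ℕ}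
    {u : ZMod (2 ^ n) → ZMod (2 ^ n) → S} {z : S} (h : IsWCoord n u z) :
    GW S n (fun a b => (u a b : G)) (z : G) where
  two_le := h.two_le
  card := h.card
  v_mem a b := (u a b).2
  w_mem := z.2
  v_zero := by rw [h.u_zero]; rfl
  v_mul a b c d := by rw [← Subgroup.coe_mul, h.u_mul]
  v_inj a b c d e := h.u_inj a b c d (Subtype.ext e)
  w_v a b := by rw [← Subgroup.coe_mul, h.z_u, Subgroup.coe_mul]
  w_w := by rw [← Subgroup.coe_mul, h.z_z]; rfl
  v_ne a b c d e := h.u_ne a b c d (Subtype.ext e)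
  cases s hs := by
    rcases h.cases ⟨s, hs⟩ with ⟨a, b, e⟩ | ⟨a, b, e⟩
    · exact Or.inl ⟨a, b, congrArg Subtype.val e⟩
    · exact Or.inr ⟨a, b, congrArg Subtype.val e⟩

namespace GW

variable {G : Type*} [Group G] {S : Subgroup G} {n : ℕ} {v : ZMod (2 ^ n) → ZMod (2 ^ n) → G}
  {w : G}

theorem one_le (h : GW S n v w) : 1 ≤ n := by have := h.two_le; omega

theorem v_eq_one_iff (h : GW S n v w) (a b : ZMod (2 ^ n)) : v a b = 1 ↔ a = 0 ∧ b = 0 := by
  rw [← h.v_zero]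
  exact ⟨h.v_inj a b 0 0, fun e => by rw [e.1, e.2]⟩

theorem v_inv (h : GW S n v w) (a b : ZMod (2 ^ n)) : (v a b)⁻¹ = v (-a) (-b) := by
  rw [inv_eq_iff_mul_eq_one, h.v_mul, add_neg_cancel, add_neg_cancel, h.v_zero]

theorem w_inv (h : GW S n v w) : w⁻¹ = w := inv_eq_of_mul_eq_one_left h.w_w

theorem v_pow (h : GW S n v w) (a b : ZMod (2 ^ n)) (k : ℕ) :
    v a b ^ k = v (k * a) (k * b) := by
  induction k with
  | zero => simp [h.v_zero]
  | succ k ih => rw [pow_succ, ih, h.v_mul]; congr 1 <;> (push_cast; ring)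

theorem v_sq (h : GW S n v w) (a b : ZMod (2 ^ n)) : v a b ^ 2 = v (2 * a) (2 * b) := by
  rw [pow_two, h.v_mul, two_mul, two_mul]

theorem v_comm (h : GW S n v w) (a b c d : ZMod (2 ^ n)) : v a b * v c d = v c d * v a b := by
  rw [h.v_mul, h.v_mul, add_comm a, add_comm b]

theorem v_conj_v (h : GW S n v w) (a b c d : ZMod (2 ^ n)) :
    v a b * v c d * (v a b)⁻¹ = v c d := by
  rw [h.v_comm, mul_assoc, mul_inv_cancel, mul_one]

theorem w_conj_v (h : GW S n v w) (a b : ZMod (2 ^ n)) : w * v a b * w⁻¹ = v b a := by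
  rw [h.w_v, mul_assoc, mul_inv_cancel, mul_one]

theorem vw_mul_vw (h : GW S n v w) (a b c d : ZMod (2 ^ n)) :
    (v a b * w) * (v c d * w) = v (a + d) (b + c) := by
  rw [mul_assoc, ← mul_assoc w, h.w_v, mul_assoc, h.w_w, mul_one, h.v_mul]

theorem vw_mul_v (h : GW S n v w) (a b c d : ZMod (2 ^ n)) :
    (v a b * w) * v c d = v (a + d) (b + c) * w := by
  rw [mul_assoc, h.w_v, ← mul_assoc, h.v_mul]

theorem v_mul_vw (h : GW S n v w) (a b c d : ZMod (2 ^ n)) :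
    v a b * (v c d * w) = v (a + c) (b + d) * w := by
  rw [← mul_assoc, h.v_mul]

theorem vw_sq (h : GW S n v w) (a b : ZMod (2 ^ n)) :
    (v a b * w) ^ 2 = v (a + b) (a + b) := by
  rw [pow_two, h.vw_mul_vw, add_comm b a]

theorem vw_inv (h : GW S n v w) (a b : ZMod (2 ^ n)) :
    (v a b * w)⁻¹ = v (-b) (-a) * w := by
  rw [inv_eq_iff_mul_eq_one, h.vw_mul_vw, ← h.v_zero]
  congr 1 <;> ring

theorem vw_ne_one (h : GW S n v w) (a b : ZMod (2 ^ n)) : v a b * w ≠ 1 := by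
  intro e
  exact h.v_ne 0 0 a b (by rw [e, h.v_zero])

theorem vw_inj (h : GW S n v w) (a b c d : ZMod (2 ^ n)) (e : v a b * w = v c d * w) :
    a = c ∧ b = d := h.v_inj a b c d (mul_right_cancel e)

/-- conjugation by an element of the base outside the base -/
theorem v_conj_vw (h : GW S n v w) (a b c d : ZMod (2 ^ n)) :
    v a b * (v c d * w) * (v a b)⁻¹ = v (c + (a - b)) (d - (a - b)) * w := by
  rw [h.v_mul_vw, h.v_inv, h.vw_mul_v]
  congr 2 <;> ring

theorem v_zero_mul_w (h : GW S n v w) : v 0 0 * w = w := by rw [h.v_zero, one_mul]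

/-- elements of the base with square 1 -/
theorem v_sq_eq_one_iff (h : GW S n v w) (a b : ZMod (2 ^ n)) :
    v a b ^ 2 = 1 ↔ (a = 0 ∨ a = 2 ^ (n - 1)) ∧ (b = 0 ∨ b = 2 ^ (n - 1)) := by
  rw [h.v_sq, h.v_eq_one_iff, two_mul_eq_zero_iff n h.one_le, two_mul_eq_zero_iff n h.one_le]

theorem vw_sq_eq_one_iff (h : GW S n v w) (a b : ZMod (2 ^ n)) :
    (v a b * w) ^ 2 = 1 ↔ a + b = 0 := by
  rw [h.vw_sq, h.v_eq_one_iff, and_self]

theorem half_ne (h : GW S n v w) : (2 : ZMod (2 ^ n)) ^ (n - 1) ≠ 0 := half_ne_zero n h.one_le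

theorem two_half (h : GW S n v w) : (2 : ZMod (2 ^ n)) * 2 ^ (n - 1) = 0 := two_mul_half n h.one_le

theorem half_add_half (h : GW S n v w) :
    (2 : ZMod (2 ^ n)) ^ (n - 1) + 2 ^ (n - 1) = 0 := by
  rw [← two_mul]; exact h.two_half

theorem neg_half (h : GW S n v w) :
    -((2 : ZMod (2 ^ n)) ^ (n - 1)) = 2 ^ (n - 1) := by
  rw [neg_eq_iff_add_eq_zero]; exact h.half_add_half

/-- The base as a subgroup of `G`. -/
def base (h : GW S n v w) : Subgroup G where
  carrier := {s | ∃ a b, s = v a b}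
  one_mem' := ⟨0, 0, h.v_zero.symm⟩
  mul_mem' := by
    rintro _ _ ⟨a, b, rfl⟩ ⟨c, d, rfl⟩
    exact ⟨a + c, b + d, h.v_mul a b c d⟩
  inv_mem' := by
    rintro _ ⟨a, b, rfl⟩
    exact ⟨-a, -b, h.v_inv a b⟩

theorem mem_base (h : GW S n v w) (s : G) : s ∈ h.base ↔ ∃ a b, s = v a b := Iff.rfl

/-- The centre `Z(S)` as a subgroup of `G`. -/
def zen (h : GW S n v w) : Subgroup G where
  carrier := {s | ∃ a, s = v a a}
  one_mem' := ⟨0, h.v_zero.symm⟩
  mul_mem' := by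
    rintro _ _ ⟨a, rfl⟩ ⟨c, rfl⟩
    exact ⟨a + c, h.v_mul a a c c⟩
  inv_mem' := by
    rintro _ ⟨a, rfl⟩
    exact ⟨-a, h.v_inv a a⟩

theorem mem_zen (h : GW S n v w) (s : G) : s ∈ h.zen ↔ ∃ a, s = v a a := Iff.rfl

theorem v_pow_two_pow (h : GW S n v w) (a b : ZMod (2 ^ n)) : v a b ^ 2 ^ n = 1 := by
  rw [h.v_pow, h.v_eq_one_iff]
  push_cast
  rw [two_pow_eq_zero, zero_mul, zero_mul]
  exact ⟨rfl, rfl⟩

theorem zen_comm (h : GW S n v w) (i : ZMod (2 ^ n)) (s : G) (hs : s ∈ S) :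
    v i i * s = s * v i i := by
  rcases h.cases s hs with ⟨a, b, rfl⟩ | ⟨a, b, rfl⟩
  · exact h.v_comm _ _ _ _
  · rw [h.v_mul_vw, h.vw_mul_v, add_comm a, add_comm b]

/-! ### The base `U`: action of its normalizer -/

/-- An element normalizing the base and with cube in its centralizer either centralizes the base or
moves `v e e` to `v e 0` or `v 0 e`. -/
theorem cube_base (h : GW S n v w) (U : Subgroup G) (hU : ∀ g, g ∈ U ↔ ∃ a b, g = v a b)
    (g : G) (hg : g ∈ Subgroup.normalizer (U : Set G))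
    (hgc : g ∉ Subgroup.centralizer (U : Set G))
    (hg3 : g ^ 3 ∈ Subgroup.centralizer (U : Set G)) :
    g * v (2 ^ (n - 1)) (2 ^ (n - 1)) * g⁻¹ = v (2 ^ (n - 1)) 0 ∨
    g * v (2 ^ (n - 1)) (2 ^ (n - 1)) * g⁻¹ = v 0 (2 ^ (n - 1)) := by
  have hne := h.half_ne
  have hUc : ∀ a ∈ U, ∀ b ∈ U, a * b = b * a := by
    intro a ha b hb
    obtain ⟨a1, a2, rfl⟩ := (hU a).1 ha
    obtain ⟨b1, b2, rfl⟩ := (hU b).1 hb
    exact h.v_comm _ _ _ _
  have hgU : ∀ a ∈ U, g * a * g⁻¹ ∈ U := fun a ha => (Subgroup.mem_normalizer_iff.1 hg a).1 ha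
  -- image of an involution
  have himg : ∀ a b, v a b ^ 2 = 1 → ∃ c d, g * v a b * g⁻¹ = v c d ∧
      (c = 0 ∨ c = 2 ^ (n - 1)) ∧ (d = 0 ∨ d = 2 ^ (n - 1)) := by
    intro a b hab
    obtain ⟨c, d, hcd⟩ := (hU _).1 (hgU _ ((hU _).2 ⟨a, b, rfl⟩))
    refine ⟨c, d, hcd, ?_⟩
    rw [← h.v_sq_eq_one_iff, ← hcd, conj_pow, hab, mul_one, mul_inv_cancel]
  have hee : v (2 ^ (n - 1)) (2 ^ (n - 1)) ^ 2 = 1 :=
    (h.v_sq_eq_one_iff _ _).2 ⟨Or.inr rfl, Or.inr rfl⟩
  have he0 : v (2 ^ (n - 1)) 0 ^ 2 = 1 :=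
    (h.v_sq_eq_one_iff _ _).2 ⟨Or.inr rfl, Or.inl rfl⟩
  have h0e : v 0 (2 ^ (n - 1)) ^ 2 = 1 :=
    (h.v_sq_eq_one_iff _ _).2 ⟨Or.inl rfl, Or.inr rfl⟩
  have hinj : ∀ x y : G, g * x * g⁻¹ = g * y * g⁻¹ → x = y := by
    intro x y e
    exact mul_left_cancel (mul_right_cancel e)
  by_contra hcon
  push Not at hcon
  -- g fixes v e e
  have hfix : g * v (2 ^ (n - 1)) (2 ^ (n - 1)) * g⁻¹ = v (2 ^ (n - 1)) (2 ^ (n - 1)) := by
    obtain ⟨c, d, hcd, hc, hd⟩ := himg _ _ hee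
    rcases hc with rfl | rfl <;> rcases hd with rfl | rfl
    · exfalso
      rw [h.v_zero] at hcd
      have h1 := hinj _ 1 (by rw [hcd]; group)
      rw [h.v_eq_one_iff] at h1
      exact hne h1.1
    · exact absurd hcd hcon.2
    · exact absurd hcd hcon.1
    · exact hcd
  -- images of v e 0
  have h1 : (g * v (2 ^ (n - 1)) 0 * g⁻¹ = v (2 ^ (n - 1)) 0 ∧
      g * v 0 (2 ^ (n - 1)) * g⁻¹ = v 0 (2 ^ (n - 1))) ∨
      (g * v (2 ^ (n - 1)) 0 * g⁻¹ = v 0 (2 ^ (n - 1)) ∧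
      g * v 0 (2 ^ (n - 1)) * g⁻¹ = v (2 ^ (n - 1)) 0) := by
    have hprod : (g * v (2 ^ (n - 1)) 0 * g⁻¹) * (g * v 0 (2 ^ (n - 1)) * g⁻¹) =
        v (2 ^ (n - 1)) (2 ^ (n - 1)) := by
      rw [conj_mul, h.v_mul, add_zero, zero_add, hfix]
    obtain ⟨c, d, hcd, hc, hd⟩ := himg _ _ he0
    obtain ⟨c', d', hcd', hc', hd'⟩ := himg _ _ h0e
    rw [hcd, hcd', h.v_mul] at hprod
    obtain ⟨e1, e2⟩ := h.v_inj _ _ _ _ hprod
    rcases hc with rfl | rfl <;> rcases hd with rfl | rfl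
    · exfalso
      rw [h.v_zero] at hcd
      have h1 := hinj _ 1 (by rw [hcd]; group)
      rw [h.v_eq_one_iff] at h1
      exact hne h1.1
    · right
      rw [zero_add] at e1
      have e3 : d' = 0 := by linear_combination e2
      rw [hcd, hcd', e1, e3]
      exact ⟨rfl, rfl⟩
    · left
      rw [zero_add] at e2
      have e3 : c' = 0 := by linear_combination e1
      rw [hcd, hcd', e2, e3]
      exact ⟨rfl, rfl⟩
    · exfalso
      have h1 := hinj _ _ (hfix.trans hcd.symm)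
      exact hne (h.v_inj _ _ _ _ h1).2
  -- the square of g fixes all involutions
  have h2 : ∀ a ∈ U, a ^ 2 = 1 → g ^ 2 * a * (g ^ 2)⁻¹ = a := by
    have hsq : ∀ x, g ^ 2 * x * (g ^ 2)⁻¹ = g * (g * x * g⁻¹) * g⁻¹ := by
      intro x; rw [pow_two]; group
    intro a ha ha2
    obtain ⟨c, d, rfl⟩ := (hU a).1 ha
    obtain ⟨hc, hd⟩ := (h.v_sq_eq_one_iff c d).1 ha2
    rw [hsq]
    rcases hc with rfl | rfl <;> rcases hd with rfl | rfl
    · rw [h.v_zero]; group
    · rcases h1 with ⟨e1, e2⟩ | ⟨e1, e2⟩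
      · rw [e2, e2]
      · rw [e2, e1]
    · rcases h1 with ⟨e1, e2⟩ | ⟨e1, e2⟩
      · rw [e1, e1]
      · rw [e1, e2]
    · rw [hfix, hfix]
  have hg2 : g ^ 2 ∈ Subgroup.centralizer (U : Set G) := by
    have hfc := fixes_of_cube U hUc (g ^ 2)
      (fun a ha => (Subgroup.mem_normalizer_iff.1 (pow_mem hg 2) a).1 ha)
      (fun a ha => by
        have h3 : (g ^ 2) ^ 3 ∈ Subgroup.centralizer (U : Set G) := by
          rw [← pow_mul, mul_comm, pow_mul]; exact pow_mem hg3 2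
        rw [← Subgroup.mem_centralizer_iff.1 h3 a ha, mul_assoc, mul_inv_cancel, mul_one])
      h2 n
    rw [Subgroup.mem_centralizer_iff]
    intro a ha
    obtain ⟨c, d, rfl⟩ := (hU a).1 ha
    have h4 := hfc _ ha (h.v_pow_two_pow c d)
    exact (mul_inv_eq_iff_eq_mul.1 h4).symm
  apply hgc
  have h5 : g = g ^ 3 * (g ^ 2)⁻¹ := by
    rw [pow_succ' g 2, mul_inv_cancel_right]
  rw [h5]
  exact mul_mem hg3 (inv_mem hg2)

/-- `|N(U) : C(U)| = 6` (or just divisible by 3): the central involution is fused in `N(U)` to a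
noncentral one. -/
theorem base_six [Finite G] (h : GW S n v w) (U : Subgroup G) (hU : ∀ g, g ∈ U ↔ ∃ a b, g = v a b)
    (h6 : 3 ∣ (Subgroup.centralizer (U : Set G)).relIndex (Subgroup.normalizer (U : Set G))) :
    ∃ g ∈ Subgroup.normalizer (U : Set G),
    g * v (2 ^ (n - 1)) (2 ^ (n - 1)) * g⁻¹ = v (2 ^ (n - 1)) 0 ∨
    g * v (2 ^ (n - 1)) (2 ^ (n - 1)) * g⁻¹ = v 0 (2 ^ (n - 1)) := by
  obtain ⟨g, hg, hgc, hg3⟩ := exists_cube _ _ (centralizer_subgroupOf_normal U) h6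
  exact ⟨g, hg, h.cube_base U hU g hg hgc hg3⟩

/-! ### The subgroup `V = Q Z(S)`: action of its normalizer -/

theorem mem_centralizer_V (h : GW S n v w) (V : Subgroup G)
    (hV : ∀ g, g ∈ V ↔ ∃ a b, 2 * (a - b) = 0 ∧ (g = v a b ∨ g = v a b * w)) (x : G)
    (hz : ∀ i, x * v i i * x⁻¹ = v i i) (he : x * v (2 ^ (n - 1)) 0 * x⁻¹ = v (2 ^ (n - 1)) 0)
    (hw : x * w * x⁻¹ = w) : x ∈ Subgroup.centralizer (V : Set G) := by
  have h1 : ∀ a b, 2 * (a - b) = 0 → x * v a b * x⁻¹ = v a b := by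
    intro a b hab
    have h2 : v a b = v (a - b) 0 * v b b := by
      rw [h.v_mul, sub_add_cancel, zero_add]
    have h3 : x * v (a - b) 0 * x⁻¹ = v (a - b) 0 := by
      rcases (two_mul_eq_zero_iff n h.one_le _).1 hab with e | e
      · rw [e, h.v_zero]; group
      · rw [e, he]
    rw [h2, ← conj_mul, h3, hz]
  rw [Subgroup.mem_centralizer_iff]
  intro y hy
  obtain ⟨a, b, hab, rfl | rfl⟩ := (hV y).1 hy
  · exact (mul_inv_eq_iff_eq_mul.1 (h1 a b hab)).symm
  · have h4 : x * (v a b * w) * x⁻¹ = v a b * w := by rw [← conj_mul, h1 a b hab, hw]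
    exact (mul_inv_eq_iff_eq_mul.1 h4).symm

/-- An element normalizing `V`, not in `V C(V)`, with cube in `V C(V)`, centralizes `Z(S)` and moves
the involution `v e 0` outside of the base. -/
theorem V_six (h : GW S n v w) (V : Subgroup G)
    (hV : ∀ g, g ∈ V ↔ ∃ a b, 2 * (a - b) = 0 ∧ (g = v a b ∨ g = v a b * w))
    (g : G) (hg : g ∈ Subgroup.normalizer (V : Set G))
    (hgc : g ∉ V ⊔ Subgroup.centralizer (V : Set G))
    (hg3 : g ^ 3 ∈ V ⊔ Subgroup.centralizer (V : Set G)) :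
    (∀ i, g * v i i * g⁻¹ = v i i) ∧
    ∃ a, 4 * a = 0 ∧ g * v (2 ^ (n - 1)) 0 * g⁻¹ = v a (-a) * w := by
  have hne := h.half_ne
  have hinj : ∀ x y : G, g * x * g⁻¹ = g * y * g⁻¹ → x = y := by
    intro x y e
    exact mul_left_cancel (mul_right_cancel e)
  have hgV : ∀ a ∈ V, g * a * g⁻¹ ∈ V := fun a ha => (Subgroup.mem_normalizer_iff.1 hg a).1 ha
  have hgV' : ∀ a ∈ V, g⁻¹ * a * g ∈ V := fun a ha => by
    have := (Subgroup.mem_normalizer_iff.1 (inv_mem hg) a).1 ha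
    simpa using this
  have hwV : w ∈ V := (hV w).2 ⟨0, 0, by simp, Or.inr h.v_zero_mul_w.symm⟩
  have heV : v (2 ^ (n - 1)) 0 ∈ V :=
    (hV _).2 ⟨_, _, by rw [sub_zero]; exact h.two_half, Or.inl rfl⟩
  have hzV : ∀ i, v i i ∈ V := fun i => (hV _).2 ⟨i, i, by rw [sub_self, mul_zero], Or.inl rfl⟩
  have hzcomm : ∀ i, ∀ y ∈ V, v i i * y = y * v i i := by
    intro i y hy
    obtain ⟨a, b, -, rfl | rfl⟩ := (hV y).1 hy
    · exact h.v_comm _ _ _ _
    · rw [h.v_mul_vw, h.vw_mul_v, add_comm a, add_comm b]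
  -- `g` normalizes the centre
  have hgz : ∀ i, ∃ j, g * v i i * g⁻¹ = v j j := by
    intro i
    have hx : ∀ y ∈ V, (g * v i i * g⁻¹) * y = y * (g * v i i * g⁻¹) := by
      intro y hy
      have h1 := hzcomm i _ (hgV' y hy)
      calc (g * v i i * g⁻¹) * y = g * (v i i * (g⁻¹ * y * g)) * g⁻¹ := by group
        _ = g * ((g⁻¹ * y * g) * v i i) * g⁻¹ := by rw [h1]
        _ = y * (g * v i i * g⁻¹) := by group
    obtain ⟨c, d, -, e | e⟩ := (hV _).1 (hgV _ (hzV i))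
    · have h1 := hx w hwV
      rw [e, h.w_v] at h1
      have h2 := (h.vw_inj _ _ _ _ h1).1
      exact ⟨c, by rw [e, h2]⟩
    · exfalso
      have h1 := hx _ heV
      rw [e, h.vw_mul_v, h.v_mul_vw] at h1
      have h2 := (h.vw_inj _ _ _ _ h1).1
      apply hne
      linear_combination -h2
  have hzfix : ∀ i, g * v i i * g⁻¹ = v i i := by
    intro i
    refine fixes_of_cube h.zen ?_ g ?_ ?_ ?_ n (v i i) ⟨i, rfl⟩ (h.v_pow_two_pow i i)
    · rintro _ ⟨a, rfl⟩ _ ⟨b, rfl⟩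
      exact h.v_comm _ _ _ _
    · rintro _ ⟨a, rfl⟩
      exact hgz a
    · rintro _ ⟨a, rfl⟩
      have h1 : V ⊔ Subgroup.centralizer (V : Set G) ≤
          Subgroup.centralizer ({v a a} : Set G) := by
        refine sup_le ?_ ?_
        · intro y hy
          rw [Subgroup.mem_centralizer_iff]
          rintro _ rfl
          exact hzcomm a y hy
        · intro y hy
          rw [Subgroup.mem_centralizer_iff] at hy ⊢
          rintro _ rfl
          exact hy _ (hzV a)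
      have h2 := Subgroup.mem_centralizer_iff.1 (h1 hg3) _ rfl
      rw [← h2, mul_assoc, mul_inv_cancel, mul_one]
    · rintro _ ⟨a, rfl⟩ ha
      rcases ((h.v_sq_eq_one_iff a a).1 ha).1 with rfl | rfl
      · rw [h.v_zero]; group
      · obtain ⟨j, hj⟩ := hgz (2 ^ (n - 1))
        have h1 : v j j ^ 2 = 1 := by rw [← hj, conj_pow, ha, mul_one, mul_inv_cancel]
        rcases ((h.v_sq_eq_one_iff j j).1 h1).1 with rfl | rfl
        · exfalso
          rw [h.v_zero] at hj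
          have h2 := hinj _ 1 (by rw [hj]; group)
          rw [h.v_eq_one_iff] at h2
          exact hne h2.1
        · exact hj
  refine ⟨hzfix, ?_⟩
  have hesq : (g * v (2 ^ (n - 1)) 0 * g⁻¹) ^ 2 = 1 := by
    rw [conj_pow, (h.v_sq_eq_one_iff _ _).2 ⟨Or.inr rfl, Or.inl rfl⟩, mul_one, mul_inv_cancel]
  obtain ⟨a, b, hab, e | e⟩ := (hV _).1 (hgV _ heV)
  · exfalso
    -- image of v e 0
    have h1 : (a = 2 ^ (n - 1) ∧ b = 0) ∨ (a = 0 ∧ b = 2 ^ (n - 1)) := by
      rw [e, h.v_sq_eq_one_iff] at hesq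
      obtain ⟨h1, h2⟩ := hesq
      rcases h1 with rfl | rfl <;> rcases h2 with rfl | rfl
      · exfalso
        rw [h.v_zero] at e
        have h2 := hinj _ 1 (by rw [e]; group)
        rw [h.v_eq_one_iff] at h2
        exact hne h2.1
      · right; exact ⟨rfl, rfl⟩
      · left; exact ⟨rfl, rfl⟩
      · exfalso
        have h2 := hinj _ _ (e.trans (hzfix _).symm)
        exact hne (h.v_inj _ _ _ _ h2).2.symm
    -- image of w
    have h2 : ∃ c, 4 * c = 0 ∧ g * w * g⁻¹ = v c (-c) * w := by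
      have hwsq : (g * w * g⁻¹) ^ 2 = 1 := by
        rw [conj_pow, pow_two, h.w_w, mul_one, mul_inv_cancel]
      obtain ⟨c, d, hcd, e' | e'⟩ := (hV _).1 (hgV _ hwV)
      · exfalso
        have h3 : (g * w * g⁻¹) * (g * v (2 ^ (n - 1)) 0 * g⁻¹) =
            (g * v (2 ^ (n - 1)) 0 * g⁻¹) * (g * w * g⁻¹) := by
          rw [e, e', h.v_comm]
        rw [conj_mul, conj_mul] at h3
        have h4 := hinj _ _ h3
        rw [h.w_v] at h4
        exact hne (h.vw_inj _ _ _ _ h4).2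
      · rw [e', h.vw_sq_eq_one_iff] at hwsq
        have h3 : d = -c := by linear_combination hwsq
        refine ⟨c, ?_, by rw [e', h3]⟩
        rw [h3] at hcd
        linear_combination hcd
    obtain ⟨c, hc, e'⟩ := h2
    have hsq : ∀ x, g ^ 2 * x * (g ^ 2)⁻¹ = g * (g * x * g⁻¹) * g⁻¹ := by
      intro x; rw [pow_two]; group
    -- the square of `g` on `v e 0`
    have h0e : g * v 0 (2 ^ (n - 1)) * g⁻¹ = v b a := by
      have h3 : v 0 (2 ^ (n - 1)) = v (2 ^ (n - 1)) 0 * v (2 ^ (n - 1)) (2 ^ (n - 1)) := by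
        rw [h.v_mul, h.half_add_half, zero_add]
      rw [h3, ← conj_mul, e, hzfix, h.v_mul]
      rcases h1 with ⟨rfl, rfl⟩ | ⟨rfl, rfl⟩
      · rw [h.half_add_half, zero_add]
      · rw [h.half_add_half, zero_add]
    have h3 : g ^ 2 * v (2 ^ (n - 1)) 0 * (g ^ 2)⁻¹ = v (2 ^ (n - 1)) 0 := by
      rw [hsq, e]
      rcases h1 with ⟨rfl, rfl⟩ | ⟨rfl, rfl⟩
      · exact e
      · exact h0e
    have h4 : ∀ i, g ^ 2 * v i i * (g ^ 2)⁻¹ = v i i := by
      intro i; rw [hsq, hzfix, hzfix]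
    -- the square of `g` on `w`
    have h5 : g ^ 2 * w * (g ^ 2)⁻¹ = w ∨
        g ^ 2 * w * (g ^ 2)⁻¹ = v (2 ^ (n - 1)) (2 ^ (n - 1)) * w := by
      have h6 : v c (-c) = v (2 * c) 0 * v (-c) (-c) := by
        rw [h.v_mul]; congr 1 <;> ring
      rw [hsq, e', ← conj_mul, e', h6, ← conj_mul, hzfix]
      have h7 : 2 * (2 * c) = 0 := by linear_combination hc
      rcases (two_mul_eq_zero_iff n h.one_le _).1 h7 with h8 | h8
      · left
        rw [h8, h.v_zero]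
        have h9 : g * 1 * g⁻¹ = 1 := by group
        rw [h9, one_mul, ← mul_assoc, h.v_mul]
        have h10 : -c + -c = 0 := by linear_combination -h8
        rw [h10, h.v_zero, one_mul]
      · have h10 : -c + -c = 2 ^ (n - 1) := by
          have := h.neg_half
          linear_combination -h8 + this
        rw [h8, e, ← mul_assoc, ← mul_assoc, mul_assoc (v a b) _ (v (2 ^ (n - 1)) 0)]
        rcases h1 with ⟨rfl, rfl⟩ | ⟨rfl, rfl⟩
        · right
          rw [h.v_mul, h.v_mul, h.v_mul]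
          congr 2
          · linear_combination h10 + h.half_add_half
          · linear_combination h10
        · left
          rw [h.v_mul, h.v_mul, h.v_mul]
          have h11 : (0 : ZMod (2 ^ n)) + (-c + 2 ^ (n - 1)) + -c = 0 := by
            linear_combination h10 + h.half_add_half
          have h12 : (2 : ZMod (2 ^ n)) ^ (n - 1) + (-c + 0) + -c = 0 := by
            linear_combination h10 + h.half_add_half
          rw [h11, h12, h.v_zero, one_mul]
    have h6 : g ^ 2 ∈ V ⊔ Subgroup.centralizer (V : Set G) := by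
      rcases h5 with h5 | h5
      · exact Subgroup.mem_sup_right (h.mem_centralizer_V V hV _ h4 h3 h5)
      · have h7 : (v (2 ^ (n - 1)) 0)⁻¹ * g ^ 2 ∈ Subgroup.centralizer (V : Set G) := by
          refine h.mem_centralizer_V V hV _ ?_ ?_ ?_
          · intro i
            calc (v (2 ^ (n - 1)) 0)⁻¹ * g ^ 2 * v i i * ((v (2 ^ (n - 1)) 0)⁻¹ * g ^ 2)⁻¹
                = (v (2 ^ (n - 1)) 0)⁻¹ * (g ^ 2 * v i i * (g ^ 2)⁻¹) * v (2 ^ (n - 1)) 0 := by
                  group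
              _ = v i i := by rw [h4, mul_assoc, h.v_comm, inv_mul_cancel_left]
          · calc (v (2 ^ (n - 1)) 0)⁻¹ * g ^ 2 * v (2 ^ (n - 1)) 0 *
                ((v (2 ^ (n - 1)) 0)⁻¹ * g ^ 2)⁻¹
                = (v (2 ^ (n - 1)) 0)⁻¹ * (g ^ 2 * v (2 ^ (n - 1)) 0 * (g ^ 2)⁻¹) *
                  v (2 ^ (n - 1)) 0 := by group
              _ = v (2 ^ (n - 1)) 0 := by rw [h3]; group
          · calc (v (2 ^ (n - 1)) 0)⁻¹ * g ^ 2 * w * ((v (2 ^ (n - 1)) 0)⁻¹ * g ^ 2)⁻¹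
                = (v (2 ^ (n - 1)) 0)⁻¹ * (g ^ 2 * w * (g ^ 2)⁻¹) *
                  v (2 ^ (n - 1)) 0 := by group
              _ = w := by
                rw [h5, h.v_inv, h.v_mul_vw, h.vw_mul_v]
                have h8 : -(2 : ZMod (2 ^ n)) ^ (n - 1) + 2 ^ (n - 1) + 0 = 0 := by ring
                have h9 : -0 + (2 : ZMod (2 ^ n)) ^ (n - 1) + 2 ^ (n - 1) = 0 := by
                  linear_combination h.half_add_half
                rw [h8, h9, h.v_zero, one_mul]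
        have h8 : g ^ 2 = v (2 ^ (n - 1)) 0 * ((v (2 ^ (n - 1)) 0)⁻¹ * g ^ 2) := by group
        rw [h8]
        exact mul_mem (Subgroup.mem_sup_left heV) (Subgroup.mem_sup_right h7)
    apply hgc
    have h7 : g = g ^ 3 * (g ^ 2)⁻¹ := by
      rw [pow_succ' g 2, mul_inv_cancel_right]
    rw [h7]
    exact mul_mem hg3 (inv_mem h6)
  · rw [e, h.vw_sq_eq_one_iff] at hesq
    have h3 : b = -a := by linear_combination hesq
    refine ⟨a, ?_, by rw [e, h3]⟩
    rw [h3] at hab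
    linear_combination hab

/-- `|N(V) : V C(V)| = 6` (or just divisible by 3): all involutions outside the base are fused to
`v e 0` by elements centralizing `Z(S)`. -/
theorem exists_conj_of_six [Finite G] (h : GW S n v w) (V : Subgroup G)
    (hV : ∀ g, g ∈ V ↔ ∃ a b, 2 * (a - b) = 0 ∧ (g = v a b ∨ g = v a b * w))
    (h6 : 3 ∣ (V ⊔ Subgroup.centralizer (V : Set G)).relIndex (Subgroup.normalizer (V : Set G)))
    (c : ZMod (2 ^ n)) :
    ∃ k : G, (∀ i, k * v i i * k⁻¹ = v i i) ∧ k * (v c (-c) * w) * k⁻¹ = v (2 ^ (n - 1)) 0 := by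
  obtain ⟨g, hg, hgc, hg3⟩ := exists_cube _ _ (sup_subgroupOf_normal V) h6
  obtain ⟨hz, a, ha, e⟩ := h.V_six V hV g hg hgc hg3
  have hz' : ∀ i, g⁻¹ * v i i * g = v i i := by
    intro i
    calc g⁻¹ * v i i * g = g⁻¹ * (g * v i i * g⁻¹) * g := by rw [hz]
      _ = v i i := by group
  refine ⟨g⁻¹ * v (a - c) 0, ?_, ?_⟩
  · intro i
    calc g⁻¹ * v (a - c) 0 * v i i * (g⁻¹ * v (a - c) 0)⁻¹
        = g⁻¹ * (v (a - c) 0 * v i i * (v (a - c) 0)⁻¹) * g := by group
      _ = v i i := by rw [h.v_conj_v, hz']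
  · calc g⁻¹ * v (a - c) 0 * (v c (-c) * w) * (g⁻¹ * v (a - c) 0)⁻¹
        = g⁻¹ * (v (a - c) 0 * (v c (-c) * w) * (v (a - c) 0)⁻¹) * g := by group
      _ = g⁻¹ * (v a (-a) * w) * g := by
          rw [h.v_conj_vw]
          congr 4 <;> ring
      _ = v (2 ^ (n - 1)) 0 := by rw [← e]; group

/-! ### The base is weakly closed and its normalizer controls fusion in it -/

theorem two_mul_quarter (h : GW S n v w) : (2 : ZMod (2 ^ n)) * 2 ^ (n - 2) = 2 ^ (n - 1) := by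
  rw [← pow_succ']
  congr 1
  have := h.two_le
  omega

/-- The base is weakly closed in `S`. -/
theorem base_weaklyClosed (h : GW S n v w) (k : G) (hk : ∀ a b, k * v a b * k⁻¹ ∈ S) :
    ∀ a b, ∃ c d, k * v a b * k⁻¹ = v c d := by
  intro a b
  rcases h.cases _ (hk a b) with hab | ⟨c, d, ht⟩
  · exact hab
  exfalso
  have h1 : ∀ i j, ∃ l, (k * v i j * k⁻¹) ^ 2 = v l l := by
    intro i j
    have hcomm : (k * v i j * k⁻¹) * (v c d * w) = (v c d * w) * (k * v i j * k⁻¹) := by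
      rw [← ht, conj_mul, conj_mul, h.v_comm]
    rcases h.cases _ (hk i j) with ⟨p, q, e⟩ | ⟨p, q, e⟩
    · rw [e, h.v_mul_vw, h.vw_mul_v] at hcomm
      obtain ⟨e1, e2⟩ := h.vw_inj _ _ _ _ hcomm
      have e3 : p = q := by linear_combination e1
      refine ⟨2 * p, ?_⟩
      rw [e, h.v_sq, e3]
    · exact ⟨p + q, by rw [e, h.vw_sq]⟩
  have h2 : ∀ i j, v i j ≠ 1 → (∃ i' j', v i' j' ^ 2 = v i j) → v i j ^ 2 = 1 →
      k * v i j * k⁻¹ = v (2 ^ (n - 1)) (2 ^ (n - 1)) := by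
    rintro i j hne ⟨i', j', e⟩ hsq
    obtain ⟨l, hl⟩ := h1 i' j'
    rw [conj_pow, e] at hl
    have h3 : v l l ^ 2 = 1 := by rw [← hl, conj_pow, hsq, mul_one, mul_inv_cancel]
    rcases ((h.v_sq_eq_one_iff l l).1 h3).1 with rfl | rfl
    · exfalso
      apply hne
      rw [h.v_zero] at hl
      calc v i j = k⁻¹ * (k * v i j * k⁻¹) * k := by group
        _ = 1 := by rw [hl]; group
    · exact hl
  have he0 := h2 (2 ^ (n - 1)) 0
    (by rw [ne_eq, h.v_eq_one_iff]; exact fun e => h.half_ne e.1)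
    ⟨2 ^ (n - 2), 0, by rw [h.v_sq, h.two_mul_quarter, mul_zero]⟩
    ((h.v_sq_eq_one_iff _ _).2 ⟨Or.inr rfl, Or.inl rfl⟩)
  have h0e := h2 0 (2 ^ (n - 1))
    (by rw [ne_eq, h.v_eq_one_iff]; exact fun e => h.half_ne e.2)
    ⟨0, 2 ^ (n - 2), by rw [h.v_sq, h.two_mul_quarter, mul_zero]⟩
    ((h.v_sq_eq_one_iff _ _).2 ⟨Or.inl rfl, Or.inr rfl⟩)
  have h3 : v (2 ^ (n - 1)) 0 = v 0 (2 ^ (n - 1)) :=
    mul_left_cancel (mul_right_cancel (he0.trans h0e.symm))
  exact h.half_ne (h.v_inj _ _ _ _ h3).1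

theorem mem_normalizer_base [Finite G] (h : GW S n v w) (U : Subgroup G)
    (hU : ∀ g, g ∈ U ↔ ∃ a b, g = v a b) (k : G) (hk : ∀ u ∈ U, k * u * k⁻¹ ∈ S) :
    k ∈ Subgroup.normalizer (U : Set G) := by
  have h1 := h.base_weaklyClosed k (fun a b => hk _ ((hU _).2 ⟨a, b, rfl⟩))
  apply Subgroup.mem_normalizer_fintype
  intro u hu
  obtain ⟨a, b, rfl⟩ := (hU u).1 hu
  exact (hU _).2 (h1 a b)

theorem w_mem_normalizer_base [Finite G] (h : GW S n v w) (U : Subgroup G)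
    (hU : ∀ g, g ∈ U ↔ ∃ a b, g = v a b) : w ∈ Subgroup.normalizer (U : Set G) := by
  apply h.mem_normalizer_base U hU
  intro u hu
  obtain ⟨a, b, rfl⟩ := (hU u).1 hu
  rw [h.w_conj_v]
  exact h.v_mem _ _

/-- The normalizer of the base controls fusion in the base. -/
theorem fusion_base [Finite G] {S : Sylow 2 G} (h : GW (S : Subgroup G) n v w) (U : Subgroup G)
    (hU : ∀ g, g ∈ U ↔ ∃ a b, g = v a b) (g : G) (a b c d : ZMod (2 ^ n))
    (hg : g * v a b * g⁻¹ = v c d) :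
    ∃ k ∈ Subgroup.normalizer (U : Set G), k * v a b * k⁻¹ = v c d := by
  have hUS : U ≤ (S : Subgroup G) := by
    intro u hu
    obtain ⟨a, b, rfl⟩ := (hU u).1 hu
    exact h.v_mem _ _
  have hU2 : IsPGroup 2 U := S.isPGroup'.to_le hUS
  have hB2 : IsPGroup 2 (U.map (MulAut.conj g).toMonoidHom) := hU2.map _
  obtain ⟨x, hx, k, hk1, hk2⟩ := exists_conj_le_sylow S
    (Subgroup.centralizer ({v c d} : Set G)) U (U.map (MulAut.conj g).toMonoidHom)
    (by
      intro u hu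
      obtain ⟨i, j, rfl⟩ := (hU u).1 hu
      rw [Subgroup.mem_centralizer_iff]
      rintro _ rfl
      exact h.v_comm _ _ _ _)
    (by
      rintro _ ⟨u, hu, rfl⟩
      obtain ⟨i, j, rfl⟩ := (hU u).1 hu
      rw [Subgroup.mem_centralizer_iff]
      rintro _ rfl
      show v c d * (g * v i j * g⁻¹) = (g * v i j * g⁻¹) * v c d
      rw [← hg, conj_mul, conj_mul, h.v_comm])
    hU2 hB2
  have h1 : k ∈ Subgroup.normalizer (U : Set G) := h.mem_normalizer_base U hU k hk1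
  have h2 : k * x * g ∈ Subgroup.normalizer (U : Set G) := by
    apply h.mem_normalizer_base U hU
    intro u hu
    have h3 := hk2 _ ⟨u, hu, rfl⟩
    have h4 : k * (x * ((MulAut.conj g).toMonoidHom u) * x⁻¹) * k⁻¹ =
      (k * x * g) * u * (k * x * g)⁻¹ := by
      show k * (x * (g * u * g⁻¹) * x⁻¹) * k⁻¹ = (k * x * g) * u * (k * x * g)⁻¹
      group
    rw [h4] at h3
    exact h3
  refine ⟨x * g, ?_, ?_⟩
  · have h3 : x * g = k⁻¹ * (k * x * g) := by group
    rw [h3]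
    exact mul_mem (inv_mem h1) h2
  · have h3 : x * g * v a b * (x * g)⁻¹ = x * (g * v a b * g⁻¹) * x⁻¹ := by group
    rw [h3, hg, ← Subgroup.mem_centralizer_iff.1 hx _ rfl, mul_assoc, mul_inv_cancel, mul_one]

/-- If `|N(U) : C(U)| = 2` then elements of the base are fused only by `w`. -/
theorem base_two [Finite G] {S : Sylow 2 G} (h : GW (S : Subgroup G) n v w) (U : Subgroup G)
    (hU : ∀ g, g ∈ U ↔ ∃ a b, g = v a b)
    (h2 : (Subgroup.centralizer (U : Set G)).relIndex (Subgroup.normalizer (U : Set G)) = 2)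
    (g : G) (a b c d : ZMod (2 ^ n)) (hg : g * v a b * g⁻¹ = v c d) :
    (c = a ∧ d = b) ∨ (c = b ∧ d = a) := by
  obtain ⟨k, hk, e⟩ := h.fusion_base U hU g a b c d hg
  have hfix : ∀ x ∈ Subgroup.centralizer (U : Set G), ∀ i j, x * v i j * x⁻¹ = v i j := by
    intro x hx i j
    rw [← Subgroup.mem_centralizer_iff.1 hx _ ((hU _).2 ⟨i, j, rfl⟩), mul_assoc, mul_inv_cancel,
      mul_one]
  have hw := h.w_mem_normalizer_base U hU
  have hwc : w ∉ Subgroup.centralizer (U : Set G) := by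
    intro hwc
    have h3 := hfix w hwc (2 ^ (n - 1)) 0
    rw [h.w_conj_v] at h3
    exact h.half_ne (h.v_inj _ _ _ _ h3).2
  by_cases hkc : k ∈ Subgroup.centralizer (U : Set G)
  · left
    rw [hfix k hkc] at e
    obtain ⟨e1, e2⟩ := h.v_inj _ _ _ _ e
    exact ⟨e1.symm, e2.symm⟩
  · right
    have h3 : (⟨k, hk⟩ * ⟨w, hw⟩ : Subgroup.normalizer (U : Set G)) ∈
        (Subgroup.centralizer (U : Set G)).subgroupOf (Subgroup.normalizer (U : Set G)) := by
      rw [Subgroup.mul_mem_iff_of_index_two h2]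
      exact ⟨fun h4 => absurd h4 hkc, fun h4 => absurd h4 hwc⟩
    rw [Subgroup.mem_subgroupOf] at h3
    have h4 := hfix _ h3 b a
    have h5 : k * w * v b a * (k * w)⁻¹ = k * (w * v b a * w⁻¹) * k⁻¹ := by group
    change k * w * v b a * (k * w)⁻¹ = v b a at h4
    rw [h5, h.w_conj_v, e] at h4
    exact h.v_inj _ _ _ _ h4

end GW

end Cfsg.Agent.TwoFusion.WreathedGCoord
end

-- part: TwoFusion/WreathedSetup
section
/-!
The set-up of S1208-S1212: coordinates inside `G` on a wreathed subgroup `S`, with `U` the base and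
`Q Z(S)` in standard position.
-/

set_option autoImplicit false

namespace Cfsg.Agent.TwoFusion.WreathedSetup

open Cfsg.Agent.TwoFusion.QDBasic Cfsg.Agent.TwoFusion.WreathedBasic
  Cfsg.Agent.TwoFusion.WreathedAdapted Cfsg.Agent.TwoFusion.WreathedGCoord

theorem exists_setup {G : Type*} [Group G] [Finite G] (S : Subgroup G) (hS : Cfsg.IsWreathed S)
    (n : ℕ) (hn : Nat.card S = 2 ^ (2 * n + 1)) (U : Subgroup G) (hUS : U ≤ S)
    (hUab : IsMulCommutative U) (hUcard : Nat.card U = 2 ^ (2 * n)) (Q : Subgroup G) (hQS : Q ≤ S)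
    (eQ : Q ≃* QuaternionGroup 2) :
    ∃ (v : ZMod (2 ^ n) → ZMod (2 ^ n) → G) (w : G), GW S n v w ∧
      (∀ g, g ∈ U ↔ ∃ a b, g = v a b) ∧
      (∀ g, g ∈ (Subgroup.center S).map S.subtype ↔ ∃ a, g = v a a) ∧
      (∀ g, g ∈ (Q ⊔ (Subgroup.center S).map S.subtype) ↔
        ∃ a b, 2 * (a - b) = 0 ∧ (g = v a b ∨ g = v a b * w)) ∧
      (∀ g, g ∈ Q → ∃ a b, 2 * (a - b) = 0 ∧ (g = v a b ∨ g = v a b * w)) := by
  obtain ⟨u, z, h, hV⟩ := exists_adapted_coord hS n hn (Q.subgroupOf S)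
    ((Subgroup.subgroupOfEquivOfLe hQS).trans eQ)
  have hU : U.subgroupOf S = h.base := by
    apply base_eq_of_comm h
    · refine ⟨⟨?_⟩⟩
      rintro ⟨⟨a, ha⟩, ha'⟩ ⟨⟨b, hb⟩, hb'⟩
      have h1 : a * b = b * a := congrArg Subtype.val (hUab.is_comm.comm
        (⟨a, Subgroup.mem_subgroupOf.1 ha'⟩ : U) ⟨b, Subgroup.mem_subgroupOf.1 hb'⟩)
      exact Subtype.ext (Subtype.ext h1)
    · rw [← hUcard]
      exact Nat.card_congr (Subgroup.subgroupOfEquivOfLe hUS).toEquiv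
  have hVG : Q ⊔ (Subgroup.center S).map S.subtype = (vSub h).map S.subtype := by
    rw [← hV, Subgroup.map_sup, Subgroup.subgroupOf_map_subtype, inf_eq_left.2 hQS]
  have hVmem : ∀ g, g ∈ (Q ⊔ (Subgroup.center S).map S.subtype) ↔
        ∃ a b, 2 * (a - b) = 0 ∧ (g = (u a b : G) ∨ g = (u a b : G) * (z : G)) := by
    intro g
    rw [hVG]
    constructor
    · rintro ⟨s, ⟨a, b, hab, rfl | rfl⟩, rfl⟩
      · exact ⟨a, b, hab, Or.inl rfl⟩
      · exact ⟨a, b, hab, Or.inr rfl⟩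
    · rintro ⟨a, b, hab, rfl | rfl⟩
      · exact ⟨u a b, ⟨a, b, hab, Or.inl rfl⟩, rfl⟩
      · exact ⟨u a b * z, ⟨a, b, hab, Or.inr rfl⟩, rfl⟩
  refine ⟨fun a b => (u a b : G), (z : G), GW.of_isWCoord h, ?_, ?_, hVmem, ?_⟩
  · intro g
    constructor
    · intro hg
      have h1 : (⟨g, hUS hg⟩ : S) ∈ h.base := by
        rw [← hU, Subgroup.mem_subgroupOf]; exact hg
      obtain ⟨a, b, e⟩ := h1
      exact ⟨a, b, congrArg Subtype.val e⟩
    · rintro ⟨a, b, rfl⟩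
      have h1 : u a b ∈ U.subgroupOf S := by rw [hU]; exact h.u_mem_base a b
      exact Subgroup.mem_subgroupOf.1 h1
  · intro g
    constructor
    · rintro ⟨s, hs, rfl⟩
      obtain ⟨a, rfl⟩ := (h.mem_center_iff s).1 hs
      exact ⟨a, rfl⟩
    · rintro ⟨a, rfl⟩
      exact ⟨u a a, (h.mem_center_iff _).2 ⟨a, rfl⟩, rfl⟩
  · intro g hg
    exact (hVmem g).1 (Subgroup.mem_sup_left hg)

end Cfsg.Agent.TwoFusion.WreathedSetup
end
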