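import Mathlib
import Cfsg.Agent.TwoFusion.WreathedBasic
import Cfsg.Agent.TwoFusion.WreathedAdapted
import Cfsg.Agent.TwoFusion.WreathedSub
import Cfsg.Agent.TwoFusion.OddAut
import Cfsg.Agent.Lib.DihedralRecog
set_option linter.all false

/-!
Self-centralizing subgroups of wreathed 2-groups with an automorphism of odd order: they are the base
and the conjugates of `vSub h = Q Z(S)`, `Q` quaternion of order 8.
-/

set_option autoImplicit false

namespace Cfsg.Agent.TwoFusion.WreathedOddAut

open Cfsg.Agent.TwoFusion.QDBasic Cfsg.Agent.TwoFusion.WreathedBasic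
  Cfsg.Agent.TwoFusion.WreathedAdapted Cfsg.Agent.TwoFusion.OddAut

variable {S : Type*} [Group S] {n : ℕ} {u : ZMod (2 ^ n) → ZMod (2 ^ n) → S} {z : S}

theorem u_zpow (h : IsWCoord n u z) (a b : ZMod (2 ^ n)) (k : ℤ) :
    u a b ^ k = u (k * a) (k * b) := by
  obtain ⟨m, rfl | rfl⟩ := k.eq_nat_or_neg
  · rw [zpow_natCast, h.u_pow]
    push_cast
    rfl
  · rw [zpow_neg, zpow_natCast, h.u_pow, h.u_inv]
    push_cast
    congr 1 <;> ring

theorem exists_half (n : ℕ) (hn : 2 ≤ n) (a : ZMod (2 ^ n)) (ha : 2 * a = 0) :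
    ∃ i, a = 2 * i := by
  rcases (two_mul_eq_zero_iff n (by omega) a).1 ha with h | h
  · exact ⟨0, by rw [h, mul_zero]⟩
  · refine ⟨2 ^ (n - 2), ?_⟩
    rw [h, ← pow_succ']
    congr 1
    omega

theorem exists_half' (n : ℕ) (hn : 1 ≤ n) (a : ZMod (2 ^ n)) (ha : 2 ^ (n - 1) * a = 0) :
    ∃ i, a = 2 * i := by
  obtain ⟨j, rfl⟩ := ZMod.intCast_surjective a
  have h1 : (((2 ^ (n - 1) * j : ℤ)) : ZMod (2 ^ n)) = 0 := by
    push_cast
    exact ha
  rw [ZMod.intCast_zmod_eq_zero_iff_dvd] at h1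
  obtain ⟨m, rfl⟩ : ∃ m, n = m + 1 := ⟨n - 1, by omega⟩
  have h2 : (2 : ℤ) ∣ j := by
    push_cast at h1
    rw [pow_succ] at h1
    exact Int.dvd_of_mul_dvd_mul_left (by positivity) h1
  obtain ⟨i, rfl⟩ := h2
  exact ⟨i, by push_cast; rfl⟩

theorem pow_two_pow (h : IsWCoord n u z) (x : S) : x ^ (2 ^ (2 * n + 1)) = 1 := by
  rw [← h.card]
  exact pow_card_eq_one'

theorem eq_of_two_mul (n : ℕ) (hn : 1 ≤ n) (x y : ZMod (2 ^ n)) (hx : 2 * x = 0) (hy : 2 * y = 0)
    (hx0 : x ≠ 0) (hy0 : y ≠ 0) : x = y := by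
  rcases (two_mul_eq_zero_iff n hn x).1 hx with h | h
  · exact absurd h hx0
  · rcases (two_mul_eq_zero_iff n hn y).1 hy with h' | h'
    · exact absurd h' hy0
    · rw [h, h']

/-- The subgroup `X` contains the centre. -/
theorem uu_mem (h : IsWCoord n u z) (X : Subgroup S)
    (hC : Subgroup.centralizer (X : Set S) ≤ X) (a : ZMod (2 ^ n)) : u a a ∈ X :=
  hC (Subgroup.center_le_centralizer _ ((h.u_mem_center_iff a a).2 rfl))

theorem eq_base (h : IsWCoord n u z) (X : Subgroup S)
    (hC : Subgroup.centralizer (X : Set S) ≤ X) (hX : ∀ a b, u a b * z ∉ X) : X = h.base := by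
  apply le_antisymm
  · intro x hx
    rcases h.cases x with ⟨a, b, rfl⟩ | ⟨a, b, rfl⟩
    · exact h.u_mem_base a b
    · exact absurd hx (hX a b)
  · rintro _ ⟨a, b, rfl⟩
    apply hC
    rw [Subgroup.mem_centralizer_iff]
    intro x hx
    rcases h.cases x with ⟨c, d, rfl⟩ | ⟨c, d, rfl⟩
    · exact h.u_comm _ _ _ _
    · exact absurd hx (hX c d)

/-- If `A (u 1 1) = u c c` then `A` fixes the centre. -/
theorem fix_center (h : IsWCoord n u z) (X : Subgroup S)
    (hC : Subgroup.centralizer (X : Set S) ≤ X) {A : S → S} (hA : IsOddAut X A)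
    {c : ZMod (2 ^ n)} (e : A (u 1 1) = u c c) (a : ZMod (2 ^ n)) : A (u a a) = u a a := by
  obtain ⟨j, rfl⟩ := ZMod.intCast_surjective c
  have h1 : A (u 1 1) = u 1 1 := by
    refine hA.fix_of_eq_zpow_mul (uu_mem h X hC 1) X.one_mem (j := j) (m := 2 * n + 1) ?_ hA.one
      (Commute.one_right _) (pow_two_pow h)
    rw [e, u_zpow h]
    simp
  obtain ⟨k, rfl⟩ := ZMod.intCast_surjective a
  have h2 : u (k : ZMod (2 ^ n)) k = u 1 1 ^ k := by rw [u_zpow h]; simp
  rw [h2, hA.zpow (uu_mem h X hC 1), h1]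

/-- commutative case -/
theorem false_of_comm (h : IsWCoord n u z) (X : Subgroup S)
    (hC : Subgroup.centralizer (X : Set S) ≤ X) (hX : IsMulCommutative X) {a b : ZMod (2 ^ n)}
    (hab : u a b * z ∈ X) {A : S → S} (hA : IsOddAut X A) {x₀ : S} (hx₀ : x₀ ∈ X)
    (hne : A x₀ ≠ x₀) : False := by
  have hcomm : ∀ x ∈ X, ∀ y ∈ X, x * y = y * x := fun x hx y hy =>
    congrArg Subtype.val (hX.is_comm.comm ⟨x, hx⟩ ⟨y, hy⟩)
  have hu : ∀ c d, u c d ∈ X → c = d := fun c d hcd =>
    (WreathedSub.uz_comm_u_iff h a b c d).1 (hcomm _ hab _ hcd)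
  have huz : ∀ c d, u c d * z ∈ X → a - b = c - d := fun c d hcd =>
    (WreathedSub.uz_comm_uz_iff h a b c d).1 (hcomm _ hab _ hcd)
  have hZ := uu_mem h X hC
  have hAz := hA.mem _ (hZ 1)
  rcases h.cases (A (u 1 1)) with ⟨c, d, e⟩ | ⟨c, d, e⟩
  · -- the centre is fixed
    rw [e] at hAz
    obtain rfl := hu c d hAz
    have hfix := fix_center h X hC hA e
    have hAs := hA.mem _ hab
    have hs : A (u a b * z) = u a b * z := by
      rcases h.cases (A (u a b * z)) with ⟨c', d', e'⟩ | ⟨c', d', e'⟩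
      · rw [e'] at hAs
        obtain rfl := hu c' d' hAs
        rw [← hfix c'] at e'
        exact absurd (hA.inj hab (hZ c') e').symm (h.u_ne _ _ _ _)
      · rw [e'] at hAs
        have h1 := huz c' d' hAs
        have h2 : u c' d' * z = u a b * z * u (c' - a) (c' - a) := by
          rw [h.uz_mul_u]
          congr 2
          · ring
          · linear_combination h1
        have h3 := hA.fix_of_eq_mul hab (hZ (c' - a)) (e'.trans h2) (hfix _) (pow_two_pow h _)
        rw [e', h2, h3, mul_one]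
    apply hne
    rcases h.cases x₀ with ⟨c', d', rfl⟩ | ⟨c', d', rfl⟩
    · obtain rfl := hu c' d' hx₀
      exact hfix c'
    · have h1 := huz c' d' hx₀
      have h2 : u c' d' * z = u a b * z * u (c' - a) (c' - a) := by
        rw [h.uz_mul_u]
        congr 2
        · ring
        · linear_combination h1
      rw [h2, hA.mul _ hab _ (hZ _), hs, hfix]
  · -- `A (u 1 1)` is outside the base
    rw [e] at hAz
    -- c + d is even
    have h1 : A (u 2 2) = u (c + d) (c + d) := by
      have h2 : u 2 2 = u 1 1 * u 1 1 := by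
        rw [h.u_mul]; congr 1 <;> ring
      rw [h2, hA.mul _ (hZ 1) _ (hZ 1), e, h.uz_mul_uz, add_comm d c]
    obtain ⟨i, hi⟩ : ∃ i, c + d = 2 * i := by
      apply exists_half' n h.one_le
      have h3 : u 2 2 ^ (2 ^ (n - 1)) = 1 := by
        rw [h.u_pow, h.u_eq_one_iff]
        push_cast
        rw [← pow_succ, Nat.sub_add_cancel h.one_le, two_pow_eq_zero]
        exact ⟨rfl, rfl⟩
      have h4 := hA.pow (hZ 2) (2 ^ (n - 1))
      rw [h3, hA.one, h1, h.u_pow] at h4
      have h5 := ((h.u_eq_one_iff _ _).1 h4.symm).1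
      push_cast at h5
      exact h5
    have hfix2 : A (u 2 2) = u 2 2 := by
      obtain ⟨j, rfl⟩ := ZMod.intCast_surjective i
      refine hA.fix_of_eq_zpow_mul (hZ 2) X.one_mem (j := j) (m := 2 * n + 1) ?_ hA.one
        (Commute.one_right _) (pow_two_pow h)
      rw [h1, u_zpow h, hi, mul_one]
      congr 1 <;> ring
    have hfix : ∀ t, A (u (2 * t) (2 * t)) = u (2 * t) (2 * t) := by
      intro t
      obtain ⟨k, rfl⟩ := ZMod.intCast_surjective t
      have h2 : u (2 * (k : ZMod (2 ^ n))) (2 * k) = u 2 2 ^ k := by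
        rw [u_zpow h]; congr 1 <;> ring
      rw [h2, hA.zpow (hZ 2), hfix2]
    have hcd : c + d = 2 := by
      rw [hfix2] at h1
      exact (h.u_inj _ _ _ _ h1).1.symm
    -- ω
    have hωX : u (c - 1) (d - 1) * z ∈ X := by
      have h3 := X.mul_mem (hZ (-1)) hAz
      rw [h.u_mul_uz] at h3
      have h4 : u (-1 + c) (-1 + d) * z = u (c - 1) (d - 1) * z := by
        congr 2 <;> ring
      rwa [h4] at h3
    have hAω := hA.mem _ hωX
    have hωω : u (c - 1) (d - 1) * z * (u (c - 1) (d - 1) * z) = 1 := by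
      rw [h.uz_mul_uz, h.u_eq_one_iff]
      exact ⟨by linear_combination hcd, by linear_combination hcd⟩
    have hAωω : A (u (c - 1) (d - 1) * z) * A (u (c - 1) (d - 1) * z) = 1 := by
      rw [← hA.mul _ hωX _ hωX, hωω, hA.one]
    have hωfix : A (u (c - 1) (d - 1) * z) = u (c - 1) (d - 1) * z := by
      rcases h.cases (A (u (c - 1) (d - 1) * z)) with ⟨c', d', e'⟩ | ⟨c', d', e'⟩
      · rw [e'] at hAω hAωω
        obtain rfl := hu c' d' hAω
        rw [h.u_mul, h.u_eq_one_iff] at hAωω
        obtain ⟨t, rfl⟩ := exists_half n h.two_le c' (by linear_combination hAωω.1)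
        rw [← hfix t] at e'
        exact absurd (hA.inj hωX (hZ _) e').symm (h.u_ne _ _ _ _)
      · rw [e'] at hAω hAωω
        rw [h.uz_mul_uz, h.u_eq_one_iff] at hAωω
        have h5 := huz _ _ hAω
        have h6 := huz _ _ hωX
        obtain ⟨t, ht⟩ := exists_half n h.two_le (c' - (c - 1)) (by
          linear_combination hAωω.1 - h5 + h6 - hcd)
        have h7 : u c' d' * z = u (c - 1) (d - 1) * z * u (2 * t) (2 * t) := by
          rw [h.uz_mul_u, ← ht]
          congr 2
          · ring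
          · linear_combination h5 - h6
        have h8 := hA.fix_of_eq_mul hωX (hZ _) (e'.trans h7) (hfix t) (pow_two_pow h _)
        rw [e', h7, h8, mul_one]
    have h9 : A (u 1 1) = u 1 1 * (u (c - 1) (d - 1) * z) := by
      rw [e, h.u_mul_uz]
      congr 2 <;> ring
    exact h.uz_ne_one _ _ (hA.fix_of_eq_mul (hZ 1) hωX h9 hωfix (pow_two_pow h _))

/-- In the non-commutative case `A` fixes the centre. -/
theorem fix_center_of_not_comm (h : IsWCoord n u z) (X : Subgroup S)
    (hC : Subgroup.centralizer (X : Set S) ≤ X) (hX : ¬ IsMulCommutative X)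
    {A : S → S} (hA : IsOddAut X A) (a : ZMod (2 ^ n)) : A (u a a) = u a a := by
  have hZ := uu_mem h X hC
  have h1 : A (u 1 1) ∈ Subgroup.center S := by
    refine WreathedSub.center_le_of_not_comm h X hX (hA.mem _ (hZ 1)) ?_
    intro y hy
    obtain ⟨w, hw, rfl⟩ := hA.exists_preimage hy
    rw [← hA.mul _ hw _ (hZ 1), ← hA.mul _ (hZ 1) _ hw]
    congr 1
    exact (Subgroup.mem_center_iff.1 ((h.u_mem_center_iff 1 1).2 rfl)) w
  obtain ⟨c, e⟩ := (h.mem_center_iff _).1 h1
  exact fix_center h X hC hA e a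

/-- In the non-commutative case there is an element of the base moved out of the base. -/
theorem exists_moved (h : IsWCoord n u z) (X : Subgroup S)
    (hC : Subgroup.centralizer (X : Set S) ≤ X) (hX : ¬ IsMulCommutative X)
    {A : S → S} (hA : IsOddAut X A) {x₀ : S} (hx₀ : x₀ ∈ X)
    (hne : A x₀ ≠ x₀) : ∃ e f a b, u e f ∈ X ∧ A (u e f) = u a b * z := by
  by_contra hcon
  push Not at hcon
  have hZ := uu_mem h X hC
  have hfix := fix_center_of_not_comm h X hC hX hA
  have hD : ∀ e f, u e f ∈ X → ∃ a b, A (u e f) = u a b := by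
    intro e f hef
    rcases h.cases (A (u e f)) with ⟨a, b, h1⟩ | ⟨a, b, h1⟩
    · exact ⟨a, b, h1⟩
    · exact absurd h1 (hcon e f a b hef)
  -- the additive subgroup of differences
  let T : AddSubgroup (ZMod (2 ^ n)) :=
    { carrier := {t | u t 0 ∈ X}
      zero_mem' := by
        change u 0 0 ∈ X
        exact hZ 0
      add_mem' := by
        intro s t hs ht
        change u s 0 ∈ X at hs
        change u t 0 ∈ X at ht
        change u (s + t) 0 ∈ X
        have := X.mul_mem hs ht
        rw [h.u_mul, add_zero] at this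
        exact this
      neg_mem' := by
        intro t ht
        change u t 0 ∈ X at ht
        change u (-t) 0 ∈ X
        have := X.inv_mem ht
        rw [h.u_inv, neg_zero] at this
        exact this }
  have hTmem : ∀ t, t ∈ T ↔ u t 0 ∈ X := fun t => Iff.rfl
  have hdiff : ∀ e f, u e f ∈ X → e - f ∈ T := by
    intro e f hef
    rw [hTmem]
    have := X.mul_mem hef (hZ (-f))
    rw [h.u_mul, add_neg_cancel, ← sub_eq_add_neg] at this
    exact this
  have hTc : IsAddCyclic T := inferInstance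
  obtain ⟨⟨t, htT⟩, ht⟩ := hTc.exists_zsmul_surjective
  have htT' := (hTmem t).1 htT
  have hgen : ∀ s ∈ T, ∃ j : ℤ, s = j * t := by
    intro s hs
    obtain ⟨j, hj⟩ := ht ⟨s, hs⟩
    refine ⟨j, ?_⟩
    have := congrArg Subtype.val hj
    simp only [AddSubgroup.coe_zsmul] at this
    rw [← this, zsmul_eq_mul]
  have hut : A (u t 0) = u t 0 := by
    obtain ⟨a, b, e⟩ := hD _ _ htT'
    have h1 := hA.mem _ htT'
    rw [e] at h1
    obtain ⟨j, hj⟩ := hgen _ (hdiff _ _ h1)
    refine hA.fix_of_eq_zpow_mul htT' (hZ b) (j := j) (m := 2 * n + 1) ?_ (hfix b)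
      (h.u_comm _ _ _ _) (pow_two_pow h)
    rw [e, u_zpow h, h.u_mul, ← hj]
    congr 1 <;> ring
  have hDfix : ∀ e f, u e f ∈ X → A (u e f) = u e f := by
    intro e f hef
    obtain ⟨j, hj⟩ := hgen _ (hdiff _ _ hef)
    have h1 : u e f = u t 0 ^ j * u f f := by
      rw [u_zpow h, h.u_mul, ← hj]
      congr 1 <;> ring
    rw [h1, hA.mul _ (X.zpow_mem htT' _) _ (hZ f), hA.zpow htT', hut, hfix]
  apply hne
  rcases h.cases x₀ with ⟨c, d, rfl⟩ | ⟨c, d, rfl⟩
  · exact hDfix c d hx₀
  · have hAs := hA.mem _ hx₀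
    rcases h.cases (A (u c d * z)) with ⟨c', d', e'⟩ | ⟨c', d', e'⟩
    · rw [e'] at hAs
      rw [← hDfix c' d' hAs] at e'
      exact absurd (hA.inj hx₀ hAs e').symm (h.u_ne _ _ _ _)
    · rw [e'] at hAs
      have h2 : u c' d' * z = u c d * z * u (d' - d) (c' - c) := by
        rw [h.uz_mul_u]
        congr 2
        · ring
        · ring
      have h3 : u (d' - d) (c' - c) ∈ X := by
        have h4 := X.mul_mem (X.inv_mem hx₀) hAs
        rw [h2, inv_mul_cancel_left] at h4
        exact h4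
      have h5 := hA.fix_of_eq_mul hx₀ h3 (e'.trans h2) (hDfix _ _ h3) (pow_two_pow h _)
      rw [e', h2, h5, mul_one]

/-- Non-commutative case. -/
theorem eq_vSub_of_not_comm (h : IsWCoord n u z) (X : Subgroup S)
    (hC : Subgroup.centralizer (X : Set S) ≤ X) (hX : ¬ IsMulCommutative X)
    {A : S → S} (hA : IsOddAut X A) {x₀ : S} (hx₀ : x₀ ∈ X)
    (hne : A x₀ ≠ x₀) : ∃ c, X = vSub (change_z h c) := by
  obtain ⟨e, f, a, b, hef, hAef⟩ := exists_moved h X hC hX hA hx₀ hne
  have hZ := uu_mem h X hC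
  have hfix := fix_center_of_not_comm h X hC hX hA
  have hs : u a b * z ∈ X := by
    rw [← hAef]
    exact hA.mem _ hef
  -- elements of the base moved outside have `2 c = 2 d`
  have hmoved : ∀ c d c' d', u c d ∈ X → A (u c d) = u c' d' * z → 2 * c = c' + d' ∧ 2 * d = c' + d' := by
    intro c d c' d' hcd hAcd
    have h1 : A (u c d * u c d) = u (c' + d') (c' + d') := by
      rw [hA.mul _ hcd _ hcd, hAcd, h.uz_mul_uz, add_comm d' c']
    rw [← hfix (c' + d')] at h1
    have h2 := hA.inj (X.mul_mem hcd hcd) (hZ _) h1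
    rw [h.u_mul] at h2
    obtain ⟨h3, h4⟩ := h.u_inj _ _ _ _ h2
    exact ⟨by linear_combination h3, by linear_combination h4⟩
  obtain ⟨he, hf⟩ := hmoved _ _ _ _ hef hAef
  have hef0 : e - f ≠ 0 := by
    intro h0
    have h1 : e = f := by linear_combination h0
    subst h1
    rw [hfix] at hAef
    exact h.u_ne _ _ _ _ hAef
  have hef2 : 2 * (e - f) = 0 := by linear_combination he - hf
  have hU : ∀ c d, u c d ∈ X ↔ 2 * (c - d) = 0 := by
    intro c d
    constructor
    · intro hcd
      rcases h.cases (A (u c d)) with ⟨c', d', h1⟩ | ⟨c', d', h1⟩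
      · have h2 : A (u (e + c) (f + d)) = u (a + d') (b + c') * z := by
          rw [← h.u_mul, hA.mul _ hef _ hcd, hAef, h1, h.uz_mul_u]
        have h3 : u (e + c) (f + d) ∈ X := by
          rw [← h.u_mul]; exact X.mul_mem hef hcd
        obtain ⟨h4, h5⟩ := hmoved _ _ _ _ h3 h2
        linear_combination h4 - h5 - hef2
      · obtain ⟨h4, h5⟩ := hmoved _ _ _ _ hcd h1
        linear_combination h4 - h5
    · intro hcd
      by_cases h0 : c - d = 0
      · have : c = d := by linear_combination h0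
        subst this
        exact hZ c
      · have h1 := eq_of_two_mul n h.one_le _ _ hcd hef2 h0 hef0
        have h2 := X.mul_mem hef (hZ (d - f))
        rw [h.u_mul] at h2
        have h3 : u (e + (d - f)) (f + (d - f)) = u c d := by
          congr 1
          · linear_combination -h1
          · ring
        rwa [h3] at h2
  -- the constant
  refine ⟨a - e, ?_⟩
  have hab : a + b = 2 * e := he.symm
  have hsX : ∀ c d, u c d * z ∈ X ↔ 2 * ((c - (a - e)) - (d + (a - e))) = 0 := by
    intro c d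
    have h1 : u c d * z = u (c - a) (d - b) * (u a b * z) := by
      rw [h.u_mul_uz]; congr 2 <;> ring
    rw [h1, X.mul_mem_cancel_right hs, hU]
    constructor
    · intro h2
      linear_combination h2 - 2 * hab
    · intro h2
      linear_combination h2 + 2 * hab
  ext x
  rcases h.cases x with ⟨c, d, rfl⟩ | ⟨c, d, rfl⟩
  · rw [u_mem_vSub, hU]
  · rw [hsX]
    have h1 : u c d * z = u (c - (a - e)) (d + (a - e)) * (u (a - e) (-(a - e)) * z) := by
      rw [h.u_mul_uz]; congr 2 <;> ring
    rw [h1, uz_mem_vSub]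

/-- The classification of self-centralizing subgroups of a wreathed 2-group with automorphisms of
odd order. -/
theorem eq_base_or_eq_vSub [Finite S] (h : IsWCoord n u z) (X : Subgroup S)
    (hC : Subgroup.centralizer (X : Set S) ≤ X) (hA : ¬ IsPGroup 2 (MulAut X)) :
    X = h.base ∨ (¬ IsMulCommutative X ∧ ∃ c, X = vSub (change_z h c)) := by
  by_cases hU : ∀ a b, u a b * z ∉ X
  · exact Or.inl (eq_base h X hC hU)
  · push Not at hU
    obtain ⟨a, b, hab⟩ := hU
    obtain ⟨A, hAA, x₀, hx₀, hne⟩ := exists_isOddAut X hA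
    right
    by_cases hX : IsMulCommutative X
    · exact absurd (false_of_comm h X hC hX hab hAA hx₀ hne) id
    · exact ⟨hX, eq_vSub_of_not_comm h X hC hX hAA hx₀ hne⟩

/-! ### the subgroup `vSub h` -/

theorem quarter (h : IsWCoord n u z) : ∃ q : ZMod (2 ^ n), 4 * q = 0 ∧ 2 * q ≠ 0 := by
  have hn := h.two_le
  refine ⟨2 ^ (n - 2), ?_, ?_⟩
  · have h1 : (4 : ZMod (2 ^ n)) * 2 ^ (n - 2) = 2 ^ n := by
      obtain ⟨m, rfl⟩ : ∃ m, n = m + 2 := ⟨n - 2, by omega⟩
      rw [Nat.add_sub_cancel]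
      ring
    rw [h1, two_pow_eq_zero]
  · rw [← pow_succ', show n - 2 + 1 = n - 1 by omega]
    exact half_ne_zero n h.one_le

theorem exists_quaternion (h : IsWCoord n u z) :
    ∃ Q : Subgroup S, Nonempty (Q ≃* QuaternionGroup 2) ∧ vSub h = Q ⊔ Subgroup.center S := by
  obtain ⟨q, hq4, hq2⟩ := quarter h
  have hi2 : u (-q) q * u (-q) q = u (2 * q) (2 * q) := by
    rw [h.u_mul]
    congr 1
    · linear_combination -hq4
    · ring
  have ho : orderOf (u (-q) q) = 2 * 2 := by
    have : orderOf (u (-q) q) = 2 ^ (1 + 1) := by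
      apply orderOf_eq_prime_pow
      · rw [pow_one, pow_two, hi2, h.u_eq_one_iff]
        exact fun h1 => hq2 h1.1
      · have e : (2 : ℕ) ^ (1 + 1) = 2 * 2 := by norm_num
        rw [e, pow_mul, pow_two (u (-q) q), hi2, pow_two, h.u_mul, h.u_eq_one_iff]
        constructor <;> linear_combination hq4
    rw [this]
    norm_num
  have hns : u q q * z ∉ Subgroup.zpowers (u (-q) q) := by
    rintro ⟨k, hk⟩
    change u (-q) q ^ k = u q q * z at hk
    rw [u_zpow h] at hk
    exact h.u_ne _ _ _ _ hk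
  have hQ := Cfsg.Agent.Lib.DihedralRecog.closure_quaternion (m := 2) (u (-q) q) (u q q * z) ho
    (by rw [h.uz_mul_uz, pow_two, hi2]; congr 1 <;> ring)
    (by rw [h.uz_conj_u, h.u_inv, neg_neg]) hns
  refine ⟨_, hQ, ?_⟩
  have hiv : u (-q) q ∈ vSub h := (u_mem_vSub h _ _).2 (by linear_combination -hq4)
  have hjv : u q q * z ∈ vSub h := (uz_mem_vSub h _ _).2 (by ring)
  apply le_antisymm
  · set W := Subgroup.closure {u (-q) q, u q q * z} ⊔ Subgroup.center S with hW
    have hZW : ∀ c, u c c ∈ W := fun c => Subgroup.mem_sup_right ((h.u_mem_center_iff c c).2 rfl)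
    have hiW : u (-q) q ∈ W := Subgroup.mem_sup_left (Subgroup.subset_closure (by simp))
    have hjW : u q q * z ∈ W := Subgroup.mem_sup_left (Subgroup.subset_closure (by simp))
    have hbase : ∀ c d, 2 * (c - d) = 0 → u c d ∈ W := by
      intro c d hcd
      by_cases h0 : c - d = 0
      · have : c = d := by linear_combination h0
        subst this
        exact hZW c
      · have h2 : 2 * (2 * q) = 0 := by linear_combination hq4
        have h1 := eq_of_two_mul n h.one_le _ _ hcd h2 h0 hq2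
        have h3 := W.mul_mem hiW (hZW (c + q))
        rw [h.u_mul] at h3
        have h4 : u (-q + (c + q)) (q + (c + q)) = u c d := by
          congr 1
          · ring
          · linear_combination h1 + hq4
        rwa [h4] at h3
    rintro _ ⟨c, d, hcd, rfl | rfl⟩
    · exact hbase c d hcd
    · have h1 : u c d * z = u (c - q) (d - q) * (u q q * z) := by
        rw [h.u_mul_uz]; congr 2 <;> ring
      rw [h1]
      exact W.mul_mem (hbase _ _ (by linear_combination hcd)) hjW
  · rw [sup_le_iff]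
    constructor
    · rw [Subgroup.closure_le]
      rintro s (rfl | rfl)
      · exact hiv
      · exact hjv
    · intro s hs
      obtain ⟨e, rfl⟩ := (h.mem_center_iff s).1 hs
      exact (u_mem_vSub _ _ _).2 (by ring)

theorem u_mem_normalizer_vSub (h : IsWCoord n u z) (e f : ZMod (2 ^ n)) :
    u e f ∈ Subgroup.normalizer (vSub h : Set S) ↔ 4 * (e - f) = 0 := by
  rw [Subgroup.mem_normalizer_iff]
  constructor
  · intro h1
    have h2 := (h1 (u 0 0 * z)).1 ((uz_mem_vSub h _ _).2 (by ring))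
    rw [h.u_conj_uz, uz_mem_vSub] at h2
    linear_combination h2
  · intro h1 x
    rcases h.cases x with ⟨c, d, rfl⟩ | ⟨c, d, rfl⟩
    · rw [h.u_conj_u]
    · rw [h.u_conj_uz, uz_mem_vSub, uz_mem_vSub]
      constructor
      · intro h2
        linear_combination h2 + h1
      · intro h2
        linear_combination h2 - h1

theorem uz_mem_normalizer_vSub (h : IsWCoord n u z) (e f : ZMod (2 ^ n)) :
    u e f * z ∈ Subgroup.normalizer (vSub h : Set S) ↔ 4 * (e - f) = 0 := by
  have h1 : u 0 0 * z ∈ Subgroup.normalizer (vSub h : Set S) :=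
    Subgroup.le_normalizer ((uz_mem_vSub h _ _).2 (by ring))
  have h2 : u e f * z = u e f * (u 0 0 * z) := by
    rw [h.u_mul_uz, add_zero, add_zero]
  rw [h2, Subgroup.mul_mem_cancel_right _ h1, u_mem_normalizer_vSub]

theorem relIndex_vSub (h : IsWCoord n u z) :
    (vSub h).relIndex (Subgroup.normalizer (vSub h : Set S)) = 2 := by
  obtain ⟨q, hq4, hq2⟩ := quarter h
  have key : ∀ y : ZMod (2 ^ n), 4 * y = 0 → Xor (2 * (y + q) = 0) (2 * y = 0) := by
    intro y hy
    have h1 : 2 * (2 * y) = 0 := by linear_combination hy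
    have h2 : 2 * (2 * q) = 0 := by linear_combination hq4
    by_cases h0 : 2 * y = 0
    · right
      refine ⟨h0, fun h3 => hq2 ?_⟩
      linear_combination h3 - h0
    · left
      refine ⟨?_, h0⟩
      have h3 := eq_of_two_mul n h.one_le _ _ h1 h2 h0 hq2
      linear_combination h3 + hq4
  rw [Subgroup.relIndex_eq_two_iff]
  refine ⟨u q 0, (u_mem_normalizer_vSub h _ _).2 (by linear_combination hq4), ?_⟩
  intro x hx
  rcases h.cases x with ⟨c, d, rfl⟩ | ⟨c, d, rfl⟩
  · rw [u_mem_normalizer_vSub] at hx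
    rw [h.u_mul, u_mem_vSub, u_mem_vSub]
    have h1 : c + q - (d + 0) = c - d + q := by ring
    rw [h1]
    exact key _ hx
  · rw [uz_mem_normalizer_vSub] at hx
    rw [h.uz_mul_u, uz_mem_vSub, uz_mem_vSub]
    have h1 := key (d - c) (by linear_combination -hx)
    have h2 : (2 * (c + 0 - (d + q)) = 0) = (2 * (d - c + q) = 0) := by
      rw [eq_iff_iff]
      constructor
      · intro h3; linear_combination -h3
      · intro h3; linear_combination -h3
    have h3 : (2 * (c - d) = 0) = (2 * (d - c) = 0) := by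
      rw [eq_iff_iff]
      constructor
      · intro h3; linear_combination -h3
      · intro h3; linear_combination -h3
    rw [h2, h3]
    exact h1

/-- The subgroups `vSub (change_z h c)` are conjugate. -/
theorem map_conj_vSub (h : IsWCoord n u z) (c d : ZMod (2 ^ n)) :
    (vSub (change_z h c)).map (MulAut.conj (u (d - c) 0)).toMonoidHom = vSub (change_z h d) := by
  ext x
  rw [Subgroup.mem_map]
  constructor
  · rintro ⟨y, ⟨e, f, hef, rfl | rfl⟩, rfl⟩
    · change u (d - c) 0 * u e f * (u (d - c) 0)⁻¹ ∈ _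
      rw [h.u_conj_u]
      exact (u_mem_vSub _ _ _).2 hef
    · change u (d - c) 0 * (u e f * (u c (-c) * z)) * (u (d - c) 0)⁻¹ ∈ _
      rw [h.u_mul_uz, h.u_conj_uz]
      refine ⟨e, f, hef, Or.inr ?_⟩
      rw [h.u_mul_uz]
      congr 2 <;> ring
  · rintro ⟨e, f, hef, rfl | rfl⟩
    · refine ⟨u e f, (u_mem_vSub _ _ _).2 hef, ?_⟩
      change u (d - c) 0 * u e f * (u (d - c) 0)⁻¹ = _
      rw [h.u_conj_u]
    · refine ⟨u e f * (u c (-c) * z), ⟨e, f, hef, Or.inr rfl⟩, ?_⟩
      change u (d - c) 0 * (u e f * (u c (-c) * z)) * (u (d - c) 0)⁻¹ = _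
      rw [h.u_mul_uz, h.u_conj_uz, h.u_mul_uz]
      congr 2 <;> ring

end Cfsg.Agent.TwoFusion.WreathedOddAut
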