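import Mathlib
import Cfsg.Agent.TwoFusion.WreathedBasic
set_option linter.all false

/-!
Klein four-subgroups generated by two commuting involutions, and the Klein four-subgroups of a
wreathed 2-group.
-/

set_option autoImplicit false

namespace Cfsg.Agent.TwoFusion.WreathedFour

open Cfsg.Agent.TwoFusion.QDBasic Cfsg.Agent.TwoFusion.WreathedBasic

section klein

variable {G : Type*} [Group G]

/-- The subgroup `{1, s, t, s * t}` for commuting `s, t` of order dividing two. -/
def klein (s t : G) (hs : s * s = 1) (ht : t * t = 1) (hst : s * t = t * s) : Subgroup G where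
  carrier := {x | x = 1 ∨ x = s ∨ x = t ∨ x = s * t}
  one_mem' := Or.inl rfl
  mul_mem' := by
    have e1 : s * (s * t) = t := by rw [← mul_assoc, hs, one_mul]
    have e2 : t * (s * t) = s := by rw [hst, ← mul_assoc, ht, one_mul]
    have e3 : s * t * s = t := by rw [hst, mul_assoc, hs, mul_one]
    have e4 : s * t * t = s := by rw [mul_assoc, ht, mul_one]
    have e5 : s * t * (s * t) = 1 := by rw [mul_assoc, e2, hs]
    rintro a b (rfl | rfl | rfl | rfl) (rfl | rfl | rfl | rfl)
    · left; exact mul_one _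
    · right; left; exact one_mul _
    · right; right; left; exact one_mul _
    · right; right; right; exact one_mul _
    · right; left; exact mul_one _
    · left; exact hs
    · right; right; right; rfl
    · right; right; left; exact e1
    · right; right; left; exact mul_one _
    · right; right; right; exact hst.symm
    · left; exact ht
    · right; left; exact e2
    · right; right; right; exact mul_one _
    · right; right; left; exact e3
    · right; left; exact e4
    · left; exact e5
  inv_mem' := by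
    have h3 : s⁻¹ = s := by rw [inv_eq_iff_mul_eq_one, hs]
    have h4 : t⁻¹ = t := by rw [inv_eq_iff_mul_eq_one, ht]
    rintro a (rfl | rfl | rfl | rfl)
    · left; exact inv_one
    · right; left; exact h3
    · right; right; left; exact h4
    · right; right; right
      rw [mul_inv_rev, h3, h4, hst]

theorem mem_klein (s t : G) (hs : s * s = 1) (ht : t * t = 1) (hst : s * t = t * s) (x : G) :
    x ∈ klein s t hs ht hst ↔ x = 1 ∨ x = s ∨ x = t ∨ x = s * t := Iff.rfl

theorem isKleinFour_klein (s t : G) (hs : s * s = 1) (ht : t * t = 1) (hst : s * t = t * s)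
    (hs1 : s ≠ 1) (ht1 : t ≠ 1) (hne : s ≠ t) : IsKleinFour (klein s t hs ht hst) := by
  classical
  have e5 : s * t ≠ 1 := by
    intro e
    apply hne
    rw [mul_eq_one_iff_eq_inv] at e
    rw [e, inv_eq_iff_mul_eq_one, ht]
  have e6 : s * t ≠ s := fun e => ht1 (mul_eq_left.1 e)
  have e7 : s * t ≠ t := fun e => hs1 (mul_eq_right.1 e)
  have hcard : Nat.card (klein s t hs ht hst) = 4 := by
    have h1 : ((klein s t hs ht hst : Subgroup G) : Set G) = (({1, s, t, s * t} : Finset G) : Set G) := by
      ext x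
      simp [mem_klein]
    have h2 : Nat.card (klein s t hs ht hst) = Set.ncard ((klein s t hs ht hst : Subgroup G) : Set G) :=
      rfl
    rw [h2, h1, Set.ncard_coe_finset]
    rw [Finset.card_insert_of_notMem, Finset.card_insert_of_notMem, Finset.card_insert_of_notMem,
      Finset.card_singleton]
    · rw [Finset.mem_singleton]
      exact fun e => e7 e.symm
    · simp only [Finset.mem_insert, Finset.mem_singleton, not_or]
      exact ⟨hne, fun e => e6 e.symm⟩
    · simp only [Finset.mem_insert, Finset.mem_singleton, not_or]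
      exact ⟨fun e => hs1 e.symm, fun e => ht1 e.symm, fun e => e5 e.symm⟩
  refine ⟨hcard, ?_⟩
  apply Nat.dvd_antisymm
  · apply Monoid.exponent_dvd_of_forall_pow_eq_one
    rintro ⟨x, hx⟩
    apply Subtype.ext
    rw [mem_klein] at hx
    show x ^ 2 = 1
    rw [pow_two]
    rcases hx with rfl | rfl | rfl | rfl
    · exact one_mul _
    · exact hs
    · exact ht
    · rw [mul_assoc, ← mul_assoc t s t, ← hst, mul_assoc, ht, mul_one, hs]
  · have h2 : orderOf (⟨s, (mem_klein s t hs ht hst s).2 (Or.inr (Or.inl rfl))⟩ :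
        klein s t hs ht hst) = 2 := by
      apply orderOf_eq_prime
      · apply Subtype.ext
        show s ^ 2 = 1
        rw [pow_two, hs]
      · intro e
        exact hs1 (congrArg Subtype.val e)
    rw [← h2]
    exact Monoid.order_dvd_exponent _

/-- A Klein four-subgroup is `klein s t` for any two distinct nontrivial elements. -/
theorem eq_klein_of_le (T : Subgroup G) (hT : IsKleinFour T) (s t : G) (hs : s * s = 1)
    (ht : t * t = 1) (hst : s * t = t * s) (hs1 : s ≠ 1) (ht1 : t ≠ 1) (hne : s ≠ t)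
    (hle : T ≤ klein s t hs ht hst) : T = klein s t hs ht hst := by
  have h1 := isKleinFour_klein s t hs ht hst hs1 ht1 hne
  have : Finite (klein s t hs ht hst) :=
    Nat.finite_of_card_ne_zero (by rw [h1.card_four]; norm_num)
  exact Subgroup.eq_of_le_of_card_ge hle (by rw [h1.card_four, hT.card_four])

theorem map_klein {H : Type*} [Group H] (f : G →* H) (s t : G) (hs : s * s = 1)
    (ht : t * t = 1) (hst : s * t = t * s) :
    (klein s t hs ht hst).map f = klein (f s) (f t) (by rw [← map_mul, hs, map_one])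
      (by rw [← map_mul, ht, map_one]) (by rw [← map_mul, hst, map_mul]) := by
  ext x
  rw [Subgroup.mem_map, mem_klein]
  constructor
  · rintro ⟨y, hy, rfl⟩
    rw [mem_klein] at hy
    rcases hy with rfl | rfl | rfl | rfl
    · left; exact map_one f
    · right; left; rfl
    · right; right; left; rfl
    · right; right; right; exact map_mul f _ _
  · rintro (rfl | rfl | rfl | rfl)
    · exact ⟨1, Or.inl rfl, map_one f⟩
    · exact ⟨s, Or.inr (Or.inl rfl), rfl⟩
    · exact ⟨t, Or.inr (Or.inr (Or.inl rfl)), rfl⟩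
    · exact ⟨s * t, Or.inr (Or.inr (Or.inr rfl)), map_mul f _ _⟩

theorem klein_mul_self (T : Subgroup G) (hT : IsKleinFour T) {x : G} (hx : x ∈ T) : x * x = 1 := by
  have := hT
  have h1 := IsKleinFour.mul_self (⟨x, hx⟩ : T)
  exact congrArg Subtype.val h1

theorem klein_comm (T : Subgroup G) (hT : IsKleinFour T) {x y : G} (hx : x ∈ T) (hy : y ∈ T) :
    x * y = y * x := by
  have := hT
  have h1 := (IsKleinFour.isMulCommutative (G := T)).is_comm.comm ⟨x, hx⟩ ⟨y, hy⟩
  exact congrArg Subtype.val h1

end klein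

section wreathed

variable {S : Type*} [Group S] {n : ℕ} {u : ZMod (2 ^ n) → ZMod (2 ^ n) → S} {z : S}

/-- The element `2 ^ (n - 1)` of `ZMod (2 ^ n)`. -/
abbrev hf (n : ℕ) : ZMod (2 ^ n) := 2 ^ (n - 1)

theorem hf_add_hf (h : IsWCoord n u z) : hf n + hf n = 0 := by
  rw [← two_mul]; exact two_mul_half n h.one_le

theorem hf_ne (h : IsWCoord n u z) : hf n ≠ 0 := half_ne_zero n h.one_le

theorem neg_hf (h : IsWCoord n u z) : -hf n = hf n := by
  rw [neg_eq_iff_add_eq_zero, hf_add_hf h]

/-- The normal Klein four-subgroup of a wreathed 2-group. -/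
def normalFour (h : IsWCoord n u z) : Subgroup S :=
  klein (u (hf n) 0) (u 0 (hf n)) (by rw [h.u_mul, hf_add_hf h, add_zero, h.u_zero])
    (by rw [h.u_mul, hf_add_hf h, add_zero, h.u_zero]) (h.u_comm _ _ _ _)

theorem mem_normalFour (h : IsWCoord n u z) (s : S) :
    s ∈ normalFour h ↔ ∃ a b, s = u a b ∧ 2 * a = 0 ∧ 2 * b = 0 := by
  unfold normalFour
  rw [mem_klein, h.u_mul, add_zero, zero_add]
  constructor
  · have h0 := two_mul_half n h.one_le
    rintro (rfl | rfl | rfl | rfl)
    · exact ⟨0, 0, h.u_zero.symm, mul_zero _, mul_zero _⟩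
    · exact ⟨_, _, rfl, h0, mul_zero _⟩
    · exact ⟨_, _, rfl, mul_zero _, h0⟩
    · exact ⟨_, _, rfl, h0, h0⟩
  · rintro ⟨a, b, rfl, ha, hb⟩
    rw [two_mul_eq_zero_iff n h.one_le] at ha hb
    rcases ha with rfl | rfl <;> rcases hb with rfl | rfl
    · left; exact h.u_zero
    · right; right; left; rfl
    · right; left; rfl
    · right; right; right; rfl

theorem isKleinFour_normalFour (h : IsWCoord n u z) : IsKleinFour (normalFour h) := by
  apply isKleinFour_klein
  · rw [ne_eq, h.u_eq_one_iff]
    exact fun e => hf_ne h e.1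
  · rw [ne_eq, h.u_eq_one_iff]
    exact fun e => hf_ne h e.2
  · rw [ne_eq, h.u_eq_iff]
    exact fun e => hf_ne h e.1

theorem normalFour_normal (h : IsWCoord n u z) : (normalFour h).Normal := by
  refine ⟨fun s hs g => ?_⟩
  rw [mem_normalFour] at hs ⊢
  obtain ⟨a, b, rfl, ha, hb⟩ := hs
  rcases h.cases g with ⟨c, d, rfl⟩ | ⟨c, d, rfl⟩
  · exact ⟨a, b, h.u_conj_u _ _ _ _, ha, hb⟩
  · exact ⟨b, a, h.uz_conj_u _ _ _ _, hb, ha⟩

/-- The four-subgroup `⟨u h h, u a (-a) * z⟩`. -/
def otherFour (h : IsWCoord n u z) (a : ZMod (2 ^ n)) : Subgroup S :=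
  klein (u (hf n) (hf n)) (u a (-a) * z) (by rw [h.u_mul, hf_add_hf h, h.u_zero])
    (by rw [h.uz_mul_uz, add_neg_cancel, neg_add_cancel, h.u_zero])
    (by rw [h.u_mul_uz, h.uz_mul_u, add_comm a, add_comm (-a)])

theorem isKleinFour_otherFour (h : IsWCoord n u z) (a : ZMod (2 ^ n)) :
    IsKleinFour (otherFour h a) := by
  apply isKleinFour_klein
  · rw [ne_eq, h.u_eq_one_iff]
    exact fun e => hf_ne h e.1
  · exact h.uz_ne_one _ _
  · exact h.u_ne _ _ _ _

theorem otherFour_ne (h : IsWCoord n u z) (a : ZMod (2 ^ n)) : otherFour h a ≠ normalFour h := by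
  intro e
  have h1 : u a (-a) * z ∈ otherFour h a := by
    unfold otherFour
    rw [mem_klein]
    right; right; left; rfl
  rw [e, mem_normalFour] at h1
  obtain ⟨c, d, h2, -⟩ := h1
  exact h.u_ne _ _ _ _ h2.symm

theorem exists_eq_otherFour (h : IsWCoord n u z) (T : Subgroup S) (hT : IsKleinFour T)
    (hne : T ≠ normalFour h) : ∃ a, T = otherFour h a := by
  have h1 : ∃ a b, u a b * z ∈ T := by
    by_contra hcon
    push Not at hcon
    apply hne
    have hle : T ≤ normalFour h := by
      intro t ht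
      have h2 := klein_mul_self T hT ht
      rw [mem_normalFour]
      rcases h.cases t with ⟨a, b, rfl⟩ | ⟨a, b, rfl⟩
      · refine ⟨a, b, rfl, ?_⟩
        rw [h.u_mul, h.u_eq_one_iff] at h2
        rw [two_mul, two_mul]
        exact h2
      · exact absurd ht (hcon a b)
    have h1 := isKleinFour_normalFour h
    have : Finite (normalFour h) :=
      Nat.finite_of_card_ne_zero (by rw [h1.card_four]; norm_num)
    exact Subgroup.eq_of_le_of_card_ge hle (by rw [h1.card_four, hT.card_four])
  obtain ⟨a, b, hab⟩ := h1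
  have h2 := klein_mul_self T hT hab
  rw [h.uz_mul_uz, h.u_eq_one_iff] at h2
  have hb : b = -a := by linear_combination h2.1
  subst hb
  refine ⟨a, ?_⟩
  unfold otherFour
  apply eq_klein_of_le T hT
  · rw [ne_eq, h.u_eq_one_iff]
    exact fun e => hf_ne h e.1
  · exact h.uz_ne_one _ _
  · exact h.u_ne _ _ _ _
  intro t ht
  have h3 := klein_mul_self T hT ht
  have h4 := klein_comm T hT ht hab
  rw [mem_klein, h.u_mul_uz]
  rcases h.cases t with ⟨c, d, rfl⟩ | ⟨c, d, rfl⟩
  · rw [h.u_mul, h.u_eq_one_iff, ← two_mul, ← two_mul, two_mul_eq_zero_iff n h.one_le,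
      two_mul_eq_zero_iff n h.one_le] at h3
    rw [h.u_mul_uz, h.uz_mul_u] at h4
    have h5 := h.u_inj _ _ _ _ (mul_right_cancel h4)
    have h6 : c = d := by linear_combination h5.1
    subst h6
    rcases h3.1 with rfl | rfl
    · left; exact h.u_zero
    · right; left; rfl
  · rw [h.uz_mul_uz, h.u_eq_one_iff] at h3
    rw [h.uz_mul_uz, h.uz_mul_uz] at h4
    have h5 := h.u_inj _ _ _ _ h4
    have h6 : d = -c := by linear_combination h3.1
    subst h6
    have h7 : 2 * (c - a) = 0 := by linear_combination h5.1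
    rw [two_mul_eq_zero_iff n h.one_le] at h7
    rcases h7 with h7 | h7
    · right; right; left
      rw [sub_eq_zero.1 h7]
    · right; right; right
      have h8 : c = hf n + a := by
        show c = 2 ^ (n - 1) + a
        rw [← h7]; ring
      have h9 : -c = hf n + -a := by
        rw [h8, neg_add, neg_hf h]
      rw [h9, h8]

theorem map_otherFour (h : IsWCoord n u z) (a b : ZMod (2 ^ n)) :
    (otherFour h a).map (MulAut.conj (u b 0)).toMonoidHom = otherFour h (a + b) := by
  unfold otherFour
  rw [map_klein]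
  have e1 : (MulAut.conj (u b 0)).toMonoidHom (u (hf n) (hf n)) = u (hf n) (hf n) := h.u_conj_u _ _ _ _
  have e2 : (MulAut.conj (u b 0)).toMonoidHom (u a (-a) * z) = u (a + b) (-(a + b)) * z := by
    have := h.u_conj_uz b 0 a (-a)
    rw [MulEquiv.coe_toMonoidHom, MulAut.conj_apply, this, sub_zero, neg_add, ← sub_eq_add_neg]
  ext x
  rw [mem_klein, mem_klein, e1, e2]

theorem conj_of_ne (h : IsWCoord n u z) (T₁ T₂ : Subgroup S) (h₁ : IsKleinFour T₁)
    (h₂ : IsKleinFour T₂) (hn₁ : T₁ ≠ normalFour h) (hn₂ : T₂ ≠ normalFour h) :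
    ∃ s : S, T₁.map (MulAut.conj s).toMonoidHom = T₂ := by
  obtain ⟨a, rfl⟩ := exists_eq_otherFour h T₁ h₁ hn₁
  obtain ⟨b, rfl⟩ := exists_eq_otherFour h T₂ h₂ hn₂
  exact ⟨u (b - a) 0, by rw [map_otherFour, add_sub_cancel]⟩

end wreathed

end Cfsg.Agent.TwoFusion.WreathedFour
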