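import Mathlib
import Cfsg.Agent.SporadicB.DihedralLift
import Cfsg.Prelude.Def_CaseTheorems
import Cfsg.Agent.TwoFusion.QDBasic
import Cfsg.Agent.TwoFusion.WreathedBasic
import Cfsg.Agent.Lib.SylowNormalInf
import Cfsg.Agent.TwoFusion.QuatQuotient
import Cfsg.Agent.Lib.Cores
import Cfsg.Agent.TwoFusion.IsolatedCenter
import Cfsg.Agent.TwoFusion.QuatCoverSL
import Cfsg.Agent.TwoFusion.SLTwoFacts
import Cfsg.Agent.S0251
import Cfsg.Agent.FastGrp
import Cfsg.Agent.Prune
set_option linter.all false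

-- part: TwoFusion/A7NoSwap
section
set_option linter.all false

/-!
# No automorphism of `A₇` interchanges the two classes of non-central involutions of a Sylow 2-subgroup
-/

set_option autoImplicit false

open Equiv

namespace Cfsg.Agent.TwoFusion.A7NoSwap

def t0 : Perm (Fin 7) := swap (0 : Fin 7) 1 * swap (2 : Fin 7) 3
def v1 : Perm (Fin 7) := swap (0 : Fin 7) 2 * swap (1 : Fin 7) 3
def v2 : Perm (Fin 7) := swap (0 : Fin 7) 3 * swap (1 : Fin 7) 2
def v3 : Perm (Fin 7) := swap (0 : Fin 7) 1 * swap (4 : Fin 7) 5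
def v4 : Perm (Fin 7) := swap (2 : Fin 7) 3 * swap (4 : Fin 7) 5
def c0 : Perm (Fin 7) := swap (4 : Fin 7) 5 * swap (5 : Fin 7) 6

theorem sign_v1 : Perm.sign v1 = 1 := by decide +kernel
theorem sign_v3 : Perm.sign v3 = 1 := by decide +kernel

/-- involution of type one -/
def x1 : alternatingGroup (Fin 7) := ⟨v1, Perm.mem_alternatingGroup.mpr sign_v1⟩
def x3 : alternatingGroup (Fin 7) := ⟨v3, Perm.mem_alternatingGroup.mpr sign_v3⟩

theorem x1_sq : x1 * x1 = 1 := Subtype.ext (by change v1 * v1 = 1; decide +kernel)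
theorem x3_sq : x3 * x3 = 1 := Subtype.ext (by change v3 * v3 = 1; decide +kernel)
theorem a_sq : (v1 * v3) * (v1 * v3) = t0 := by decide +kernel
theorem a_ne : v1 * v3 ≠ 1 := by decide +kernel
theorem t0_ne : t0 ≠ 1 := by decide +kernel
theorem t0_sq : t0 * t0 = 1 := by decide +kernel
theorem at0_ne : v1 * v3 * t0 ≠ 1 := by decide +kernel
theorem v1_ne : v1 ≠ 1 := by decide +kernel
theorem v2_ne : v2 ≠ 1 := by decide +kernel
theorem v3_ne : v3 ≠ 1 := by decide +kernel
theorem v4_ne : v4 ≠ 1 := by decide +kernel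
theorem v1t0 : v1 * t0 = v2 := by decide +kernel
theorem v3t0 : v3 * t0 = v4 := by decide +kernel

theorem zmod_four : ∀ i : ZMod 4, i = 0 ∨ i = 1 ∨ i = 2 ∨ i = 3 := by decide

/-- The image of the dihedral group of order 8. -/
theorem exists_hom : ∃ f : DihedralGroup 4 →* alternatingGroup (Fin 7), Function.Injective f ∧
    ((f (DihedralGroup.r 2) : alternatingGroup (Fin 7)) : Perm (Fin 7)) = t0 ∧
    ((f (DihedralGroup.sr 0) : alternatingGroup (Fin 7)) : Perm (Fin 7)) = v1 ∧
    ((f (DihedralGroup.sr 1) : alternatingGroup (Fin 7)) : Perm (Fin 7)) = v3 ∧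
    ((f (DihedralGroup.sr 2) : alternatingGroup (Fin 7)) : Perm (Fin 7)) = v2 ∧
    ((f (DihedralGroup.sr 3) : alternatingGroup (Fin 7)) : Perm (Fin 7)) = v4 := by
  have ha2 : (((x1 * x3) ^ 2 : alternatingGroup (Fin 7)) : Perm (Fin 7)) = t0 := by
    rw [sq]; exact a_sq
  have ha4 : (x1 * x3) ^ 4 = 1 := by
    apply Subtype.ext
    have : (x1 * x3) ^ 4 = (x1 * x3) ^ 2 * (x1 * x3) ^ 2 := by rw [← pow_add]
    rw [this, Subgroup.coe_mul, ha2]
    exact t0_sq
  have hx3 : x3⁻¹ = x3 := inv_eq_of_mul_eq_one_left x3_sq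
  have hx1 : x1⁻¹ = x1 := inv_eq_of_mul_eq_one_left x1_sq
  obtain ⟨f, hf1, hf2⟩ := Cfsg.Agent.SporadicB.DihedralLift.exists_dihedral_hom 4 (x := x1) (a := x1 * x3)
    x1_sq ha4 (by rw [← mul_assoc, x1_sq, one_mul, mul_inv_rev, hx1, hx3])
  have h0 : ((f (DihedralGroup.sr 0) : alternatingGroup (Fin 7)) : Perm (Fin 7)) = v1 := by
    have := hf2 0
    simp only [Int.cast_zero, zpow_zero, mul_one] at this
    rw [this]; rfl
  have h1 : ((f (DihedralGroup.sr 1) : alternatingGroup (Fin 7)) : Perm (Fin 7)) = v3 := by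
    have := hf2 1
    simp only [Int.cast_one, zpow_one] at this
    rw [this, ← mul_assoc, x1_sq, one_mul]; rfl
  have hr2 : ((f (DihedralGroup.r 2) : alternatingGroup (Fin 7)) : Perm (Fin 7)) = t0 := by
    have := hf1 2
    rw [show ((2 : ℤ) : ZMod 4) = 2 from rfl] at this
    rw [this]
    exact ha2
  have h2 : ((f (DihedralGroup.sr 2) : alternatingGroup (Fin 7)) : Perm (Fin 7)) = v2 := by
    have : DihedralGroup.sr (2 : ZMod 4) = DihedralGroup.sr 0 * DihedralGroup.r 2 := by decide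
    rw [this, map_mul, Subgroup.coe_mul, h0, hr2]
    exact v1t0
  have h3 : ((f (DihedralGroup.sr 3) : alternatingGroup (Fin 7)) : Perm (Fin 7)) = v4 := by
    have : DihedralGroup.sr (3 : ZMod 4) = DihedralGroup.sr 1 * DihedralGroup.r 2 := by decide
    rw [this, map_mul, Subgroup.coe_mul, h1, hr2]
    exact v3t0
  have hr1 : ((f (DihedralGroup.r 1) : alternatingGroup (Fin 7)) : Perm (Fin 7)) = v1 * v3 := by
    have : DihedralGroup.r (1 : ZMod 4) = DihedralGroup.sr 0 * DihedralGroup.sr 1 := by decide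
    rw [this, map_mul, Subgroup.coe_mul, h0, h1]
  have hr3 : ((f (DihedralGroup.r 3) : alternatingGroup (Fin 7)) : Perm (Fin 7)) = v1 * v3 * t0 := by
    have : DihedralGroup.r (3 : ZMod 4) = DihedralGroup.r 1 * DihedralGroup.r 2 := by decide
    rw [this, map_mul, Subgroup.coe_mul, hr1, hr2]
  refine ⟨f, ?_, hr2, h0, h1, h2, h3⟩
  rw [injective_iff_map_eq_one]
  intro g hg
  have hg' : ((f g : alternatingGroup (Fin 7)) : Perm (Fin 7)) = 1 := by rw [hg]; rfl
  rcases g with i | i
  · have hi := zmod_four i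
    rcases hi with rfl | rfl | rfl | rfl
    · rfl
    · rw [hr1] at hg'; exact absurd hg' a_ne
    · rw [hr2] at hg'; exact absurd hg' t0_ne
    · rw [hr3] at hg'; exact absurd hg' at0_ne
  · have hi := zmod_four i
    rcases hi with rfl | rfl | rfl | rfl
    · rw [h0] at hg'; exact absurd hg' v1_ne
    · rw [h1] at hg'; exact absurd hg' v3_ne
    · rw [h2] at hg'; exact absurd hg' v2_ne
    · rw [h3] at hg'; exact absurd hg' v4_ne

theorem dihedral_cases : ∀ a b : DihedralGroup 4, a ^ 2 = 1 → b ^ 2 = 1 → (a * b) ^ 2 ≠ 1 →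
    (a * b) ^ 2 = DihedralGroup.r 2 ∧
    (((a = DihedralGroup.sr 0 ∨ a = DihedralGroup.sr 2) ∧ (b = DihedralGroup.sr 1 ∨ b = DihedralGroup.sr 3)) ∨
    ((b = DihedralGroup.sr 0 ∨ b = DihedralGroup.sr 2) ∧ (a = DihedralGroup.sr 1 ∨ a = DihedralGroup.sr 3))) := by
  decide +kernel

theorem c0_comm : c0 * t0 = t0 * c0 ∧ c0 * v1 = v1 * c0 ∧ c0 * v2 = v2 * c0 ∧ c0 ^ 3 = 1 ∧ c0 ≠ 1 := by
  decide +kernel

theorem fix1 : ∀ x : Fin 7, t0 x = x → v3 x = x → x = 6 := by decide +kernel
theorem fix2 : ∀ x : Fin 7, t0 x = x → x = 4 ∨ x = 5 ∨ x = 6 := by decide +kernel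
theorem fix3 : ∀ x : Fin 7, v3 x = x → x = 2 ∨ x = 3 ∨ x = 6 := by decide +kernel
theorem fix4 : ∀ x : Fin 7, v4 x = x → x = 0 ∨ x = 1 ∨ x = 6 := by decide +kernel
theorem t0v3 : t0 * v3 = v4 := by decide +kernel
theorem t0v4 : t0 * v4 = v3 := by decide +kernel

theorem pow_three_eq_one {c : Perm (Fin 7)} (h3 : c ^ 3 = 1) (ht : c * t0 = t0 * c)
    (hv3 : c * v3 = v3 * c) (hv4 : c * v4 = v4 * c) : c = 1 := by
  have ht' : ∀ x, t0 x = x → t0 (c x) = c x := by
    intro x hx
    have := congrArg (fun f : Perm (Fin 7) => f x) ht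
    simp only [Perm.mul_apply] at this
    rw [← this, hx]
  have hv3' : ∀ x, v3 x = x → v3 (c x) = c x := by
    intro x hx
    have := congrArg (fun f : Perm (Fin 7) => f x) hv3
    simp only [Perm.mul_apply] at this
    rw [← this, hx]
  have hv4' : ∀ x, v4 x = x → v4 (c x) = c x := by
    intro x hx
    have := congrArg (fun f : Perm (Fin 7) => f x) hv4
    simp only [Perm.mul_apply] at this
    rw [← this, hx]
  have h6 : c 6 = 6 := fix1 _ (ht' 6 (by decide)) (hv3' 6 (by decide))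
  have hne : ∀ x, x ≠ 6 → c x ≠ 6 := by
    intro x hx h
    exact hx (c.injective (h.trans h6.symm))
  have h4 : c 4 = 4 ∨ c 4 = 5 := by
    rcases fix2 _ (ht' 4 (by decide)) with h | h | h
    · exact Or.inl h
    · exact Or.inr h
    · exact absurd h (hne 4 (by decide))
  have h5 : c 5 = 4 ∨ c 5 = 5 := by
    rcases fix2 _ (ht' 5 (by decide)) with h | h | h
    · exact Or.inl h
    · exact Or.inr h
    · exact absurd h (hne 5 (by decide))
  have h2 : c 2 = 2 ∨ c 2 = 3 := by
    rcases fix3 _ (hv3' 2 (by decide)) with h | h | h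
    · exact Or.inl h
    · exact Or.inr h
    · exact absurd h (hne 2 (by decide))
  have h3' : c 3 = 2 ∨ c 3 = 3 := by
    rcases fix3 _ (hv3' 3 (by decide)) with h | h | h
    · exact Or.inl h
    · exact Or.inr h
    · exact absurd h (hne 3 (by decide))
  have h0 : c 0 = 0 ∨ c 0 = 1 := by
    rcases fix4 _ (hv4' 0 (by decide)) with h | h | h
    · exact Or.inl h
    · exact Or.inr h
    · exact absurd h (hne 0 (by decide))
  have h1 : c 1 = 0 ∨ c 1 = 1 := by
    rcases fix4 _ (hv4' 1 (by decide)) with h | h | h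
    · exact Or.inl h
    · exact Or.inr h
    · exact absurd h (hne 1 (by decide))
  have hinj := c.injective
  have hsq : c ^ 2 = 1 := by
    have n45 : c 4 ≠ c 5 := fun h => absurd (hinj h) (by decide)
    have n23 : c 2 ≠ c 3 := fun h => absurd (hinj h) (by decide)
    have n01 : c 0 ≠ c 1 := fun h => absurd (hinj h) (by decide)
    ext x
    rw [sq, Perm.mul_apply, Perm.one_apply]
    congr 1
    fin_cases x
    · rcases h0 with h | h <;> rcases h1 with h' | h' <;> simp_all only [_root_.Fin.isValue, _root_.ne_eq, _root_.EmbeddingLike.apply_eq_iff_eq, _root_.Fin.reduceEq, _root_.not_false_eq_true, _root_.not_true_eq_false, _root_.zero_ne_one, _root_.Fin.zero_eta, _root_.one_ne_zero]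
    · rcases h0 with h | h <;> rcases h1 with h' | h' <;> simp_all only [_root_.Fin.isValue, _root_.ne_eq, _root_.EmbeddingLike.apply_eq_iff_eq, _root_.Fin.reduceEq, _root_.not_false_eq_true, _root_.not_true_eq_false, _root_.zero_ne_one, _root_.Fin.mk_one, _root_.one_ne_zero]
    · rcases h2 with h | h <;> rcases h3' with h' | h' <;> simp_all only [_root_.Fin.isValue, _root_.ne_eq, _root_.EmbeddingLike.apply_eq_iff_eq, _root_.Fin.reduceEq, _root_.not_false_eq_true, _root_.not_true_eq_false, _root_.zero_ne_one, _root_.Fin.reduceFinMk]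
    · rcases h2 with h | h <;> rcases h3' with h' | h' <;> simp_all only [_root_.Fin.isValue, _root_.ne_eq, _root_.EmbeddingLike.apply_eq_iff_eq, _root_.Fin.reduceEq, _root_.not_false_eq_true, _root_.not_true_eq_false, _root_.zero_ne_one, _root_.Fin.reduceFinMk]
    · rcases h4 with h | h <;> rcases h5 with h' | h' <;> simp_all only [_root_.Fin.isValue, _root_.ne_eq, _root_.not_true_eq_false, _root_.Fin.reduceEq, _root_.not_false_eq_true, _root_.EmbeddingLike.apply_eq_iff_eq, _root_.zero_ne_one, _root_.Fin.reduceFinMk]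
    · rcases h4 with h | h <;> rcases h5 with h' | h' <;> simp_all only [_root_.Fin.isValue, _root_.ne_eq, _root_.not_true_eq_false, _root_.Fin.reduceEq, _root_.not_false_eq_true, _root_.EmbeddingLike.apply_eq_iff_eq, _root_.zero_ne_one, _root_.Fin.reduceFinMk]
    · simp_all only [_root_.Fin.isValue, _root_.ne_eq, _root_.EmbeddingLike.apply_eq_iff_eq, _root_.Fin.reduceEq, _root_.not_false_eq_true, _root_.zero_ne_one, _root_.Fin.reduceFinMk]
  calc c = c ^ 3 * (c ^ 2)⁻¹ := by group
    _ = 1 := by rw [h3, hsq]; simp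

theorem card_A7 : Nat.card (alternatingGroup (Fin 7)) = 2520 := by
  have h := two_mul_card_alternatingGroup (α := Fin 7)
  rw [Fintype.card_perm, Fintype.card_fin] at h
  rw [Nat.card_eq_fintype_card]
  have : Nat.factorial 7 = 5040 := by decide
  omega

def Pr (v t : alternatingGroup (Fin 7)) : Prop :=
  ∃ c : alternatingGroup (Fin 7), c ^ 3 = 1 ∧ c ≠ 1 ∧ c * v = v * c ∧ c * t = t * c

theorem pr_map (σ : alternatingGroup (Fin 7) ≃* alternatingGroup (Fin 7)) (v t : alternatingGroup (Fin 7))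
    (h : Pr v t) : Pr (σ v) (σ t) := by
  obtain ⟨c, h1, h2, h3, h4⟩ := h
  refine ⟨σ c, ?_, ?_, ?_, ?_⟩
  · rw [← map_pow, h1, map_one]
  · intro h
    exact h2 ((map_eq_one_iff σ σ.injective).mp h)
  · rw [← map_mul, h3, map_mul]
  · rw [← map_mul, h4, map_mul]

theorem pr_iff (σ : alternatingGroup (Fin 7) ≃* alternatingGroup (Fin 7)) (v t : alternatingGroup (Fin 7)) :
    Pr (σ v) (σ t) ↔ Pr v t := by
  refine ⟨fun h => ?_, pr_map σ v t⟩
  have := pr_map σ.symm _ _ h
  simpa using this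

theorem not_pr {a t : alternatingGroup (Fin 7)} (ht : (t : Perm (Fin 7)) = t0)
    (ha : (a : Perm (Fin 7)) = v3 ∨ (a : Perm (Fin 7)) = v4) : ¬ Pr a t := by
  rintro ⟨c, h1, h2, h3, h4⟩
  apply h2
  apply Subtype.ext
  have h1' : (c : Perm (Fin 7)) ^ 3 = 1 := by simpa only [_root_.SubmonoidClass.coe_pow, _root_.OneMemClass.coe_one] using congrArg Subtype.val h1
  have h3' : (c : Perm (Fin 7)) * a = a * c := by simpa only [_root_.Subgroup.coe_mul] using congrArg Subtype.val h3
  have h4' : (c : Perm (Fin 7)) * t0 = t0 * c := by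
    have := congrArg Subtype.val h4
    simpa only [ht, _root_.Subgroup.coe_mul] using this
  rcases ha with ha | ha
  · rw [ha] at h3'
    refine pow_three_eq_one h1' h4' h3' ?_
    rw [← t0v3]
    rw [← mul_assoc, h4', mul_assoc, h3', mul_assoc]
  · rw [ha] at h3'
    refine pow_three_eq_one h1' h4' ?_ h3'
    rw [← t0v4]
    rw [← mul_assoc, h4', mul_assoc, h3', mul_assoc]

theorem pr_of {a t : alternatingGroup (Fin 7)} (ht : (t : Perm (Fin 7)) = t0)
    (ha : (a : Perm (Fin 7)) = v1 ∨ (a : Perm (Fin 7)) = v2) : Pr a t := by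
  obtain ⟨h1, h2, h3, h4, h5⟩ := c0_comm
  refine ⟨⟨c0, Perm.mem_alternatingGroup.mpr (by decide +kernel)⟩, ?_, ?_, ?_, ?_⟩
  · exact Subtype.ext h4
  · intro h
    exact h5 (congrArg Subtype.val h)
  · apply Subtype.ext
    rcases ha with ha | ha
    · change c0 * a = a * c0
      rw [ha]; exact h2
    · change c0 * a = a * c0
      rw [ha]; exact h3
  · apply Subtype.ext
    change c0 * t = t * c0
    rw [ht]; exact h1

/-- exactly one of the two classes centralizes an element of order 3 together with the centre. -/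
theorem key (P : Subgroup (alternatingGroup (Fin 7))) (hP : IsPGroup 2 P) (u w : alternatingGroup (Fin 7))
    (huP : u ∈ P) (hwP : w ∈ P) (hu : u ^ 2 = 1) (hw : w ^ 2 = 1) (h2 : (u * w) ^ 2 ≠ 1) :
    ¬ (Pr u ((u * w) ^ 2) ↔ Pr w ((u * w) ^ 2)) := by
  obtain ⟨f, hf, hft, hf1, hf3, hf2, hf4⟩ := exists_hom
  have hcard : Nat.card f.range = 8 := by
    rw [← Nat.card_congr (MonoidHom.ofInjective hf).toEquiv, Nat.card_eq_fintype_card, DihedralGroup.card]
  have hidx : f.range.index = 315 := by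
    have h := f.range.card_mul_index
    rw [hcard, card_A7] at h
    omega
  have hD2 : IsPGroup 2 f.range := IsPGroup.of_card (n := 3) (by rw [hcard]; rfl)
  let D : Sylow 2 (alternatingGroup (Fin 7)) := hD2.toSylow (by rw [hidx]; decide)
  obtain ⟨Q, hQ⟩ := hP.exists_le_sylow
  obtain ⟨g, hg⟩ := MulAction.exists_smul_eq (alternatingGroup (Fin 7)) Q D
  have hmem : ∀ x ∈ P, MulAut.conj g x ∈ f.range := by
    intro x hx
    have h1 : x ∈ (Q : Subgroup (alternatingGroup (Fin 7))) := hQ hx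
    have h3 : MulAut.conj g x ∈ ((g • Q : Sylow 2 (alternatingGroup (Fin 7))) : Subgroup (alternatingGroup (Fin 7))) := by
      rw [Sylow.coe_subgroup_smul]
      exact Subgroup.smul_mem_pointwise_smul _ _ _ h1
    rw [hg] at h3
    exact h3
  set σ := MulAut.conj g
  obtain ⟨a, ha⟩ := hmem u huP
  obtain ⟨b, hb⟩ := hmem w hwP
  have h1 : a ^ 2 = 1 := by
    apply hf
    rw [map_pow, ha, ← map_pow, hu, map_one, map_one]
  have h3 : b ^ 2 = 1 := by
    apply hf
    rw [map_pow, hb, ← map_pow, hw, map_one, map_one]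
  have h4 : (a * b) ^ 2 ≠ 1 := by
    intro h
    apply h2
    apply (map_eq_one_iff σ σ.injective).mp
    rw [map_pow, map_mul, ← ha, ← hb, ← map_mul, ← map_pow, h, map_one]
  obtain ⟨h5, h6⟩ := dihedral_cases a b h1 h3 h4
  have ht : ((σ ((u * w) ^ 2) : alternatingGroup (Fin 7)) : Perm (Fin 7)) = t0 := by
    rw [map_pow, map_mul, ← ha, ← hb, ← map_mul, ← map_pow, h5]
    exact hft
  have hpos : ∀ v : DihedralGroup 4, (v = DihedralGroup.sr 0 ∨ v = DihedralGroup.sr 2) →
      Pr (f v) (σ ((u * w) ^ 2)) := by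
    rintro v (rfl | rfl)
    · exact pr_of ht (Or.inl hf1)
    · exact pr_of ht (Or.inr hf2)
  have hneg : ∀ v : DihedralGroup 4, (v = DihedralGroup.sr 1 ∨ v = DihedralGroup.sr 3) →
      ¬ Pr (f v) (σ ((u * w) ^ 2)) := by
    rintro v (rfl | rfl)
    · exact not_pr ht (Or.inl hf3)
    · exact not_pr ht (Or.inr hf4)
  rw [← pr_iff σ u, ← pr_iff σ w]
  rw [← ha, ← hb]
  rcases h6 with ⟨ha, hb⟩ | ⟨ha, hb⟩
  · intro h
    exact hneg b hb (h.mp (hpos a ha))
  · intro h
    exact hneg a hb (h.mpr (hpos b ha))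

/-- No automorphism of `A₇` maps `u` to `w` and fixes `(uw)²`, when `u, w` are involutions of a 2-subgroup with
product of order 4. -/
theorem no_swap (P : Subgroup (alternatingGroup (Fin 7))) (hP : IsPGroup 2 P) (u w : alternatingGroup (Fin 7))
    (huP : u ∈ P) (hwP : w ∈ P) (hu : u ^ 2 = 1) (hw : w ^ 2 = 1) (h2 : (u * w) ^ 2 ≠ 1)
    (σ : alternatingGroup (Fin 7) ≃* alternatingGroup (Fin 7)) (h1 : σ u = w)
    (ht : σ ((u * w) ^ 2) = (u * w) ^ 2) : False := by
  apply key P hP u w huP hwP hu hw h2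
  have := pr_iff σ u ((u * w) ^ 2)
  rw [h1, ht] at this
  exact this.symm

end Cfsg.Agent.TwoFusion.A7NoSwap
end

-- part: TwoFusion/QGroupMain
section
prune_inst 0x7f00000000000000000000000000000000000000000000000000000000000000000000000000000000000000000000000000000000000000000000000000000000000000000000000000000000000000003fffffffffffffffffffffffffffbeffbdffffffff
set_option linter.all false
open scoped Cfsg.Agent.FastGrp

-- part: TwoFusion/QuatNotNormal
section
/-!
# Normal generalized quaternion subgroups of order 16 in quasi-dihedral and wreathed 2-groups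

The two conjugacy classes of quaternion subgroups of order 8 of such a subgroup are interchanged by the
whole 2-group.
-/

set_option autoImplicit false

open QuaternionGroup

namespace Cfsg.Agent.TwoFusion.QuatNotNormal

open Cfsg.Agent.TwoFusion.QDBasic Cfsg.Agent.TwoFusion.WreathedBasic

/-- parity of an element of the quaternion group of order 16 -/
def par (x : QuaternionGroup 4) : ℕ :=
  match x with
  | a i => i.val % 2
  | xa i => i.val % 2

theorem pow_four_of_par : ∀ x : QuaternionGroup 4, par x = 0 → x ^ 4 = 1 := by decide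
theorem par_mul_inv : ∀ x y : QuaternionGroup 4, par x = 0 → par y = 0 → par (y * x⁻¹) = 0 := by decide +kernel
theorem eq_of_sq : ∀ x : QuaternionGroup 4, x ^ 2 = 1 → x ≠ 1 → x = a 4 := by decide
theorem order_eight : ∀ x : QuaternionGroup 4, x ^ 4 ≠ 1 → x = a 1 ∨ x = a 3 ∨ x = a 5 ∨ x = a 7 := by decide +kernel
theorem a_one_pow_four : (a 1 : QuaternionGroup 4) ^ 4 ≠ 1 := by decide
theorem a_comm : ∀ i j : ZMod (2 * 4), (a i : QuaternionGroup 4) * a j = a j * a i := by decide +kernel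
theorem not_comm : (xa 0 : QuaternionGroup 4) * a 1 ≠ a 1 * xa 0 := by decide
theorem not_comm2 : (xa 0 : QuaternionGroup 4) * a 2 ≠ a 2 * xa 0 := by decide
theorem not_comm3 : (xa 1 : QuaternionGroup 4) * a 2 ≠ a 2 * xa 1 := by decide
theorem par_pow : ∀ i : ZMod (2 * 4), ∀ k : QuaternionGroup 4, (k = a 1 ∨ k = a 3 ∨ k = a 5 ∨ k = a 7) →
    par (k ^ i.val) = i.val % 2 := by
  decide +kernel
theorem par_mul_pow : ∀ i j : ZMod (2 * 4), j.val % 2 = 0 → ∀ k : QuaternionGroup 4,
    (k = a 1 ∨ k = a 3 ∨ k = a 5 ∨ k = a 7) → par (xa j * k ^ i.val) = i.val % 2 := by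
  decide +kernel

variable {S : Type*} [Group S]

theorem comm_of_map {ι : QuaternionGroup 4 →* S} (hι : Function.Injective ι) {x y : QuaternionGroup 4}
    (h : ι x * ι y = ι y * ι x) : x * y = y * x := by
  apply hι
  rw [map_mul, map_mul, h]

/-- quasi-dihedral case -/
theorem qd_case {n : ℕ} {u : ZMod (2 ^ n) → S} {y : S} (hc : IsQDCoord n u y)
    (ι : QuaternionGroup 4 →* S) (hι : Function.Injective ι)
    (h : ∀ (s : S) (x : QuaternionGroup 4), par x = 0 → ∃ w, par w = 0 ∧ s * ι x * s⁻¹ = ι w) : False := by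
  have hfin := hc.finite
  -- an element outside the cyclic maximal subgroup
  have hex : ∃ (x : QuaternionGroup 4) (c : ZMod (2 ^ n)), par x = 0 ∧ ι x = u c * y := by
    rcases hc.cases (ι (a 2)) with ⟨c, hc2⟩ | ⟨c, hc2⟩
    · rcases hc.cases (ι (xa 0)) with ⟨d, hd⟩ | ⟨d, hd⟩
      · exfalso
        apply not_comm2
        apply comm_of_map hι
        rw [hc2, hd, hc.u_mul, hc.u_mul, add_comm]
      · exact ⟨xa 0, d, by decide, hd⟩
    · exact ⟨a 2, c, by decide, hc2⟩
  obtain ⟨x, c, hx, hxc⟩ := hex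
  obtain ⟨w, hw, hsw⟩ := h (u 1) x hx
  have h1 : ι (w * x⁻¹) = u (2 - 2 ^ (n - 1)) := by
    rw [map_mul, map_inv, ← hsw, hxc, hc.u_conj_uy, hc.uy_inv, hc.uy_mul_uy]
    congr 1
    have h2 := two_mul_half n hc.one_le
    have h3 := half_mul_half n hc.two_le
    linear_combination (c) * h2 - c * h3
  have h2 : (w * x⁻¹) ^ 4 = 1 := pow_four_of_par _ (par_mul_inv x w hx hw)
  have h3 : u (((4 : ℕ) : ZMod (2 ^ n)) * (2 - 2 ^ (n - 1))) = 1 := by
    rw [← hc.u_pow, ← h1, ← map_pow, h2, map_one]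
  rw [hc.u_eq_one_iff] at h3
  have h4 : ((8 : ℕ) : ZMod (2 ^ n)) = 0 := by
    have h5 := two_mul_half n hc.one_le
    push_cast at h3 ⊢
    linear_combination h3 + 2 * h5
  rw [natCast_eq_zero_iff] at h4
  have h5 : n ≤ 3 := by
    by_contra h6
    have h7 : 2 ^ 4 ≤ 2 ^ n := Nat.pow_le_pow_right (by norm_num) (by omega)
    have h8 := Nat.le_of_dvd (by norm_num) h4
    omega
  have h6 : n = 3 := le_antisymm h5 hc.three_le
  subst h6
  have hcard : Nat.card ι.range = Nat.card S := by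
    rw [hc.card, ← Nat.card_congr (MonoidHom.ofInjective hι).toEquiv, Nat.card_eq_fintype_card,
      QuaternionGroup.card]
    norm_num
  have htop : ι.range = ⊤ := Subgroup.eq_top_of_card_eq _ hcard
  have hsurj : ∀ s : S, ∃ x, ι x = s := fun s => by
    have : s ∈ ι.range := by rw [htop]; exact Subgroup.mem_top s
    exact this
  have key : ∀ s : S, s ^ 2 = 1 → s ≠ 1 → s = ι (a 4) := by
    intro s hs hs1
    obtain ⟨b, rfl⟩ := hsurj s
    rw [eq_of_sq b]
    · apply hι
      rw [map_pow, hs, map_one]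
    · rintro rfl
      exact hs1 (map_one ι)
  have hy1 : y = ι (a 4) := by
    apply key y
    · rw [sq, hc.y_y]
    · intro h
      apply hc.u_ne 0 0
      rw [h, mul_one]
  have hu1 : u 4 = ι (a 4) := by
    apply key
    · rw [hc.u_pow]
      have : (((2 : ℕ) : ZMod (2 ^ 3)) * 4) = 0 := by decide
      rw [this, hc.u_zero]
    · intro h
      rw [hc.u_eq_one_iff] at h
      exact absurd h (by decide)
  apply hc.u_ne 4 0
  rw [hu1, hy1, hc.u_zero, one_mul]

/-- wreathed case -/
theorem wreathed_case {n : ℕ} {u : ZMod (2 ^ n) → ZMod (2 ^ n) → S} {z : S} (hc : IsWCoord n u z)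
    (ι : QuaternionGroup 4 →* S) (hι : Function.Injective ι)
    (h : ∀ (s : S) (x : QuaternionGroup 4), par x = 0 → ∃ w, par w = 0 ∧ s * ι x * s⁻¹ = ι w) : False := by
  have hex : ∃ (x : QuaternionGroup 4) (c d : ZMod (2 ^ n)), par x = 0 ∧ ι x = u c d * z := by
    rcases hc.cases (ι (a 2)) with ⟨c, d, hc2⟩ | ⟨c, d, hc2⟩
    · rcases hc.cases (ι (xa 0)) with ⟨c', d', hd⟩ | ⟨c', d', hd⟩
      · exfalso
        apply not_comm2
        apply comm_of_map hι
        rw [hc2, hd, hc.u_comm]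
      · exact ⟨xa 0, c', d', by decide, hd⟩
    · exact ⟨a 2, c, d, by decide, hc2⟩
  obtain ⟨x, c, d, hx, hxc⟩ := hex
  obtain ⟨w, hw, hsw⟩ := h (u 1 0) x hx
  have h1 : ι (w * x⁻¹) = u 1 (-1) := by
    rw [map_mul, map_inv, ← hsw, hxc, hc.u_conj_uz, hc.uz_inv, hc.uz_mul_uz]
    congr 1 <;> ring
  have h2 : (w * x⁻¹) ^ 4 = 1 := pow_four_of_par _ (par_mul_inv x w hx hw)
  have h3 : u (((4 : ℕ) : ZMod (2 ^ n)) * 1) (((4 : ℕ) : ZMod (2 ^ n)) * (-1)) = 1 := by
    rw [← hc.u_pow, ← h1, ← map_pow, h2, map_one]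
  rw [hc.u_eq_one_iff] at h3
  have h4 : ((4 : ℕ) : ZMod (2 ^ n)) = 0 := by
    have := h3.1
    rwa [mul_one] at this
  have hbase : ∀ a b : ZMod (2 ^ n), (u a b) ^ 4 = 1 := by
    intro a b
    rw [hc.u_pow, h4, zero_mul, zero_mul, hc.u_zero]
  -- the element of order 8 is outside the base
  have hc1 : ∃ c d, ι (a 1) = u c d * z := by
    rcases hc.cases (ι (a 1)) with ⟨c, d, h5⟩ | ⟨c, d, h5⟩
    · exfalso
      apply a_one_pow_four
      apply hι
      rw [map_pow, h5, hbase, map_one]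
    · exact ⟨c, d, h5⟩
  obtain ⟨c1, d1, hcd⟩ := hc1
  have ha2 : ι (a 2) = u (c1 + d1) (c1 + d1) := by
    have : (a 2 : QuaternionGroup 4) = a 1 ^ 2 := by decide
    rw [this, map_pow, hcd, hc.uz_sq]
  rcases hc.cases (ι (xa 0)) with ⟨c', d', hd⟩ | ⟨c', d', hd⟩
  · apply not_comm2
    apply comm_of_map hι
    rw [ha2, hd, hc.u_comm]
  · have hx1 : ι (xa 1) = u (c' + d1) (d' + c1) := by
      have : (xa 1 : QuaternionGroup 4) = xa 0 * a 1 := by decide
      rw [this, map_mul, hd, hcd, hc.uz_mul_uz]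
    apply not_comm3
    apply comm_of_map hι
    rw [ha2, hx1, hc.u_comm]

/-- In a quasi-dihedral or wreathed 2-group, the two classes of quaternion subgroups of order 8 of a normal
generalized quaternion subgroup of order 16 are interchanged. -/
theorem exists_swap [Finite S] (hS : Cfsg.IsQuasiDihedral S ∨ Cfsg.IsWreathed S)
    (ι : QuaternionGroup 4 →* S) (hι : Function.Injective ι) (hn : ι.range.Normal) :
    ∃ (s : S) (j : ZMod (2 * 4)) (k : QuaternionGroup 4), j.val % 2 = 1 ∧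
      (k = a 1 ∨ k = a 3 ∨ k = a 5 ∨ k = a 7) ∧ s * ι (xa 0) * s⁻¹ = ι (xa j) ∧
      s * ι (a 1) * s⁻¹ = ι k := by
  by_contra hcon
  have main : ∀ (s : S) (x : QuaternionGroup 4), par x = 0 → ∃ w, par w = 0 ∧ s * ι x * s⁻¹ = ι w := by
    intro s x hx
    obtain ⟨k, hk⟩ := hn.conj_mem (ι (a 1)) ⟨a 1, rfl⟩ s
    obtain ⟨l, hl⟩ := hn.conj_mem (ι (xa 0)) ⟨xa 0, rfl⟩ s
    have hk4 : k = a 1 ∨ k = a 3 ∨ k = a 5 ∨ k = a 7 := by
      apply order_eight
      intro h
      apply a_one_pow_four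
      apply hι
      have h1 : (s * ι (a 1) * s⁻¹) ^ 4 = 1 := by rw [← hk, ← map_pow, h, map_one]
      rw [conj_pow, ← map_pow] at h1
      rw [map_one]
      have h2 : s * ι (a 1 ^ 4) = s := by rwa [mul_inv_eq_one] at h1
      exact mul_eq_left.mp h2
    have hka : ∃ i, k = a i := by
      rcases hk4 with h | h | h | h
      · exact ⟨1, h⟩
      · exact ⟨3, h⟩
      · exact ⟨5, h⟩
      · exact ⟨7, h⟩
    have hlx : ∃ j, l = xa j := by
      rcases l with i | j
      · exfalso
        obtain ⟨i', rfl⟩ := hka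
        apply not_comm
        apply comm_of_map hι
        have h1 : (s * ι (xa 0) * s⁻¹) * (s * ι (a 1) * s⁻¹) = (s * ι (a 1) * s⁻¹) * (s * ι (xa 0) * s⁻¹) := by
          rw [← hk, ← hl, ← map_mul, ← map_mul, a_comm]
        have h2 : s * (ι (xa 0) * ι (a 1)) * s⁻¹ = s * (ι (a 1) * ι (xa 0)) * s⁻¹ := by
          calc s * (ι (xa 0) * ι (a 1)) * s⁻¹ = (s * ι (xa 0) * s⁻¹) * (s * ι (a 1) * s⁻¹) := by group
            _ = _ := h1
            _ = s * (ι (a 1) * ι (xa 0)) * s⁻¹ := by group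
        exact mul_left_cancel (mul_right_cancel h2)
      · exact ⟨j, rfl⟩
    obtain ⟨j, rfl⟩ := hlx
    have hj : j.val % 2 = 0 := by
      by_contra h
      apply hcon
      exact ⟨s, j, k, by omega, hk4, hl.symm, hk.symm⟩
    rcases x with i | i
    · refine ⟨k ^ i.val, ?_, ?_⟩
      · rw [par_pow i k hk4]; exact hx
      · have : (a i : QuaternionGroup 4) = a 1 ^ i.val := by
          rw [a_one_pow, ZMod.natCast_zmod_val]
        rw [this, map_pow, map_pow, hk, conj_pow]
    · refine ⟨xa j * k ^ i.val, ?_, ?_⟩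
      · rw [par_mul_pow i j hj k hk4]; exact hx
      · have : (xa i : QuaternionGroup 4) = xa 0 * a 1 ^ i.val := by
          rw [a_one_pow, ZMod.natCast_zmod_val, xa_mul_a, zero_add]
        rw [this, map_mul, map_mul, map_pow, map_pow, hk, hl, conj_pow]
        group
  rcases hS with h | h
  · obtain ⟨n, u, y, hc⟩ := exists_qdcoord h
    exact qd_case hc ι hι main
  · obtain ⟨n, u, z, hc⟩ := exists_wcoord h
    exact wreathed_case hc ι hι main

end Cfsg.Agent.TwoFusion.QuatNotNormal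
end

-- part: TwoFusion/QGroupA7
section
/-!
# A normal subgroup `2·A₇` is impossible in a group with quasi-dihedral or wreathed Sylow 2-subgroups
-/

set_option autoImplicit false

open QuaternionGroup Subgroup

namespace Cfsg.Agent.TwoFusion.QGroupA7

theorem sq_xa_mul : ∀ j : ZMod (2 * 4), j.val % 2 = 1 →
    ((xa 0 * xa j : QuaternionGroup 4) ^ 2 ≠ 1 ∧ (xa 0 * xa j : QuaternionGroup 4) ^ 2 ≠ a 4) := by decide

theorem pow_k : ∀ j : ZMod (2 * 4), j.val % 2 = 1 → ∀ k : QuaternionGroup 4,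
    (k = a 1 ∨ k = a 3 ∨ k = a 5 ∨ k = a 7) →
    (k ^ (2 * (4 + j)).val = (xa 0 * xa j : QuaternionGroup 4) ^ 2 ∨
     k ^ (2 * (4 + j)).val = (xa 0 * xa j : QuaternionGroup 4) ^ 2 * a 4) := by decide +kernel

theorem sq_eq : ∀ j : ZMod (2 * 4), (xa 0 * xa j : QuaternionGroup 4) ^ 2 = a 1 ^ (2 * (4 + j)).val := by
  decide

theorem sq_xa : ∀ j : ZMod (2 * 4), (xa j : QuaternionGroup 4) ^ 2 = a 4 := by decide

theorem a4_sq : (a 4 : QuaternionGroup 4) ^ 2 = 1 := by decide
theorem a4_ne : (a 4 : QuaternionGroup 4) ≠ 1 := by decide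

theorem A7_excluded {H : Type*} [Group H] [Finite H] (S : Sylow 2 H)
    (hS : Cfsg.IsQuasiDihedral (S : Subgroup H) ∨ Cfsg.IsWreathed (S : Subgroup H)) (L : Subgroup H)
    [hLn : L.Normal] (z : L) (hz2 : orderOf z = 2) (hzc : (z : H) ∈ center H)
    (hu : ∀ x : L, orderOf x = 2 → x = z) (hperf : commutator L = ⊤) [hn : (zpowers z).Normal]
    (φ : L ⧸ zpowers z ≃* alternatingGroup (Fin 7)) : False := by
  let P : Sylow 2 L := (Cfsg.Agent.Lib.SylowNormalInf.isPGroup_subgroupOf S L).toSylow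
    (Cfsg.Agent.Lib.SylowNormalInf.not_dvd_relIndex S L)
  have hP : ∀ x : L, x ∈ (P : Subgroup L) ↔ (x : H) ∈ (S : Subgroup H) := fun x => Iff.rfl
  obtain ⟨m, hm, ⟨e⟩⟩ := QuatQuotient.exists_quaternion_sylow hperf z hz2 hu P
  -- the order of P is 16
  have hcardL : Nat.card L = 5040 := by
    have h1 := Subgroup.card_eq_card_quotient_mul_card_subgroup (zpowers z)
    rw [Nat.card_congr φ.toEquiv, A7NoSwap.card_A7, Nat.card_zpowers, hz2] at h1
    omega
  have hne : NeZero (2 ^ m) := ⟨by positivity⟩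
  have hcardP : Nat.card (P : Subgroup L) = 4 * 2 ^ m := by
    rw [Nat.card_congr e.toEquiv, Nat.card_eq_fintype_card, QuaternionGroup.card]
  have hm2 : m = 2 := by
    have h1 := (P : Subgroup L).card_mul_index
    rw [hcardP, hcardL] at h1
    have h2 : ¬ 2 ∣ (P : Subgroup L).index := P.not_dvd_index
    have h3 : m < 11 := by
      by_contra h
      have h4 : 2 ^ 11 ≤ 2 ^ m := Nat.pow_le_pow_right (by norm_num) (by omega)
      have h5 : 0 < (P : Subgroup L).index := Nat.pos_of_ne_zero Subgroup.index_ne_zero_of_finite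
      nlinarith only [h1, h4, h5]
    interval_cases m <;> omega
  subst hm2
  have e' : (P : Subgroup L) ≃* QuaternionGroup 4 := e
  clear e hne
  -- the embedding into S
  let f : (P : Subgroup L) →* (S : Subgroup H) :=
    { toFun := fun p => ⟨((p : L) : H), (hP p).mp p.2⟩
      map_one' := rfl
      map_mul' := fun _ _ => rfl }
  let ι : QuaternionGroup 4 →* (S : Subgroup H) := f.comp e'.symm.toMonoidHom
  have hιapp : ∀ x, ((ι x : (S : Subgroup H)) : H) = (((e'.symm x : (P : Subgroup L)) : L) : H) := fun x => rfl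
  have hι : Function.Injective ι := by
    intro x y hxy
    have h1 : (((e'.symm x : (P : Subgroup L)) : L) : H) = (((e'.symm y : (P : Subgroup L)) : L) : H) := by
      rw [← hιapp, ← hιapp, hxy]
    exact e'.symm.injective (Subtype.ext (Subtype.ext h1))
  have hrange : ∀ s : (S : Subgroup H), (s : H) ∈ L → ∃ x, ι x = s := by
    intro s hs
    refine ⟨e' ⟨⟨s, hs⟩, s.2⟩, ?_⟩
    apply Subtype.ext
    rw [hιapp, MulEquiv.symm_apply_apply]
  have hιn : ι.range.Normal := by
    refine ⟨?_⟩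
    rintro _ ⟨x, rfl⟩ s
    obtain ⟨w, hw⟩ := hrange (s * ι x * s⁻¹) (by
      change (s : H) * ((ι x : (S : Subgroup H)) : H) * (s : H)⁻¹ ∈ L
      exact hLn.conj_mem _ (by rw [hιapp]; exact SetLike.coe_mem _) _)
    exact ⟨w, hw⟩
  obtain ⟨s, j, k, hj, hk, hs1, hs2⟩ := QuatNotNormal.exists_swap hS ι hι hιn
  -- conjugation by s
  have hs1' : MulAut.conjNormal (s : H) ((e'.symm (xa 0) : (P : Subgroup L)) : L) =
      ((e'.symm (xa j) : (P : Subgroup L)) : L) := by
    apply Subtype.ext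
    rw [MulAut.conjNormal_apply]
    exact congrArg Subtype.val hs1
  have hs2' : MulAut.conjNormal (s : H) ((e'.symm (a 1) : (P : Subgroup L)) : L) =
      ((e'.symm k : (P : Subgroup L)) : L) := by
    apply Subtype.ext
    rw [MulAut.conjNormal_apply]
    exact congrArg Subtype.val hs2
  have hza : ((e'.symm (a 4) : (P : Subgroup L)) : L) = z := by
    apply hu
    rw [Subgroup.orderOf_coe, MulEquiv.orderOf_eq]
    exact orderOf_eq_prime a4_sq a4_ne
  have hzmap : (zpowers z).map (MulAut.conjNormal (s : H) : L ≃* L).toMonoidHom = zpowers z := by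
    rw [MonoidHom.map_zpowers]
    congr 1
    apply Subtype.ext
    change ((MulAut.conjNormal (s : H) z : L) : H) = z
    rw [MulAut.conjNormal_apply]
    have := Subgroup.mem_center_iff.mp hzc s
    rw [this]; group
  let σ₁ : L ⧸ zpowers z ≃* L ⧸ zpowers z :=
    QuotientGroup.congr (zpowers z) (zpowers z) (MulAut.conjNormal (s : H)) hzmap
  have hσ₁ : ∀ x : L, σ₁ (QuotientGroup.mk x) = QuotientGroup.mk (MulAut.conjNormal (s : H) x) := fun x => rfl
  let g : QuaternionGroup 4 →* alternatingGroup (Fin 7) :=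
    (φ.toMonoidHom.comp (QuotientGroup.mk' (zpowers z))).comp ((P : Subgroup L).subtype.comp e'.symm.toMonoidHom)
  have hg : ∀ x, g x = φ (QuotientGroup.mk ((e'.symm x : (P : Subgroup L)) : L)) := fun x => rfl
  have hgker : ∀ x, g x = 1 ↔ x = 1 ∨ x = a 4 := by
    intro x
    rw [hg, map_eq_one_iff φ φ.injective, QuotientGroup.eq_one_iff]
    constructor
    · intro h
      rcases QuatCover.mem_zpowers_of_orderOf_two hz2 h with h | h
      · left
        have : e'.symm x = 1 := Subtype.ext h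
        rwa [map_eq_one_iff e'.symm e'.symm.injective] at this
      · right
        rw [← hza] at h
        exact e'.symm.injective (Subtype.ext h)
    · rintro (h | h)
      · rw [h, map_one]; exact one_mem _
      · rw [h, hza]; exact mem_zpowers z
  have hPg : IsPGroup 2 g.range := by
    have h1 : IsPGroup 2 (QuaternionGroup 4) := P.2.of_equiv e'
    exact h1.of_surjective g.rangeRestrict g.rangeRestrict_surjective
  refine A7NoSwap.no_swap g.range hPg (g (xa 0)) (g (xa j)) ⟨_, rfl⟩ ⟨_, rfl⟩ ?_ ?_ ?_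
    (φ.symm.trans (σ₁.trans φ)) ?_ ?_
  · rw [← map_pow, sq_xa, hgker]; right; rfl
  · rw [← map_pow, sq_xa, hgker]; right; rfl
  · rw [← map_mul, ← map_pow, Ne, hgker]
    have := sq_xa_mul j hj
    exact not_or.mpr this
  · change φ (σ₁ (φ.symm (g (xa 0)))) = g (xa j)
    rw [hg, MulEquiv.symm_apply_apply, hσ₁, hs1', hg]
  · rw [← map_mul, ← map_pow]
    change φ (σ₁ (φ.symm (g ((xa 0 * xa j) ^ 2)))) = g ((xa 0 * xa j) ^ 2)
    rw [hg, MulEquiv.symm_apply_apply, hσ₁]
    have h1 : MulAut.conjNormal (s : H) ((e'.symm ((xa 0 * xa j) ^ 2) : (P : Subgroup L)) : L) =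
        ((e'.symm (k ^ (2 * (4 + j)).val) : (P : Subgroup L)) : L) := by
      rw [sq_eq, map_pow, Subgroup.coe_pow, map_pow, hs2', ← Subgroup.coe_pow, ← map_pow]
    rw [h1]
    change g (k ^ (2 * (4 + j)).val) = g ((xa 0 * xa j) ^ 2)
    rcases pow_k j hj k hk with h2 | h2
    · rw [h2]
    · rw [h2, map_mul, (hgker (a 4)).mpr (Or.inr rfl), mul_one]

end Cfsg.Agent.TwoFusion.QGroupA7
end

-- part: TwoFusion/QGroupMain
section
/-!
# The normal subgroup `SL(2,q)` of a core-free Q-group (S1216)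
-/

set_option autoImplicit false

open Subgroup

namespace Cfsg.Agent.TwoFusion.QGroupMain

universe u

/-- A perfect normal subgroup with a unique involution, central in `H`, is `SL(2,q)`, `q > 3` (given the
Gorenstein–Walter theorem). -/
theorem exists_sl_two
    (hGW : ∀ (X : Type u) [Group X] [Finite X] [Group.IsPerfect X]
      (S : Sylow 2 X) (n : ℕ), 2 ≤ n → Nonempty ((S : Subgroup X) ≃* DihedralGroup n) →
      (∃ (F : Type) (_ : Field F) (_ : Fintype F), Odd (Fintype.card F) ∧ 3 < Fintype.card F ∧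
        Nonempty (X ⧸ Cfsg.oddCore X ≃* Matrix.ProjectiveSpecialLinearGroup (Fin 2) F)) ∨
      Nonempty (X ⧸ Cfsg.oddCore X ≃* alternatingGroup (Fin 7)))
    {H : Type u} [Group H] [Finite H] (S : Sylow 2 H)
    (hS : Cfsg.IsQuasiDihedral (S : Subgroup H) ∨ Cfsg.IsWreathed (S : Subgroup H)) (L : Subgroup H)
    [hLn : L.Normal] (z : L) (hz2 : orderOf z = 2) (hzc : (z : H) ∈ center H)
    (hu : ∀ x : L, orderOf x = 2 → x = z) (hperf : commutator L = ⊤) (hO : Cfsg.oddCore L = ⊥) :
    ∃ (F : Type) (_ : Field F) (_ : Fintype F), Odd (Fintype.card F) ∧ 3 < Fintype.card F ∧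
      Nonempty (L ≃* Matrix.SpecialLinearGroup (Fin 2) F) := by
  have hzcL : z ∈ center L := by
    rw [Subgroup.mem_center_iff]
    intro g
    exact Subtype.ext (Subgroup.mem_center_iff.mp hzc g)
  have hn : (zpowers z).Normal := IsolatedCenter.normal_of_le_center (by rw [zpowers_le]; exact hzcL)
  obtain ⟨P⟩ := (inferInstance : Nonempty (Sylow 2 L))
  obtain ⟨m, hm, ⟨e⟩⟩ := QuatQuotient.exists_quaternion_sylow hperf z hz2 hu P
  have hperfX : Group.IsPerfect (L ⧸ zpowers z) := by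
    refine ⟨?_⟩
    have h1 : (commutator L).map (QuotientGroup.mk' (zpowers z)) = commutator (L ⧸ zpowers z) := by
      rw [commutator_def, commutator_def, Subgroup.map_commutator,
        Subgroup.map_top_of_surjective _ (QuotientGroup.mk'_surjective _)]
    rw [← h1, hperf, Subgroup.map_top_of_surjective _ (QuotientGroup.mk'_surjective _)]
  have hOX := QuatQuotient.oddCore_quotient_eq_bot hO z hzcL hz2
  have e2 : (L ⧸ zpowers z) ⧸ Cfsg.oddCore (L ⧸ zpowers z) ≃* L ⧸ zpowers z :=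
    (QuotientGroup.quotientMulEquivOfEq hOX).trans QuotientGroup.quotientBot
  rcases hGW (L ⧸ zpowers z) (P.mapSurjective (QuotientGroup.mk'_surjective (zpowers z))) (2 ^ m)
    (by
      calc 2 = 2 ^ 1 := by norm_num
        _ ≤ 2 ^ m := Nat.pow_le_pow_right (by norm_num) hm)
    (QuatQuotient.sylow_quotient z hz2 P m e) with ⟨F, hF1, hF2, hodd, hcard, ⟨φ⟩⟩ | h7
  · exact ⟨F, hF1, hF2, hodd, hcard,
      QuatCoverSL.mulEquiv_sl_two z hzcL hz2 P m hm e hodd (e2.symm.trans φ)⟩
  · obtain ⟨φ⟩ := h7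
    exact absurd (QGroupA7.A7_excluded S hS L z hz2 hzc hu hperf (e2.symm.trans φ)) id

/-- `SL(2,q)`, `q` odd, has an element with square `-1`. -/
theorem exists_sq_eq {F : Type*} [Field F] [Fintype F] (hF : Odd (Fintype.card F)) {L : Type*} [Group L]
    (ψ : L ≃* Matrix.SpecialLinearGroup (Fin 2) F) (z : L) (hz : orderOf z = 2) : ∃ x : L, x ^ 2 = z := by
  have h1 : ψ z = -1 := by
    apply QuatCoverSL.eq_neg_one_of_orderOf_two hF
    rw [MulEquiv.orderOf_eq, hz]
  let w : Matrix.SpecialLinearGroup (Fin 2) F := ⟨!![0, 1; -1, 0], by simp [Matrix.det_fin_two]⟩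
  have hw : w ^ 2 = -1 := by
    apply Subtype.ext
    rw [sq]
    change !![(0 : F), 1; -1, 0] * !![(0 : F), 1; -1, 0] = ((-1 : Matrix.SpecialLinearGroup (Fin 2) F) :
      Matrix (Fin 2) (Fin 2) F)
    ext i j
    (revert i j; simp only [Matrix.mul_apply, Fin.sum_univ_two, _root_.Fin.forall_fin_succ, _root_.Matrix.of_apply, _root_.Matrix.cons_val', _root_.Matrix.cons_val_fin_one, Fin.isValue, _root_.Matrix.cons_val_zero, _root_.Matrix.cons_val_one, _root_.Matrix.SpecialLinearGroup.coe_neg, _root_.Matrix.SpecialLinearGroup.coe_one, _root_.Matrix.neg_apply, _root_.MulZeroClass.mul_zero, _root_.mul_neg, _root_.mul_one, _root_.zero_add, _root_.neg_inj, _root_.Matrix.cons_val_succ, _root_.add_zero, _root_.IsEmpty.forall_iff, _root_.and_true, _root_.Matrix.one_apply_eq, Nat.reduceAdd, _root_.Fin.succ_zero_eq_one, _root_.ne_eq, _root_.zero_ne_one, _root_.not_false_eq_true, _root_.Matrix.one_apply_ne, _root_.neg_zero, _root_.and_self, _root_.Fin.succ_ne_zero, _root_.true_and])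
  refine ⟨ψ.symm w, ?_⟩
  rw [← map_pow, hw, ← h1, MulEquiv.symm_apply_apply]

/-- A normal `SL(2,q)` is contained in every normal subgroup of 2-power index. -/
theorem le_of_index {H : Type*} [Group H] [Finite H] (K : Subgroup H) [K.Normal] {n : ℕ}
    (hK : K.index = 2 ^ n) {F : Type*} [Field F] [Fintype F] (hF : Odd (Fintype.card F))
    (L : Subgroup H) (ψ : L ≃* Matrix.SpecialLinearGroup (Fin 2) F) : L ≤ K := by
  intro x hx
  have hP : IsPGroup 2 (H ⧸ K) := IsPGroup.of_card (n := n) hK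
  have h1 := SLTwoFacts.hom_eq_one hF hP
    (((QuotientGroup.mk' K).comp L.subtype).comp ψ.symm.toMonoidHom) (ψ ⟨x, hx⟩)
  have h2 : (QuotientGroup.mk x : H ⧸ K) = 1 := by
    simpa only [_root_.QuotientGroup.eq_one_iff, _root_.MulEquiv.toMonoidHom_eq_coe, _root_.MonoidHom.coe_comp, _root_.QuotientGroup.coe_mk', _root_.Subgroup.coe_subtype, _root_.MonoidHom.coe_coe, _root_.Function.comp_apply, _root_.MulEquiv.symm_apply_apply] using h1
  exact (QuotientGroup.eq_one_iff x).mp h2

/-- Two normal subgroups `L` (perfect, simple modulo `z`) and `L₁` containing `z`: `L ≤ L₁` or they commute and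
meet in `⟨z⟩`. -/
theorem le_of_simple {H : Type*} [Group H] [Finite H] (K : Subgroup H) (z : H) (hzc : z ∈ center H)
    (hz2 : orderOf z = 2) (hu : ∀ x ∈ K, orderOf x = 2 → x = z)
    (L L₁ : Subgroup H) [hLn : L.Normal] [hL₁n : L₁.Normal] (hLK : L ≤ K) (hL₁K : L₁ ≤ K)
    {F : Type*} [Field F] [Fintype F] (hF : Odd (Fintype.card F)) (hF3 : 3 < Fintype.card F)
    (ψ : L ≃* Matrix.SpecialLinearGroup (Fin 2) F) (hzL : z ∈ L) (hzL₁ : z ∈ L₁)
    (hx₁ : ∃ x₁ ∈ L₁, x₁ ^ 2 = z) : L ≤ L₁ := by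
  have hz1 : z ≠ 1 := by rintro rfl; simp at hz2
  -- image of L ⊓ L₁ in PSL
  let π : L →* Matrix.ProjectiveSpecialLinearGroup (Fin 2) F :=
    (QuotientGroup.mk' (center (Matrix.SpecialLinearGroup (Fin 2) F))).comp ψ.toMonoidHom
  have hπs : Function.Surjective π := (QuotientGroup.mk'_surjective _).comp ψ.surjective
  have hπker : ∀ x : L, π x = 1 → (x : H) = 1 ∨ (x : H) = z := by
    intro x hx
    have h1 : ψ x ∈ center (Matrix.SpecialLinearGroup (Fin 2) F) :=
      (QuotientGroup.eq_one_iff (ψ x)).mp hx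
    rw [QuatCoverSL.center_eq_zpowers hF] at h1
    rcases QuatCover.mem_zpowers_of_orderOf_two (QuatCoverSL.orderOf_neg_one hF) h1 with h2 | h2
    · left
      rw [map_eq_one_iff ψ ψ.injective] at h2
      rw [h2]; rfl
    · right
      apply hu _ (hLK x.2)
      rw [Subgroup.orderOf_coe, ← MulEquiv.orderOf_eq ψ, h2, QuatCoverSL.orderOf_neg_one hF]
  have hsimple : IsSimpleGroup (Matrix.ProjectiveSpecialLinearGroup (Fin 2) F) :=
    SLTwoFacts.isSimpleGroup_psl hF3
  have hMn : ((L₁.subgroupOf L).map π).Normal := Subgroup.Normal.map inferInstance π hπs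
  rcases hMn.eq_bot_or_eq_top with h | h
  · -- they commute
    exfalso
    have hinf : ∀ x ∈ L, x ∈ L₁ → x = 1 ∨ x = z := by
      intro x hx hx1
      apply hπker ⟨x, hx⟩
      have : π ⟨x, hx⟩ ∈ (L₁.subgroupOf L).map π := ⟨⟨x, hx⟩, hx1, rfl⟩
      rw [h, Subgroup.mem_bot] at this
      exact this
    have hcomm : ∀ b ∈ L₁, ∀ a ∈ L, a * b = b * a := by
      intro b hb
      have hmem : ∀ a : L, (a : H) * b * (a : H)⁻¹ * b⁻¹ ∈ Subgroup.zpowers z := by
        intro a
        have h1 : (a : H) * b * (a : H)⁻¹ * b⁻¹ ∈ L := by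
          have : (a : H) * b * (a : H)⁻¹ * b⁻¹ = (a : H) * (b * (a : H)⁻¹ * b⁻¹) := by group
          rw [this]
          exact L.mul_mem a.2 (hLn.conj_mem _ (L.inv_mem a.2) b)
        have h2 : (a : H) * b * (a : H)⁻¹ * b⁻¹ ∈ L₁ :=
          L₁.mul_mem (hL₁n.conj_mem _ hb _) (L₁.inv_mem hb)
        rcases hinf _ h1 h2 with h3 | h3
        · rw [h3]; exact one_mem _
        · rw [h3]; exact mem_zpowers z
      have hzle : Subgroup.zpowers z ≤ center H := by rw [zpowers_le]; exact hzc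
      let θ : L →* center H :=
        { toFun := fun a => ⟨(a : H) * b * (a : H)⁻¹ * b⁻¹, hzle (hmem a)⟩
          map_one' := by
            apply Subtype.ext
            simp only [_root_.OneMemClass.coe_one, _root_.one_mul, _root_.inv_one, _root_.mul_one, _root_.mul_inv_cancel]
          map_mul' := by
            intro a a'
            apply Subtype.ext
            change ((a * a' : L) : H) * b * ((a * a' : L) : H)⁻¹ * b⁻¹ =
              ((a : H) * b * (a : H)⁻¹ * b⁻¹) * ((a' : H) * b * (a' : H)⁻¹ * b⁻¹)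
            have h1 := Subgroup.mem_center_iff.mp (hzle (hmem a')) ((a : H))
            calc ((a * a' : L) : H) * b * ((a * a' : L) : H)⁻¹ * b⁻¹
                = (a : H) * ((a' : H) * b * (a' : H)⁻¹ * b⁻¹) * (b * (a : H)⁻¹ * b⁻¹) := by
                  rw [Subgroup.coe_mul]; group
              _ = ((a' : H) * b * (a' : H)⁻¹ * b⁻¹) * (a : H) * (b * (a : H)⁻¹ * b⁻¹) := by rw [h1]
              _ = ((a' : H) * b * (a' : H)⁻¹ * b⁻¹) * ((a : H) * b * (a : H)⁻¹ * b⁻¹) := by group
              _ = ((a : H) * b * (a : H)⁻¹ * b⁻¹) * ((a' : H) * b * (a' : H)⁻¹ * b⁻¹) :=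
                (Subgroup.mem_center_iff.mp (hzle (hmem a')) _).symm }
      have hperf : commutator L = ⊤ := by
        have h1 := SLTwoFacts.commutator_eq_top hF3
        have h2 : (commutator (Matrix.SpecialLinearGroup (Fin 2) F)).map ψ.symm.toMonoidHom = commutator L := by
          rw [commutator_def, commutator_def, Subgroup.map_commutator,
            Subgroup.map_top_of_surjective _ ψ.symm.surjective]
        rw [← h2, h1, Subgroup.map_top_of_surjective _ ψ.symm.surjective]
      intro a ha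
      have h1 : (⟨a, ha⟩ : L) ∈ θ.ker := by
        have h2 : commutator L ≤ θ.ker := by
          rw [commutator_eq_closure, Subgroup.closure_le]
          rintro _ ⟨x, y, rfl⟩
          rw [SetLike.mem_coe, MonoidHom.mem_ker, map_commutatorElement, commutatorElement_def]
          have h3 : θ x * θ y = θ y * θ x :=
            Subtype.ext (Subgroup.mem_center_iff.mp (θ y).2 (θ x))
          rw [h3]; group
        rw [hperf] at h2
        exact h2 (Subgroup.mem_top _)
      have h2 : a * b * a⁻¹ * b⁻¹ = 1 := congrArg Subtype.val (MonoidHom.mem_ker.mp h1)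
      calc a * b = (a * b * a⁻¹ * b⁻¹) * (b * a) := by group
        _ = b * a := by rw [h2, one_mul]
    obtain ⟨x₁, hx₁L, hx₁z⟩ := hx₁
    obtain ⟨x₀, hx₀⟩ := exists_sq_eq hF ψ ⟨z, hzL⟩ (by rw [← Subgroup.orderOf_coe]; exact hz2)
    have hx₀z : (x₀ : H) ^ 2 = z := by
      have := congrArg Subtype.val hx₀
      simpa using this
    have hc := hcomm x₁ hx₁L x₀ x₀.2
    have hzsq : z ^ 2 = 1 := by rw [← hz2, pow_orderOf_eq_one]
    have h1 : ((x₀ : H) * x₁) ^ 2 = 1 := by
      have : Commute (x₀ : H) x₁ := hc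
      rw [this.mul_pow, hx₀z, hx₁z, ← sq, hzsq]
    have h2 : (x₀ : H) * x₁ = 1 ∨ (x₀ : H) * x₁ = z := by
      by_cases h3 : (x₀ : H) * x₁ = 1
      · exact Or.inl h3
      · right
        exact hu _ (K.mul_mem (hLK x₀.2) (hL₁K hx₁L)) (orderOf_eq_prime h1 h3)
    have h3 : x₁ ∈ L := by
      rcases h2 with h3 | h3
      · have : x₁ = (x₀ : H)⁻¹ := eq_inv_of_mul_eq_one_right h3
        rw [this]; exact L.inv_mem x₀.2
      · have : x₁ = (x₀ : H)⁻¹ * z := by rw [← h3]; group
        rw [this]; exact L.mul_mem (L.inv_mem x₀.2) hzL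
    have h4 : x₁ ^ 2 = 1 := by
      rcases hinf x₁ h3 hx₁L with h5 | h5
      · rw [h5, one_pow]
      · rw [h5, hzsq]
    exact hz1 (hx₁z.symm.trans h4)
  · intro x hx
    have h1 : π ⟨x, hx⟩ ∈ (L₁.subgroupOf L).map π := by rw [h]; exact Subgroup.mem_top _
    obtain ⟨y, hy, hyx⟩ := h1
    have hy1 : (y : H) ∈ L₁ := hy
    have h2 : π (⟨x, hx⟩ * y⁻¹) = 1 := by rw [map_mul, map_inv, hyx, mul_inv_cancel]
    have h3 := hπker _ h2
    have h4 : x * (y : H)⁻¹ ∈ L₁ := by
      rcases h3 with h5 | h5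
      · have : x * (y : H)⁻¹ = 1 := h5
        rw [this]; exact one_mem _
      · have : x * (y : H)⁻¹ = z := h5
        rw [this]; exact hzL₁
    have h5 : x = x * (y : H)⁻¹ * y := by group
    rw [h5]
    exact L₁.mul_mem h4 hy1

/-- The main theorem, given the Z*-theorem, the Gorenstein–Walter theorem and the solvable case. -/
theorem main
    (hZ : ∀ (G : Type u) [Group G] [Finite G] (P : Sylow 2 G) (u : G), orderOf u = 2 → u ∈ P →
      (∀ g : G, g * u * g⁻¹ ∈ P → g * u * g⁻¹ = u) →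
      ∃ N : Subgroup G, N.Normal ∧ Odd (Nat.card N) ∧ ∀ g : G, (u * g * u⁻¹ * g⁻¹) ∈ N)
    (hGW : ∀ (X : Type u) [Group X] [Finite X] [Group.IsPerfect X]
      (S : Sylow 2 X) (n : ℕ), 2 ≤ n → Nonempty ((S : Subgroup X) ≃* DihedralGroup n) →
      (∃ (F : Type) (_ : Field F) (_ : Fintype F), Odd (Fintype.card F) ∧ 3 < Fintype.card F ∧
        Nonempty (X ⧸ Cfsg.oddCore X ≃* Matrix.ProjectiveSpecialLinearGroup (Fin 2) F)) ∨
      Nonempty (X ⧸ Cfsg.oddCore X ≃* alternatingGroup (Fin 7)))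
    (hSolv : ∀ (K : Type u) [Group K] [Finite K] [Group.IsSolvable K], Cfsg.oddCore K = ⊥ →
      ∀ (z : K), orderOf z = 2 → (∀ x : K, orderOf x = 2 → x = z) → ∀ [(Subgroup.zpowers z).Normal]
      (Q : Sylow 2 K) (m : ℕ), 1 ≤ m → ((Q : Subgroup K) ≃* QuaternionGroup (2 ^ m)) →
      (∀ M : Subgroup K, M.index ≠ 2) → Nonempty (K ⧸ Subgroup.zpowers z ≃* alternatingGroup (Fin 4)))
    {H : Type u} [Group H] [Finite H] (S : Sylow 2 H)
    (hS : Cfsg.IsQuasiDihedral (S : Subgroup H) ∨ Cfsg.IsWreathed (S : Subgroup H))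
    (hO : Cfsg.oddCore H = ⊥)
    (hQ : (∃ K : Subgroup H, K.Normal ∧ (∃ a : ℕ, K.index = 2 ^ a) ∧ (∀ M : Subgroup ↥K, M.index ≠ 2) ∧
        (∀ P : Sylow 2 ↥K, ∃ m : ℕ, 1 ≤ m ∧ Nonempty ((P : Subgroup ↥K) ≃* QuaternionGroup (2 ^ m)))) ∧
      (∀ Z₀ : Subgroup H, Z₀ ≤ ((Subgroup.center (S : Subgroup H)).map (S : Subgroup H).subtype) →
        Cfsg.IsWeaklyClosed Z₀ (S : Subgroup H))) :
    ∃ L₀ : Subgroup H, L₀.Normal ∧ (∃ (F : Type) (_ : Field F) (_ : Fintype F), Odd (Fintype.card F) ∧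
      Nonempty (L₀ ≃* Matrix.SpecialLinearGroup (Fin 2) F)) ∧
      ∀ L₁ : Subgroup H, L₁.Normal → (∃ (F : Type) (_ : Field F) (_ : Fintype F), Odd (Fintype.card F) ∧
        Nonempty (L₁ ≃* Matrix.SpecialLinearGroup (Fin 2) F)) → L₁ = L₀ := by
  obtain ⟨⟨K, hKn, ⟨a₀, hKidx⟩, hK2, hKQ⟩, hw⟩ := hQ
  -- the Sylow subgroup of K
  let P : Sylow 2 K := (Cfsg.Agent.Lib.SylowNormalInf.isPGroup_subgroupOf S K).toSylow
    (Cfsg.Agent.Lib.SylowNormalInf.not_dvd_relIndex S K)
  have hP : ∀ x : K, x ∈ (P : Subgroup K) ↔ (x : H) ∈ (S : Subgroup H) := fun x => Iff.rfl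
  obtain ⟨m, hm, ⟨e⟩⟩ := hKQ P
  have hne : NeZero (2 ^ m) := ⟨by positivity⟩
  -- the involution
  let aa : QuaternionGroup (2 ^ m) := QuaternionGroup.a ((2 ^ m : ℕ) : ZMod (2 * 2 ^ m))
  have haa1 : aa ≠ 1 := by
    intro h
    rw [QuaternionGroup.one_def] at h
    have h1 : ((2 ^ m : ℕ) : ZMod (2 * 2 ^ m)) = 0 := QuaternionGroup.a.inj h
    rw [ZMod.natCast_eq_zero_iff] at h1
    have := Nat.le_of_dvd (by positivity) h1
    have : 0 < 2 ^ m := by positivity
    omega
  have haa2 : aa ^ 2 = 1 := by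
    have : aa = QuaternionGroup.xa 0 ^ 2 := (QuaternionGroup.xa_sq 0).symm
    rw [this, ← pow_mul]
    exact QuaternionGroup.xa_pow_four 0
  let zP : (P : Subgroup K) := e.symm aa
  have hzP2 : orderOf zP = 2 := by
    rw [MulEquiv.orderOf_eq]
    exact orderOf_eq_prime haa2 haa1
  have huP : ∀ x : (P : Subgroup K), orderOf x = 2 → x = zP := by
    intro x hx
    have h1 : e x = aa := by
      apply QuatCover.eq_a_of_sq_eq_one
      · rw [← map_pow]
        have h2 := pow_orderOf_eq_one x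
        rw [hx] at h2
        rw [h2, map_one]
      · intro h
        rw [map_eq_one_iff e e.injective] at h
        rw [h, orderOf_one] at hx
        omega
    rw [← e.symm_apply_apply x, h1]
  let z : K := (zP : K)
  have hz2 : orderOf z = 2 := by
    have : orderOf ((zP : (P : Subgroup K)) : K) = 2 := by rw [Subgroup.orderOf_coe, hzP2]
    exact this
  have hzS : (z : H) ∈ (S : Subgroup H) := (hP z).mp zP.2
  have hzH2 : orderOf (z : H) = 2 := by rw [Subgroup.orderOf_coe, hz2]
  -- z is central in S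
  have hzcS : ∀ s ∈ (S : Subgroup H), s * (z : H) * s⁻¹ = z := by
    intro s hs
    have h1 : s * (z : H) * s⁻¹ ∈ K := hKn.conj_mem _ z.2 s
    have h2 : (⟨s * (z : H) * s⁻¹, h1⟩ : K) ∈ (P : Subgroup K) := by
      rw [hP]
      exact (S : Subgroup H).mul_mem ((S : Subgroup H).mul_mem hs hzS) ((S : Subgroup H).inv_mem hs)
    have h3 : (⟨⟨s * (z : H) * s⁻¹, h1⟩, h2⟩ : (P : Subgroup K)) = zP := by
      apply huP
      rw [← Subgroup.orderOf_coe, ← Subgroup.orderOf_coe]
      change orderOf (s * (z : H) * s⁻¹) = 2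
      have h4 : s * (z : H) * s⁻¹ = MulAut.conj s (z : H) := rfl
      rw [h4, MulEquiv.orderOf_eq, hzH2]
    exact congrArg (fun w : (P : Subgroup K) => ((w : K) : H)) h3
  have hzZ : (z : H) ∈ (Subgroup.center (S : Subgroup H)).map (S : Subgroup H).subtype := by
    refine ⟨⟨z, hzS⟩, ?_, rfl⟩
    rw [SetLike.mem_coe, Subgroup.mem_center_iff]
    intro s
    apply Subtype.ext
    change (s : H) * (z : H) = (z : H) * (s : H)
    have := hzcS s s.2
    calc (s : H) * (z : H) = ((s : H) * (z : H) * (s : H)⁻¹) * s := by group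
      _ = (z : H) * (s : H) := by rw [this]
  have hzc : (z : H) ∈ center H := by
    rw [Subgroup.mem_center_iff]
    intro g
    have h1 := IsolatedCenter.commutator_mem_oddCore_of_isWeaklyClosed hZ S _ le_rfl hw (z : H) hzZ g
    rw [hO, Subgroup.mem_bot] at h1
    calc g * (z : H) = ((z : H) * g * (z : H)⁻¹ * g⁻¹) * (g * z) := by rw [h1, one_mul]
      _ = (z : H) * g := by group
  have hzcK : z ∈ center K := by
    rw [Subgroup.mem_center_iff]
    intro g
    exact Subtype.ext (Subgroup.mem_center_iff.mp hzc g)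
  have hzn : (zpowers z).Normal := IsolatedCenter.normal_of_le_center (by rw [zpowers_le]; exact hzcK)
  -- z is the unique involution of K
  have huK : ∀ x : K, orderOf x = 2 → x = z := by
    intro x hx
    have h1 : IsPGroup 2 (zpowers x) := IsPGroup.of_card (n := 1) (by rw [Nat.card_zpowers, hx]; rfl)
    obtain ⟨Q, hQ⟩ := h1.exists_le_sylow
    obtain ⟨k, hk⟩ := MulAction.exists_smul_eq K Q P
    have h3 : MulAut.conj k x ∈ (P : Subgroup K) := by
      rw [← hk, Sylow.coe_subgroup_smul]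
      exact Subgroup.smul_mem_pointwise_smul _ _ _ (hQ (mem_zpowers x))
    have h4 : (⟨MulAut.conj k x, h3⟩ : (P : Subgroup K)) = zP := by
      apply huP
      rw [← Subgroup.orderOf_coe]
      change orderOf (MulAut.conj k x) = 2
      rw [MulEquiv.orderOf_eq, hx]
    have h5 : MulAut.conj k x = z := congrArg Subtype.val h4
    have h6 : MulAut.conj k x = MulAut.conj k z := by
      rw [h5, MulAut.conj_apply]
      have := Subgroup.mem_center_iff.mp hzcK k
      rw [this]; group
    exact (MulAut.conj k).injective h6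
  have hu : ∀ x ∈ K, orderOf x = 2 → x = (z : H) := by
    intro x hx hx2
    have := huK ⟨x, hx⟩ (by rw [← Subgroup.orderOf_coe]; exact hx2)
    exact congrArg Subtype.val this
  have hOK : Cfsg.oddCore K = ⊥ := by
    have h1 := Cfsg.Agent.Lib.Cores.map_subtype_pPrimeCore (G := H) 2 (N := K) hKn
    have h2 : (Cfsg.pPrimeCore 2 H) = ⊥ := hO
    rw [h2, inf_bot_eq] at h1
    exact (Subgroup.map_eq_bot_iff_of_injective _ K.subtype_injective).mp h1
  by_cases hsol : Group.IsSolvable K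
  · -- solvable case
    have h3 : Fact (Nat.Prime 3) := ⟨Nat.prime_three⟩
    obtain ⟨φ⟩ := hSolv K hOK z hz2 huK P m hm e hK2
    have hc3 : Fintype.card (ZMod 3) = 3 := ZMod.card 3
    obtain ⟨φ₂⟩ := Cfsg.Agent.S0251.result (F := ZMod 3) hc3
    have hodd : Odd (Fintype.card (ZMod 3)) := by rw [hc3]; decide
    obtain ⟨ψ⟩ := QuatCoverSL.mulEquiv_sl_two z hzcK hz2 P m hm e hodd (φ.trans φ₂.symm)
    refine ⟨K, hKn, ⟨ZMod 3, inferInstance, inferInstance, hodd, ⟨ψ⟩⟩, ?_⟩
    rintro L₁ hL₁n ⟨F, hF1, hF2, hF3, ⟨ψ₁⟩⟩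
    have hle := le_of_index K hKidx hF3 L₁ ψ₁
    have hcardK : Nat.card K = 24 := by
      rw [Nat.card_congr ψ.toEquiv, SLTwoFacts.card_eq_24 hc3]
    have hcardL : Nat.card L₁ ≤ 24 := by
      rw [← hcardK]; exact Subgroup.card_le_of_le hle
    have h4 : Nat.card L₁ = 24 := by
      rw [Nat.card_congr ψ₁.toEquiv] at hcardL ⊢
      exact SLTwoFacts.card_eq_24 (SLTwoFacts.card_eq_three_of_le hF3 hcardL)
    exact Subgroup.eq_of_le_of_card_ge hle (by rw [h4, hcardK])
  · -- nonsolvable case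
    obtain ⟨n, hn⟩ : ∃ n, derivedSeries K n = derivedSeries K (n + 1) := by
      by_contra hcon
      push Not at hcon
      have hlt : ∀ n, derivedSeries K (n + 1) < derivedSeries K n := fun n =>
        lt_of_le_of_ne (derivedSeries_antitone K (Nat.le_succ n)) (Ne.symm (hcon n))
      have hcard : ∀ n, Nat.card (derivedSeries K n) + n ≤ Nat.card K := by
        intro n
        induction n with
        | zero =>
          rw [derivedSeries_zero]
          simp only [_root_.Subgroup.mem_top, _root_.nonempty_subtype, _root_.exists_const, _root_.Nat.card_subtype_true, _root_.add_zero, _root_.Std.le_refl]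
        | succ n ih =>
          have h1 : Nat.card (derivedSeries K (n + 1)) < Nat.card (derivedSeries K n) := by
            refine lt_of_le_of_ne (Subgroup.card_le_of_le (hlt n).le) ?_
            intro h
            exact (hlt n).ne (Subgroup.eq_of_le_of_card_ge (hlt n).le h.ge)
          omega
      have h1 := hcard (Nat.card K)
      have h2 : 0 < Nat.card (derivedSeries K (Nat.card K)) := Nat.card_pos
      omega
    set D := derivedSeries K n with hD
    have hDD : ⁅D, D⁆ = D := by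
      have h1 : derivedSeries K (n + 1) = ⁅D, D⁆ := derivedSeries_succ K n
      rw [← h1, ← hn]
    have hDne : D ≠ ⊥ := by
      intro h
      exact hsol ⟨⟨n, h⟩⟩
    have hDchar : D.Characteristic := derivedSeries_characteristic K n
    -- D contains every perfect subgroup
    have hDmax : ∀ M : Subgroup K, ⁅M, M⁆ = M → M ≤ D := by
      intro M hM
      have h1 : ∀ k, M ≤ derivedSeries K k := by
        intro k
        induction k with
        | zero => rw [derivedSeries_zero]; exact le_top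
        | succ k ih =>
          rw [derivedSeries_succ, ← hM]
          exact Subgroup.commutator_mono ih ih
      exact h1 n
    set L : Subgroup H := D.map K.subtype with hL
    have hLn : L.Normal := inferInstance
    have hLK : L ≤ K := Subgroup.map_subtype_le _
    have hLL : ⁅L, L⁆ = L := by rw [hL, ← Subgroup.map_commutator, hDD]
    have hperf : commutator L = ⊤ := by
      apply Subgroup.map_injective L.subtype_injective
      rw [Subgroup.map_subtype_commutator, hLL, ← MonoidHom.range_eq_map, Subgroup.range_subtype]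
    have hLne : L ≠ ⊥ := by
      intro h
      exact hDne ((Subgroup.map_eq_bot_iff_of_injective _ K.subtype_injective).mp h)
    have hOL : Cfsg.oddCore L = ⊥ := by
      have h1 := Cfsg.Agent.Lib.Cores.map_subtype_pPrimeCore (G := H) 2 (N := L) hLn
      have h2 : (Cfsg.pPrimeCore 2 H) = ⊥ := hO
      rw [h2, inf_bot_eq] at h1
      exact (Subgroup.map_eq_bot_iff_of_injective _ L.subtype_injective).mp h1
    have hzin : ∀ M : Subgroup H, M.Normal → M ≠ ⊥ → M ≤ K → (z : H) ∈ M := by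
      intro M hMn hM hMK
      have h2 : 2 ∣ Nat.card M := by
        by_contra h
        apply hM
        rw [eq_bot_iff, ← hO]
        refine Cfsg.Agent.Lib.Cores.le_pPrimeCore hMn ?_
        exact ((Nat.Prime.coprime_iff_not_dvd Nat.prime_two).mpr h).symm
      have h3 : Fact (Nat.Prime 2) := ⟨Nat.prime_two⟩
      obtain ⟨w, hw⟩ := exists_prime_orderOf_dvd_card' (G := M) 2 h2
      have h4 : (w : H) = z := hu _ (hMK w.2) (by rw [Subgroup.orderOf_coe, hw])
      rw [← h4]; exact w.2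
    have hzL : (z : H) ∈ L := hzin L hLn hLne hLK
    obtain ⟨F, hF1, hF2, hF3, hF4, ⟨ψ⟩⟩ := exists_sl_two hGW S hS L ⟨z, hzL⟩
      (by rw [← Subgroup.orderOf_coe]; exact hzH2) hzc
      (fun x hx => Subtype.ext (hu _ (hLK x.2) (by rw [Subgroup.orderOf_coe, hx]))) hperf hOL
    refine ⟨L, hLn, ⟨F, hF1, hF2, hF3, ⟨ψ⟩⟩, ?_⟩
    rintro L₁ hL₁n ⟨F', hF1', hF2', hF3', ⟨ψ₁⟩⟩
    have hL₁K := le_of_index K hKidx hF3' L₁ ψ₁
    have hL₁ne : L₁ ≠ ⊥ := by
      intro h
      have h1 := Cfsg.Agent.ClassicalGeometry.PSL2Basic.card_SL2 (F := F')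
      rw [← Nat.card_congr ψ₁.toEquiv, h, Subgroup.card_bot] at h1
      have h2 := Fintype.one_lt_card (α := F')
      have h4 : 2 * (2 ^ 2 - 1) ≤ Fintype.card F' * (Fintype.card F' ^ 2 - 1) := by
        apply Nat.mul_le_mul h2
        have : 2 ^ 2 ≤ Fintype.card F' ^ 2 := Nat.pow_le_pow_left h2 2
        omega
      omega
    have hzL₁ : (z : H) ∈ L₁ := hzin L₁ hL₁n hL₁ne hL₁K
    obtain ⟨x₁, hx₁⟩ := exists_sq_eq hF3' ψ₁ ⟨z, hzL₁⟩ (by rw [← Subgroup.orderOf_coe]; exact hzH2)
    have hLL₁ : L ≤ L₁ := le_of_simple K z hzc hzH2 hu L L₁ hLK hL₁K hF3 hF4 ψ hzL hzL₁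
      ⟨x₁, x₁.2, by simpa using congrArg Subtype.val hx₁⟩
    refine le_antisymm ?_ hLL₁
    have hq3 : Fintype.card F' = 3 ∨ 3 < Fintype.card F' := by
      have h1 := Fintype.one_lt_card (α := F')
      obtain ⟨k, hk⟩ := hF3'
      omega
    rcases hq3 with h3 | h3
    · exfalso
      have h4 : Nat.card L₁ = 24 := by
        rw [Nat.card_congr ψ₁.toEquiv]; exact SLTwoFacts.card_eq_24 h3
      have h5 : Nat.card L ≤ 24 := by rw [← h4]; exact Subgroup.card_le_of_le hLL₁
      rw [Nat.card_congr ψ.toEquiv] at h5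
      have := SLTwoFacts.card_eq_three_of_le hF3 h5
      omega
    · have h4 : ⁅L₁, L₁⁆ = L₁ := by
        have h5 : commutator L₁ = ⊤ := by
          have h1 := SLTwoFacts.commutator_eq_top h3
          have h2 : (commutator (Matrix.SpecialLinearGroup (Fin 2) F')).map ψ₁.symm.toMonoidHom =
              commutator L₁ := by
            rw [commutator_def, commutator_def, Subgroup.map_commutator,
              Subgroup.map_top_of_surjective _ ψ₁.symm.surjective]
          rw [← h2, h1, Subgroup.map_top_of_surjective _ ψ₁.symm.surjective]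
        have h6 := Subgroup.map_subtype_commutator L₁
        rw [h5, ← MonoidHom.range_eq_map, Subgroup.range_subtype] at h6
        exact h6.symm
      have h5 : L₁.subgroupOf K ≤ D := by
        apply hDmax
        apply Subgroup.map_injective K.subtype_injective
        rw [Subgroup.map_commutator, Subgroup.map_subgroupOf_eq_of_le hL₁K, h4]
      calc L₁ = (L₁.subgroupOf K).map K.subtype := (Subgroup.map_subgroupOf_eq_of_le hL₁K).symm
        _ ≤ L := Subgroup.map_mono h5

end Cfsg.Agent.TwoFusion.QGroupMain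
end
end
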