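import Mathlib
import Cfsg.Prelude.Def_CaseTheorems
import Cfsg.Prelude.Def_TwoFusion
import Cfsg.Prelude.Def_Local
import Cfsg.Agent.Lib.Cores
import Cfsg.Agent.Lib.LocalCore
set_option linter.all false

/-!
# Closed families of 2-elements

A *closed family* in `G` is a conjugation invariant set `𝒜` of 2-elements which meets every 2-subgroup in a
subgroup.  These are exactly the unions of the conjugates of the strongly closed subgroups of a Sylow
2-subgroup, but they restrict to subgroups and pass to quotients.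
-/

set_option autoImplicit false
set_option linter.style.haveILetI false

namespace Cfsg.Agent.TwoFusion.ClosedFam

open Subgroup

variable {G : Type*} [Group G]

/-- A closed family: a conjugation invariant set of 2-elements meeting each 2-subgroup in a subgroup. -/
structure IsClosedFam (𝒜 : Set G) : Prop where
  one_mem : (1 : G) ∈ 𝒜
  conj_mem : ∀ x ∈ 𝒜, ∀ g : G, g * x * g⁻¹ ∈ 𝒜
  two : ∀ x ∈ 𝒜, ∃ k : ℕ, x ^ 2 ^ k = 1
  mul_mem : ∀ Q : Subgroup G, IsPGroup 2 Q → ∀ x ∈ Q, ∀ y ∈ Q, x ∈ 𝒜 → y ∈ 𝒜 → x * y ∈ 𝒜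

/-- The subgroup of `H` generated by the elements of the family `𝒜` in `H`. -/
def fam (𝒜 : Set G) (H : Subgroup G) : Subgroup G := closure (𝒜 ∩ (H : Set G))

/-- The core `O(H)` of a subgroup, as a subgroup of `G`. -/
def core (H : Subgroup G) : Subgroup G := (Cfsg.oddCore ↥H).map H.subtype

theorem centralizerPPrimeCore_eq (x : G) :
    Cfsg.centralizerPPrimeCore 2 x = core (centralizer ({x} : Set G)) := rfl

/-! ### The operator `fam` -/

theorem fam_le (𝒜 : Set G) (H : Subgroup G) : fam 𝒜 H ≤ H := by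
  unfold fam
  rw [closure_le]
  exact Set.inter_subset_right

theorem mem_fam {𝒜 : Set G} {H : Subgroup G} {x : G} (hx : x ∈ 𝒜) (hxH : x ∈ H) : x ∈ fam 𝒜 H :=
  subset_closure ⟨hx, hxH⟩

theorem fam_mono (𝒜 : Set G) {H K : Subgroup G} (h : H ≤ K) : fam 𝒜 H ≤ fam 𝒜 K :=
  closure_mono (Set.inter_subset_inter_right _ h)

theorem fam_le_iff {𝒜 : Set G} {H K : Subgroup G} : fam 𝒜 H ≤ K ↔ ∀ x ∈ 𝒜, x ∈ H → x ∈ K := by
  unfold fam
  rw [closure_le]
  exact ⟨fun h x hx hxH => h ⟨hx, hxH⟩, fun h x hx => h x hx.1 hx.2⟩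

namespace IsClosedFam

variable {𝒜 : Set G} (h : IsClosedFam 𝒜)
include h

theorem isPGroup_zpowers {x : G} (hx : x ∈ 𝒜) : IsPGroup 2 (zpowers x) := by
  obtain ⟨k, hk⟩ := h.two x hx
  rintro ⟨y, hy⟩
  refine ⟨k, ?_⟩
  obtain ⟨n, rfl⟩ := mem_zpowers_iff.1 hy
  apply Subtype.ext
  simp only [SubmonoidClass.mk_pow, OneMemClass.coe_one]
  rw [← zpow_natCast, ← zpow_mul, mul_comm, zpow_mul, zpow_natCast, hk, one_zpow]

theorem pow_mem {x : G} (hx : x ∈ 𝒜) (n : ℕ) : x ^ n ∈ 𝒜 := by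
  induction n with
  | zero => rw [pow_zero]; exact h.one_mem
  | succ n ih =>
    rw [pow_succ]
    exact h.mul_mem (zpowers x) (h.isPGroup_zpowers hx) _ (npow_mem_zpowers x n) _ (mem_zpowers x) ih hx

theorem inv_mem {x : G} (hx : x ∈ 𝒜) : x⁻¹ ∈ 𝒜 := by
  obtain ⟨k, hk⟩ := h.two x hx
  have h1 : x⁻¹ = x ^ (2 ^ k - 1) := by
    rw [inv_eq_iff_mul_eq_one, ← pow_succ']
    have : 2 ^ k - 1 + 1 = 2 ^ k := Nat.sub_add_cancel Nat.one_le_two_pow
    rw [this, hk]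
  rw [h1]
  exact h.pow_mem hx _

theorem zpow_mem {x : G} (hx : x ∈ 𝒜) (n : ℤ) : x ^ n ∈ 𝒜 := by
  obtain ⟨m, rfl | rfl⟩ := Int.eq_nat_or_neg n
  · rw [zpow_natCast]; exact h.pow_mem hx m
  · rw [zpow_neg, zpow_natCast]; exact h.inv_mem (h.pow_mem hx m)

theorem zpowers_subset {x : G} (hx : x ∈ 𝒜) {y : G} (hy : y ∈ zpowers x) : y ∈ 𝒜 := by
  obtain ⟨n, rfl⟩ := mem_zpowers_iff.1 hy
  exact h.zpow_mem hx n

theorem conj_mem_iff {x : G} (g : G) : g * x * g⁻¹ ∈ 𝒜 ↔ x ∈ 𝒜 := by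
  refine ⟨fun hx => ?_, fun hx => h.conj_mem x hx g⟩
  have := h.conj_mem _ hx g⁻¹
  have e : g⁻¹ * (g * x * g⁻¹) * g⁻¹⁻¹ = x := by group
  rwa [e] at this

/-- For a 2-subgroup `Q` the subgroup `fam 𝒜 Q` is the intersection. -/
theorem mem_fam_iff {Q : Subgroup G} (hQ : IsPGroup 2 Q) {x : G} : x ∈ fam 𝒜 Q ↔ x ∈ 𝒜 ∧ x ∈ Q := by
  refine ⟨fun hx => ?_, fun hx => mem_fam hx.1 hx.2⟩
  refine closure_induction (p := fun x _ => x ∈ 𝒜 ∧ x ∈ Q) ?_ ?_ ?_ ?_ hx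
  · intro y hy; exact hy
  · exact ⟨h.one_mem, Q.one_mem⟩
  · intro y z _ _ hy hz
    exact ⟨h.mul_mem Q hQ y hy.2 z hz.2 hy.1 hz.1, Q.mul_mem hy.2 hz.2⟩
  · intro y _ hy
    exact ⟨h.inv_mem hy.1, Q.inv_mem hy.2⟩

theorem coe_fam {Q : Subgroup G} (hQ : IsPGroup 2 Q) : (fam 𝒜 Q : Set G) = 𝒜 ∩ (Q : Set G) := by
  ext x; exact h.mem_fam_iff hQ

theorem fam_inf {Q H : Subgroup G} (hQ : IsPGroup 2 Q) : fam 𝒜 (Q ⊓ H) = fam 𝒜 Q ⊓ H := by
  ext x
  have hQH : IsPGroup 2 (Q ⊓ H : Subgroup G) := hQ.to_le inf_le_left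
  rw [h.mem_fam_iff hQH, mem_inf, mem_inf, h.mem_fam_iff hQ, and_assoc]

/-- Conjugation. -/
theorem map_conj_fam (g : G) (H : Subgroup G) :
    (fam 𝒜 H).map (MulAut.conj g).toMonoidHom = fam 𝒜 (H.map (MulAut.conj g).toMonoidHom) := by
  unfold fam
  rw [MonoidHom.map_closure]
  congr 1
  ext x
  constructor
  · rintro ⟨y, hy, rfl⟩
    exact ⟨h.conj_mem y hy.1 g, ⟨y, hy.2, rfl⟩⟩
  · rintro ⟨hx, y, hy, rfl⟩
    exact ⟨y, ⟨(h.conj_mem_iff g).1 hx, hy⟩, rfl⟩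

theorem conj_mem_fam {H : Subgroup G} {g : G} (hg : ∀ x ∈ H, g * x * g⁻¹ ∈ H) {x : G} (hx : x ∈ fam 𝒜 H) :
    g * x * g⁻¹ ∈ fam 𝒜 H := by
  have h1 : (fam 𝒜 H) ≤ (fam 𝒜 H).comap (MulAut.conj g).toMonoidHom := by
    rw [fam_le_iff]
    intro y hy hyH
    exact mem_fam (h.conj_mem y hy g) (hg y hyH)
  exact h1 hx

theorem normalizer_le_normalizer_fam (H : Subgroup G) :
    normalizer (H : Set G) ≤ normalizer (fam 𝒜 H : Set G) := by
  intro g hg
  rw [mem_normalizer_iff]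
  intro x
  refine ⟨fun hx => h.conj_mem_fam (fun y hy => (mem_normalizer_iff.1 hg y).1 hy) hx, fun hx => ?_⟩
  have h2 : g⁻¹ ∈ normalizer (H : Set G) := (normalizer (H : Set G)).inv_mem hg
  have h3 := h.conj_mem_fam (H := H) (g := g⁻¹) (fun y hy => (mem_normalizer_iff.1 h2 y).1 hy) hx
  have e : g⁻¹ * (g * x * g⁻¹) * g⁻¹⁻¹ = x := by group
  rwa [e] at h3

theorem le_normalizer_fam (H : Subgroup G) : H ≤ normalizer (fam 𝒜 H : Set G) :=
  le_normalizer.trans (h.normalizer_le_normalizer_fam H)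

theorem fam_normal (N : Subgroup G) [hN : N.Normal] : (fam 𝒜 N).Normal := by
  refine ⟨fun x hx g => ?_⟩
  exact h.conj_mem_fam (fun y hy => hN.conj_mem y hy g) hx

/-- A closed family restricts to a closed family of a subgroup. -/
theorem restrict (H : Subgroup G) : IsClosedFam {x : H | (x : G) ∈ 𝒜} where
  one_mem := h.one_mem
  conj_mem x hx g := h.conj_mem x hx g
  two x hx := by
    obtain ⟨k, hk⟩ := h.two x hx
    exact ⟨k, Subtype.ext (by simpa using hk)⟩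
  mul_mem Q hQ x hxQ y hyQ hx hy :=
    h.mul_mem (Q.map H.subtype) (hQ.map _) x ⟨x, hxQ, rfl⟩ y ⟨y, hyQ, rfl⟩ hx hy

/-- `fam 𝒜 P` is strongly closed in the Sylow subgroup `P`. -/
theorem isStronglyClosed (P : Sylow 2 G) : Cfsg.IsStronglyClosed (fam 𝒜 (P : Subgroup G)) (P : Subgroup G) := by
  refine ⟨fam_le _ _, ?_⟩
  intro x hx g hg
  rw [h.mem_fam_iff P.2] at hx ⊢
  exact ⟨h.conj_mem x hx.1 g, hg⟩

end IsClosedFam

theorem isPGroup_fam (𝒜 : Set G) {Q : Subgroup G} (hQ : IsPGroup 2 Q) : IsPGroup 2 (fam 𝒜 Q) :=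
  hQ.to_le (fam_le 𝒜 Q)

theorem map_fam_restrict (𝒜 : Set G) (H : Subgroup G) (K : Subgroup H) :
    (fam {x : H | (x : G) ∈ 𝒜} K).map H.subtype = fam 𝒜 (K.map H.subtype) := by
  unfold fam
  rw [MonoidHom.map_closure]
  congr 1
  ext x
  constructor
  · rintro ⟨y, hy, rfl⟩
    exact ⟨hy.1, ⟨y, hy.2, rfl⟩⟩
  · rintro ⟨hx, y, hy, rfl⟩
    exact ⟨y, ⟨hx, hy⟩, rfl⟩

theorem map_fam_restrict_top (𝒜 : Set G) (H : Subgroup G) :
    (fam {x : H | (x : G) ∈ 𝒜} ⊤).map H.subtype = fam 𝒜 H := by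
  rw [map_fam_restrict, ← MonoidHom.range_eq_map, Subgroup.range_subtype]

/-! ### Pairs of disjoint closed families -/

/-- Two closed families which meet only in the identity. -/
structure Pair (𝒜 ℬ : Set G) : Prop where
  left : IsClosedFam 𝒜
  right : IsClosedFam ℬ
  disj : ∀ x ∈ 𝒜, x ∈ ℬ → x = 1

namespace Pair

variable {𝒜 ℬ : Set G}

theorem symm (h : Pair 𝒜 ℬ) : Pair ℬ 𝒜 := ⟨h.right, h.left, fun x hx hy => h.disj x hy hx⟩

/-- Elements of the two families in a common 2-subgroup commute. -/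
theorem comm (h : Pair 𝒜 ℬ) {Q : Subgroup G} (hQ : IsPGroup 2 Q) {x y : G} (hx : x ∈ 𝒜) (hy : y ∈ ℬ)
    (hxQ : x ∈ Q) (hyQ : y ∈ Q) : x * y = y * x := by
  have h1 : x * (y * x⁻¹ * y⁻¹) ∈ 𝒜 :=
    h.left.mul_mem Q hQ x hxQ _ (mul_mem (mul_mem hyQ (inv_mem hxQ)) (inv_mem hyQ)) hx
      (h.left.conj_mem _ (h.left.inv_mem hx) y)
  have h2 : (x * y * x⁻¹) * y⁻¹ ∈ ℬ :=
    h.right.mul_mem Q hQ _ (mul_mem (mul_mem hxQ hyQ) (inv_mem hxQ)) _ (inv_mem hyQ)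
      (h.right.conj_mem y hy x) (h.right.inv_mem hy)
  have e : x * (y * x⁻¹ * y⁻¹) = (x * y * x⁻¹) * y⁻¹ := by group
  rw [e] at h1
  have h3 := h.disj _ h1 h2
  have h4 : x * y * x⁻¹ = y := mul_inv_eq_one.1 h3
  calc x * y = x * y * x⁻¹ * x := by group
    _ = y * x := by rw [h4]

theorem fam_comm (h : Pair 𝒜 ℬ) {Q : Subgroup G} (hQ : IsPGroup 2 Q) {x y : G} (hx : x ∈ fam 𝒜 Q)
    (hy : y ∈ fam ℬ Q) : x * y = y * x := by
  rw [h.left.mem_fam_iff hQ] at hx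
  rw [h.right.mem_fam_iff hQ] at hy
  exact h.comm hQ hx.1 hy.1 hx.2 hy.2

theorem fam_inf_fam (h : Pair 𝒜 ℬ) {Q R : Subgroup G} (hQ : IsPGroup 2 Q) (hR : IsPGroup 2 R) :
    fam 𝒜 Q ⊓ fam ℬ R = ⊥ := by
  rw [eq_bot_iff]
  intro x hx
  rw [mem_inf, h.left.mem_fam_iff hQ, h.right.mem_fam_iff hR] at hx
  rw [mem_bot]
  exact h.disj x hx.1.1 hx.2.1

theorem restrict (h : Pair 𝒜 ℬ) (H : Subgroup G) : Pair {x : H | (x : G) ∈ 𝒜} {x : H | (x : G) ∈ ℬ} where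
  left := h.left.restrict H
  right := h.right.restrict H
  disj x hx hy := Subtype.ext (h.disj x hx hy)

end Pair

/-! ### Quotients -/

section Image

variable {K : Type*} [Group K]

/-- Every 2-subgroup `Q'` of a quotient is covered by a 2-subgroup `Q`, in such a way that every 2-element
mapping into `Q'` is conjugate by an element of the kernel to an element of `Q`. -/
theorem exists_lift [Finite G] {f : G →* K} (hf : Function.Surjective f) (Q' : Subgroup K)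
    (hQ' : IsPGroup 2 Q') :
    ∃ Q : Subgroup G, IsPGroup 2 Q ∧ Q.map f = Q' ∧
      ∀ x : G, IsPGroup 2 (zpowers x) → f x ∈ Q' → ∃ n ∈ f.ker, n * x * n⁻¹ ∈ Q := by
  classical
  haveI : Fact (Nat.Prime 2) := ⟨Nat.prime_two⟩
  set R : Subgroup G := Q'.comap f with hR
  obtain ⟨S⟩ : Nonempty (Sylow 2 R) := inferInstance
  set Q : Subgroup G := (S : Subgroup R).map R.subtype with hQ
  have hQp : IsPGroup 2 Q := S.2.map _
  -- `f` maps the Sylow subgroup `S` of `R` onto `Q'`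
  let fR : R →* Q' := (f.comp R.subtype).codRestrict Q' (fun x => x.2)
  have hfR : Function.Surjective fR := by
    rintro ⟨y, hy⟩
    obtain ⟨x, rfl⟩ := hf y
    exact ⟨⟨x, hy⟩, rfl⟩
  have hStop : (S : Subgroup R).map fR = ⊤ := by
    have h1 : ((S.mapSurjective hfR : Sylow 2 Q') : Subgroup Q') = (S : Subgroup R).map fR :=
      Sylow.coe_mapSurjective hfR S
    have h2 : IsPGroup 2 (⊤ : Subgroup Q') := by
      intro x
      obtain ⟨k, hk⟩ := hQ' x.1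
      exact ⟨k, Subtype.ext hk⟩
    rw [← h1]
    exact ((S.mapSurjective hfR).3 h2 le_top).symm
  have hcover : ∀ r ∈ R, ∃ q ∈ Q, f q = f r := by
    intro r hr
    have h1 : fR ⟨r, hr⟩ ∈ (S : Subgroup R).map fR := by rw [hStop]; exact mem_top _
    obtain ⟨s, hs, hs'⟩ := h1
    refine ⟨s, ⟨s, hs, rfl⟩, ?_⟩
    exact congrArg Subtype.val hs'
  refine ⟨Q, hQp, ?_, ?_⟩
  · apply le_antisymm
    · rintro _ ⟨_, ⟨s, _, rfl⟩, rfl⟩
      exact s.2
    · intro y hy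
      obtain ⟨x, rfl⟩ := hf y
      obtain ⟨q, hq, hqx⟩ := hcover x hy
      exact ⟨q, hq, hqx⟩
  · intro x hx hxQ
    have hxR : x ∈ R := hxQ
    have h1 : IsPGroup 2 (zpowers (⟨x, hxR⟩ : R)) := by
      rintro ⟨y, hy⟩
      obtain ⟨n, rfl⟩ := mem_zpowers_iff.1 hy
      obtain ⟨k, hk⟩ := hx ⟨x ^ n, zpow_mem (mem_zpowers x) n⟩
      refine ⟨k, Subtype.ext (Subtype.ext ?_)⟩
      have := congrArg Subtype.val hk
      simpa using this
    obtain ⟨T, hT⟩ := h1.exists_le_sylow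
    obtain ⟨r, hr⟩ := MulAction.exists_smul_eq R T S
    have h2 : (r : G) * x * (r : G)⁻¹ ∈ Q := by
      refine ⟨r * ⟨x, hxR⟩ * r⁻¹, ?_, rfl⟩
      rw [← hr]
      exact ⟨⟨x, hxR⟩, hT (mem_zpowers _), rfl⟩
    obtain ⟨q, hq, hqr⟩ := hcover r r.2
    refine ⟨q⁻¹ * r, ?_, ?_⟩
    · rw [MonoidHom.mem_ker, map_mul, map_inv, hqr]; group
    · have e : q⁻¹ * (r : G) * x * (q⁻¹ * (r : G))⁻¹ = q⁻¹ * ((r : G) * x * (r : G)⁻¹) * q := by group
      rw [e]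
      exact mul_mem (mul_mem (inv_mem hq) h2) hq

/-- A closed family passes to quotients. -/
theorem IsClosedFam.image [Finite G] {𝒜 : Set G} (h : IsClosedFam 𝒜) {f : G →* K}
    (hf : Function.Surjective f) : IsClosedFam (f '' 𝒜) where
  one_mem := ⟨1, h.one_mem, map_one f⟩
  conj_mem := by
    rintro _ ⟨x, hx, rfl⟩ g
    obtain ⟨g, rfl⟩ := hf g
    exact ⟨g * x * g⁻¹, h.conj_mem x hx g, by simp⟩
  two := by
    rintro _ ⟨x, hx, rfl⟩
    obtain ⟨k, hk⟩ := h.two x hx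
    exact ⟨k, by rw [← map_pow, hk, map_one]⟩
  mul_mem := by
    rintro Q' hQ' _ hx' _ hy' ⟨x, hx, rfl⟩ ⟨y, hy, rfl⟩
    obtain ⟨Q, hQ, _, hlift⟩ := exists_lift hf Q' hQ'
    obtain ⟨n, hn, hnx⟩ := hlift x (h.isPGroup_zpowers hx) hx'
    obtain ⟨m, hm, hmy⟩ := hlift y (h.isPGroup_zpowers hy) hy'
    refine ⟨(n * x * n⁻¹) * (m * y * m⁻¹), h.mul_mem Q hQ _ hnx _ hmy (h.conj_mem x hx n)
      (h.conj_mem y hy m), ?_⟩
    rw [MonoidHom.mem_ker] at hn hm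
    simp [hn, hm]

theorem map_fam_top (𝒜 : Set G) (f : G →* K) : (fam 𝒜 ⊤).map f = fam (f '' 𝒜) ⊤ := by
  unfold fam
  rw [MonoidHom.map_closure]
  simp

/-- Disjoint closed families stay disjoint modulo a normal subgroup of odd order. -/
theorem Pair.image_of_odd [Finite G] {𝒜 ℬ : Set G} (h : Pair 𝒜 ℬ) {f : G →* K}
    (hf : Function.Surjective f) (hodd : Odd (Nat.card f.ker)) : Pair (f '' 𝒜) (f '' ℬ) where
  left := h.left.image hf
  right := h.right.image hf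
  disj := by
    rintro _ ⟨x, hx, rfl⟩ ⟨y, hy, hyx⟩
    have hQ' : IsPGroup 2 ((zpowers x).map f) := (h.left.isPGroup_zpowers hx).map f
    obtain ⟨Q, hQ, _, hlift⟩ := exists_lift hf _ hQ'
    have hxQ : f x ∈ (zpowers x).map f := ⟨x, mem_zpowers x, rfl⟩
    obtain ⟨n, hn, hnx⟩ := hlift x (h.left.isPGroup_zpowers hx) hxQ
    obtain ⟨m, hm, hmy⟩ := hlift y (h.right.isPGroup_zpowers hy) (by rw [hyx]; exact hxQ)
    rw [MonoidHom.mem_ker] at hn hm
    -- the quotient of the two elements lies in the kernel and in `Q`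
    set x' := n * x * n⁻¹ with hx'
    set y' := m * y * m⁻¹ with hy'
    have e1 : f x' = f x := by rw [hx']; simp [hn]
    have e2 : f y' = f x := by rw [hy']; simp [hm, hyx]
    have hk : x'⁻¹ * y' ∈ f.ker := by rw [MonoidHom.mem_ker, map_mul, map_inv, e1, e2]; group
    have hq : x'⁻¹ * y' ∈ Q := mul_mem (inv_mem hnx) hmy
    have h1 : x'⁻¹ * y' = 1 := by
      obtain ⟨k, hk2⟩ := hQ ⟨_, hq⟩
      have hk3 : (x'⁻¹ * y') ^ 2 ^ k = 1 := congrArg Subtype.val hk2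
      have hd1 : orderOf (x'⁻¹ * y') ∣ 2 ^ k := orderOf_dvd_of_pow_eq_one hk3
      have hd2 : orderOf (x'⁻¹ * y') ∣ Nat.card f.ker := by
        have := orderOf_dvd_natCard (⟨_, hk⟩ : f.ker)
        rwa [← Subgroup.orderOf_coe] at this
      have hc : Nat.Coprime (2 ^ k) (Nat.card f.ker) :=
        Nat.Coprime.pow_left k (Nat.coprime_two_left.2 hodd)
      have := Nat.eq_one_of_dvd_coprimes hc hd1 hd2
      exact orderOf_eq_one_iff.1 this
    have h2 : x' = y' := (inv_mul_eq_one.1 h1)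
    have h3 : x' = 1 := h.disj x' (h.left.conj_mem x hx n) (by rw [h2]; exact h.right.conj_mem y hy m)
    rw [← e1, h3, map_one]

end Image

/-! ### Strongly closed subgroups -/

/-- The union of the conjugates of a strongly closed subgroup is a closed family. -/
theorem isClosedFam_of_isStronglyClosed [Finite G] (P : Sylow 2 G) (A : Subgroup G)
    (hA : Cfsg.IsStronglyClosed A (P : Subgroup G)) : IsClosedFam {x : G | ∃ g : G, g * x * g⁻¹ ∈ A} where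
  one_mem := ⟨1, by simp⟩
  conj_mem := by
    rintro x ⟨g, hg⟩ k
    refine ⟨g * k⁻¹, ?_⟩
    have e : g * k⁻¹ * (k * x * k⁻¹) * (g * k⁻¹)⁻¹ = g * x * g⁻¹ := by group
    rw [e]; exact hg
  two := by
    rintro x ⟨g, hg⟩
    obtain ⟨k, hk⟩ := P.2 ⟨_, hA.1 hg⟩
    refine ⟨k, ?_⟩
    have h1 : (g * x * g⁻¹) ^ 2 ^ k = 1 := congrArg Subtype.val hk
    rw [conj_pow] at h1
    have h2 : g * x ^ 2 ^ k = g := by
      rw [mul_inv_eq_one] at h1; exact h1
    exact mul_eq_left.1 h2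
  mul_mem := by
    haveI : Fact (Nat.Prime 2) := ⟨Nat.prime_two⟩
    rintro Q hQ x hxQ y hyQ ⟨g, hg⟩ ⟨k, hk⟩
    obtain ⟨T, hT⟩ := hQ.exists_le_sylow
    obtain ⟨c, hc⟩ := MulAction.exists_smul_eq G T P
    have hTP : ∀ z ∈ Q, c * z * c⁻¹ ∈ (P : Subgroup G) := by
      intro z hz
      rw [← hc]
      exact ⟨z, hT hz, rfl⟩
    have h1 : c * x * c⁻¹ ∈ A := by
      have := hA.2 _ hg (c * g⁻¹) (by
        have e : c * g⁻¹ * (g * x * g⁻¹) * (c * g⁻¹)⁻¹ = c * x * c⁻¹ := by group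
        rw [e]; exact hTP x hxQ)
      have e : c * g⁻¹ * (g * x * g⁻¹) * (c * g⁻¹)⁻¹ = c * x * c⁻¹ := by group
      rwa [e] at this
    have h2 : c * y * c⁻¹ ∈ A := by
      have := hA.2 _ hk (c * k⁻¹) (by
        have e : c * k⁻¹ * (k * y * k⁻¹) * (c * k⁻¹)⁻¹ = c * y * c⁻¹ := by group
        rw [e]; exact hTP y hyQ)
      have e : c * k⁻¹ * (k * y * k⁻¹) * (c * k⁻¹)⁻¹ = c * y * c⁻¹ := by group
      rwa [e] at this
    refine ⟨c, ?_⟩
    have e : c * (x * y) * c⁻¹ = (c * x * c⁻¹) * (c * y * c⁻¹) := by group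
    rw [e]
    exact mul_mem h1 h2

theorem fam_conjugates_top (A : Subgroup G) :
    fam {x : G | ∃ g : G, g * x * g⁻¹ ∈ A} ⊤ = normalClosure (A : Set G) := by
  apply le_antisymm
  · rw [fam_le_iff]
    rintro x ⟨g, hg⟩ -
    have h1 : g * x * g⁻¹ ∈ normalClosure (A : Set G) := subset_normalClosure hg
    have h2 := (normalClosure_normal (s := (A : Set G))).conj_mem _ h1 g⁻¹
    have e : g⁻¹ * (g * x * g⁻¹) * g⁻¹⁻¹ = x := by group
    rwa [e] at h2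
  · have hn : (fam {x : G | ∃ g : G, g * x * g⁻¹ ∈ A} ⊤).Normal := by
      refine ⟨fun x hx g => ?_⟩
      have h1 : (fam {x : G | ∃ g : G, g * x * g⁻¹ ∈ A} ⊤) ≤
          (fam {x : G | ∃ g : G, g * x * g⁻¹ ∈ A} ⊤).comap (MulAut.conj g).toMonoidHom := by
        rw [fam_le_iff]
        rintro y ⟨k, hk⟩ -
        refine mem_fam ⟨k * g⁻¹, ?_⟩ (mem_top _)
        have e : k * g⁻¹ * ((MulAut.conj g) y) * (k * g⁻¹)⁻¹ = k * y * k⁻¹ := by
          rw [MulAut.conj_apply]; group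
        change k * g⁻¹ * ((MulAut.conj g) y) * (k * g⁻¹)⁻¹ ∈ A
        rw [e]; exact hk
      exact h1 hx
    refine normalClosure_le_normal ?_
    intro x hx
    exact mem_fam ⟨1, by simpa using hx⟩ (mem_top _)

/-- Two strongly closed subgroups meeting trivially give a pair of disjoint closed families. -/
theorem pair_of_isStronglyClosed [Finite G] (P : Sylow 2 G) (A B : Subgroup G) (hAB : A ⊓ B = ⊥)
    (hA : Cfsg.IsStronglyClosed A (P : Subgroup G)) (hB : Cfsg.IsStronglyClosed B (P : Subgroup G)) :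
    Pair {x : G | ∃ g : G, g * x * g⁻¹ ∈ A} {x : G | ∃ g : G, g * x * g⁻¹ ∈ B} where
  left := isClosedFam_of_isStronglyClosed P A hA
  right := isClosedFam_of_isStronglyClosed P B hB
  disj := by
    rintro x ⟨g, hg⟩ ⟨k, hk⟩
    have h1 : k * x * k⁻¹ ∈ A := by
      have := hA.2 _ hg (k * g⁻¹) (by
        have e : k * g⁻¹ * (g * x * g⁻¹) * (k * g⁻¹)⁻¹ = k * x * k⁻¹ := by group
        rw [e]; exact hB.1 hk)
      have e : k * g⁻¹ * (g * x * g⁻¹) * (k * g⁻¹)⁻¹ = k * x * k⁻¹ := by group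
      rwa [e] at this
    have h2 : k * x * k⁻¹ ∈ A ⊓ B := ⟨h1, hk⟩
    rw [hAB, mem_bot] at h2
    have : x = k⁻¹ * (k * x * k⁻¹) * k := by group
    rw [this, h2]; group

end Cfsg.Agent.TwoFusion.ClosedFam
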