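import Cfsg.Agent.TwoFusion.GoldNorm_m3
import Mathlib
import Cfsg.Agent.Solvable.Glauberman
import Cfsg.Agent.S0215
import Cfsg.Agent.Lib.SylowNormalInf
import Cfsg.Agent.TwoFusion.ClosedZ_m3
import Cfsg.Agent.Lib.Cores
import Cfsg.Agent.Lib.GenFitting
import Cfsg.Agent.SignalizersComponents.BalanceAux
import Cfsg.Agent.SignalizersComponents.Components
import Cfsg.Agent.PLocal.CoprimeLift
import Cfsg.Agent.Walter.PSLFacts
import Cfsg.Agent.S0028
import Cfsg.Agent.TwoFusion.GoldU34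
import Cfsg.Agent.TwoFusion.ClosingPrime
import Cfsg.Agent.S1237
import Cfsg.Agent.SignalizersComponents.QsBasic
import Cfsg.Agent.SignalizersComponents.PConstrained
import Cfsg.Agent.OddOrderLocal.UniqZL
import Cfsg.Agent.OddOrderCharacters.NilpotentIndex
import Cfsg.Agent.TwoFusion.NormalSL2
import Cfsg.Agent.TwoFusion.GoldM1Form
import Cfsg.Agent.FastGrp
import Cfsg.Agent.Prune
set_option linter.all false

section
prune_inst 0x7ff8fefb8df8addeffff7e7ffffddffc39d4dfffffdffb4bfffcebffefdf230e3be5fbaf1de0d8fd0ed6e0b630b87813f97ec23fef6bdc7ffffd5ff45ffbee1fe5f7bdad51d6b8341ffc6fffe3f07fce7f3fffffffffffffffffffffffffffbeffffffffffff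

-- part: TwoFusion/GoldFam
section
set_option linter.all false
open scoped Cfsg.Agent.FastGrp

/-!
# Closed families: weak closure and control of fusion
-/

set_option autoImplicit false
set_option linter.style.haveILetI false

namespace Cfsg.Agent.TwoFusion.Gold

open Subgroup
open Cfsg.Agent.TwoFusion.ClosedFam

variable {G : Type*} [Group G]

theorem card_map_conj (H : Subgroup G) (g : G) :
    Nat.card (H.map (MulAut.conj g).toMonoidHom) = Nat.card H :=
  Nat.card_congr (H.equivMapOfInjective _ (MulAut.conj g).injective).toEquiv.symm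

theorem mem_map_conj {H : Subgroup G} {g x : G} :
    x ∈ H.map (MulAut.conj g).toMonoidHom ↔ g⁻¹ * x * g ∈ H := by
  constructor
  · rintro ⟨y, hy, rfl⟩
    have e : g⁻¹ * (MulAut.conj g).toMonoidHom y * g = y := by
      change g⁻¹ * (g * y * g⁻¹) * g = y
      group
    rw [e]; exact hy
  · intro hx
    refine ⟨_, hx, ?_⟩
    change g * (g⁻¹ * x * g) * g⁻¹ = x
    group

theorem map_conj_mul (H : Subgroup G) (g k : G) :
    H.map (MulAut.conj (g * k)).toMonoidHom =
      (H.map (MulAut.conj k).toMonoidHom).map (MulAut.conj g).toMonoidHom := by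
  ext x
  rw [mem_map_conj, mem_map_conj, mem_map_conj]
  have e : (g * k)⁻¹ * x * (g * k) = k⁻¹ * (g⁻¹ * x * g) * k := by group
  rw [e]

theorem mem_normalizer_of_map_conj {H : Subgroup G} {g : G}
    (h : H.map (MulAut.conj g).toMonoidHom = H) : g ∈ normalizer (H : Set G) := by
  rw [mem_normalizer_iff]
  intro x
  have h1 : g * x * g⁻¹ ∈ H.map (MulAut.conj g).toMonoidHom ↔ x ∈ H := by
    rw [mem_map_conj]
    have e : g⁻¹ * (g * x * g⁻¹) * g = x := by group
    rw [e]
  rw [h] at h1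
  exact h1.symm

theorem map_conj_of_mem_normalizer {H : Subgroup G} {g : G} (h : g ∈ normalizer (H : Set G)) :
    H.map (MulAut.conj g).toMonoidHom = H := by
  ext x
  rw [mem_map_conj]
  have h1 : g⁻¹ ∈ normalizer (H : Set G) := inv_mem h
  have := mem_normalizer_iff.1 h1 x
  rw [inv_inv] at this
  exact this.symm

section Weak

variable [Finite G] {𝒜 : Set G} (h : IsClosedFam 𝒜)
include h

theorem card_fam_sylow (S P : Sylow 2 G) :
    Nat.card (fam 𝒜 (S : Subgroup G)) = Nat.card (fam 𝒜 (P : Subgroup G)) := by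
  haveI : Fact (Nat.Prime 2) := ⟨Nat.prime_two⟩
  obtain ⟨g, hg⟩ := MulAction.exists_smul_eq G S P
  have h1 : (P : Subgroup G) = (S : Subgroup G).map (MulAut.conj g).toMonoidHom := by
    rw [← hg]; rfl
  rw [h1, ← h.map_conj_fam, card_map_conj]

/-- The intersection `A` of the family with a Sylow subgroup is the intersection with every 2-subgroup
containing `A`. -/
theorem fam_eq_of_le (S : Sylow 2 G) {Q : Subgroup G} (hQ : IsPGroup 2 Q)
    (hle : fam 𝒜 (S : Subgroup G) ≤ Q) : fam 𝒜 Q = fam 𝒜 (S : Subgroup G) := by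
  haveI : Fact (Nat.Prime 2) := ⟨Nat.prime_two⟩
  have h1 : fam 𝒜 (S : Subgroup G) ≤ fam 𝒜 Q := by
    intro x hx
    rw [h.mem_fam_iff hQ]
    exact ⟨((h.mem_fam_iff S.2).1 hx).1, hle hx⟩
  obtain ⟨P, hP⟩ := hQ.exists_le_sylow
  have h2 : fam 𝒜 Q ≤ fam 𝒜 (P : Subgroup G) := fam_mono 𝒜 hP
  refine (eq_of_le_of_card_ge h1 ?_).symm
  rw [card_fam_sylow h S P]
  exact Subgroup.card_le_of_le h2

/-- Conjugates of `A` in a subgroup `H` are conjugate in `H`. -/
theorem exists_conj_fam (S : Sylow 2 G) {H : Subgroup G} {g : G} (h1 : fam 𝒜 (S : Subgroup G) ≤ H)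
    (h2 : (fam 𝒜 (S : Subgroup G)).map (MulAut.conj g).toMonoidHom ≤ H) :
    ∃ c ∈ H, (fam 𝒜 (S : Subgroup G)).map (MulAut.conj (c * g)).toMonoidHom = fam 𝒜 (S : Subgroup G) := by
  haveI : Fact (Nat.Prime 2) := ⟨Nat.prime_two⟩
  set A := fam 𝒜 (S : Subgroup G) with hA
  have hAp : IsPGroup 2 A := isPGroup_fam 𝒜 S.2
  have hBp : IsPGroup 2 (A.map (MulAut.conj g).toMonoidHom) := hAp.map _
  -- Sylow subgroups of `H`
  obtain ⟨P, hP⟩ := (hAp.comap_of_injective H.subtype H.subtype_injective).exists_le_sylow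
  obtain ⟨R, hR⟩ := (hBp.comap_of_injective H.subtype H.subtype_injective).exists_le_sylow
  obtain ⟨c, hc⟩ := MulAction.exists_smul_eq H R P
  have hPm : IsPGroup 2 ((P : Subgroup H).map H.subtype) := P.2.map _
  have hRm : IsPGroup 2 ((R : Subgroup H).map H.subtype) := R.2.map _
  have hAP : A ≤ (P : Subgroup H).map H.subtype := by
    intro x hx
    exact ⟨⟨x, h1 hx⟩, hP (by rw [mem_comap]; exact hx), rfl⟩
  have hBR : A.map (MulAut.conj g).toMonoidHom ≤ (R : Subgroup H).map H.subtype := by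
    intro x hx
    exact ⟨⟨x, h2 hx⟩, hR (by rw [mem_comap]; exact hx), rfl⟩
  have e1 : fam 𝒜 ((P : Subgroup H).map H.subtype) = A := fam_eq_of_le h S hPm hAP
  -- the conjugate of `A` is the member of the family for the conjugate Sylow subgroup
  have e2 : fam 𝒜 ((R : Subgroup H).map H.subtype) = A.map (MulAut.conj g).toMonoidHom := by
    have h3 := fam_eq_of_le h (g • S) hRm (by
      have : ((g • S : Sylow 2 G) : Subgroup G) = (S : Subgroup G).map (MulAut.conj g).toMonoidHom := rfl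
      rw [this, ← h.map_conj_fam]
      exact hBR)
    rw [h3]
    have : ((g • S : Sylow 2 G) : Subgroup G) = (S : Subgroup G).map (MulAut.conj g).toMonoidHom := rfl
    rw [this, ← h.map_conj_fam]
  refine ⟨c, c.2, ?_⟩
  rw [map_conj_mul, ← e2, h.map_conj_fam, ← e1]
  congr 1
  rw [← hc]
  ext x
  constructor
  · rintro ⟨_, ⟨y, hy, rfl⟩, rfl⟩
    refine ⟨c * y * c⁻¹, ?_, rfl⟩
    exact ⟨y, hy, rfl⟩
  · rintro ⟨_, ⟨y, hy, rfl⟩, rfl⟩
    exact ⟨y, ⟨y, hy, rfl⟩, rfl⟩

end Weak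

/-- Control of fusion by `N_L(A)`: if `A` normalizes `L`, then an `L`-conjugation between elements of `A` is
realized in `N_L(A)`. -/
theorem exists_normalizing [Finite G] {𝒜 : Set G} (h : IsElemFam 𝒜) (S : Sylow 2 G) {L : Subgroup G}
    (hn : fam 𝒜 (S : Subgroup G) ≤ normalizer (L : Set G)) {x g : G} (hx : x ∈ 𝒜) (hxS : x ∈ S)
    (hg : g ∈ L) (hgx : g * x * g⁻¹ ∈ S) :
    ∃ n ∈ L, n ∈ normalizer (fam 𝒜 (S : Subgroup G) : Set G) ∧ n * x * n⁻¹ = g * x * g⁻¹ := by
  set A := fam 𝒜 (S : Subgroup G) with hA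
  set y := g * x * g⁻¹ with hy
  have hyA : y ∈ A := mem_fam (h.conj_mem x hx g) hgx
  have hxA : x ∈ A := mem_fam hx hxS
  have hcommA : ∀ a ∈ A, ∀ b ∈ A, a * b = b * a := by
    intro a ha b hb
    rw [h.mem_fam_iff S.2] at ha hb
    exact h.comm S.2 ha.1 ha.2 hb.1 hb.2
  set K : Subgroup G := L ⊓ centralizer ({y} : Set G) with hK
  have hmemC : ∀ {z : G}, z ∈ centralizer ({y} : Set G) ↔ z * y = y * z := by
    intro z
    rw [mem_centralizer_iff]
    simp only [Set.mem_singleton_iff, forall_eq]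
    exact eq_comm
  have hAK : A ≤ normalizer (K : Set G) := by
    intro a ha
    have haC : a ∈ normalizer ((centralizer ({y} : Set G) : Subgroup G) : Set G) := by
      refine le_normalizer ?_
      exact hmemC.2 (hcommA a ha y hyA)
    rw [mem_normalizer_iff]
    intro z
    rw [hK, mem_inf, mem_inf]
    exact and_congr (mem_normalizer_iff.1 (hn ha) z) (mem_normalizer_iff.1 haC z)
  -- the subgroup `H = K A`
  have h1 : A ≤ K ⊔ A := le_sup_right
  have h2 : A.map (MulAut.conj g).toMonoidHom ≤ K ⊔ A := by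
    rintro _ ⟨a, ha, rfl⟩
    change g * a * g⁻¹ ∈ K ⊔ A
    have h3 : g * a * g⁻¹ = (g * a * g⁻¹ * a⁻¹) * a := by group
    rw [h3]
    refine mul_mem (le_sup_left (a := K) ?_) (le_sup_right (b := A) ha)
    rw [hK, mem_inf]
    constructor
    · have h4 : g * a * g⁻¹ * a⁻¹ = g * (a * g⁻¹ * a⁻¹) := by group
      rw [h4]
      exact mul_mem hg ((mem_normalizer_iff.1 (hn ha) _).1 (inv_mem hg))
    · refine mul_mem ?_ (inv_mem (hmemC.2 (hcommA a ha y hyA)))
      rw [hmemC, hy]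
      have h5 := hcommA a ha x hxA
      calc g * a * g⁻¹ * (g * x * g⁻¹) = g * (a * x) * g⁻¹ := by group
        _ = g * (x * a) * g⁻¹ := by rw [h5]
        _ = g * x * g⁻¹ * (g * a * g⁻¹) := by group
  obtain ⟨c, hc, hcA⟩ := exists_conj_fam h.toIsClosedFam S h1 h2
  obtain ⟨a, ha, k, hk, rfl⟩ : ∃ a ∈ A, ∃ k ∈ K, c = a * k := by
    rw [sup_comm] at hc
    have h7 : c ∈ ((A ⊔ K : Subgroup G) : Set G) := hc
    rw [Subgroup.coe_mul_of_left_le_normalizer_right A K hAK] at h7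
    obtain ⟨a, ha, k, hk, rfl⟩ := h7
    exact ⟨a, ha, k, hk, rfl⟩
  rw [hK, mem_inf] at hk
  refine ⟨k * g, mul_mem hk.1 hg, ?_, ?_⟩
  · have h8 : a * k * g = a * (k * g) := by group
    rw [h8, map_conj_mul] at hcA
    have h9 : (A.map (MulAut.conj (k * g)).toMonoidHom) = A := by
      have h11 : A.map (MulAut.conj a).toMonoidHom = A :=
        map_conj_of_mem_normalizer (le_normalizer ha)
      exact Subgroup.map_injective (MulAut.conj a).injective (hcA.trans h11.symm)
    exact mem_normalizer_of_map_conj h9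
  · have h12 := hmemC.1 hk.2
    calc k * g * x * (k * g)⁻¹ = k * y * k⁻¹ := by rw [hy]; group
      _ = y * k * k⁻¹ := by rw [h12]
      _ = y := by group

end Cfsg.Agent.TwoFusion.Gold
end

-- part: TwoFusion/GoldAS
section
prune_inst 0x40000220000000000000000000002000000000000000000011000102000610400000080040002c02102000000000002811dc00000000000000000000000000008020000000000000000001803003180c00000000000000000000000000041000000000000
set_option linter.all false
open scoped Cfsg.Agent.FastGrp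

-- part: TwoFusion/GoldTrans
section
/-!
# Transport of the predicate `TProp` along isomorphisms
-/

set_option autoImplicit false
set_option linter.style.haveILetI false

namespace Cfsg.Agent.TwoFusion.GoldTrans

open Subgroup
open Cfsg.Agent.TwoFusion.ClosedFam Cfsg.Agent.TwoFusion.Gold

theorem isStronglyEmbedded_map {G G' : Type*} [Group G] [Group G'] (e : G ≃* G') {H : Subgroup G}
    (h : Cfsg.IsStronglyEmbedded H) : Cfsg.IsStronglyEmbedded (H.map e.toMonoidHom) := by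
  have hcard : ∀ K : Subgroup G, Nat.card (K.map e.toMonoidHom) = Nat.card K := fun K =>
    (Nat.card_congr (K.equivMapOfInjective _ e.injective).toEquiv).symm
  have hmem : ∀ (K : Subgroup G) (x : G), e x ∈ K.map e.toMonoidHom ↔ x ∈ K := by
    intro K x
    constructor
    · rintro ⟨y, hy, hyx⟩
      have : y = x := e.injective hyx
      rwa [← this]
    · intro hx; exact ⟨x, hx, rfl⟩
  refine ⟨?_, ?_, ?_⟩
  · intro htop
    apply h.1
    rw [eq_top_iff]
    intro x _
    have : e x ∈ H.map e.toMonoidHom := by rw [htop]; exact mem_top _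
    exact (hmem H x).1 this
  · rw [hcard]; exact h.2.1
  · intro g' hg'
    obtain ⟨g, rfl⟩ := e.surjective g'
    have hg : g ∉ H := fun hh => hg' ((hmem H g).2 hh)
    have h1 := h.2.2 g hg
    have e1 : H.map e.toMonoidHom ⊓ (H.map e.toMonoidHom).map (MulAut.conj (e g)).toMonoidHom =
        (H ⊓ H.map (MulAut.conj g).toMonoidHom).map e.toMonoidHom := by
      ext x'
      obtain ⟨x, rfl⟩ := e.surjective x'
      rw [mem_inf, hmem, hmem, mem_inf]
      refine and_congr_right fun _ => ?_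
      constructor
      · rintro ⟨_, ⟨y, hy, rfl⟩, hyx⟩
        refine ⟨y, hy, ?_⟩
        apply e.injective
        rw [← hyx]
        change e (g * y * g⁻¹) = e g * e y * (e g)⁻¹
        rw [map_mul, map_mul, map_inv]
      · rintro ⟨y, hy, hyx⟩
        refine ⟨e y, ⟨y, hy, rfl⟩, ?_⟩
        rw [← hyx]
        change e g * e y * (e g)⁻¹ = e (g * y * g⁻¹)
        rw [map_mul, map_mul, map_inv]
    rw [e1, hcard]
    exact h1

/-- The transported Sylow subgroup. -/
noncomputable def sy {L L' : Type*} [Group L] [Group L'] [Finite L] (e : L ≃* L') (S : Sylow 2 L) :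
    Sylow 2 L' :=
  haveI : Fact (Nat.Prime 2) := ⟨Nat.prime_two⟩
  S.mapSurjective (f := e.toMonoidHom) e.surjective

theorem mem_sy {L L' : Type*} [Group L] [Group L'] [Finite L] (e : L ≃* L') (S : Sylow 2 L) (x : L) :
    e x ∈ sy e S ↔ x ∈ S := by
  haveI : Fact (Nat.Prime 2) := ⟨Nat.prime_two⟩
  have h1 : ((sy e S : Sylow 2 L') : Subgroup L') = (S : Subgroup L).map e.toMonoidHom := by
    unfold sy
    exact S.coe_mapSurjective e.surjective
  change e x ∈ ((sy e S : Sylow 2 L') : Subgroup L') ↔ _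
  rw [h1]
  constructor
  · rintro ⟨y, hy, hyx⟩
    have : y = x := e.injective hyx
    rwa [← this]
  · intro hx; exact ⟨x, hx, rfl⟩

theorem sy_surj {L L' : Type*} [Group L] [Group L'] [Finite L] (e : L ≃* L') (S' : Sylow 2 L') :
    ∃ S : Sylow 2 L, sy e S = S' := by
  haveI : Finite L' := Finite.of_equiv L e.toEquiv
  refine ⟨sy e.symm S', ?_⟩
  apply Sylow.ext
  ext x'
  obtain ⟨x, rfl⟩ := e.surjective x'
  change e x ∈ sy e (sy e.symm S') ↔ e x ∈ S'
  rw [mem_sy]
  have h2 := mem_sy e.symm S' (e x)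
  rw [e.symm_apply_apply] at h2
  exact h2

theorem benPack_congr {L L' : Type*} [Group L] [Group L'] [Finite L] (e : L ≃* L') (h : BenPack L) :
    BenPack L' := by
  haveI : Fact (Nat.Prime 2) := ⟨Nat.prime_two⟩
  haveI : Finite L' := Finite.of_equiv L e.toEquiv
  have hcardS : ∀ S : Sylow 2 L, Nat.card (sy e S) = Nat.card S := by
    intro S
    have h1 : ((sy e S : Sylow 2 L') : Subgroup L') = (S : Subgroup L).map e.toMonoidHom := by
      unfold sy
      exact S.coe_mapSurjective e.surjective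
    change Nat.card ((sy e S : Sylow 2 L') : Subgroup L') = Nat.card (S : Subgroup L)
    rw [h1]
    exact (Nat.card_congr ((S : Subgroup L).equivMapOfInjective _ e.injective).toEquiv).symm
  have hinvo : ∀ S : Sylow 2 L, (invo L' (sy e S : Subgroup L')).ncard = (invo L (S : Subgroup L)).ncard := by
    intro S
    have h1 : invo L' (sy e S : Subgroup L') = e '' (invo L (S : Subgroup L)) := by
      ext x'
      obtain ⟨x, rfl⟩ := e.surjective x'
      constructor
      · rintro ⟨hx, hxx⟩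
        refine ⟨x, ⟨(mem_sy e S x).1 hx, ?_⟩, rfl⟩
        apply e.injective
        rw [map_mul, map_one]; exact hxx
      · rintro ⟨y, ⟨hy, hyy⟩, hyx⟩
        have : y = x := e.injective hyx
        subst this
        refine ⟨(mem_sy e S y).2 hy, ?_⟩
        rw [← map_mul, hyy, map_one]
    rw [h1, Set.ncard_image_of_injective _ e.injective]
  refine ⟨?_, ?_, ?_, ?_, ?_⟩
  · obtain ⟨H, hH⟩ := h.se
    exact ⟨_, isStronglyEmbedded_map e hH⟩
  · intro S' R' hne
    obtain ⟨S, rfl⟩ := sy_surj e S'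
    obtain ⟨R, rfl⟩ := sy_surj e R'
    have h1 := h.ti S R (fun hh => hne (by rw [hh]))
    rw [eq_bot_iff]
    intro x' hx'
    obtain ⟨x, rfl⟩ := e.surjective x'
    have h2 : x ∈ (S : Subgroup L) ⊓ R := ⟨(mem_sy e S x).1 hx'.1, (mem_sy e R x).1 hx'.2⟩
    rw [h1, mem_bot] at h2
    rw [mem_bot, h2, map_one]
  · intro S'
    obtain ⟨S, rfl⟩ := sy_surj e S'
    rw [hcardS, ← h.card S]
    refine (Nat.card_congr (Equiv.ofBijective (sy e) ⟨?_, sy_surj e⟩)).symm
    intro S R hSR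
    apply Sylow.ext
    ext x
    have h1 := mem_sy e S x
    rw [hSR, mem_sy] at h1
    exact h1.symm
  · intro S'
    obtain ⟨S, rfl⟩ := sy_surj e S'
    rw [hcardS, hinvo]
    exact h.sq_le S
  · intro S'
    obtain ⟨S, rfl⟩ := sy_surj e S'
    rw [hinvo]
    refine (h.alt S).imp id ?_
    rintro ⟨y, hy, hyN, hyc, hyf⟩
    refine ⟨e y, ?_, ?_, ?_, ?_⟩
    · rw [MulEquiv.orderOf_eq]; exact hy
    · rw [mem_normalizer_iff]
      intro x'
      obtain ⟨x, rfl⟩ := e.surjective x'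
      change e x ∈ sy e S ↔ e y * e x * (e y)⁻¹ ∈ sy e S
      rw [← map_inv, ← map_mul, ← map_mul, mem_sy, mem_sy]
      exact mem_normalizer_iff.1 hyN x
    · intro s' hs' hss
      obtain ⟨s, rfl⟩ := e.surjective s'
      rw [← map_mul, ← map_mul]
      congr 1
      refine hyc s ((mem_sy e S s).1 hs') ?_
      apply e.injective
      rw [map_mul, map_one]; exact hss
    · intro s' hs' hcomm
      obtain ⟨s, rfl⟩ := e.surjective s'
      rw [← map_mul, ← map_mul] at hcomm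
      rw [← map_mul, hyf s ((mem_sy e S s).1 hs') (e.injective hcomm), map_one]

theorem tCon_congr {L L' : Type*} [Group L] [Group L'] [Finite L] (e : L ≃* L') (h : TCon L) :
    TCon L' := by
  refine ⟨?_, ?_, ?_⟩
  · intro S' x' hx' hxx s' hs'
    obtain ⟨S, rfl⟩ := sy_surj e S'
    obtain ⟨x, rfl⟩ := e.surjective x'
    obtain ⟨s, rfl⟩ := e.surjective s'
    rw [← map_mul, ← map_mul]
    congr 1
    refine h.central S x ((mem_sy e S x).1 hx') ?_ s ((mem_sy e S s).1 hs')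
    apply e.injective
    rw [map_mul, map_one]; exact hxx
  · intro x' y' hx' hy'
    obtain ⟨x, rfl⟩ := e.surjective x'
    obtain ⟨y, rfl⟩ := e.surjective y'
    rw [MulEquiv.orderOf_eq] at hx' hy'
    obtain ⟨g, hg⟩ := h.conj x y hx' hy'
    exact ⟨e g, by rw [← hg, map_mul, map_mul, map_inv]⟩
  · refine h.alt.imp ?_ (benPack_congr e)
    intro hel S' s' hs'
    obtain ⟨S, rfl⟩ := sy_surj e S'
    obtain ⟨s, rfl⟩ := e.surjective s'
    rw [← map_mul, hel S s ((mem_sy e S s).1 hs'), map_one]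

theorem tProp_congr {L L' : Type*} [Group L] [Group L'] [Finite L] (e : L ≃* L') (h : TProp L) :
    TProp L' := by
  haveI : Finite L' := Finite.of_equiv L e.toEquiv
  intro 𝒜 h𝒜 hne
  have h1 : IsElemFam (e.symm.toMonoidHom '' 𝒜) := h𝒜.image e.symm.surjective
  obtain ⟨x, hx, hx1⟩ := hne
  exact tCon_congr e (h _ h1 ⟨e.symm x, ⟨x, hx, rfl⟩, by simpa using hx1⟩)

end Cfsg.Agent.TwoFusion.GoldTrans
end

-- part: TwoFusion/GoldDesign
section
/-!
# A counting argument for involutory automorphisms of Bender groups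

`M` acts 2-transitively on `Ω`, the Sylow 2-subgroup `T` fixes `α` and is regular on the rest, `B` is the
subgroup of the elements of `T` of order at most 2 and is central in `T`, `|B|² ≤ |T|`.  An involution `c`
which normalizes `M` and `T`, centralizes `T` modulo `B` and centralizes a subgroup `J` of odd order which is
transitive on the involutions of `B` centralizes `T`.
-/

set_option autoImplicit false
set_option linter.style.haveILetI false

namespace Cfsg.Agent.TwoFusion.GoldDesign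

open Subgroup MulAction

variable {Y Ω : Type*} [Group Y] [MulAction Y Ω]

theorem card_eq_orbit [Finite Y] (H : Subgroup Y) (α : Ω) :
    Nat.card H = (orbit H α).ncard * Nat.card (H ⊓ stabilizer Y α : Subgroup Y) := by
  have h1 := Subgroup.card_mul_index (stabilizer H α)
  rw [index_stabilizer] at h1
  have h2 : Nat.card (stabilizer H α) = Nat.card (H ⊓ stabilizer Y α : Subgroup Y) := by
    refine Nat.card_congr ⟨fun x => ⟨x.1.1, x.1.2, ?_⟩, fun x => ⟨⟨x.1, x.2.1⟩, ?_⟩, ?_, ?_⟩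
    · have := x.2
      rw [mem_stabilizer_iff] at this
      exact this
    · have := x.2.2
      rw [mem_stabilizer_iff]
      exact this
    · intro x; rfl
    · intro x; rfl
  rw [← h1, h2, mul_comm]

/-- The hypotheses. -/
structure Design (M T B J : Subgroup Y) (c : Y) (α : Ω) : Prop where
  TM : T ≤ M
  T2 : IsPGroup 2 T
  fixT : ∀ t ∈ T, t • α = α
  trans : ∀ β γ : Ω, β ≠ α → γ ≠ α → ∃ t ∈ T, t • β = γ
  free : ∀ t ∈ T, ∀ β : Ω, β ≠ α → t • β = β → t = 1
  mtrans : ∀ β : Ω, ∃ m ∈ M, m • α = β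
  norm : ∀ m ∈ M, m • α = α → ∀ t ∈ T, m * t * m⁻¹ ∈ T
  sylow : ∀ m ∈ M, m • α = α → ∀ k : ℕ, m ^ 2 ^ k = 1 → m ∈ T
  faithful : ∀ m ∈ M, (∀ β : Ω, m • β = β) → m = 1
  cM : ∀ m ∈ M, c * m * c⁻¹ ∈ M
  cfix : c • α = α
  c2 : c * c = 1
  BT : B ≤ T
  Bsq : ∀ t ∈ T, t * t = 1 → t ∈ B
  Bsq' : ∀ b ∈ B, b * b = 1
  Bcent : ∀ b ∈ B, ∀ t ∈ T, b * t = t * b
  cB : ∀ t ∈ T, t⁻¹ * (c * t * c⁻¹) ∈ B
  JM : J ≤ M
  Jfix : ∀ j ∈ J, j • α = α
  Jodd : Odd (Nat.card J)
  Jc : ∀ j ∈ J, j * c = c * j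
  JB : ∀ x ∈ B, x ≠ 1 → ∀ y ∈ B, y ≠ 1 → ∃ j ∈ J, j * x * j⁻¹ = y
  B4 : 4 ≤ Nat.card B
  sq : Nat.card B ^ 2 ≤ Nat.card T

namespace Design

variable {M T B J : Subgroup Y} {c : Y} {α : Ω} (h : Design M T B J c α)
include h

theorem cT : ∀ t ∈ T, c * t * c⁻¹ ∈ T := by
  intro t ht
  have h1 := mul_mem ht (h.BT (h.cB t ht))
  have e : t * (t⁻¹ * (c * t * c⁻¹)) = c * t * c⁻¹ := by group
  rwa [e] at h1

theorem c_inv : c⁻¹ = c := inv_eq_of_mul_eq_one_left h.c2

/-- `κ_g(t) = t⁻¹ (g t g⁻¹)` is multiplicative if it takes values in `B`. -/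
theorem kappa_mul {g : Y} (hg : ∀ t ∈ T, t⁻¹ * (g * t * g⁻¹) ∈ B) {t u : Y} (ht : t ∈ T) (hu : u ∈ T) :
    (t * u)⁻¹ * (g * (t * u) * g⁻¹) = (t⁻¹ * (g * t * g⁻¹)) * (u⁻¹ * (g * u * g⁻¹)) := by
  have h1 := h.Bcent _ (hg t ht) _ (inv_mem hu)
  calc (t * u)⁻¹ * (g * (t * u) * g⁻¹) = u⁻¹ * (t⁻¹ * (g * t * g⁻¹)) * (g * u * g⁻¹) := by group
    _ = (t⁻¹ * (g * t * g⁻¹)) * u⁻¹ * (g * u * g⁻¹) := by rw [h1]
    _ = _ := by group

/-- Such a `g` centralizes all squares. -/
theorem comm_sq {g : Y} (hg : ∀ t ∈ T, t⁻¹ * (g * t * g⁻¹) ∈ B) {t : Y} (ht : t ∈ T) :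
    g * (t * t) * g⁻¹ = t * t := by
  have h1 := h.kappa_mul hg ht ht
  rw [h.Bsq' _ (hg t ht)] at h1
  exact (inv_mul_eq_one.1 h1).symm

/-- An element of order 4 exists. -/
theorem exists_sq : ∃ t ∈ T, t * t ∈ B ∧ t * t ≠ 1 := by
  by_contra hcon
  push Not at hcon
  -- then every element of `T` is an involution or trivial
  have key : ∀ k : ℕ, ∀ t ∈ T, t ^ 2 ^ k = 1 → t * t = 1 := by
    intro k
    induction k with
    | zero =>
      intro t _ h1
      rw [pow_zero, pow_one] at h1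
      rw [h1, one_mul]
    | succ k ih =>
      intro t ht h1
      have h2 : (t * t) ^ 2 ^ k = 1 := by
        rw [← pow_two, ← pow_mul, ← pow_succ']
        exact h1
      have h3 := ih (t * t) (mul_mem ht ht) h2
      exact hcon t ht (h.Bsq _ (mul_mem ht ht) h3)
  have hTB : T ≤ B := by
    intro t ht
    obtain ⟨k, hk⟩ := h.T2 ⟨t, ht⟩
    have hk' : t ^ 2 ^ k = 1 := by
      have := congrArg Subtype.val hk
      simpa only [_root_.SubmonoidClass.mk_pow, _root_.OneMemClass.coe_one] using this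
    exact h.Bsq t ht (key k t ht hk')
  have e : T = B := le_antisymm hTB h.BT
  have h4 := h.B4
  have h5 := h.sq
  rw [e] at h5
  nlinarith

/-- An element of `M` fixing two points which centralizes `T` modulo `B` is trivial. -/
theorem eq_one_of_kappa [Finite Y] {β : Ω} (hβ : β ≠ α) (hJβ : ∀ j ∈ J, j • β = β) {k : Y} (hk : k ∈ M)
    (hkα : k • α = α) (hkβ : k • β = β) (hkB : ∀ t ∈ T, t⁻¹ * (k * t * k⁻¹) ∈ B) : k = 1 := by
  obtain ⟨t0, ht0, hz, hz1⟩ := h.exists_sq
  -- every element of this kind has odd order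
  have hodd : ∃ n : ℕ, Odd n ∧ k ^ n = 1 := by
    have hpos : 0 < orderOf k := orderOf_pos k
    obtain ⟨e, m, hm, hem⟩ := Nat.exists_eq_two_pow_mul_odd (Nat.pos_iff_ne_zero.1 hpos)
    refine ⟨m, hm, ?_⟩
    have h1 : (k ^ m) ^ 2 ^ e = 1 := by
      rw [← pow_mul, mul_comm, ← hem, pow_orderOf_eq_one]
    have hfix : ∀ n : ℕ, k ^ n • α = α ∧ k ^ n • β = β := by
      intro n
      induction n with
      | zero => simp
      | succ n ih =>
        rw [pow_succ, mul_smul, mul_smul, hkα, hkβ]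
        exact ih
    have h2 := h.sylow (k ^ m) (pow_mem hk m) (hfix m).1 e h1
    exact h.free _ h2 β hβ (hfix m).2
  -- `k` centralizes `B`
  have hcB : ∀ b ∈ B, k * b * k⁻¹ = b := by
    intro b hb
    by_cases hb1 : b = 1
    · subst hb1; group
    obtain ⟨j, hj, hjb⟩ := h.JB _ hz hz1 b hb hb1
    have hjM := h.JM hj
    have hjT : ∀ t ∈ T, j⁻¹ * t * j ∈ T := by
      intro t ht
      have h1 : j⁻¹ • α = α := by
        rw [inv_smul_eq_iff]; exact (h.Jfix j hj).symm
      have := h.norm j⁻¹ (inv_mem hjM) h1 t ht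
      rwa [inv_inv] at this
    have hjT' : ∀ t ∈ T, j * t * j⁻¹ ∈ T := fun t ht => h.norm j hjM (h.Jfix j hj) t ht
    have hjB : ∀ b ∈ B, j⁻¹ * b * j ∈ B := by
      intro b hb
      refine h.Bsq _ (hjT b (h.BT hb)) ?_
      calc j⁻¹ * b * j * (j⁻¹ * b * j) = j⁻¹ * (b * b) * j := by group
        _ = 1 := by rw [h.Bsq' b hb]; group
    set k' := j⁻¹ * k * j with hk'
    have hk'B : ∀ t ∈ T, t⁻¹ * (k' * t * k'⁻¹) ∈ B := by
      intro t ht
      have h1 := hjB _ (hkB _ (hjT' t ht))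
      have e : j⁻¹ * ((j * t * j⁻¹)⁻¹ * (k * (j * t * j⁻¹) * k⁻¹)) * j = t⁻¹ * (k' * t * k'⁻¹) := by
        rw [hk']; group
      rwa [e] at h1
    have h2 := h.comm_sq hk'B ht0
    rw [hk'] at h2
    have h3 : k * (j * (t0 * t0) * j⁻¹) * k⁻¹ = j * (t0 * t0) * j⁻¹ := by
      have h4 : j * (j⁻¹ * k * j * (t0 * t0) * (j⁻¹ * k * j)⁻¹) * j⁻¹ = j * (t0 * t0) * j⁻¹ := by rw [h2]
      calc k * (j * (t0 * t0) * j⁻¹) * k⁻¹ =
            j * (j⁻¹ * k * j * (t0 * t0) * (j⁻¹ * k * j)⁻¹) * j⁻¹ := by group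
        _ = _ := h4
    rw [hjb] at h3
    exact h3
  -- `k` centralizes `T`
  have hcT : ∀ t ∈ T, k * t * k⁻¹ = t := by
    intro t ht
    obtain ⟨n, hn, hkn⟩ := hodd
    set b := t⁻¹ * (k * t * k⁻¹) with hb
    have hbB : b ∈ B := hkB t ht
    have h1 : k * t * k⁻¹ = t * b := by rw [hb]; group
    have h2 : ∀ m : ℕ, k ^ m * t * (k ^ m)⁻¹ = t * b ^ m := by
      intro m
      induction m with
      | zero => simp
      | succ m ih =>
        have h3 : k * (b ^ m) * k⁻¹ = b ^ m := hcB _ (pow_mem hbB m)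
        calc k ^ (m + 1) * t * (k ^ (m + 1))⁻¹ = k * (k ^ m * t * (k ^ m)⁻¹) * k⁻¹ := by
              rw [pow_succ']; group
          _ = k * (t * b ^ m) * k⁻¹ := by rw [ih]
          _ = (k * t * k⁻¹) * (k * b ^ m * k⁻¹) := by group
          _ = t * b * b ^ m := by rw [h1, h3]
          _ = t * b ^ (m + 1) := by rw [pow_succ', mul_assoc]
    have h4 := h2 n
    rw [hkn] at h4
    have h5 : b ^ n = 1 := by
      have h6 : 1 * t * (1 : Y)⁻¹ = t := by group
      rw [h6] at h4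
      exact (left_eq_mul.1 h4)
    have h7 : b = 1 := by
      obtain ⟨m, rfl⟩ := hn
      rw [pow_add, pow_mul, pow_two, h.Bsq' b hbB, one_pow, one_mul, pow_one] at h5
      exact h5
    rw [h1, h7, mul_one]
  refine h.faithful k hk ?_
  intro γ
  by_cases hγ : γ = α
  · rw [hγ, hkα]
  obtain ⟨t, ht, rfl⟩ := h.trans β γ hβ hγ
  have h8 := hcT t ht
  have h9 : k * t = t * k := by
    calc k * t = k * t * k⁻¹ * k := by group
      _ = t * k := by rw [h8]
  rw [← mul_smul, h9, mul_smul, hkβ]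

/-- `C_T(J) = 1`. -/
theorem eq_one_of_comm [Finite Y] {t : Y} (ht : t ∈ T) (hJ : ∀ j ∈ J, j * t = t * j) : t = 1 := by
  by_contra h1
  obtain ⟨k, hk⟩ := h.T2 ⟨t, ht⟩
  have hk' : t ^ 2 ^ k = 1 := by
    have := congrArg Subtype.val hk
    simpa only [_root_.SubmonoidClass.mk_pow, _root_.OneMemClass.coe_one] using this
  obtain ⟨m, -, hm⟩ := (Nat.dvd_prime_pow Nat.prime_two).1 (orderOf_dvd_of_pow_eq_one hk')
  rcases m with _ | m
  · rw [pow_zero, orderOf_eq_one_iff] at hm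
    exact h1 hm
  set s := t ^ 2 ^ m with hs
  have hsT : s ∈ T := pow_mem ht _
  have hss : s * s = 1 := by
    rw [hs, ← pow_add, ← two_mul, ← pow_succ', ← hm, pow_orderOf_eq_one]
  have hs1 : s ≠ 1 := by
    intro e
    have h2 := orderOf_dvd_of_pow_eq_one e
    rw [hm] at h2
    have h3 := Nat.le_of_dvd (by positivity) h2
    have h4 : 2 ^ m < 2 ^ (m + 1) := Nat.pow_lt_pow_right (by norm_num) (Nat.lt_succ_self m)
    omega
  have hsB : s ∈ B := h.Bsq s hsT hss
  have hJs : ∀ j ∈ J, j * s * j⁻¹ = s := by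
    intro j hj
    have h2 : Commute j t := hJ j hj
    have h3 : Commute j s := h2.pow_right _
    calc j * s * j⁻¹ = s * j * j⁻¹ := by rw [h3.eq]
      _ = s := by group
  have hall : ∀ y ∈ B, y = 1 ∨ y = s := by
    intro y hy
    by_cases hy1 : y = 1
    · exact Or.inl hy1
    obtain ⟨j, hj, hjy⟩ := h.JB s hsB hs1 y hy hy1
    rw [hJs j hj] at hjy
    exact Or.inr hjy.symm
  have hcard : Nat.card B ≤ 2 := by
    have h5 : (B : Set Y) ⊆ ({1, s} : Set Y) := by
      intro y hy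
      rcases hall y hy with h | h
      · left; exact h
      · right; exact h
    have h6 := Set.ncard_le_ncard h5 (Set.toFinite _)
    have h7 : ({1, s} : Set Y).ncard ≤ 2 := Set.ncard_insert_le _ _ |>.trans (by rw [Set.ncard_singleton])
    have h8 : (B : Set Y).ncard = Nat.card B := rfl
    omega
  have := h.B4
  omega

theorem card_T [Finite Y] (hne : ∃ t ∈ T, c * t ≠ t * c) :
    Nat.card T = Nat.card (T ⊓ centralizer ({c} : Set Y) : Subgroup Y) * Nat.card B := by
  let φ : T →* B :=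
    { toFun := fun t => ⟨(t : Y)⁻¹ * (c * t * c⁻¹), h.cB t t.2⟩
      map_one' := by
        apply Subtype.ext
        change (1 : Y)⁻¹ * (c * 1 * c⁻¹) = 1
        group
      map_mul' := fun t u => Subtype.ext (h.kappa_mul h.cB t.2 u.2) }
  have hsurj : Function.Surjective φ := by
    obtain ⟨t0, ht0, hne0⟩ := hne
    have hb0 : t0⁻¹ * (c * t0 * c⁻¹) ≠ 1 := by
      intro e
      apply hne0
      have h1 : t0 = c * t0 * c⁻¹ := inv_mul_eq_one.1 e
      calc c * t0 = c * t0 * c⁻¹ * c := by group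
        _ = t0 * c := by rw [← h1]
    rintro ⟨b, hb⟩
    by_cases hb1 : b = 1
    · exact ⟨1, by rw [map_one]; exact Subtype.ext hb1.symm⟩
    obtain ⟨j, hj, hjb⟩ := h.JB _ (h.cB t0 ht0) hb0 b hb hb1
    have hjT : j * t0 * j⁻¹ ∈ T := h.norm j (h.JM hj) (h.Jfix j hj) t0 ht0
    refine ⟨⟨j * t0 * j⁻¹, hjT⟩, Subtype.ext ?_⟩
    change (j * t0 * j⁻¹)⁻¹ * (c * (j * t0 * j⁻¹) * c⁻¹) = b
    rw [← hjb]
    have h2 := h.Jc j hj
    have h3 : j⁻¹ * c⁻¹ = c⁻¹ * j⁻¹ := by
      rw [← mul_inv_rev, ← mul_inv_rev, h2]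
    calc (j * t0 * j⁻¹)⁻¹ * (c * (j * t0 * j⁻¹) * c⁻¹)
        = j * t0⁻¹ * j⁻¹ * ((c * j) * t0 * (j⁻¹ * c⁻¹)) := by group
      _ = j * t0⁻¹ * j⁻¹ * ((j * c) * t0 * (c⁻¹ * j⁻¹)) := by rw [h3, h2]
      _ = j * (t0⁻¹ * (c * t0 * c⁻¹)) * j⁻¹ := by group
  have hker : Nat.card φ.ker = Nat.card (T ⊓ centralizer ({c} : Set Y) : Subgroup Y) := by
    have hmem : ∀ t : T, t ∈ φ.ker ↔ (t : Y) ∈ centralizer ({c} : Set Y) := by
      intro t
      rw [MonoidHom.mem_ker, mem_centralizer_iff]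
      simp only [Set.mem_singleton_iff, forall_eq]
      constructor
      · intro e
        have e' : (t : Y)⁻¹ * (c * t * c⁻¹) = 1 := congrArg Subtype.val e
        have h1 : (t : Y) = c * t * c⁻¹ := inv_mul_eq_one.1 e'
        calc c * (t : Y) = c * t * c⁻¹ * c := by group
          _ = t * c := by rw [← h1]
      · intro e
        apply Subtype.ext
        change (t : Y)⁻¹ * (c * t * c⁻¹) = 1
        rw [e]; group
    refine Nat.card_congr ⟨fun x => ⟨x.1.1, x.1.2, (hmem x.1).1 x.2⟩,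
      fun x => ⟨⟨x.1, x.2.1⟩, (hmem _).2 x.2.2⟩, fun x => rfl, fun x => rfl⟩
  rw [← hker, ← Subgroup.card_mul_index φ.ker, Subgroup.index_ker, MonoidHom.range_eq_top.2 hsurj]
  congr 1
  exact Nat.card_congr Subgroup.topEquiv.toEquiv

/-- The counting argument. -/
theorem absurd [Finite Y] [Finite Ω] (hne : ∃ t ∈ T, c * t ≠ t * c) : False := by
  classical
  haveI : Fact (Nat.Prime 2) := ⟨Nat.prime_two⟩
  obtain ⟨t0, ht0, hne0⟩ := id hne
  have hcT := h.card_T hne
  have ht01 : t0 ≠ 1 := by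
    rintro rfl
    apply hne0; group
  -- a second point fixed by `J`
  obtain ⟨β1, hβ1⟩ : ∃ β1 : Ω, β1 ≠ α := by
    by_contra hcon
    push Not at hcon
    apply ht01
    refine h.faithful t0 (h.TM ht0) ?_
    intro β
    rw [hcon β, h.fixT t0 ht0]
  have hJT : J ≤ normalizer (T : Set Y) := by
    intro j hj
    rw [mem_normalizer_iff]
    intro t
    refine ⟨fun ht => h.norm j (h.JM hj) (h.Jfix j hj) t ht, fun ht => ?_⟩
    have h1 : j⁻¹ • α = α := by
      rw [inv_smul_eq_iff]; exact (h.Jfix j hj).symm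
    have h2 := h.norm j⁻¹ (inv_mem (h.JM hj)) h1 _ ht
    have e : j⁻¹ * (j * t * j⁻¹) * j⁻¹⁻¹ = t := by group
    rwa [e] at h2
  have hcop : (Nat.card J).Coprime (Nat.card T) := by
    obtain ⟨n, hn⟩ := IsPGroup.iff_card.1 h.T2
    rw [hn]
    exact Nat.Coprime.pow_right _ (Nat.coprime_two_right.2 h.Jodd)
  have hsolv : Group.IsSolvable T := by
    haveI := h.T2.isNilpotent
    infer_instance
  obtain ⟨k1, hk1, hk1f⟩ := Cfsg.Agent.Solvable.Glauberman.exists_smul_fixed J T hJT hcop (Or.inr hsolv)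
    (X := Ω) β1 (by
      intro a ha
      have h1 : a • β1 ≠ α := by
        intro e
        apply hβ1
        have : β1 = a⁻¹ • α := by rw [← e, inv_smul_smul]
        rw [this, inv_smul_eq_iff]
        exact (h.Jfix a ha).symm
      obtain ⟨k, hk, hkβ⟩ := h.trans β1 (a • β1) hβ1 h1
      exact ⟨k, hk, hkβ.symm⟩)
  set β := k1 • β1 with hβdef
  have hβ : β ≠ α := by
    intro e
    apply hβ1
    have : β1 = k1⁻¹ • α := by rw [← e, hβdef, inv_smul_smul]
    rw [this, inv_smul_eq_iff]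
    exact (h.fixT k1 hk1).symm
  have hfixne : ∀ g : Y, g • α = α → ∀ γ : Ω, γ ≠ α → g • γ ≠ α := by
    intro g hg γ hγ e
    apply hγ
    have : γ = g⁻¹ • α := by rw [← e, inv_smul_smul]
    rw [this, inv_smul_eq_iff]
    exact hg.symm
  -- `c` fixes `β`
  have hcβ : c • β = β := by
    obtain ⟨t, ht, htβ⟩ := h.trans β (c • β) hβ (hfixne c h.cfix β hβ)
    have ht1 : t = 1 := by
      refine h.eq_one_of_comm ht ?_
      intro j hj
      have h1 : j * t * j⁻¹ ∈ T := h.norm j (h.JM hj) (h.Jfix j hj) t ht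
      have hj1 : j⁻¹ • β = β := by rw [inv_smul_eq_iff]; exact (hk1f j hj).symm
      have h2 : (t⁻¹ * (j * t * j⁻¹)) • β = β := by
        rw [mul_smul, inv_smul_eq_iff, mul_smul, mul_smul, hj1, htβ, ← mul_smul, h.Jc j hj, mul_smul,
          hk1f j hj]
      have h3 := h.free _ (mul_mem (inv_mem ht) h1) β hβ h2
      have h4 : t = j * t * j⁻¹ := inv_mul_eq_one.1 h3
      calc j * t = j * t * j⁻¹ * j := by group
        _ = t * j := by rw [← h4]
    rw [← htβ, ht1, one_smul]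
  have hcinv := h.c_inv
  -- the two point stabilizer
  set K : Subgroup Y := (M ⊓ stabilizer Y α) ⊓ stabilizer Y β with hK
  have hKc : ∀ k ∈ K, c * k = k * c := by
    intro k hk
    have hkM : k ∈ M := hk.1.1
    have hkα : k • α = α := hk.1.2
    have hkβ : k • β = β := hk.2
    have hki : k⁻¹ • α = α := by rw [inv_smul_eq_iff]; exact hkα.symm
    have hkiβ : k⁻¹ • β = β := by rw [inv_smul_eq_iff]; exact hkβ.symm
    have hci : c⁻¹ • α = α := by rw [inv_smul_eq_iff]; exact h.cfix.symm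
    have hciβ : c⁻¹ • β = β := by rw [inv_smul_eq_iff]; exact hcβ.symm
    have hkT : ∀ t ∈ T, k * t * k⁻¹ ∈ T := h.norm k hkM hkα
    have hkT' : ∀ t ∈ T, k⁻¹ * t * k ∈ T := by
      intro t ht
      have := h.norm k⁻¹ (inv_mem hkM) hki t ht
      rwa [inv_inv] at this
    have hkB : ∀ b ∈ B, k * b * k⁻¹ ∈ B := by
      intro b hb
      refine h.Bsq _ (hkT b (h.BT hb)) ?_
      calc k * b * k⁻¹ * (k * b * k⁻¹) = k * (b * b) * k⁻¹ := by group
        _ = 1 := by rw [h.Bsq' b hb]; group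
    have hkB' : ∀ b ∈ B, k⁻¹ * b * k ∈ B := by
      intro b hb
      refine h.Bsq _ (hkT' b (h.BT hb)) ?_
      calc k⁻¹ * b * k * (k⁻¹ * b * k) = k⁻¹ * (b * b) * k := by group
        _ = 1 := by rw [h.Bsq' b hb]; group
    have hcB' : ∀ b ∈ B, c * b * c⁻¹ ∈ B := by
      intro b hb
      refine h.Bsq _ (h.cT b (h.BT hb)) ?_
      calc c * b * c⁻¹ * (c * b * c⁻¹) = c * (b * b) * c⁻¹ := by group
        _ = 1 := by rw [h.Bsq' b hb]; group
    have h1 : k⁻¹ * (c * k * c⁻¹) = 1 := by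
      refine h.eq_one_of_kappa hβ hk1f (mul_mem (inv_mem hkM) (h.cM k hkM)) ?_ ?_ ?_
      · rw [mul_smul, mul_smul, mul_smul, hci, hkα, h.cfix, hki]
      · rw [mul_smul, mul_smul, mul_smul, hciβ, hkβ, hcβ, hkiβ]
      · intro t ht
        -- the element `s = k t k⁻¹`
        have hs := hkT t ht
        set s := k * t * k⁻¹ with hsdef
        have hb1 := h.cB t ht
        have hb2 := h.cB s hs
        have e : t⁻¹ * (k⁻¹ * (c * k * c⁻¹) * t * (k⁻¹ * (c * k * c⁻¹))⁻¹) =
            k⁻¹ * ((s⁻¹ * (c * s * c⁻¹)) * (c * (k * (t⁻¹ * (c⁻¹ * t * c)) * k⁻¹) * c⁻¹)) * k := by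
          rw [hsdef]; group
        rw [e]
        have hb1' : t⁻¹ * (c⁻¹ * t * c) ∈ B := by
          rw [hcinv]
          rw [hcinv] at hb1
          exact hb1
        exact hkB' _ (mul_mem hb2 (hcB' _ (hkB _ hb1')))
    have h2 : k = c * k * c⁻¹ := inv_mul_eq_one.1 h1
    calc c * k = c * k * c⁻¹ * c := by group
      _ = k * c := by rw [← h2]
  set Tc : Subgroup Y := T ⊓ centralizer ({c} : Set Y) with hTc
  set C : Subgroup Y := M ⊓ centralizer ({c} : Set Y) with hC
  have hmemc : ∀ {g : Y}, g ∈ centralizer ({c} : Set Y) ↔ c * g = g * c := by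
    intro g
    rw [mem_centralizer_iff]
    simp only [Set.mem_singleton_iff, forall_eq]
  -- an element of `C` moving `α`
  obtain ⟨u, huM, huc, huα⟩ : ∃ u ∈ M, c * u = u * c ∧ u • α ≠ α := by
    obtain ⟨m, hm, hmβ⟩ := h.mtrans β
    have hmβ' : m⁻¹ • β = α := by rw [inv_smul_eq_iff]; exact hmβ.symm
    have hψ : ∀ t ∈ T, m⁻¹ * (c * (m * t * m⁻¹) * c⁻¹) * m ∈ T := by
      intro t ht
      obtain ⟨k, hk⟩ := h.T2 ⟨t, ht⟩
      have hk' : t ^ 2 ^ k = 1 := by
        have := congrArg Subtype.val hk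
        simpa only [_root_.SubmonoidClass.mk_pow, _root_.OneMemClass.coe_one] using this
      refine h.sylow _ ?_ ?_ k ?_
      · exact mul_mem (mul_mem (inv_mem hm) (h.cM _ (mul_mem (mul_mem hm (h.TM ht)) (inv_mem hm)))) hm
      · have hci : c⁻¹ • β = β := by rw [inv_smul_eq_iff]; exact hcβ.symm
        rw [mul_smul, mul_smul, mul_smul, mul_smul, mul_smul, mul_smul, hmβ, hci, hmβ', h.fixT t ht, hmβ,
          hcβ, hmβ']
      · have e : m⁻¹ * (c * (m * t * m⁻¹) * c⁻¹) * m = (m⁻¹ * c * m) * t * (m⁻¹ * c * m)⁻¹ := by group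
        rw [e, conj_pow, hk']; group
    let ψ : T → T := fun t => ⟨_, hψ t t.2⟩
    have hψψ : ∀ t, ψ (ψ t) = t := by
      intro t
      apply Subtype.ext
      change m⁻¹ * (c * (m * (m⁻¹ * (c * (m * (t : Y) * m⁻¹) * c⁻¹) * m) * m⁻¹) * c⁻¹) * m = t
      have e : m⁻¹ * (c * (m * (m⁻¹ * (c * (m * (t : Y) * m⁻¹) * c⁻¹) * m) * m⁻¹) * c⁻¹) * m =
          m⁻¹ * ((c * c) * (m * (t : Y) * m⁻¹) * (c * c)⁻¹) * m := by group
      rw [e, h.c2]; group
    haveI : Fintype T := Fintype.ofFinite _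
    let ψ' : Function.End T := ψ
    have hmod := Equiv.Perm.card_fixedPoints_modEq (α := T) (f := ψ') (p := 2) (n := 1) (by
      have e : (2 : ℕ) ^ 1 = 1 + 1 := by norm_num
      rw [e, pow_add, pow_one]
      funext t
      exact hψψ t)
    have heven : 2 ∣ Fintype.card T := by
      rw [← Nat.card_eq_fintype_card, hcT]
      have h4 := h.B4
      obtain ⟨n, hn⟩ := IsPGroup.iff_card.1 (h.T2.to_le h.BT)
      rw [hn] at h4 ⊢
      rcases n with _ | n
      · norm_num at h4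
      · exact Dvd.dvd.mul_left (dvd_pow_self 2 (Nat.succ_ne_zero n)) _
    have heven2 : 2 ∣ Fintype.card (Function.fixedPoints ψ') := (hmod.dvd_iff (dvd_refl 2)).1 heven
    have hone : (1 : T) ∈ Function.fixedPoints ψ' := by
      rw [Function.mem_fixedPoints_iff]
      apply Subtype.ext
      change m⁻¹ * (c * (m * 1 * m⁻¹) * c⁻¹) * m = 1
      group
    have hgt : 1 < Fintype.card (Function.fixedPoints ψ') := by
      have hpos : 0 < Fintype.card (Function.fixedPoints ψ') := Fintype.card_pos_iff.2 ⟨⟨1, hone⟩⟩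
      obtain ⟨r, hr⟩ := heven2
      omega
    obtain ⟨⟨t, htf⟩, hne1⟩ := Fintype.exists_ne_of_one_lt_card hgt ⟨1, hone⟩
    have ht1 : (t : Y) ≠ 1 := by
      intro e
      apply hne1
      apply Subtype.ext
      exact Subtype.ext e
    rw [Function.mem_fixedPoints_iff] at htf
    have htf' : m⁻¹ * (c * (m * (t : Y) * m⁻¹) * c⁻¹) * m = t := congrArg Subtype.val htf
    refine ⟨m * t * m⁻¹, mul_mem (mul_mem hm (h.TM t.2)) (inv_mem hm), ?_, ?_⟩
    · have h6 : c * (m * (t : Y) * m⁻¹) * c⁻¹ = m * t * m⁻¹ := by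
        calc c * (m * (t : Y) * m⁻¹) * c⁻¹
            = m * (m⁻¹ * (c * (m * (t : Y) * m⁻¹) * c⁻¹) * m) * m⁻¹ := by group
          _ = m * t * m⁻¹ := by rw [htf']
      calc c * (m * (t : Y) * m⁻¹) = c * (m * (t : Y) * m⁻¹) * c⁻¹ * c := by group
        _ = _ := by rw [h6]
    · intro e
      apply ht1
      obtain ⟨k, hk⟩ := h.T2 t
      have hk' : (t : Y) ^ 2 ^ k = 1 := by
        have := congrArg Subtype.val hk
        simpa only [_root_.SubmonoidClass.coe_pow, _root_.OneMemClass.coe_one] using this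
      have h7 : m * (t : Y) * m⁻¹ ∈ T := by
        refine h.sylow _ (mul_mem (mul_mem hm (h.TM t.2)) (inv_mem hm)) e k ?_
        rw [conj_pow, hk']; group
      have h8 : m * (t : Y) * m⁻¹ = 1 := by
        refine h.free _ h7 β hβ ?_
        rw [mul_smul, mul_smul, hmβ', h.fixT t t.2, hmβ]
      have h9 : (t : Y) = m⁻¹ * (m * (t : Y) * m⁻¹) * m := by group
      rw [h9, h8]; group
  -- the orbit of `C`
  have hfixC : ∀ g ∈ C, ∀ γ : Ω, c • γ = γ → c • (g • γ) = g • γ := by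
    intro g hg γ hγ
    have h1 := hmemc.1 hg.2
    rw [← mul_smul, h1, mul_smul, hγ]
  have htc : ∀ t ∈ T, ∀ γ : Ω, γ ≠ α → c • γ = γ → c • (t • γ) = t • γ → t ∈ Tc := by
    intro t ht γ hγα hγ htγ
    refine ⟨ht, hmemc.2 ?_⟩
    have hci : c⁻¹ • γ = γ := by rw [inv_smul_eq_iff]; exact hγ.symm
    have h1 : (t⁻¹ * (c * t * c⁻¹)) • γ = γ := by
      rw [mul_smul, inv_smul_eq_iff, mul_smul, mul_smul, hci, htγ]
    have h2 := h.free _ (mul_mem (inv_mem ht) (h.cT t ht)) γ hγα h1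
    have h3 : t = c * t * c⁻¹ := inv_mul_eq_one.1 h2
    calc c * t = c * t * c⁻¹ * c := by group
      _ = t * c := by rw [← h3]
  have horbC : orbit C α = {γ : Ω | c • γ = γ} := by
    ext γ
    constructor
    · rintro ⟨⟨g, hg⟩, rfl⟩
      exact hfixC g hg α h.cfix
    · intro hγ
      have huC : u ∈ C := ⟨huM, hmemc.2 huc⟩
      by_cases hγα : γ = α
      · rw [hγα]; exact mem_orbit_self α
      obtain ⟨t, ht, htγ⟩ := h.trans (u • α) γ huα hγα
      have htTc := htc t ht (u • α) huα (hfixC u huC α h.cfix) (by rw [htγ]; exact hγ)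
      refine ⟨⟨t * u, mul_mem (⟨h.TM ht, htTc.2⟩ : t ∈ C) huC⟩, ?_⟩
      change (t * u) • α = γ
      rw [mul_smul, htγ]
  have hbot : ∀ H : Subgroup Y, H ≤ T → (H ⊓ stabilizer Y β : Subgroup Y) = ⊥ := by
    intro H hH
    rw [eq_bot_iff]
    intro x hx
    rw [mem_bot]
    exact h.free x (hH hx.1) β hβ hx.2
  have hcardTc : Nat.card Tc = (orbit Tc β).ncard := by
    have h1 := card_eq_orbit Tc β
    rw [hbot Tc inf_le_left] at h1
    simpa only [_root_.Subgroup.mem_bot, _root_.Nat.card_eq_fintype_card, _root_.Fintype.card_unique, _root_.mul_one] using h1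
  have hcardT : Nat.card T = (orbit T β).ncard := by
    have h1 := card_eq_orbit T β
    rw [hbot T le_rfl] at h1
    simpa only [_root_.Subgroup.mem_bot, _root_.Nat.card_eq_fintype_card, _root_.Fintype.card_unique, _root_.mul_one] using h1
  have hFix : ({γ : Ω | c • γ = γ} : Set Ω).ncard = 1 + Nat.card Tc := by
    have h1 : ({γ : Ω | c • γ = γ} : Set Ω) = insert α (orbit Tc β) := by
      ext γ
      constructor
      · intro hγ
        by_cases hγα : γ = α
        · left; exact hγα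
        right
        obtain ⟨t, ht, htγ⟩ := h.trans β γ hβ hγα
        have htTc := htc t ht β hβ hcβ (by rw [htγ]; exact hγ)
        exact ⟨⟨t, htTc⟩, htγ⟩
      · rintro (rfl | ⟨⟨t, ht⟩, rfl⟩)
        · exact h.cfix
        · exact hfixC t ⟨h.TM ht.1, ht.2⟩ β hcβ
    have h2 : α ∉ orbit Tc β := by
      rintro ⟨⟨t, ht⟩, htα⟩
      exact hfixne t (h.fixT t ht.1) β hβ htα
    rw [h1, Set.ncard_insert_of_notMem h2 (Set.toFinite _), hcardTc, add_comm]
  have horbne : ∀ H : Subgroup Y, T ≤ H → H ≤ stabilizer Y α → orbit H β = {γ : Ω | γ ≠ α} := by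
    intro H hTH hHα
    ext γ
    constructor
    · rintro ⟨⟨g, hg⟩, rfl⟩
      exact hfixne g (hHα hg) β hβ
    · intro hγ
      obtain ⟨t, ht, htγ⟩ := h.trans β γ hβ hγ
      exact ⟨⟨t, hTH ht⟩, htγ⟩
  have hTα : T ≤ stabilizer Y α := fun t ht => h.fixT t ht
  have hcardMα : Nat.card (M ⊓ stabilizer Y α : Subgroup Y) = Nat.card T * Nat.card K := by
    rw [card_eq_orbit (M ⊓ stabilizer Y α) β, horbne _ (le_inf h.TM hTα) inf_le_right, hcardT,
      horbne T le_rfl hTα]
  have hcardΩ : (orbit M α).ncard = 1 + Nat.card T := by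
    have h1 : orbit M α = insert α {γ : Ω | γ ≠ α} := by
      ext γ
      constructor
      · intro _
        by_cases hγ : γ = α
        · left; exact hγ
        · right; exact hγ
      · intro _
        obtain ⟨m, hm, hmγ⟩ := h.mtrans γ
        exact ⟨⟨m, hm⟩, hmγ⟩
    have h2 : α ∉ {γ : Ω | γ ≠ α} := fun hh => hh rfl
    rw [h1, Set.ncard_insert_of_notMem h2 (Set.toFinite _), hcardT, horbne T le_rfl hTα, add_comm]
  have hcardM : Nat.card M = (1 + Nat.card T) * (Nat.card T * Nat.card K) := by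
    rw [card_eq_orbit M α, hcardΩ, hcardMα]
  have hKodd : Odd (Nat.card K) := by
    rw [← Nat.not_even_iff_odd, even_iff_two_dvd]
    intro h2
    obtain ⟨x, hx⟩ := exists_prime_orderOf_dvd_card' 2 h2
    have hx1 : (x : Y) ≠ 1 := by
      intro e
      have : x = 1 := Subtype.ext e
      rw [this, orderOf_one] at hx
      norm_num at hx
    apply hx1
    have hxT : (x : Y) ∈ T := by
      refine h.sylow _ x.2.1.1 x.2.1.2 1 ?_
      rw [pow_one, ← hx, ← orderOf_coe, pow_orderOf_eq_one]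
    exact h.free _ hxT β hβ x.2.2
  have hTcp : IsPGroup 2 Tc := h.T2.to_le inf_le_left
  have hcop2 : (Nat.card Tc).Coprime (Nat.card K) := by
    obtain ⟨n, hn⟩ := IsPGroup.iff_card.1 hTcp
    rw [hn]
    exact Nat.Coprime.pow_left _ (Nat.coprime_two_left.2 hKodd)
  have hdvd1 : Nat.card Tc * Nat.card K ∣ Nat.card (C ⊓ stabilizer Y α : Subgroup Y) := by
    refine hcop2.mul_dvd_of_dvd_of_dvd (Subgroup.card_dvd_of_le ?_) (Subgroup.card_dvd_of_le ?_)
    · intro x hx
      exact ⟨⟨h.TM hx.1, hx.2⟩, h.fixT x hx.1⟩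
    · intro x hx
      exact ⟨⟨hx.1.1, hmemc.2 (hKc x hx)⟩, hx.1.2⟩
  have hdvd2 : (1 + Nat.card Tc) * (Nat.card Tc * Nat.card K) ∣ Nat.card C := by
    rw [card_eq_orbit C α, horbC, hFix]
    exact mul_dvd_mul_left _ hdvd1
  have hdvd3 : (1 + Nat.card Tc) * (Nat.card Tc * Nat.card K) ∣
      (1 + Nat.card T) * (Nat.card T * Nat.card K) := by
    rw [← hcardM]
    exact hdvd2.trans (Subgroup.card_dvd_of_le inf_le_left)
  -- arithmetic
  have hKpos : 0 < Nat.card K := Nat.card_pos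
  have hepos : 0 < Nat.card Tc := Nat.card_pos
  have hqpos : 0 < Nat.card B := Nat.card_pos
  have hsq := h.sq
  have hB4 := h.B4
  obtain ⟨a, ha⟩ := IsPGroup.iff_card.1 hTcp
  obtain ⟨b, hb⟩ := IsPGroup.iff_card.1 (h.T2.to_le h.BT)
  generalize Nat.card Tc = e at *
  generalize Nat.card B = q at *
  generalize Nat.card K = k at *
  rw [hcT] at hdvd3 hsq
  have hle : q ≤ e := by
    by_contra hlt
    push Not at hlt
    nlinarith only [hsq, hlt]
  have h1 : (1 + e) * (e * k) = (1 + e) * (e * k) := rfl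
  have h2 : (1 + e) ∣ (1 + e * q) * q := by
    have h3 : (1 + e * q) * (e * q * k) = ((1 + e * q) * q) * (e * k) := by ring
    rw [h3] at hdvd3
    exact Nat.dvd_of_mul_dvd_mul_right (Nat.mul_pos hepos hKpos) hdvd3
  have hfq : (1 + e).Coprime q := by
    rw [hb]
    refine Nat.Coprime.pow_right _ ?_
    rw [Nat.coprime_two_right]
    rw [ha]
    rcases a with _ | a
    · rw [pow_zero] at ha
      omega
    · rw [pow_succ]
      exact ⟨2 ^ a, by ring⟩
  have h4 : (1 + e) ∣ 1 + e * q := hfq.dvd_of_dvd_mul_right h2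
  have h5 : (1 + e) ∣ q - 1 := by
    have h6 : (1 + e) * q = (1 + e * q) + (q - 1) := by
      have : 1 ≤ q := hqpos
      zify [this]
      ring
    have h7 : (1 + e) ∣ (1 + e) * q := dvd_mul_right _ _
    rw [h6] at h7
    exact (Nat.dvd_add_right h4).1 h7
  have h8 := Nat.le_of_dvd (by omega) h5
  omega

end Design

end Cfsg.Agent.TwoFusion.GoldDesign
end

-- part: TwoFusion/GoldAS
section
/-!
# Elementary closed families in almost simple groups

If `M` is a normal simple subgroup of `Y` with `C_Y(M) = 1`, `𝒜` is an elementary closed family of `Y` which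
meets `M` non-trivially and (T) holds for `M`, then `𝒜` is contained in `M`.
-/

set_option autoImplicit false
set_option linter.style.haveILetI false

namespace Cfsg.Agent.TwoFusion.GoldAS

open Subgroup
open Cfsg.Agent.TwoFusion.ClosedFam Cfsg.Agent.TwoFusion.Gold

/-- A group `J` of odd order acting on an elementary abelian 2-group `A`, trivially on `A/B`:
`A = B C_A(J)`. -/
theorem exists_fixed_mul {Y : Type*} [Group Y] [Finite Y] (A B J : Subgroup Y)
    (hcomm : ∀ a ∈ A, ∀ b ∈ A, a * b = b * a) (hsq : ∀ a ∈ A, a * a = 1)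
    (hJA : J ≤ normalizer (A : Set Y)) (hJ : Odd (Nat.card J)) (hBA : B ≤ A)
    (hB : ∀ a ∈ A, ∀ j ∈ J, j * a * j⁻¹ * a⁻¹ ∈ B) {a : Y} (ha : a ∈ A) :
    ∃ b ∈ B, ∃ c ∈ A, (∀ j ∈ J, j * c = c * j) ∧ a = b * c := by
  classical
  letI : CommGroup A := { (inferInstance : Group A) with
    mul_comm := fun x y => Subtype.ext (hcomm x x.2 y y.2) }
  letI : Fintype J := Fintype.ofFinite J
  have hconj : ∀ j : J, ∀ x ∈ A, (j : Y) * x * (j : Y)⁻¹ ∈ A := fun j x hx =>
    (mem_normalizer_iff.1 (hJA j.2) x).1 hx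
  let f : J → A := fun j => ⟨(j : Y) * a * (j : Y)⁻¹, hconj j a ha⟩
  let c : A := ∏ j : J, f j
  let cj : J → (A →* A) := fun j =>
    { toFun := fun x => ⟨(j : Y) * x * (j : Y)⁻¹, hconj j x x.2⟩
      map_one' := by apply Subtype.ext; simp
      map_mul' := by
        intro x y
        apply Subtype.ext
        simp only [coe_mul]
        group }
  have hfix : ∀ j : J, cj j c = c := by
    intro j
    rw [map_prod]
    refine Fintype.prod_equiv (Equiv.mulLeft j) _ _ ?_
    intro i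
    apply Subtype.ext
    change (j : Y) * ((i : Y) * a * (i : Y)⁻¹) * (j : Y)⁻¹ = ((j * i : J) : Y) * a * ((j * i : J) : Y)⁻¹
    rw [coe_mul]; group
  have hcJ : ∀ j ∈ J, j * (c : Y) = c * j := by
    intro j hj
    have h1 : j * (c : Y) * j⁻¹ = c := congrArg Subtype.val (hfix ⟨j, hj⟩)
    calc j * (c : Y) = j * c * j⁻¹ * j := by group
      _ = c * j := by rw [h1]
  -- `c ≡ a` modulo `B`
  have h2 : c = (∏ j : J, (f j * (⟨a, ha⟩ : A)⁻¹)) * (⟨a, ha⟩ : A) ^ Fintype.card J := by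
    rw [Finset.prod_mul_distrib, Finset.prod_const, Finset.card_univ, inv_pow, inv_mul_cancel_right]
  have h3 : (⟨a, ha⟩ : A) ^ Fintype.card J = ⟨a, ha⟩ := by
    rw [← Nat.card_eq_fintype_card]
    obtain ⟨n, hn⟩ := hJ
    rw [hn, pow_add, pow_mul, pow_one]
    have h4 : (⟨a, ha⟩ : A) ^ 2 = 1 := by
      rw [pow_two]; exact Subtype.ext (hsq a ha)
    rw [h4, one_pow, one_mul]
  have h5 : (∏ j : J, (f j * (⟨a, ha⟩ : A)⁻¹)) ∈ B.subgroupOf A := by
    refine Subgroup.prod_mem _ ?_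
    intro j _
    rw [mem_subgroupOf]
    exact hB a ha j j.2
  set b : A := ∏ j : J, (f j * (⟨a, ha⟩ : A)⁻¹) with hb
  rw [h3] at h2
  have h6 : (⟨a, ha⟩ : A) = b⁻¹ * c := by rw [h2]; group
  refine ⟨(b⁻¹ : A), ?_, c, c.2, hcJ, congrArg Subtype.val h6⟩
  exact inv_mem (mem_subgroupOf.1 h5)

section Main

variable {Y : Type*} [Group Y] [Finite Y] {𝒜 : Set Y}

theorem not_comm_of_centralizer {M : Subgroup Y} (hM : IsSimpleGroup M)
    (hMC : centralizer (M : Set Y) = ⊥) : ¬ ∀ x ∈ M, ∀ y ∈ M, x * y = y * x := by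
  intro hc
  haveI := hM
  obtain ⟨x, hx⟩ := exists_ne (1 : M)
  have h1 : (x : Y) ∈ centralizer (M : Set Y) := by
    rw [mem_centralizer_iff]
    intro y hy
    exact hc y hy x x.2
  rw [hMC, mem_bot] at h1
  exact hx (Subtype.ext h1)

/-- A simple normal subgroup meets a normal subgroup `N` either trivially or is contained in it. -/
theorem inf_eq_bot_or_le {M : Subgroup Y} (hM : IsSimpleGroup M) {N : Subgroup Y} (hN : N.Normal) :
    N ⊓ M = ⊥ ∨ M ≤ N := by
  haveI := hM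
  have h1 : (N.subgroupOf M).Normal := hN.subgroupOf M
  rcases IsSimpleGroup.eq_bot_or_eq_top_of_normal _ h1 with h2 | h2
  · left
    rw [eq_bot_iff]
    intro x hx
    have h3 : (⟨x, hx.2⟩ : M) ∈ N.subgroupOf M := mem_subgroupOf.2 hx.1
    rw [h2, mem_bot] at h3
    exact congrArg Subtype.val h3
  · right
    exact subgroupOf_eq_top.1 h2

/-- An odd normal subgroup is trivial. -/
theorem odd_normal_eq_bot {M : Subgroup Y} [hMn : M.Normal] (hM : IsSimpleGroup M)
    (hMC : centralizer (M : Set Y) = ⊥) (hev : Even (Nat.card M)) {N : Subgroup Y} (hN : N.Normal)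
    (hodd : Odd (Nat.card N)) : N = ⊥ := by
  rcases inf_eq_bot_or_le hM hN with h1 | h1
  · rw [eq_bot_iff, ← hMC]
    intro n hn
    rw [mem_centralizer_iff]
    intro m hm
    have h2 : m * n * m⁻¹ * n⁻¹ ∈ N ⊓ M := by
      refine mem_inf.2 ⟨mul_mem (hN.conj_mem n hn m) (inv_mem hn), ?_⟩
      have e : m * n * m⁻¹ * n⁻¹ = m * (n * m⁻¹ * n⁻¹) := by group
      rw [e]
      exact mul_mem hm (hMn.conj_mem _ (inv_mem hm) n)
    rw [h1, mem_bot] at h2
    calc m * n = (m * n * m⁻¹ * n⁻¹) * (n * m) := by group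
      _ = n * m := by rw [h2, one_mul]
  · exfalso
    have h2 := Subgroup.card_dvd_of_le h1
    have h3 : 2 ∣ Nat.card N := (even_iff_two_dvd.1 hev).trans h2
    rw [← Nat.not_even_iff_odd] at hodd
    exact hodd (even_iff_two_dvd.2 h3)

omit [Finite Y] in
theorem even_card_of_mem (h : IsElemFam 𝒜) {M : Subgroup Y} (hx : ∃ x ∈ 𝒜, x ∈ M ∧ x ≠ 1) :
    Even (Nat.card M) := by
  obtain ⟨x, hxA, hxM, hx1⟩ := hx
  have h1 : orderOf (⟨x, hxM⟩ : M) = 2 := by
    rw [← orderOf_coe]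
    exact h.orderOf_eq hxA hx1
  rw [even_iff_two_dvd, ← h1]
  exact _root_.orderOf_dvd_natCard _

/-- The Sylow 2-subgroups of a normal subgroup `M`, as points of a `Y`-set. -/
structure Pt (M : Subgroup Y) where
  /-- the Sylow subgroup -/
  syl : Sylow 2 M

omit [Finite Y] in
theorem Pt.ext' {M : Subgroup Y} {Q R : Pt M} (h : Q.syl = R.syl) : Q = R := by
  cases Q; cases R; simp only at h; rw [h]

/-- The action of `Y` on the Sylow 2-subgroups of a normal subgroup. -/
noncomputable instance instAct (M : Subgroup Y) [M.Normal] : MulAction Y (Pt M) where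
  smul y Q := ⟨MulAut.conjNormal (H := M) y • Q.syl⟩
  one_smul Q := by
    apply Pt.ext'
    change MulAut.conjNormal (H := M) 1 • Q.syl = Q.syl
    rw [map_one, one_smul]
  mul_smul x y Q := by
    apply Pt.ext'
    change MulAut.conjNormal (H := M) (x * y) • Q.syl = MulAut.conjNormal x • (MulAut.conjNormal y • Q.syl)
    rw [map_mul, mul_smul]

instance instFinite (M : Subgroup Y) : Finite (Pt M) :=
  Finite.of_injective (fun Q : Pt M => Q.syl) (fun _ _ h => Pt.ext' h)

omit [Finite Y] in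
theorem card_pt (M : Subgroup Y) : Nat.card (Pt M) = Nat.card (Sylow 2 M) :=
  Nat.card_congr ⟨fun Q => Q.syl, fun Q => ⟨Q⟩, fun _ => rfl, fun _ => rfl⟩

omit [Finite Y] in
theorem act_mem {M : Subgroup Y} [M.Normal] (y : Y) (Q : Pt M) (x : M) :
    x ∈ (y • Q).syl ↔ (MulAut.conjNormal y)⁻¹ x ∈ Q.syl := by
  change x ∈ ((MulAut.conjNormal (H := M) y • Q.syl : Sylow 2 M) : Subgroup M) ↔ _
  rw [Sylow.pointwise_smul_def, Subgroup.mem_pointwise_smul_iff_inv_smul_mem]
  rfl

omit [Finite Y] in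
theorem act_coe {M : Subgroup Y} [M.Normal] (m : M) (Q : Pt M) :
    ((m : Y) • Q).syl = m • Q.syl := by
  change (MulAut.conjNormal (H := M) (m : Y) • Q.syl : Sylow 2 M) = m • Q.syl
  rw [MulAut.conjNormal_val]
  rfl

/-- The core of the argument, `Y = M⟨b⟩`. -/
theorem mem_aux (h : IsElemFam 𝒜) {M : Subgroup Y} [hMn : M.Normal] (hM : IsSimpleGroup M)
    (hMC : centralizer (M : Set Y) = ⊥) (hT : TCon M) (hx : ∃ x ∈ 𝒜, x ∈ M ∧ x ≠ 1) {b : Y} (hb : b ∈ 𝒜)
    (htop : M ⊔ zpowers b = ⊤) : b ∈ M := by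
  classical
  haveI : Fact (Nat.Prime 2) := ⟨Nat.prime_two⟩
  haveI := hM
  by_contra hbM
  have hnc := not_comm_of_centralizer hM hMC
  have hev := even_card_of_mem h hx
  obtain ⟨P, hP⟩ := (h.toIsClosedFam.isPGroup_zpowers hb).exists_le_sylow
  have hbP : b ∈ (P : Subgroup Y) := hP (mem_zpowers b)
  set A := fam 𝒜 (P : Subgroup Y) with hA
  have hAmem : ∀ {x : Y}, x ∈ A ↔ x ∈ 𝒜 ∧ x ∈ (P : Subgroup Y) := fun {x} =>
    h.toIsClosedFam.mem_fam_iff P.2
  have hbA : b ∈ A := hAmem.2 ⟨hb, hbP⟩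
  have hAcomm : ∀ x ∈ A, ∀ y ∈ A, x * y = y * x := by
    intro x hx y hy
    rw [hAmem] at hx hy
    exact h.comm P.2 hx.1 hx.2 hy.1 hy.2
  have hAsq : ∀ x ∈ A, x * x = 1 := fun x hx => h.sq x (hAmem.1 hx).1
  have hPA : ∀ p ∈ (P : Subgroup Y), ∀ a ∈ A, p * a * p⁻¹ ∈ A := by
    intro p hp a ha
    exact (mem_normalizer_iff.1 (h.toIsClosedFam.le_normalizer_fam (P : Subgroup Y) hp) a).1 ha
  -- the Sylow subgroup of `M`
  obtain ⟨P0, hP0⟩ : ∃ P0 : Sylow 2 M, (P0 : Subgroup M) = (P : Subgroup Y).subgroupOf M :=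
    ⟨(Cfsg.Agent.Lib.SylowNormalInf.isPGroup_subgroupOf P M).toSylow
      (Cfsg.Agent.Lib.SylowNormalInf.not_dvd_relIndex P M), IsPGroup.toSylow_coe _ _⟩
  have hP0mem : ∀ m : M, m ∈ P0 ↔ (m : Y) ∈ (P : Subgroup Y) := by
    intro m
    change m ∈ (P0 : Subgroup M) ↔ _
    rw [hP0, mem_subgroupOf]
  set T : Subgroup Y := (P : Subgroup Y) ⊓ M with hTdef
  set B : Subgroup Y := A ⊓ M with hBdef
  have hTp : IsPGroup 2 T := P.2.to_le inf_le_left
  have hBT : B ≤ T := fun x hx => ⟨(hAmem.1 hx.1).2, hx.2⟩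
  have hBA : B ≤ A := inf_le_left
  -- all involutions of `M` lie in the family
  have hinvM : ∀ t ∈ M, t * t = 1 → t ∈ 𝒜 := by
    intro t ht htt
    by_cases ht1 : t = 1
    · rw [ht1]; exact h.one_mem
    obtain ⟨x, hxA, hxM, hx1⟩ := hx
    have o1 : orderOf (⟨x, hxM⟩ : M) = 2 := by
      rw [← orderOf_coe]
      exact h.orderOf_eq hxA hx1
    have o2 : orderOf (⟨t, ht⟩ : M) = 2 := by
      rw [← orderOf_coe]
      exact orderOf_eq_prime (by rw [pow_two]; exact htt) ht1
    obtain ⟨g, hg⟩ := hT.conj _ _ o1 o2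
    have hg' : (g : Y) * x * (g : Y)⁻¹ = t := congrArg Subtype.val hg
    rw [← hg']
    exact h.conj_mem x hxA g
  have hBsq' : ∀ t ∈ T, t * t = 1 → t ∈ B := fun t ht htt =>
    ⟨hAmem.2 ⟨hinvM t ht.2 htt, ht.1⟩, ht.2⟩
  have hBsq : ∀ t ∈ B, t * t = 1 := fun t ht => hAsq t ht.1
  have hBcent : ∀ x ∈ B, ∀ t ∈ T, x * t = t * x := by
    intro x hx t ht
    have h1 := hT.central P0 ⟨x, hx.2⟩ ((hP0mem _).2 (hBT hx).1) (Subtype.ext (hBsq x hx)) ⟨t, ht.2⟩
      ((hP0mem _).2 ht.1)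
    exact (congrArg Subtype.val h1).symm
  have hAT : ∀ a ∈ A, ∀ t ∈ T, t⁻¹ * (a * t * a⁻¹) ∈ B := by
    intro a ha t ht
    rw [hTdef, mem_inf] at ht
    rw [hBdef, mem_inf]
    refine ⟨?_, ?_⟩
    · have h1 := hPA t⁻¹ (inv_mem ht.1) a ha
      rw [inv_inv] at h1
      have e : t⁻¹ * (a * t * a⁻¹) = (t⁻¹ * a * t) * a⁻¹ := by group
      rw [e]
      exact mul_mem h1 (inv_mem ha)
    · exact mul_mem (inv_mem ht.2) (hMn.conj_mem t ht.2 a)
  set N : Subgroup Y := M ⊓ normalizer (A : Set Y) with hN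
  have hTN : T ≤ N := by
    intro t ht
    refine ⟨ht.2, ?_⟩
    exact h.toIsClosedFam.le_normalizer_fam (P : Subgroup Y) ht.1
  have hNB : ∀ n ∈ N, ∀ x ∈ B, n * x * n⁻¹ ∈ B := by
    intro n hn x hx
    exact ⟨(mem_normalizer_iff.1 hn.2 x).1 hx.1, hMn.conj_mem x hx.2 n⟩
  -- `B` is not trivial
  obtain ⟨s, hsB, hs1⟩ : ∃ s ∈ B, s ≠ 1 := by
    obtain ⟨x, hxA, hxM, hx1⟩ := hx
    obtain ⟨Q, hQ⟩ := (h.toIsClosedFam.isPGroup_zpowers hxA).exists_le_sylow
    obtain ⟨g, hg⟩ := MulAction.exists_smul_eq Y Q P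
    refine ⟨g * x * g⁻¹, ⟨hAmem.2 ⟨h.conj_mem x hxA g, ?_⟩, hMn.conj_mem x hxM g⟩, ?_⟩
    · rw [← hg]
      exact ⟨x, hQ (mem_zpowers x), rfl⟩
    · intro e
      apply hx1
      have : x = g⁻¹ * (g * x * g⁻¹) * g := by group
      rw [this, e]; group
  have hNtrans : ∀ x ∈ B, x ≠ 1 → ∀ y ∈ B, y ≠ 1 → ∃ n ∈ N, n * x * n⁻¹ = y := by
    intro x hx hx1 y hy hy1
    have o1 : orderOf (⟨x, hx.2⟩ : M) = 2 := by
      rw [← orderOf_coe]
      exact orderOf_eq_prime (by rw [pow_two]; exact hBsq x hx) hx1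
    have o2 : orderOf (⟨y, hy.2⟩ : M) = 2 := by
      rw [← orderOf_coe]
      exact orderOf_eq_prime (by rw [pow_two]; exact hBsq y hy) hy1
    obtain ⟨g, hg⟩ := hT.conj _ _ o1 o2
    have hg' : (g : Y) * x * (g : Y)⁻¹ = y := congrArg Subtype.val hg
    obtain ⟨n, hnM, hnA, hn⟩ := exists_normalizing h P (L := M) (by
      intro a _
      rw [normalizer_eq_top]; exact mem_top a) (hAmem.1 hx.1).1 (hAmem.1 hx.1).2 g.2 (by
        rw [hg']; exact (hAmem.1 hy.1).2)
    exact ⟨n, ⟨hnM, hnA⟩, by rw [hn, hg']⟩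
  have hNT : ∀ n ∈ N, ∀ t ∈ T, n * t * n⁻¹ ∈ T := by
    intro n hn t ht
    rcases hT.alt with hel | hBP
    · have h1 : t * t = 1 := congrArg Subtype.val (hel P0 ⟨t, ht.2⟩ ((hP0mem _).2 ht.1))
      exact hBT (hNB n hn t (hBsq' t ht h1))
    · have h1 : (⟨n, hn.1⟩ : M) • P0 = P0 := by
        by_contra hne
        have h2 := hBP.ti _ _ hne
        have h3 : (⟨s, hsB.2⟩ : M) ∈ (((⟨n, hn.1⟩ : M) • P0 : Sylow 2 M) : Subgroup M) ⊓ P0 := by
          refine ⟨?_, ?_⟩
          · have h4 : n⁻¹ * s * n ∈ B := by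
              have := hNB n⁻¹ (inv_mem hn) s hsB
              rwa [inv_inv] at this
            refine ⟨(⟨n, hn.1⟩ : M)⁻¹ * ⟨s, hsB.2⟩ * ⟨n, hn.1⟩, ?_, ?_⟩
            · exact (hP0mem _).2 (hBT h4).1
            · apply Subtype.ext
              change n * (n⁻¹ * s * n) * n⁻¹ = s
              group
          · exact (hP0mem _).2 (hBT hsB).1
        rw [h2, mem_bot] at h3
        exact hs1 (congrArg Subtype.val h3)
      have h1' : (⟨n, hn.1⟩ : M) ∈ normalizer ((P0 : Subgroup M) : Set M) :=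
        Sylow.smul_eq_iff_mem_normalizer.1 h1
      rw [mem_normalizer_iff] at h1'
      have h2 := (h1' ⟨t, ht.2⟩).1 ((hP0mem _).2 ht.1)
      exact ⟨(hP0mem _).1 h2, hMn.conj_mem t ht.2 n⟩
  -- `|B| ≥ 4`
  have hB4 : 4 ≤ Nat.card B := by
    obtain ⟨k, hk⟩ := IsPGroup.iff_card.1 (hTp.to_le hBT)
    rcases k with _ | _ | k
    · exfalso
      rw [pow_zero, Subgroup.card_eq_one] at hk
      rw [hk, mem_bot] at hsB
      exact hs1 hsB
    · exfalso
      have h2 : ∀ y ∈ B, y ≠ 1 → y = s := by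
        intro y hy hy1
        rw [zero_add, pow_one, Nat.card_eq_two_iff' (⟨1, one_mem _⟩ : B)] at hk
        obtain ⟨u, -, hu⟩ := hk
        have e1 := hu ⟨y, hy⟩ (fun e => hy1 (congrArg Subtype.val e))
        have e2 := hu ⟨s, hsB⟩ (fun e => hs1 (congrArg Subtype.val e))
        exact congrArg Subtype.val (e1.trans e2.symm)
      have o1 : orderOf (⟨s, hsB.2⟩ : M) = 2 := by
        rw [← orderOf_coe]
        exact orderOf_eq_prime (by rw [pow_two]; exact hBsq s hsB) hs1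
      obtain ⟨N0, hN0, hN0odd, hcom⟩ := Cfsg.Agent.S0215.result P0 ⟨s, hsB.2⟩ o1
        ((hP0mem _).2 (hBT hsB).1) (by
          intro g hg
          apply Subtype.ext
          refine h2 _ (hBsq' _ ⟨(hP0mem _).1 hg, SetLike.coe_mem _⟩ ?_) ?_
          · change (g : Y) * s * (g : Y)⁻¹ * ((g : Y) * s * (g : Y)⁻¹) = 1
            calc (g : Y) * s * (g : Y)⁻¹ * ((g : Y) * s * (g : Y)⁻¹) = (g : Y) * (s * s) * (g : Y)⁻¹ := by
                  group
              _ = 1 := by rw [hBsq s hsB]; group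
          · intro e
            change (g : Y) * s * (g : Y)⁻¹ = 1 at e
            apply hs1
            have : s = (g : Y)⁻¹ * ((g : Y) * s * (g : Y)⁻¹) * g := by group
            rw [this, e]; group)
      rcases IsSimpleGroup.eq_bot_or_eq_top_of_normal N0 hN0 with h3 | h3
      · rw [h3] at hcom
        have h4 : s ∈ centralizer (M : Set Y) := by
          rw [mem_centralizer_iff]
          intro m hm
          have h5 := hcom ⟨m, hm⟩
          rw [mem_bot] at h5
          have h6 : s * m * s⁻¹ * m⁻¹ = 1 := congrArg Subtype.val h5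
          calc m * s = (s * m * s⁻¹ * m⁻¹) * (m * s) := by rw [h6, one_mul]
            _ = s * m := by group
        rw [hMC, mem_bot] at h4
        exact hs1 h4
      · rw [h3] at hN0odd
        rw [← Nat.not_even_iff_odd] at hN0odd
        apply hN0odd
        rw [Subgroup.card_top]
        exact hev
    · rw [hk]
      calc 4 = 2 ^ 2 := by norm_num
        _ ≤ 2 ^ (k + 1 + 1) := Nat.pow_le_pow_right (by norm_num) (by omega)
  -- the complement `J`
  haveI hT'n : (T.subgroupOf N).Normal := by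
    refine ⟨fun x hx g => ?_⟩
    rw [mem_subgroupOf] at hx ⊢
    exact hNT g g.2 x hx
  have hrel : ¬ 2 ∣ T.relIndex N := by
    intro h2
    have h3 : ¬ 2 ∣ (P : Subgroup Y).relIndex M := Cfsg.Agent.Lib.SylowNormalInf.not_dvd_relIndex P M
    apply h3
    rw [← inf_relIndex_right, ← relIndex_mul_relIndex T N M hTN inf_le_left]
    exact Dvd.dvd.mul_right h2 _
  have hcop : (Nat.card (T.subgroupOf N)).Coprime (T.subgroupOf N).index := by
    have h2 : IsPGroup 2 (T.subgroupOf N) := hTp.comap_of_injective N.subtype N.subtype_injective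
    obtain ⟨k, hk⟩ := IsPGroup.iff_card.1 h2
    rw [hk]
    refine Nat.Coprime.pow_left _ ?_
    exact (Nat.Prime.coprime_iff_not_dvd Nat.prime_two).2 hrel
  obtain ⟨J', hJ'⟩ := exists_right_complement'_of_coprime hcop
  set J : Subgroup Y := J'.map N.subtype with hJdef
  have hJN : J ≤ N := map_subtype_le _
  have hJodd : Odd (Nat.card J) := by
    have h2 : Nat.card J = Nat.card J' :=
      (Nat.card_congr (J'.equivMapOfInjective _ N.subtype_injective).toEquiv).symm
    rw [h2, ← Nat.not_even_iff_odd, even_iff_two_dvd]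
    have h3 : Nat.card J' = (T.subgroupOf N).index := hJ'.symm.index_eq_card.symm
    rw [h3]
    exact hrel
  have hNprod : ∀ n ∈ N, ∃ t ∈ T, ∃ j ∈ J, n = t * j := by
    intro n hn
    have h2 := hJ'.sup_eq_top
    have h3 : (⟨n, hn⟩ : N) ∈ T.subgroupOf N ⊔ J' := by rw [h2]; exact mem_top _
    obtain ⟨t, ht, j, hj, htj⟩ := mem_sup_of_normal_left.1 h3
    exact ⟨t, mem_subgroupOf.1 ht, j, ⟨j, hj, rfl⟩, (congrArg Subtype.val htj).symm⟩
  have hJtrans : ∀ x ∈ B, x ≠ 1 → ∀ y ∈ B, y ≠ 1 → ∃ j ∈ J, j * x * j⁻¹ = y := by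
    intro x hx hx1 y hy hy1
    obtain ⟨n, hn, hnx⟩ := hNtrans x hx hx1 y hy hy1
    obtain ⟨t, ht, j, hj, rfl⟩ := hNprod n hn
    refine ⟨j, hj, ?_⟩
    have h2 : j * x * j⁻¹ ∈ B := hNB j (hJN hj) x hx
    have h3 := hBcent _ h2 _ ht
    calc j * x * j⁻¹ = (j * x * j⁻¹) * t * t⁻¹ := by group
      _ = t * (j * x * j⁻¹) * t⁻¹ := by rw [h3]
      _ = t * j * x * (t * j)⁻¹ := by group
      _ = y := hnx
  -- the element `c`
  obtain ⟨b0, hb0, c, hcA, hcJ, hbc⟩ := exists_fixed_mul A B J hAcomm hAsq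
    (fun j hj => (hJN hj).2) hJodd hBA (by
      intro a ha j hj
      rw [hBdef, mem_inf]
      refine ⟨?_, ?_⟩
      · exact mul_mem ((mem_normalizer_iff.1 (hJN hj).2 a).1 ha) (inv_mem ha)
      · have e : j * a * j⁻¹ * a⁻¹ = j * (a * j⁻¹ * a⁻¹) := by group
        rw [e]
        exact mul_mem (hJN hj).1 (hMn.conj_mem _ (inv_mem (hJN hj).1) a)) hbA
  have hcM : c ∉ M := by
    intro hcM
    apply hbM
    rw [hbc]
    exact mul_mem hb0.2 hcM
  have hc𝒜 : c ∈ 𝒜 := (hAmem.1 hcA).1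
  have hcP : c ∈ (P : Subgroup Y) := (hAmem.1 hcA).2
  have hc1 : c ≠ 1 := by
    rintro rfl
    exact hcM (one_mem _)
  by_cases hcT : ∀ t ∈ T, c * t = t * c
  · -- `c` is isolated
    obtain ⟨N0, hN0, hN0odd, hcom⟩ := Cfsg.Agent.S0215.result P c (h.orderOf_eq hc𝒜 hc1) hcP (by
      intro g hg
      obtain ⟨n, -, hnA, hn⟩ := exists_normalizing h P (L := ⊤) (by
        intro a _
        rw [normalizer_eq_top]; exact mem_top a) hc𝒜 hcP (mem_top g) hg
      rw [← hn]
      have h2 : n ∈ M ⊔ zpowers b := by rw [htop]; exact mem_top n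
      obtain ⟨m, hm, z, hz, rfl⟩ := mem_sup_of_normal_left.1 h2
      have hzA : z ∈ A := (zpowers_le.2 hbA) hz
      have hmN : m ∈ N := by
        rw [hN, mem_inf]
        refine ⟨hm, ?_⟩
        have h3 : m = m * z * z⁻¹ := by group
        rw [h3]
        exact mul_mem hnA (le_normalizer (inv_mem hzA))
      obtain ⟨t, ht, j, hj, rfl⟩ := hNprod m hmN
      have h4 : z * c = c * z := hAcomm z hzA c hcA
      have h5 := hcJ j hj
      have h6 := hcT t ht
      calc t * j * z * c * (t * j * z)⁻¹ = t * j * (z * c) * z⁻¹ * j⁻¹ * t⁻¹ := by group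
        _ = t * (j * c) * j⁻¹ * t⁻¹ := by rw [h4]; group
        _ = (t * c) * t⁻¹ := by rw [h5]; group
        _ = c := by rw [← h6]; group)
    have h2 := odd_normal_eq_bot hM hMC hev hN0 hN0odd
    rw [h2] at hcom
    apply hc1
    have h4 : c ∈ centralizer (M : Set Y) := by
      rw [mem_centralizer_iff]
      intro m _
      have h6 := hcom m
      rw [mem_bot] at h6
      calc m * c = (c * m * c⁻¹ * m⁻¹) * (m * c) := by rw [h6, one_mul]
        _ = c * m := by group
    rw [hMC, mem_bot] at h4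
    exact h4
  · -- Bender type
    push Not at hcT
    have hBP : BenPack M := by
      rcases hT.alt with hel | hBP
      · exfalso
        obtain ⟨t, ht, hne⟩ := hcT
        apply hne
        have h1 : t * t = 1 := congrArg Subtype.val (hel P0 ⟨t, ht.2⟩ ((hP0mem _).2 ht.1))
        exact hAcomm c hcA t (hBsq' t ht h1).1
      · exact hBP
    have hact : ∀ (m : M) (Q : Pt M), ((m : Y) • Q).syl = m • Q.syl := act_coe
    have hmemN : ∀ (m : M) (Q : Pt M),
        (m : Y) • Q = Q ↔ m ∈ normalizer ((Q.syl : Subgroup M) : Set M) := by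
      intro m Q
      have h1 : m • Q.syl = Q.syl ↔ m ∈ normalizer ((Q.syl : Subgroup M) : Set M) :=
        Sylow.smul_eq_iff_mem_normalizer
      rw [← h1, ← hact]
      exact ⟨fun e => by rw [e], fun e => Pt.ext' e⟩
    -- 2-elements normalizing a Sylow subgroup lie in it
    have hsyl : ∀ (m : M) (Q : Pt M), (m : Y) • Q = Q → ∀ k : ℕ, m ^ 2 ^ k = 1 → m ∈ Q.syl := by
      intro m Q hm k hk
      have h1 : IsPGroup 2 (zpowers m) := by
        rintro ⟨y, hy⟩
        obtain ⟨n, rfl⟩ := mem_zpowers_iff.1 hy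
        refine ⟨k, Subtype.ext ?_⟩
        simp only [SubmonoidClass.mk_pow, OneMemClass.coe_one]
        rw [← zpow_natCast, ← zpow_mul, mul_comm, zpow_mul, zpow_natCast, hk, one_zpow]
      have h2 := h1.inf_normalizer_sylow Q.syl
      have h3 : m ∈ zpowers m ⊓ normalizer (Q.syl : Set M) :=
        mem_inf.2 ⟨mem_zpowers m, (hmemN m Q).1 hm⟩
      rw [h2, mem_inf] at h3
      exact h3.2
    have hTel : ∀ t ∈ T, ∃ k : ℕ, t ^ 2 ^ k = 1 := by
      intro t ht
      obtain ⟨k, hk⟩ := hTp ⟨t, ht⟩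
      exact ⟨k, by have := congrArg Subtype.val hk; simpa only [_root_.SubmonoidClass.mk_pow, _root_.OneMemClass.coe_one] using this⟩
    set α : Pt M := ⟨P0⟩ with hα
    have hαmem : ∀ m : M, m ∈ α.syl ↔ (m : Y) ∈ (P : Subgroup Y) := hP0mem
    have hfixT : ∀ t ∈ T, t • α = α := by
      intro t ht
      have h1 := (hmemN ⟨t, ht.2⟩ α).2 (le_normalizer ((hαmem _).2 ht.1))
      exact h1
    have hfree : ∀ t ∈ T, ∀ Q : Pt M, Q ≠ α → t • Q = Q → t = 1 := by
      intro t ht Q hQ hfix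
      obtain ⟨k, hk⟩ := hTel t ht
      have h1 : (⟨t, ht.2⟩ : M) ∈ Q.syl := hsyl ⟨t, ht.2⟩ Q hfix k (Subtype.ext (by simpa using hk))
      have h2 := hBP.ti Q.syl α.syl (fun e => hQ (Pt.ext' e))
      have h3 : (⟨t, ht.2⟩ : M) ∈ (Q.syl : Subgroup M) ⊓ α.syl := mem_inf.2 ⟨h1, (hαmem _).2 ht.1⟩
      rw [h2, mem_bot] at h3
      exact congrArg Subtype.val h3
    have hcardT : Nat.card T = Nat.card P0 := by
      refine Nat.card_congr ⟨fun t => ⟨⟨t.1, t.2.2⟩, (hP0mem _).2 t.2.1⟩,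
        fun t => ⟨t.1.1, (hP0mem _).1 t.2, t.1.2⟩, fun t => rfl, fun t => rfl⟩
    have hTpos : 1 < Nat.card T := by
      have h1 := Subgroup.card_le_of_le hBT
      omega
    have hcardΩ : Nat.card (Pt M) = 1 + Nat.card T := by rw [card_pt, hcardT]; exact hBP.card P0
    have htrans : ∀ Q R : Pt M, Q ≠ α → R ≠ α → ∃ t ∈ T, t • Q = R := by
      intro Q R hQ hR
      have h1 := GoldDesign.card_eq_orbit T Q
      have h2 : (T ⊓ MulAction.stabilizer Y Q : Subgroup Y) = ⊥ := by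
        rw [eq_bot_iff]
        intro x hx
        rw [mem_bot]
        exact hfree x hx.1 Q hQ hx.2
      rw [h2, Subgroup.card_bot, mul_one] at h1
      have h3 : MulAction.orbit T Q ⊆ {R : Pt M | R ≠ α} := by
        rintro _ ⟨⟨t, ht⟩, rfl⟩ e
        apply hQ
        have e' : t • Q = α := e
        have : Q = t⁻¹ • α := by rw [← e', inv_smul_smul]
        rw [this, inv_smul_eq_iff]
        exact (hfixT t ht).symm
      have h4 : ({R : Pt M | R ≠ α}).ncard = Nat.card T := by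
        have h5 : (Set.univ : Set (Pt M)) = insert α {R : Pt M | R ≠ α} := by
          ext R
          refine ⟨fun _ => ?_, fun _ => Set.mem_univ _⟩
          by_cases hR : R = α
          · left; exact hR
          · right; exact hR
        have h6 : α ∉ {R : Pt M | R ≠ α} := fun hh => hh rfl
        have h7 : (Set.univ : Set (Pt M)).ncard = 1 + Nat.card T := by
          rw [Set.ncard_univ]; exact hcardΩ
        rw [h5, Set.ncard_insert_of_notMem h6 (Set.toFinite _)] at h7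
        omega
      have h5 : MulAction.orbit T Q = {R : Pt M | R ≠ α} :=
        Set.eq_of_subset_of_ncard_le h3 (by rw [h4, h1]) (Set.toFinite _)
      have h6 : R ∈ MulAction.orbit T Q := by rw [h5]; exact hR
      obtain ⟨⟨t, ht⟩, htR⟩ := h6
      exact ⟨t, ht, htR⟩
    have hmtrans : ∀ Q : Pt M, ∃ m ∈ M, m • α = Q := by
      intro Q
      obtain ⟨m, hm⟩ := MulAction.exists_smul_eq M P0 Q.syl
      exact ⟨m, m.2, Pt.ext' (by rw [hact]; exact hm)⟩
    refine GoldDesign.Design.absurd (M := M) (T := T) (B := B) (J := J) (c := c) (α := α)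
      { TM := inf_le_right
        T2 := hTp
        fixT := hfixT
        trans := htrans
        free := hfree
        mtrans := hmtrans
        norm := ?_
        sylow := ?_
        faithful := ?_
        cM := fun m hm => hMn.conj_mem m hm c
        cfix := ?_
        c2 := h.sq c hc𝒜
        BT := hBT
        Bsq := hBsq'
        Bsq' := hBsq
        Bcent := hBcent
        cB := fun t ht => hAT c hcA t ht
        JM := fun j hj => (hJN hj).1
        Jfix := ?_
        Jodd := hJodd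
        Jc := hcJ
        JB := hJtrans
        B4 := hB4
        sq := ?_ } hcT
    · intro m hm hfix t ht
      have h1 := (hmemN ⟨m, hm⟩ α).1 hfix
      rw [mem_normalizer_iff] at h1
      have h2 := (h1 ⟨t, ht.2⟩).1 ((hαmem _).2 ht.1)
      exact ⟨(hαmem _).1 h2, hMn.conj_mem t ht.2 m⟩
    · intro m hm hfix k hk
      have h1 := hsyl ⟨m, hm⟩ α hfix k (Subtype.ext (by simpa only [_root_.SubmonoidClass.mk_pow, _root_.OneMemClass.coe_one] using hk))
      exact ⟨(hαmem _).1 h1, hm⟩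
    · -- faithful
      intro m hm hfix
      have hker : ((MulAction.toPermHom M (Sylow 2 M)).ker) = ⊥ := by
        rcases IsSimpleGroup.eq_bot_or_eq_top_of_normal (MulAction.toPermHom M (Sylow 2 M)).ker
          inferInstance with h1 | h1
        · exact h1
        · exfalso
          have h2 : ∀ Q : Sylow 2 M, Q = P0 := by
            intro Q
            obtain ⟨g, hg⟩ := MulAction.exists_smul_eq M P0 Q
            have h3 : g ∈ (MulAction.toPermHom M (Sylow 2 M)).ker := by rw [h1]; exact mem_top g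
            rw [MonoidHom.mem_ker] at h3
            have h4 : g • P0 = P0 := by
              have := congrArg (fun σ : Equiv.Perm (Sylow 2 M) => σ P0) h3
              simpa only [_root_.MulAction.toPermHom_apply, _root_.MulAction.toPerm_apply, _root_.Equiv.Perm.coe_one, _root_.id_eq] using this
            rw [← hg, h4]
          haveI : Subsingleton (Sylow 2 M) := ⟨fun Q R => by rw [h2 Q, h2 R]⟩
          have h5 : Nat.card (Sylow 2 M) ≤ 1 := Finite.card_le_one_iff_subsingleton.2 inferInstance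
          rw [card_pt] at hcardΩ
          omega
      have h1 : (⟨m, hm⟩ : M) ∈ (MulAction.toPermHom M (Sylow 2 M)).ker := by
        rw [MonoidHom.mem_ker]
        ext1 Q
        change (⟨m, hm⟩ : M) • Q = Q
        have h2 := hact ⟨m, hm⟩ ⟨Q⟩
        rw [← h2, hfix]
      rw [hker, mem_bot] at h1
      exact congrArg Subtype.val h1
    · -- `c` normalizes `T`
      apply Pt.ext'
      apply Sylow.ext
      ext x
      change x ∈ (c • α).syl ↔ x ∈ α.syl
      rw [act_mem, hαmem, hαmem, ← map_inv, MulAut.conjNormal_apply]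
      constructor
      · intro hh
        have h1 := mul_mem (mul_mem hcP hh) (inv_mem hcP)
        have e : c * (c⁻¹ * (x : Y) * c⁻¹⁻¹) * c⁻¹ = x := by group
        rwa [e] at h1
      · intro hh
        exact mul_mem (mul_mem (inv_mem hcP) hh) (inv_mem (inv_mem hcP))
    · intro j hj
      refine (hmemN ⟨j, (hJN hj).1⟩ α).2 ?_
      rw [mem_normalizer_iff]
      intro x
      change x ∈ α.syl ↔ _ ∈ α.syl
      rw [hαmem, hαmem]
      constructor
      · intro hh
        exact (hNT j (hJN hj) x ⟨hh, x.2⟩).1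
      · intro hh
        have h1 := (hNT j⁻¹ (inv_mem (hJN hj)) _ ⟨hh, SetLike.coe_mem _⟩).1
        have e : j⁻¹ * (((⟨j, (hJN hj).1⟩ : M) * x * (⟨j, (hJN hj).1⟩ : M)⁻¹ : M) : Y) * j⁻¹⁻¹ = x := by
          simp only [coe_mul, coe_inv]
          group
        rw [e] at h1
        exact h1
    · have h1 := hBP.sq_le P0
      have h2 : (invo M (P0 : Subgroup M)).ncard = Nat.card B := by
        have h3 : (B : Set Y) = Subtype.val '' (invo M (P0 : Subgroup M)) := by
          ext x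
          constructor
          · intro hx
            exact ⟨⟨x, hx.2⟩, ⟨(hP0mem _).2 (hBT hx).1, Subtype.ext (hBsq x hx)⟩, rfl⟩
          · rintro ⟨y, ⟨hy, hyy⟩, rfl⟩
            exact hBsq' y ⟨(hP0mem _).1 hy, y.2⟩ (congrArg Subtype.val hyy)
        have h4 : (B : Set Y).ncard = (invo M (P0 : Subgroup M)).ncard := by
          rw [h3, Set.ncard_image_of_injective _ Subtype.val_injective]
        rw [← h4]; rfl
      rw [h2] at h1
      rw [hcardT]
      exact h1

/-- An elementary closed family which meets the simple normal subgroup `M` (with `C_Y(M) = 1`) non-trivially is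
contained in `M`. -/
theorem mem_of_simple (h : IsElemFam 𝒜) {M : Subgroup Y} [hMn : M.Normal] (hM : IsSimpleGroup M)
    (hMC : centralizer (M : Set Y) = ⊥) (hT : TCon M) (hx : ∃ x ∈ 𝒜, x ∈ M ∧ x ≠ 1) {b : Y}
    (hb : b ∈ 𝒜) : b ∈ M := by
  set Y1 : Subgroup Y := M ⊔ zpowers b with hY1
  have hMY : M ≤ Y1 := le_sup_left
  have hbY : b ∈ Y1 := le_sup_right (a := M) (mem_zpowers b)
  have e : ↥M ≃* ↥(M.subgroupOf Y1) := (subgroupOfEquivOfLe hMY).symm
  haveI hMn1 : (M.subgroupOf Y1).Normal := hMn.subgroupOf Y1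
  have hM1 : IsSimpleGroup ↥(M.subgroupOf Y1) := by
    haveI := hM
    haveI : Nontrivial ↥(M.subgroupOf Y1) := e.symm.toEquiv.nontrivial
    exact IsSimpleGroup.isSimpleGroup_of_surjective e.toMonoidHom e.surjective
  have hMC1 : centralizer ((M.subgroupOf Y1 : Subgroup Y1) : Set Y1) = ⊥ := by
    rw [eq_bot_iff]
    intro y hy
    have h1 : (y : Y) ∈ centralizer (M : Set Y) := by
      rw [mem_centralizer_iff] at hy ⊢
      intro m hm
      exact congrArg Subtype.val (hy ⟨m, hMY hm⟩ (mem_subgroupOf.2 hm))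
    rw [hMC, mem_bot] at h1
    rw [mem_bot]
    exact Subtype.ext h1
  have hT1 : TCon ↥(M.subgroupOf Y1) := GoldTrans.tCon_congr e hT
  obtain ⟨x, hxA, hxM, hx1⟩ := hx
  have h1 := mem_aux (h.restrict Y1) hM1 hMC1 hT1
    ⟨⟨x, hMY hxM⟩, hxA, mem_subgroupOf.2 hxM, fun e => hx1 (congrArg Subtype.val e)⟩ (b := ⟨b, hbY⟩) hb (by
      rw [eq_top_iff]
      rintro ⟨y, hy⟩ -
      obtain ⟨m, hm, z, hz, rfl⟩ := mem_sup_of_normal_left.1 hy
      obtain ⟨n, rfl⟩ := mem_zpowers_iff.1 hz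
      rw [mem_sup_of_normal_left]
      exact ⟨⟨m, hMY hm⟩, mem_subgroupOf.2 hm, (⟨b, hbY⟩ : Y1) ^ n, zpow_mem (mem_zpowers _) n,
        Subtype.ext (by simp)⟩)
  exact mem_subgroupOf.1 h1

end Main

end Cfsg.Agent.TwoFusion.GoldAS
end
end

-- part: TwoFusion/GoldLayer
section
prune_inst 0x40004220510010000018000000003c4282000002004b000031000102048e1c40a0440e21c0202d121030885400340048125400000010000000000800011801a0802002021040a000200001803003180c00000000000000000000000000041000000000000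
set_option linter.all false
open scoped Cfsg.Agent.FastGrp

/-!
# Goldschmidt's theorem, (1.6): the group generated by an elementary closed family

Let `X` be a finite group without odd core, `𝒜` an elementary closed family, `S` a Sylow 2-subgroup and
`A = 𝒜 ∩ S`.  If `A` induces inner automorphisms, realized by elements of `A ∩ L`, on every component `L` on
which it acts non-trivially, then the subgroup generated by `𝒜` is `E (A ∩ O_2(X))`, where `E` is the product of
the components on which `𝒜` acts non-trivially.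
-/

set_option autoImplicit false
set_option linter.style.haveILetI false

namespace Cfsg.Agent.TwoFusion.GoldLayer

open Subgroup
open scoped commutatorElement
open Cfsg.Agent.TwoFusion.ClosedFam
open Cfsg.Agent.TwoFusion.Gold

variable {X : Type*} [Group X] {𝒜 : Set X}

/-- The product of the components on which the family acts non-trivially. -/
def actLayer (𝒜 : Set X) : Subgroup X := sSup {L | Cfsg.IsComponent L ∧ Act 𝒜 L}

/-- The conclusion of (1.4): the elements of the family in `S` act on the components like elements of the family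
in `S ∩ L`. -/
def Inner (𝒜 : Set X) (S : Subgroup X) : Prop :=
  ∀ L : Subgroup X, Cfsg.IsComponent L → Act 𝒜 L → ∀ a ∈ 𝒜, a ∈ S →
    ∃ b ∈ 𝒜, b ∈ S ∧ b ∈ L ∧ ∀ l ∈ L, a * l * a⁻¹ = b * l * b⁻¹

theorem le_actLayer {L : Subgroup X} (hL : Cfsg.IsComponent L) (ha : Act 𝒜 L) : L ≤ actLayer 𝒜 :=
  le_sSup ⟨hL, ha⟩

theorem actLayer_le_iff {H : Subgroup X} :
    actLayer 𝒜 ≤ H ↔ ∀ L : Subgroup X, Cfsg.IsComponent L → Act 𝒜 L → L ≤ H := by
  rw [actLayer, sSup_le_iff]
  exact ⟨fun h L h1 h2 => h L ⟨h1, h2⟩, fun h L h1 => h L h1.1 h1.2⟩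

theorem act_conj (h : IsElemFam 𝒜) {L : Subgroup X} (ha : Act 𝒜 L) (g : X) :
    Act 𝒜 (L.map (MulAut.conj g).toMonoidHom) := by
  obtain ⟨x, hx, hxL, y, hy, hxy⟩ := ha
  refine ⟨g * x * g⁻¹, h.conj_mem x hx g, ⟨x, hxL, rfl⟩, g * y * g⁻¹, ⟨y, hy, rfl⟩, ?_⟩
  intro he
  apply hxy
  have e1 : g * x * g⁻¹ * (g * y * g⁻¹) = g * (x * y) * g⁻¹ := by group
  have e2 : g * y * g⁻¹ * (g * x * g⁻¹) = g * (y * x) * g⁻¹ := by group
  rw [e1, e2] at he
  exact mul_left_cancel (mul_right_cancel he)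

/-- The product of the active components is normal. -/
theorem actLayer_normal (h : IsElemFam 𝒜) : (actLayer 𝒜).Normal := by
  refine ⟨fun x hx g => ?_⟩
  have h1 : actLayer 𝒜 ≤ (actLayer 𝒜).comap (MulAut.conj g).toMonoidHom := by
    rw [actLayer_le_iff]
    intro L hL ha
    rw [← map_le_iff_le_comap]
    exact le_actLayer (Cfsg.Agent.SignalizersComponents.Components.isComponent_conj g hL) (act_conj h ha g)
  exact h1 hx

/-- The active components lie in the subgroup generated by the family. -/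
theorem actLayer_le_fam (h : IsElemFam 𝒜) : actLayer 𝒜 ≤ fam 𝒜 ⊤ := by
  haveI := h.toIsClosedFam.fam_normal ⊤
  rw [actLayer_le_iff]
  rintro L hL ⟨x, hx, hxL, y, hy, hxy⟩
  rcases Cfsg.Agent.SignalizersComponents.Components.component_le_or_commutator_eq_bot hL
    (Normal.isSubnormal (H := fam 𝒜 ⊤) inferInstance) with h1 | h1
  · exact h1
  · exfalso
    rw [commutator_eq_bot_iff_le_centralizer] at h1
    have h2 := mem_centralizer_iff.1 (h1 hy) x (mem_fam hx (mem_top x))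
    exact hxy h2

section Main

variable [Finite X]

/-- The subgroup generated by the family centralizes the components on which it acts trivially. -/
theorem comm_of_mem_fam (h : IsElemFam 𝒜) (hO : Cfsg.oddCore X = ⊥) {L : Subgroup X}
    (hL : Cfsg.IsComponent L) (hn : ¬ Act 𝒜 L) : ∀ k ∈ fam 𝒜 ⊤, ∀ l ∈ L, k * l = l * k := by
  have h1 : fam 𝒜 ⊤ ≤ centralizer (L : Set X) := by
    rw [fam_le_iff]
    intro a ha _
    rw [mem_centralizer_iff]
    intro l hl
    exact (comm_of_not_act h hO hL hn a ha l hl).symm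
  intro k hk l hl
  exact (mem_centralizer_iff.1 (h1 hk) l hl).symm

omit [Finite X] in
/-- The intersection of the family with `O_2(X)`. -/
theorem fam_pCore (h : IsElemFam 𝒜) (S : Sylow 2 X) :
    fam 𝒜 (Cfsg.pCore 2 X) = fam 𝒜 (S : Subgroup X) ⊓ Cfsg.pCore 2 X := by
  rw [← h.toIsClosedFam.fam_inf S.2]
  congr 1
  exact (inf_eq_right.2 (Cfsg.Agent.Lib.Cores.pCore_le_sylow S)).symm

omit [Finite X] in
theorem fam_inf_pCore_normal (h : IsElemFam 𝒜) (S : Sylow 2 X) :
    (fam 𝒜 (S : Subgroup X) ⊓ Cfsg.pCore 2 X).Normal := by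
  rw [← fam_pCore h S]
  haveI := Cfsg.Agent.Lib.Cores.pCore_normal (G := X) 2
  exact h.toIsClosedFam.fam_normal _

/-- Every element of the family is conjugate into `S`. -/
theorem exists_conj_mem (h : IsElemFam 𝒜) (S : Sylow 2 X) {a : X} (ha : a ∈ 𝒜) :
    ∃ g : X, g * a * g⁻¹ ∈ fam 𝒜 (S : Subgroup X) := by
  haveI : Fact (Nat.Prime 2) := ⟨Nat.prime_two⟩
  obtain ⟨P, hP⟩ := (h.toIsClosedFam.isPGroup_zpowers ha).exists_le_sylow
  obtain ⟨g, hg⟩ := MulAction.exists_smul_eq X P S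
  refine ⟨g, mem_fam (h.conj_mem a ha g) ?_⟩
  rw [← hg]
  exact ⟨a, hP (mem_zpowers a), rfl⟩

omit [Finite X] in
/-- `[⟨𝒜⟩, O_2(X)] ≤ A ∩ O_2(X)`. -/
theorem commutator_mem (h : IsElemFam 𝒜) (S : Sylow 2 X) :
    ∀ k ∈ fam 𝒜 ⊤, ∀ u ∈ Cfsg.pCore 2 X,
      k * u * k⁻¹ * u⁻¹ ∈ fam 𝒜 (S : Subgroup X) ⊓ Cfsg.pCore 2 X := by
  haveI hn := fam_inf_pCore_normal h S
  haveI hpn := Cfsg.Agent.Lib.Cores.pCore_normal (G := X) 2
  intro k hk
  unfold fam at hk
  refine closure_induction (p := fun k _ => ∀ u ∈ Cfsg.pCore 2 X,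
      k * u * k⁻¹ * u⁻¹ ∈ fam 𝒜 (S : Subgroup X) ⊓ Cfsg.pCore 2 X) ?_ ?_ ?_ ?_ hk
  · rintro a ⟨ha, -⟩ u hu
    rw [← fam_pCore h S]
    haveI : Fact (Nat.Prime 2) := ⟨Nat.prime_two⟩
    obtain ⟨P, hP⟩ := (h.toIsClosedFam.isPGroup_zpowers ha).exists_le_sylow
    have haP : a ∈ (P : Subgroup X) := hP (mem_zpowers a)
    have huP : u ∈ (P : Subgroup X) := Cfsg.Agent.Lib.Cores.pCore_le_sylow P hu
    refine mem_fam ?_ ?_
    · have e : a * u * a⁻¹ * u⁻¹ = a * (u * a⁻¹ * u⁻¹) := by group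
      rw [e]
      exact h.mul_mem P P.2 a haP _ (mul_mem (mul_mem huP (inv_mem haP)) (inv_mem huP)) ha
        (h.conj_mem _ (h.toIsClosedFam.inv_mem ha) u)
    · exact mul_mem (hpn.conj_mem u hu a) (inv_mem hu)
  · intro u _
    have e : (1 : X) * u * 1⁻¹ * u⁻¹ = 1 := by group
    rw [e]; exact one_mem _
  · intro x y _ _ hx hy u hu
    have e : x * y * u * (x * y)⁻¹ * u⁻¹ =
        (x * (y * u * y⁻¹) * x⁻¹ * (y * u * y⁻¹)⁻¹) * (y * u * y⁻¹ * u⁻¹) := by group
    rw [e]
    exact mul_mem (hx _ (hpn.conj_mem u hu y)) (hy u hu)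
  · intro x _ hx u hu
    have e : x⁻¹ * u * x⁻¹⁻¹ * u⁻¹ = (x * (x⁻¹ * u * x⁻¹⁻¹) * x⁻¹ * (x⁻¹ * u * x⁻¹⁻¹)⁻¹)⁻¹ := by group
    rw [e]
    exact inv_mem (hx _ (hpn.conj_mem u hu x⁻¹))

omit [Finite X] in
/-- The subgroup generated by the family centralizes `A ∩ O_2(X)`. -/
theorem comm_of_mem (h : IsElemFam 𝒜) (S : Sylow 2 X) :
    ∀ k ∈ fam 𝒜 ⊤, ∀ d ∈ fam 𝒜 (S : Subgroup X) ⊓ Cfsg.pCore 2 X, k * d = d * k := by
  have h1 : fam 𝒜 ⊤ ≤ centralizer ((fam 𝒜 (S : Subgroup X) ⊓ Cfsg.pCore 2 X : Subgroup X) : Set X) := by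
    rw [fam_le_iff]
    intro a ha _
    rw [mem_centralizer_iff]
    intro d hd
    rw [← fam_pCore h S, SetLike.mem_coe,
      h.toIsClosedFam.mem_fam_iff (Cfsg.Agent.Lib.Cores.pCore_isPGroup 2)] at hd
    haveI : Fact (Nat.Prime 2) := ⟨Nat.prime_two⟩
    obtain ⟨P, hP⟩ := (h.toIsClosedFam.isPGroup_zpowers ha).exists_le_sylow
    exact h.comm P.2 hd.1 (Cfsg.Agent.Lib.Cores.pCore_le_sylow P hd.2) ha (hP (mem_zpowers a))
  intro k hk d hd
  exact (mem_centralizer_iff.1 (h1 hk) d hd).symm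

/-- The centralizer of the active components in the group generated by the family is a 2-group. -/
theorem isPGroup_inf_centralizer (h : IsElemFam 𝒜) (hO : Cfsg.oddCore X = ⊥) (S : Sylow 2 X) :
    IsPGroup 2 (fam 𝒜 ⊤ ⊓ centralizer (actLayer 𝒜 : Set X) : Subgroup X) := by
  classical
  haveI : Fact (Nat.Prime 2) := ⟨Nat.prime_two⟩
  rw [IsPGroup.iff_card]
  set R : Subgroup X := fam 𝒜 ⊤ ⊓ centralizer (actLayer 𝒜 : Set X) with hR
  -- elements of odd order in `R` are trivial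
  have key : ∀ y ∈ R, Odd (orderOf y) → y = 1 := by
    intro y hy hodd
    rw [hR, mem_inf] at hy
    have hcop : (Nat.card (zpowers y)).Coprime 2 := by
      rw [Nat.card_zpowers]
      exact Nat.coprime_two_right.2 hodd
    have h1 : zpowers y = ⊥ := by
      refine Cfsg.Agent.SignalizersComponents.OddFixed.eq_bot_of_centralizes hO hcop ?_ ?_
      · -- `O_2(X)`
        have h2 : ∀ u ∈ Cfsg.pCore 2 X, y * u * y⁻¹ = u := by
          intro u hu
          set D : Subgroup X := fam 𝒜 (S : Subgroup X) ⊓ Cfsg.pCore 2 X with hD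
          haveI hDn : D.Normal := fam_inf_pCore_normal h S
          set d := y * u * y⁻¹ * u⁻¹ with hd
          have hdD : d ∈ D := commutator_mem h S y hy.1 u hu
          have hyd : y * d = d * y := comm_of_mem h S y hy.1 d hdD
          have h3 : ∀ n : ℕ, y ^ n * u * (y ^ n)⁻¹ = d ^ n * u := by
            intro n
            induction n with
            | zero => simp
            | succ n ih =>
              have h4 : y ^ n * d = d * y ^ n := (Commute.pow_left (h := (hyd : Commute y d)) n).eq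
              have h5 : y * u * y⁻¹ = d * u := by rw [hd]; group
              calc y ^ (n + 1) * u * (y ^ (n + 1))⁻¹ = y ^ n * (y * u * y⁻¹) * (y ^ n)⁻¹ := by
                    rw [pow_succ]; group
                _ = y ^ n * d * u * (y ^ n)⁻¹ := by rw [h5]; group
                _ = d * (y ^ n * u * (y ^ n)⁻¹) := by rw [h4]; group
                _ = d ^ (n + 1) * u := by rw [ih, pow_succ']; group
          have h6 := h3 (orderOf y)
          rw [pow_orderOf_eq_one] at h6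
          have h7 : d ^ orderOf y = 1 := by
            have : (1 : X) * u * 1⁻¹ = u := by group
            rw [this] at h6
            exact (mul_eq_right.1 h6.symm)
          have h8 : orderOf d ∣ orderOf y := orderOf_dvd_of_pow_eq_one h7
          have h9 : ∃ k : ℕ, orderOf d = 2 ^ k := by
            obtain ⟨k, hk⟩ := IsPGroup.iff_orderOf.1 (Cfsg.Agent.Lib.Cores.pCore_isPGroup (G := X) 2)
              ⟨d, (mem_inf.1 hdD).2⟩
            exact ⟨k, by rw [← hk, Subgroup.orderOf_mk]⟩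
          obtain ⟨k, hk⟩ := h9
          have h10 : Nat.Coprime (orderOf d) (orderOf y) := by
            rw [hk]
            exact Nat.Coprime.pow_left k (Nat.coprime_two_left.2 hodd)
          have h11 : orderOf d = 1 := by
            have := Nat.gcd_eq_left h8
            rw [Nat.Coprime] at h10
            rw [← this, h10]
          rw [orderOf_eq_one_iff] at h11
          have h12 : y * u * y⁻¹ * u⁻¹ = 1 := by rw [← hd]; exact h11
          exact mul_inv_eq_one.1 h12
        intro z hz u hu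
        obtain ⟨n, rfl⟩ := mem_zpowers_iff.1 hz
        have h3 : Commute y u := by
          have := h2 u hu
          exact mul_inv_eq_iff_eq_mul.1 this
        exact h3.zpow_left n
      · -- the components
        intro L hL z hz e he
        obtain ⟨n, rfl⟩ := mem_zpowers_iff.1 hz
        have h3 : Commute y e := by
          by_cases hact : Act 𝒜 L
          · exact (mem_centralizer_iff.1 hy.2 e (le_actLayer hL hact he)).symm
          · exact comm_of_mem_fam h hO hL hact y hy.1 e he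
        exact h3.zpow_left n
    have h2 : y ∈ zpowers y := mem_zpowers y
    rw [h1] at h2
    exact mem_bot.1 h2
  -- so the order of `R` is a power of two
  obtain ⟨k, m, hm, hkm⟩ := Nat.exists_eq_two_pow_mul_odd (n := Nat.card R) Nat.card_pos.ne'
  refine ⟨k, ?_⟩
  suffices hm1 : m = 1 by rw [hkm, hm1, mul_one]
  by_contra hm1
  obtain ⟨p, hp, hpm⟩ := Nat.exists_prime_and_dvd hm1
  haveI : Fact p.Prime := ⟨hp⟩
  have hpodd : Odd p := hm.of_dvd_nat hpm
  obtain ⟨x, hx⟩ := exists_prime_orderOf_dvd_card' p (hpm.trans ⟨2 ^ k, by rw [hkm, mul_comm]⟩ : p ∣ Nat.card R)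
  have h1 : orderOf (x : X) = p := by rw [Subgroup.orderOf_coe]; exact hx
  have h2 := key x x.2 (by rw [h1]; exact hpodd)
  rw [h2, orderOf_one] at h1
  exact hp.one_lt.ne h1

/-- `⟨𝒜⟩ ∩ C(E) ≤ O_2(X)`. -/
theorem inf_centralizer_le (h : IsElemFam 𝒜) (hO : Cfsg.oddCore X = ⊥) (S : Sylow 2 X) :
    (fam 𝒜 ⊤ ⊓ centralizer (actLayer 𝒜 : Set X) : Subgroup X) ≤ Cfsg.pCore 2 X := by
  haveI := h.toIsClosedFam.fam_normal ⊤
  haveI := actLayer_normal h
  exact Cfsg.Agent.Lib.Cores.le_pCore inferInstance (isPGroup_inf_centralizer h hO S)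

/-- If `A` acts on the active components like elements of `A ∩ L`, then every element of `A` is the product of an
element of `A ∩ E` and an element of `A` centralizing `E`. -/
theorem exists_mul (h : IsElemFam 𝒜) (S : Sylow 2 X) (hI : Inner 𝒜 (S : Subgroup X)) {a : X}
    (ha : a ∈ fam 𝒜 (S : Subgroup X)) :
    ∃ c ∈ fam 𝒜 (S : Subgroup X), c ∈ actLayer 𝒜 ∧ ∀ e ∈ actLayer 𝒜, a * e * a⁻¹ = c * e * c⁻¹ := by
  classical
  rw [h.mem_fam_iff S.2] at ha
  haveI : Fintype (Subgroup X) := Fintype.ofFinite _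
  -- finite sets of active components
  have key : ∀ s : Finset (Subgroup X), (∀ L ∈ s, Cfsg.IsComponent L ∧ Act 𝒜 L) →
      ∃ c ∈ fam 𝒜 (S : Subgroup X), c ∈ actLayer 𝒜 ∧
        (∀ L ∈ s, ∀ l ∈ L, a * l * a⁻¹ = c * l * c⁻¹) ∧
        ∀ L : Subgroup X, Cfsg.IsComponent L → L ∉ s → ∀ l ∈ L, c * l = l * c := by
    intro s
    induction s using Finset.induction_on with
    | empty =>
      intro _
      refine ⟨1, one_mem _, one_mem _, ?_, ?_⟩
      · intro L hL; exact absurd hL (Finset.notMem_empty L)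
      · intro L _ _ l _; rw [one_mul, mul_one]
    | insert L₀ s hL₀ ih =>
      intro hs
      obtain ⟨c, hcA, hcE, hc1, hc2⟩ := ih fun L hL => hs L (Finset.mem_insert_of_mem hL)
      obtain ⟨hcomp, hact⟩ := hs L₀ (Finset.mem_insert_self _ _)
      obtain ⟨b, hb, hbS, hbL, hbl⟩ := hI L₀ hcomp hact a ha.1 ha.2
      have hbA : b ∈ fam 𝒜 (S : Subgroup X) := mem_fam hb hbS
      have hbc : ∀ L : Subgroup X, Cfsg.IsComponent L → L ≠ L₀ → ∀ l ∈ L, b * l = l * b := by
        intro L hL hne l hl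
        have h1 := Cfsg.Agent.SignalizersComponents.Components.component_le_centralizer_of_ne hL hcomp hne hl
        exact mem_centralizer_iff.1 h1 b hbL
      refine ⟨c * b, mul_mem hcA hbA, mul_mem hcE (le_actLayer hcomp hact hbL), ?_, ?_⟩
      · intro L hL l hl
        rcases Finset.mem_insert.1 hL with rfl | hL
        · have h1 : b * l * b⁻¹ ∈ L := mul_mem (mul_mem hbL hl) (inv_mem hbL)
          have h2 := hc2 L hcomp hL₀ _ h1
          calc a * l * a⁻¹ = b * l * b⁻¹ := hbl l hl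
            _ = (b * l * b⁻¹) * c * c⁻¹ := by group
            _ = c * (b * l * b⁻¹) * c⁻¹ := by rw [h2]
            _ = c * b * l * (c * b)⁻¹ := by group
        · have hne : L ≠ L₀ := fun he => hL₀ (he ▸ hL)
          have h1 := hbc L (hs L (Finset.mem_insert_of_mem hL)).1 hne l hl
          calc a * l * a⁻¹ = c * l * c⁻¹ := hc1 L hL l hl
            _ = c * (l * b) * b⁻¹ * c⁻¹ := by group
            _ = c * (b * l) * b⁻¹ * c⁻¹ := by rw [h1]
            _ = c * b * l * (c * b)⁻¹ := by group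
      · intro L hL hLs l hl
        rw [Finset.mem_insert, not_or] at hLs
        have h1 := hbc L hL hLs.1 l hl
        have h2 := hc2 L hL hLs.2 l hl
        calc c * b * l = c * (b * l) := by group
          _ = (c * l) * b := by rw [h1]; group
          _ = l * (c * b) := by rw [h2]; group
  obtain ⟨c, hcA, hcE, hc1, -⟩ := key (Finset.univ.filter fun L => Cfsg.IsComponent L ∧ Act 𝒜 L)
    (fun L hL => (Finset.mem_filter.1 hL).2)
  refine ⟨c, hcA, hcE, ?_⟩
  -- pass from the components to their product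
  have h1 : c⁻¹ * a ∈ centralizer (actLayer 𝒜 : Set X) := by
    have h2 : actLayer 𝒜 ≤ centralizer ({c⁻¹ * a} : Set X) := by
      rw [actLayer_le_iff]
      intro L hL hact l hl
      rw [mem_centralizer_iff]
      rintro _ rfl
      have h3 := hc1 L (Finset.mem_filter.2 ⟨Finset.mem_univ _, hL, hact⟩) l hl
      calc c⁻¹ * a * l = c⁻¹ * (a * l * a⁻¹) * a := by group
        _ = c⁻¹ * (c * l * c⁻¹) * a := by rw [h3]
        _ = l * (c⁻¹ * a) := by group
    rw [mem_centralizer_iff]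
    intro e he
    exact (mem_centralizer_iff.1 (h2 he) _ rfl).symm
  intro e he
  have h3 := mem_centralizer_iff.1 h1 e he
  calc a * e * a⁻¹ = c * (c⁻¹ * a * e) * a⁻¹ := by group
    _ = c * (e * (c⁻¹ * a)) * a⁻¹ := by rw [h3]
    _ = c * e * c⁻¹ := by group

/-- `A = (A ∩ E) (A ∩ O_2(X))`. -/
theorem exists_mul_pCore (h : IsElemFam 𝒜) (hO : Cfsg.oddCore X = ⊥) (S : Sylow 2 X)
    (hI : Inner 𝒜 (S : Subgroup X)) {a : X} (ha : a ∈ fam 𝒜 (S : Subgroup X)) :
    ∃ c ∈ fam 𝒜 (S : Subgroup X), c ∈ actLayer 𝒜 ∧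
      ∃ d ∈ fam 𝒜 (S : Subgroup X), d ∈ Cfsg.pCore 2 X ∧ a = c * d := by
  obtain ⟨c, hcA, hcE, hc⟩ := exists_mul h S hI ha
  refine ⟨c, hcA, hcE, c⁻¹ * a, mul_mem (inv_mem hcA) ha, ?_, by group⟩
  refine inf_centralizer_le h hO S (mem_inf.2 ⟨?_, ?_⟩)
  · exact mul_mem (inv_mem (fam_mono 𝒜 le_top hcA)) (fam_mono 𝒜 le_top ha)
  · rw [mem_centralizer_iff]
    intro e he
    have h1 := hc e he
    calc e * (c⁻¹ * a) = c⁻¹ * (c * e * c⁻¹) * a := by group
      _ = c⁻¹ * (a * e * a⁻¹) * a := by rw [h1]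
      _ = c⁻¹ * a * e := by group

/-- (1.6) `⟨𝒜⟩ = E (A ∩ O_2(X))`. -/
theorem fam_top_eq_pCore (h : IsElemFam 𝒜) (hO : Cfsg.oddCore X = ⊥) (S : Sylow 2 X)
    (hI : Inner 𝒜 (S : Subgroup X)) :
    fam 𝒜 ⊤ = actLayer 𝒜 ⊔ (fam 𝒜 (S : Subgroup X) ⊓ Cfsg.pCore 2 X) := by
  haveI hE := actLayer_normal h
  haveI hD := fam_inf_pCore_normal h S
  apply le_antisymm
  · rw [fam_le_iff]
    intro a ha _
    obtain ⟨g, hg⟩ := exists_conj_mem h S ha
    obtain ⟨c, -, hcE, d, hdA, hdO, he⟩ := exists_mul_pCore h hO S hI hg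
    have h1 : g * a * g⁻¹ ∈ actLayer 𝒜 ⊔ (fam 𝒜 (S : Subgroup X) ⊓ Cfsg.pCore 2 X) := by
      rw [he]
      exact mul_mem (mem_sup_left hcE) (mem_sup_right (mem_inf.2 ⟨hdA, hdO⟩))
    have hn : (actLayer 𝒜 ⊔ (fam 𝒜 (S : Subgroup X) ⊓ Cfsg.pCore 2 X)).Normal := inferInstance
    have h2 := hn.conj_mem _ h1 g⁻¹
    have e : g⁻¹ * (g * a * g⁻¹) * g⁻¹⁻¹ = a := by group
    rwa [e] at h2
  · exact sup_le (actLayer_le_fam h) (inf_le_left.trans (fam_mono 𝒜 le_top))

/-- (1.6) `⟨𝒜⟩ = A E`. -/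
theorem fam_top_eq' (h : IsElemFam 𝒜) (hO : Cfsg.oddCore X = ⊥) (S : Sylow 2 X)
    (hI : Inner 𝒜 (S : Subgroup X)) :
    fam 𝒜 ⊤ = fam 𝒜 (S : Subgroup X) ⊔ actLayer 𝒜 := by
  apply le_antisymm
  · rw [fam_top_eq_pCore h hO S hI, sup_comm]
    exact sup_le_sup_right inf_le_left _
  · exact sup_le (fam_mono 𝒜 le_top) (actLayer_le_fam h)

end Main

/-- `X = ⟨𝒜⟩ N_X(A)` (any elementary closed family). -/
theorem fam_top_sup_normalizer [Finite X] (h : IsElemFam 𝒜) (S : Sylow 2 X) :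
    fam 𝒜 ⊤ ⊔ normalizer (fam 𝒜 (S : Subgroup X) : Set X) = ⊤ := by
  rw [eq_top_iff]
  intro g _
  haveI hKn := h.toIsClosedFam.fam_normal ⊤
  have h1 : fam 𝒜 (S : Subgroup X) ≤ fam 𝒜 ⊤ := fam_mono 𝒜 le_top
  have h2 : (fam 𝒜 (S : Subgroup X)).map (MulAut.conj g).toMonoidHom ≤ fam 𝒜 ⊤ := by
    rintro _ ⟨x, hx, rfl⟩
    exact hKn.conj_mem x (h1 hx) g
  obtain ⟨c, hc, hcg⟩ := exists_conj_fam h.toIsClosedFam S h1 h2
  have e : g = c⁻¹ * (c * g) := by group
  rw [e]
  exact mul_mem (mem_sup_left (inv_mem hc)) (mem_sup_right (mem_normalizer_of_map_conj hcg))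

section Ctx

variable [Finite X] (h : Ctx 𝒜) (S : Sylow 2 X)

include h

/-- (a) `⟨𝒜⟩ = A E`. -/
theorem fam_top_eq (hI : Inner 𝒜 (S : Subgroup X)) :
    fam 𝒜 ⊤ = fam 𝒜 (S : Subgroup X) ⊔ sSup {L | Cfsg.IsComponent L ∧ Act 𝒜 L} :=
  fam_top_eq' h.fam h.core S hI

/-- (b2) `X = E N_X(A)`. -/
theorem layer_sup_normalizer (hI : Inner 𝒜 (S : Subgroup X)) :
    sSup {L | Cfsg.IsComponent L ∧ Act 𝒜 L} ⊔ normalizer (fam 𝒜 (S : Subgroup X) : Set X) = ⊤ := by
  rw [eq_top_iff, ← fam_top_sup_normalizer h.fam S, fam_top_eq h S hI]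
  exact sup_le (sup_le (le_normalizer.trans le_sup_right) le_sup_left) le_sup_right

/-- (c) If no component is active then `A` is normal. -/
theorem normal_of_not_act (hn : ∀ L : Subgroup X, Cfsg.IsComponent L → ¬ Act 𝒜 L) :
    (fam 𝒜 (S : Subgroup X)).Normal := by
  have hI : Inner 𝒜 (S : Subgroup X) := fun L hL hact => absurd hact (hn L hL)
  have h1 := fam_top_eq' h.fam h.core S hI
  have h2 : actLayer 𝒜 = ⊥ := by
    rw [eq_bot_iff, actLayer_le_iff]
    exact fun L hL hact => absurd hact (hn L hL)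
  rw [h2, sup_bot_eq] at h1
  rw [← h1]
  exact h.fam.toIsClosedFam.fam_normal ⊤

end Ctx

end Cfsg.Agent.TwoFusion.GoldLayer

private theorem dce_2ecd4b8d8d48 : _root_.True := by
  try have : _root_.True := by simp only [_root_.Cfsg.Agent.TwoFusion.GoldLayer.actLayer.eq_1]
  exact _root_.True.intro
end

-- part: TwoFusion/GoldSolid
section
prune_inst 0x40000220012210000018000020003c4292000000000b00001140000004861c4120040e21f0602f0211200864003e004810cc00090010000020000200411801a0802020c29008a00021000180f803180c00000000000000000000000000041000000000000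
set_option linter.all false
open scoped Cfsg.Agent.FastGrp

-- part: TwoFusion/GoldFour
section
/-!
# Goldschmidt's theorem, the case `|A| = 4`: the frame

`Setup 𝒜`, `A = fam 𝒜 S` of order four.
* `trans`: `N_G(A)` is transitive on `A#`;
* `stab`: an element of `N_G(A)` fixing some `x ∈ A#` centralizes `A`;
* `central`: `A ≤ Z(S)`.
Under the hypothesis `Solid` (`C(w) ≤ O(C(w)) N_G(A)` for `w ∈ A#`):
* `cent_le`: `C(w) ≤ O(C(w)) C(A)`;
* `core_inf`: `O(C(w)) ∩ C(A) = O(C(A))`;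
* `false_of_core_le`: if `O(C(w)) ≤ C(A)` then `G` has a strongly embedded subgroup (using S1174).
-/

set_option autoImplicit false
set_option linter.style.haveILetI false

namespace Cfsg.Agent.TwoFusion.GoldFour

open Subgroup
open Cfsg.Agent.TwoFusion.ClosedFam Cfsg.Agent.TwoFusion.Gold Cfsg.Agent.TwoFusion.GoldSetup
open Cfsg.Agent.TwoFusion.ClosedLocal

universe u

variable {G : Type u} [Group G] [Finite G] {𝒜 : Set G}

omit [Finite G] in
/-- The order of a product of two subgroups. -/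
theorem card_sup_dvd_of_le_normalizer {V K : Subgroup G} (hVK : V ≤ normalizer (K : Set G)) :
    Nat.card (V ⊔ K : Subgroup G) ∣ Nat.card K * Nat.card V := by
  set C := V ⊔ K with hC
  have hVC : V ≤ C := le_sup_left
  have hKC : K ≤ C := le_sup_right
  have hn : (K.subgroupOf C).Normal :=
    (normal_subgroupOf_iff_le_normalizer hKC).2 (sup_le hVK le_normalizer)
  have h1 := Cfsg.Agent.Lib.Cores.card_sup_dvd (K.subgroupOf C) (V.subgroupOf C) hn
  rw [← subgroupOf_sup hKC hVC, sup_comm K V, ← hC, subgroupOf_self, card_top,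
    Nat.card_congr (subgroupOfEquivOfLe hKC).toEquiv,
    Nat.card_congr (subgroupOfEquivOfLe hVC).toEquiv] at h1
  exact h1

/-- `C_G(w) ≤ O(C_G(w)) N_G(A)` for all `w ∈ A#`. -/
def Solid (𝒜 : Set G) (S : Sylow 2 G) : Prop :=
  ∀ w ∈ fam 𝒜 (S : Subgroup G), w ≠ 1 → ∀ c : G, c * w = w * c →
    ∃ o ∈ core (centralizer ({w} : Set G)), ∃ n ∈ normalizer (fam 𝒜 (S : Subgroup G) : Set G), c = o * n

section

variable (h : Setup 𝒜) (S : Sylow 2 G) (h4 : Nat.card (fam 𝒜 (S : Subgroup G)) = 4)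

include h h4

/-- The elements of a four-group. -/
theorem exhaust {x y z : G} (hx : x ∈ fam 𝒜 (S : Subgroup G)) (hy : y ∈ fam 𝒜 (S : Subgroup G))
    (hz : z ∈ fam 𝒜 (S : Subgroup G)) (hx1 : x ≠ 1) (hy1 : y ≠ 1) (hxy : x ≠ y) :
    z = 1 ∨ z = x ∨ z = y ∨ z = x * y := by
  classical
  by_contra hcon
  push Not at hcon
  obtain ⟨h1, h2, h3, h5⟩ := hcon
  have hxx := h.sq S x hx
  have hyy := h.sq S y hy
  have hxy1 : x * y ≠ 1 := by
    intro e
    apply hxy
    have : x = y⁻¹ := eq_inv_of_mul_eq_one_left e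
    rw [this]; exact inv_eq_of_mul_eq_one_left hyy
  have hxyx : x * y ≠ x := fun e => hy1 (mul_eq_left.1 e)
  have hxyy : x * y ≠ y := fun e => hx1 (mul_eq_right.1 e)
  let s : Finset (fam 𝒜 (S : Subgroup G)) :=
    {⟨1, one_mem _⟩, ⟨x, hx⟩, ⟨y, hy⟩, ⟨x * y, mul_mem hx hy⟩, ⟨z, hz⟩}
  have hs : s.card = 5 := by
    simp only [s]
    rw [Finset.card_insert_of_notMem, Finset.card_insert_of_notMem, Finset.card_insert_of_notMem,
      Finset.card_insert_of_notMem, Finset.card_singleton]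
    · simp only [Finset.mem_singleton, Subtype.mk.injEq]; exact fun e => h5 e.symm
    · simp only [Finset.mem_insert, Finset.mem_singleton, Subtype.mk.injEq]
      rintro (e | e)
      · exact hxyy e.symm
      · exact h3 e.symm
    · simp only [Finset.mem_insert, Finset.mem_singleton, Subtype.mk.injEq]
      rintro (e | e | e)
      · exact hxy e
      · exact hxyx e.symm
      · exact h2 e.symm
    · simp only [Finset.mem_insert, Finset.mem_singleton, Subtype.mk.injEq]
      rintro (e | e | e | e)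
      · exact hx1 e.symm
      · exact hy1 e.symm
      · exact hxy1 e.symm
      · exact h1 e.symm
  have hfin : Fintype (fam 𝒜 (S : Subgroup G)) := Fintype.ofFinite _
  have := Finset.card_le_univ s
  rw [hs, ← Nat.card_eq_fintype_card, h4] at this
  omega

/-- An involution of `A` is not normalized by the whole of `N_G(A)`. -/
theorem exists_moved {x : G} (hx : x ∈ fam 𝒜 (S : Subgroup G)) (hx1 : x ≠ 1) :
    ∃ n ∈ normalizer (fam 𝒜 (S : Subgroup G) : Set G), n * x * n⁻¹ ≠ x := by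
  by_contra hcon
  push Not at hcon
  have hxx := h.sq S x hx
  have hB : zpowers x ≤ fam 𝒜 (S : Subgroup G) := by rwa [zpowers_le]
  rcases h.irreducible S hB (by
    intro n hn y hy
    obtain ⟨k, rfl⟩ := mem_zpowers_iff.1 hy
    rw [← conj_zpow, hcon n hn]
    exact ⟨k, rfl⟩) with e | e
  · rw [zpowers_eq_bot] at e; exact hx1 e
  · have h1 : Nat.card (zpowers x) = 2 := by
      rw [Nat.card_zpowers]
      exact orderOf_eq_prime (by rw [pow_two]; exact hxx) hx1
    rw [e, h4] at h1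
    omega

/-- `N_G(A)` is transitive on `A#`. -/
theorem trans {x y : G} (hx : x ∈ fam 𝒜 (S : Subgroup G)) (hy : y ∈ fam 𝒜 (S : Subgroup G))
    (hx1 : x ≠ 1) (hy1 : y ≠ 1) : ∃ n ∈ normalizer (fam 𝒜 (S : Subgroup G) : Set G), n * x * n⁻¹ = y := by
  set A := fam 𝒜 (S : Subgroup G) with hA
  have hconj : ∀ n ∈ normalizer (A : Set G), ∀ z ∈ A, n * z * n⁻¹ ∈ A := fun n hn z hz =>
    (mem_normalizer_iff.1 hn z).1 hz
  obtain ⟨n, hn, hnx⟩ := exists_moved h S h4 hx hx1
  set x' := n * x * n⁻¹ with hx'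
  have hx'A : x' ∈ A := hconj n hn x hx
  have hx'1 : x' ≠ 1 := by
    intro e
    apply hx1
    have : x = n⁻¹ * x' * n := by rw [hx']; group
    rw [this, e]; group
  have hxx := h.sq S x hx
  have hx'x' := h.sq S x' hx'A
  by_cases hm : ∃ m ∈ normalizer (A : Set G), m * x * m⁻¹ = x * x'
  · rcases exhaust h S h4 hx hx'A hy hx1 hx'1 (Ne.symm hnx) with e | e | e | e
    · exact absurd e hy1
    · exact ⟨1, one_mem _, by rw [e]; simp⟩
    · exact ⟨n, hn, e.symm⟩
    · obtain ⟨m, hm, hmx⟩ := hm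
      exact ⟨m, hm, by rw [hmx, e]⟩
  · exfalso
    push Not at hm
    have h1 : ∀ m ∈ normalizer (A : Set G), m * x * m⁻¹ = x ∨ m * x * m⁻¹ = x' := by
      intro m hmN
      rcases exhaust h S h4 hx hx'A (hconj m hmN x hx) hx1 hx'1 (Ne.symm hnx) with e | e | e | e
      · exfalso
        apply hx1
        have : x = m⁻¹ * (m * x * m⁻¹) * m := by group
        rw [this, e]; group
      · exact Or.inl e
      · exact Or.inr e
      · exact absurd e (hm m hmN)
    have hcomm : x * x' = x' * x := h.comm S x hx x' hx'A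
    have hxx'1 : x * x' ≠ 1 := by
      intro e
      apply hnx
      have : x' = x⁻¹ := (inv_eq_of_mul_eq_one_right e).symm
      rw [this]; exact inv_eq_of_mul_eq_one_left hxx
    obtain ⟨m, hmN, hmx⟩ := exists_moved h S h4 (mul_mem hx hx'A) hxx'1
    apply hmx
    have e1 : m * (x * x') * m⁻¹ = (m * x * m⁻¹) * (m * n * x * (m * n)⁻¹) := by
      rw [hx']; group
    have e2 : m * x' * m⁻¹ = m * n * x * (m * n)⁻¹ := by rw [hx']; group
    have hne : m * x * m⁻¹ ≠ m * x' * m⁻¹ := by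
      intro e
      exact hnx (mul_left_cancel (mul_right_cancel e)).symm
    rw [e1]
    rw [e2] at hne
    rcases h1 m hmN with e3 | e3 <;> rcases h1 (m * n) (mul_mem hmN hn) with e4 | e4
    · exact absurd (e3.trans e4.symm) hne
    · rw [e3, e4]
    · rw [e3, e4, hcomm]
    · exact absurd (e3.trans e4.symm) hne

/-- An element of `N_G(A)` fixing an element of `A#` centralizes `A`. -/
theorem stab {n x : G} (hn : n ∈ normalizer (fam 𝒜 (S : Subgroup G) : Set G))
    (hx : x ∈ fam 𝒜 (S : Subgroup G)) (hx1 : x ≠ 1) (hnx : n * x * n⁻¹ = x) :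
    n ∈ centralizer (fam 𝒜 (S : Subgroup G) : Set G) := by
  classical
  by_contra hcon
  haveI hfin : Fintype (fam 𝒜 (S : Subgroup G)) := Fintype.ofFinite _
  -- an element `y` moved by `n`
  obtain ⟨y, hy, hny⟩ : ∃ y ∈ fam 𝒜 (S : Subgroup G), n * y * n⁻¹ ≠ y := by
    by_contra hc
    push Not at hc
    apply hcon
    rw [mem_centralizer_iff]
    intro y hy
    have := hc y hy
    calc y * n = (n * y * n⁻¹) * n := by rw [this]
      _ = n * y := by group
  have hy1 : y ≠ 1 := by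
    rintro rfl
    exact hny (by simp)
  have hyx : y ≠ x := by
    rintro rfl
    exact hny hnx
  have hnyA : n * y * n⁻¹ ∈ fam 𝒜 (S : Subgroup G) := (mem_normalizer_iff.1 hn y).1 hy
  have hny' : n * y * n⁻¹ = x * y := by
    rcases exhaust h S h4 hx hy hnyA hx1 hy1 (Ne.symm hyx) with e | e | e | e
    · exfalso
      apply hy1
      have : y = n⁻¹ * (n * y * n⁻¹) * n := by group
      rw [this, e]; group
    · exfalso
      exact hyx (mul_left_cancel (mul_right_cancel (e.trans hnx.symm)))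
    · exact absurd e hny
    · exact e
  -- the sign homomorphism
  let f : ↥(normalizer (fam 𝒜 (S : Subgroup G) : Set G)) →* ℤˣ :=
    (Equiv.Perm.sign (α := fam 𝒜 (S : Subgroup G))).comp
      ((MulAut.toPerm (fam 𝒜 (S : Subgroup G))).comp (normalizerMonoidHom (fam 𝒜 (S : Subgroup G))))
  have happ : ∀ a : fam 𝒜 (S : Subgroup G),
      ((((MulAut.toPerm (fam 𝒜 (S : Subgroup G))).comp (normalizerMonoidHom (fam 𝒜 (S : Subgroup G))))
        ⟨n, hn⟩ : Equiv.Perm (fam 𝒜 (S : Subgroup G))) a : G) = n * a * n⁻¹ := fun a => rfl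
  have hperm : ((MulAut.toPerm (fam 𝒜 (S : Subgroup G))).comp (normalizerMonoidHom (fam 𝒜 (S : Subgroup G))))
      ⟨n, hn⟩ = Equiv.swap (⟨y, hy⟩ : fam 𝒜 (S : Subgroup G)) ⟨x * y, mul_mem hx hy⟩ := by
    have hxyy : x * y ≠ y := fun e => hx1 (mul_eq_right.1 e)
    have hxyx : x * y ≠ x := fun e => hy1 (mul_eq_left.1 e)
    have hxy1 : x * y ≠ 1 := by
      intro e
      apply hyx
      have : y = x⁻¹ := (inv_eq_of_mul_eq_one_right e).symm
      rw [this]; exact inv_eq_of_mul_eq_one_left (h.sq S x hx)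
    ext ⟨a, ha⟩
    rw [happ]
    rcases exhaust h S h4 hx hy ha hx1 hy1 (Ne.symm hyx) with e | e | e | e
    · subst e
      rw [Equiv.swap_apply_of_ne_of_ne]
      · simp
      · intro e; exact hy1 (congrArg Subtype.val e).symm
      · intro e; exact hxy1 (congrArg Subtype.val e).symm
    · subst e
      rw [Equiv.swap_apply_of_ne_of_ne]
      · exact hnx
      · intro e; exact hyx (congrArg Subtype.val e).symm
      · intro e; exact hxyx (congrArg Subtype.val e).symm
    · subst e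
      rw [Equiv.swap_apply_left]
      exact hny'
    · subst e
      rw [Equiv.swap_apply_right]
      change n * (x * y) * n⁻¹ = y
      have e1 : n * (x * y) * n⁻¹ = (n * x * n⁻¹) * (n * y * n⁻¹) := by group
      rw [e1, hnx, hny', ← mul_assoc, h.sq S x hx, one_mul]
  have hf : f ⟨n, hn⟩ = -1 := by
    change Equiv.Perm.sign (((MulAut.toPerm (fam 𝒜 (S : Subgroup G))).comp
      (normalizerMonoidHom (fam 𝒜 (S : Subgroup G)))) ⟨n, hn⟩) = -1
    rw [hperm, Equiv.Perm.sign_swap]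
    intro e
    have e' : y = x * y := congrArg Subtype.val e
    exact hx1 (mul_eq_right.1 e'.symm)
  obtain ⟨H, hH⟩ := IndexTwo.exists_index_two_of_hom f _ hf
  exact h.index_ne_two S H hH

/-- `A` is central in `S`. -/
theorem central : ∀ a ∈ fam 𝒜 (S : Subgroup G), ∀ s ∈ (S : Subgroup G), s * a = a * s := by
  classical
  haveI : Fact (Nat.Prime 2) := ⟨Nat.prime_two⟩
  haveI hfin : Fintype (fam 𝒜 (S : Subgroup G)) := Fintype.ofFinite _
  intro a ha s hs
  have hsN : s ∈ normalizer (fam 𝒜 (S : Subgroup G) : Set G) := h.le_normalizer S hs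
  -- the action of `⟨s⟩` on `A` has an even number of fixed points
  have hsp : IsPGroup 2 (zpowers s) := S.isPGroup'.to_le (by rwa [zpowers_le])
  let φ : zpowers s →* Equiv.Perm (fam 𝒜 (S : Subgroup G)) :=
    ((MulAut.toPerm (fam 𝒜 (S : Subgroup G))).comp (normalizerMonoidHom (fam 𝒜 (S : Subgroup G)))).comp
      (inclusion (by rwa [zpowers_le] : zpowers s ≤ normalizer (fam 𝒜 (S : Subgroup G) : Set G)))
  letI : MulAction (zpowers s) (fam 𝒜 (S : Subgroup G)) := MulAction.compHom _ φ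
  have hsmul : ∀ (g : zpowers s) (b : fam 𝒜 (S : Subgroup G)), ((g • b : fam 𝒜 (S : Subgroup G)) : G) =
      (g : G) * b * (g : G)⁻¹ := fun g b => rfl
  have hmod := hsp.card_modEq_card_fixedPoints (fam 𝒜 (S : Subgroup G))
  rw [h4] at hmod
  have heven : 2 ∣ Nat.card (MulAction.fixedPoints (zpowers s) (fam 𝒜 (S : Subgroup G))) :=
    (Nat.ModEq.dvd_iff hmod (dvd_refl 2)).1 (by norm_num)
  have h1mem : (⟨1, one_mem _⟩ : fam 𝒜 (S : Subgroup G)) ∈
      MulAction.fixedPoints (zpowers s) (fam 𝒜 (S : Subgroup G)) := by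
    intro g
    apply Subtype.ext
    rw [hsmul]; simp
  obtain ⟨b, hb, hb1⟩ : ∃ b ∈ MulAction.fixedPoints (zpowers s) (fam 𝒜 (S : Subgroup G)),
      b ≠ ⟨1, one_mem _⟩ := by
    by_contra hcon
    push Not at hcon
    have : Nat.card (MulAction.fixedPoints (zpowers s) (fam 𝒜 (S : Subgroup G))) = 1 := by
      rw [Nat.card_eq_one_iff_unique]
      exact ⟨⟨fun x y => Subtype.ext ((hcon x x.2).trans (hcon y y.2).symm)⟩, ⟨⟨_, h1mem⟩⟩⟩
    omega
  have hsb : s * b * s⁻¹ = b := by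
    have := hb ⟨s, mem_zpowers s⟩
    have := congrArg Subtype.val this
    rw [hsmul] at this
    exact this
  have hc := stab h S h4 hsN b.2 (fun e => hb1 (Subtype.ext e)) hsb
  exact ((mem_centralizer_iff.1 hc) a ha).symm

/-- `C(w) = O(C(w)) C(A)`. -/
theorem cent_decomp (hs : Solid 𝒜 S) {w c : G} (hw : w ∈ fam 𝒜 (S : Subgroup G)) (hw1 : w ≠ 1)
    (hc : c * w = w * c) : ∃ o ∈ core (centralizer ({w} : Set G)),
      ∃ n ∈ centralizer (fam 𝒜 (S : Subgroup G) : Set G), c = o * n := by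
  obtain ⟨o, ho, n, hn, e⟩ := hs w hw hw1 c hc
  refine ⟨o, ho, n, ?_, e⟩
  apply stab h S h4 hn hw hw1
  have h1 : o * w = w * o := mem_cent.1 (core_le _ ho)
  have e1 : n = o⁻¹ * c := by rw [e]; group
  have h2 : n * w = w * n := by
    rw [e1]
    calc o⁻¹ * c * w = o⁻¹ * (c * w) := by group
      _ = o⁻¹ * w * c := by rw [hc]; group
      _ = w * o⁻¹ * c := by rw [(show Commute o w from h1).inv_left.eq]
      _ = w * (o⁻¹ * c) := by group
  rw [h2]; group

omit [Finite G] h h4 in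
theorem centralizer_le_cent {w : G} (hw : w ∈ fam 𝒜 (S : Subgroup G)) :
    centralizer (fam 𝒜 (S : Subgroup G) : Set G) ≤ centralizer ({w} : Set G) :=
  centralizer_le (by simpa using hw)

/-- `O(C(w)) ∩ C(A) = O(C(A))`. -/
theorem core_inf_centralizer (hs : Solid 𝒜 S) {w : G} (hw : w ∈ fam 𝒜 (S : Subgroup G)) (hw1 : w ≠ 1) :
    core (centralizer ({w} : Set G)) ⊓ centralizer (fam 𝒜 (S : Subgroup G) : Set G) =
      core (centralizer (fam 𝒜 (S : Subgroup G) : Set G)) := by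
  apply le_antisymm
  · apply le_core inf_le_right
    · rintro g hg k ⟨hk1, hk2⟩
      exact ⟨conj_mem_core (centralizer_le_cent S hw hg) hk1,
        Subgroup.mul_mem _ (Subgroup.mul_mem _ hg hk2) (Subgroup.inv_mem _ hg)⟩
    · have h1 := odd_core (centralizer ({w} : Set G))
      exact h1.of_dvd_nat (Subgroup.card_dvd_of_le inf_le_left)
  · apply le_inf _ (core_le _)
    -- `O(C(w)) O(C(A))` is a normal subgroup of odd order of `C(w)`
    set K := core (centralizer ({w} : Set G)) with hK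
    set V := core (centralizer (fam 𝒜 (S : Subgroup G) : Set G)) with hV
    have hVC : V ≤ centralizer ({w} : Set G) := (core_le _).trans (centralizer_le_cent S hw)
    have hVK : V ≤ normalizer (K : Set G) := by
      rw [le_normalizer_iff]
      intro v hv k hk
      exact conj_mem_core (hVC hv) hk
    have hmem : ∀ x, x ∈ V ⊔ K ↔ ∃ v ∈ V, ∃ k ∈ K, x = v * k := by
      intro x
      have h1 : x ∈ V ⊔ K ↔ x ∈ ((V ⊔ K : Subgroup G) : Set G) := Iff.rfl
      rw [h1, coe_mul_of_left_le_normalizer_right _ _ hVK, Set.mem_mul]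
      constructor
      · rintro ⟨v, hv, k, hk, e⟩; exact ⟨v, hv, k, hk, e.symm⟩
      · rintro ⟨v, hv, k, hk, e⟩; exact ⟨v, hv, k, hk, e.symm⟩
    have h1 : V ⊔ K ≤ core (centralizer ({w} : Set G)) := by
      apply le_core (sup_le hVC (core_le _))
      · intro g hg x hx
        obtain ⟨v, hv, k, hk, rfl⟩ := (hmem x).1 hx
        obtain ⟨o, ho, n, hn, rfl⟩ := cent_decomp h S h4 hs hw hw1 (mem_cent.1 hg)
        have hnv : n * v * n⁻¹ ∈ V := conj_mem_core hn hv
        have hgk : o * n * k * (o * n)⁻¹ ∈ K := conj_mem_core hg hk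
        have e : o * n * (v * k) * (o * n)⁻¹ =
            (o * (n * v * n⁻¹) * o⁻¹) * (o * n * k * (o * n)⁻¹) := by group
        rw [e]
        exact mul_mem (mul_mem (mul_mem ((le_sup_right : K ≤ V ⊔ K) ho) ((le_sup_left : V ≤ V ⊔ K) hnv))
          (inv_mem ((le_sup_right : K ≤ V ⊔ K) ho))) ((le_sup_right : K ≤ V ⊔ K) hgk)
      · have e1 : Odd (Nat.card V) := odd_core _
        have e2 : Odd (Nat.card K) := odd_core _
        exact (e2.mul e1).of_dvd_nat (card_sup_dvd_of_le_normalizer hVK)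
    exact le_sup_left.trans h1

/-- If the cores `O(C(w))`, `w ∈ A#`, centralize `A` we get a contradiction (S1174). -/
theorem false_of_core_le (h1174 : SE1174 G) (hs : Solid 𝒜 S)
    (hle : ∀ w ∈ fam 𝒜 (S : Subgroup G), w ≠ 1 →
      core (centralizer ({w} : Set G)) ≤ centralizer (fam 𝒜 (S : Subgroup G) : Set G)) : False := by
  apply h.false_of_cent_le S h1174 (h.normalizer_ne_top S)
  intro a ha ha1 c hc
  obtain ⟨o, ho, n, hn, rfl⟩ := cent_decomp h S h4 hs ha ha1 (mem_cent.1 hc)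
  exact mul_mem (centralizer_le_normalizer _ (hle a ha ha1 ho)) (centralizer_le_normalizer _ hn)

end

end Cfsg.Agent.TwoFusion.GoldFour
end

-- part: TwoFusion/GoldSolid
section
/-!
# Goldschmidt's theorem: centralizers without active components

* `exists_sylow_push`: the image of `A` in `H/O(H)` is the trace of the image of the family on a Sylow subgroup;
* `exists_mul_of_mem_normalizer`: normalizers lift modulo the core;
* `mul_of_not_act`: if no component of `C(w)/O(C(w))` is active, then `C(w) = O(C(w)) (N(A) ∩ C(w))`;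
* `not_act_four`: if `|A| = 4` then no component of `C(w)/O(C(w))`, `w ∈ A#`, is active;
* `solid`: `|A| = 4` implies `Solid 𝒜 S`.
-/

set_option autoImplicit false
set_option linter.style.haveILetI false

namespace Cfsg.Agent.TwoFusion.GoldSolid

open Subgroup
open Cfsg.Agent.TwoFusion.ClosedFam Cfsg.Agent.TwoFusion.Gold Cfsg.Agent.TwoFusion.GoldSetup
open Cfsg.Agent.TwoFusion.ClosedLocal Cfsg.Agent.TwoFusion.GoldFour

universe u

section Push

variable {G : Type u} [Group G] [Finite G] {𝒜 : Set G} (h : IsElemFam 𝒜) (S : Sylow 2 G)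

include h

/-- A Sylow 2-subgroup of `H/O(H)` whose trace of the family is the image of `A`. -/
theorem exists_sylow_push {H : Subgroup G} (hAH : fam 𝒜 (S : Subgroup G) ≤ H) :
    ∃ P : Sylow 2 (↥H ⧸ Cfsg.oddCore ↥H), fam (push 𝒜 H) (P : Subgroup (↥H ⧸ Cfsg.oddCore ↥H)) =
      ((fam 𝒜 (S : Subgroup G)).subgroupOf H).map (QuotientGroup.mk' (Cfsg.oddCore ↥H)) := by
  classical
  haveI : Fact (Nat.Prime 2) := ⟨Nat.prime_two⟩
  set A := fam 𝒜 (S : Subgroup G) with hA
  set f := QuotientGroup.mk' (Cfsg.oddCore ↥H) with hf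
  have hfs : Function.Surjective f := QuotientGroup.mk'_surjective _
  have hAp : IsPGroup 2 A := isPGroup_fam 𝒜 S.2
  have hA₁p : IsPGroup 2 (A.subgroupOf H) := hAp.comap_of_injective H.subtype H.subtype_injective
  obtain ⟨P, hP⟩ := (hA₁p.map f).exists_le_sylow
  refine ⟨P, ?_⟩
  have hle : (A.subgroupOf H).map f ≤ fam (push 𝒜 H) (P : Subgroup (↥H ⧸ Cfsg.oddCore ↥H)) := by
    rintro _ ⟨x, hx, rfl⟩
    refine mem_fam ⟨x, ?_, rfl⟩ (hP ⟨x, hx, rfl⟩)
    exact ((h.toIsClosedFam.mem_fam_iff S.2).1 hx).1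
  refine (eq_of_le_of_card_ge hle ?_).symm
  -- the order of the image
  have hinj : Set.InjOn f (A.subgroupOf H : Set H) := by
    intro x hx y hy hxy
    have h1 : x⁻¹ * y ∈ Cfsg.oddCore ↥H := by
      rw [← QuotientGroup.ker_mk' (Cfsg.oddCore ↥H), MonoidHom.mem_ker]
      change f (x⁻¹ * y) = 1
      rw [map_mul, map_inv, hxy]; group
    have h2 : x⁻¹ * y ∈ A.subgroupOf H := mul_mem (inv_mem hx) hy
    have h3 : (x⁻¹ * y) = 1 := by
      have hc : (Nat.card (Cfsg.oddCore ↥H)).Coprime 2 := Cfsg.Agent.Lib.Cores.pPrimeCore_coprime 2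
      obtain ⟨k, hk⟩ := hA₁p ⟨x⁻¹ * y, h2⟩
      have hk' : (x⁻¹ * y) ^ 2 ^ k = 1 := congrArg Subtype.val hk
      have hd1 : orderOf (x⁻¹ * y) ∣ 2 ^ k := orderOf_dvd_of_pow_eq_one hk'
      have hd2 : orderOf (x⁻¹ * y) ∣ Nat.card (Cfsg.oddCore ↥H) := by
        have := orderOf_dvd_natCard (⟨x⁻¹ * y, h1⟩ : Cfsg.oddCore ↥H)
        rwa [← orderOf_coe] at this
      have hcop : Nat.Coprime (2 ^ k) (Nat.card (Cfsg.oddCore ↥H)) :=
        Nat.Coprime.pow_left k hc.symm
      have := Nat.eq_one_of_dvd_coprimes hcop hd1 hd2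
      exact orderOf_eq_one_iff.1 this
    have : y = x * (x⁻¹ * y) := by group
    rw [this, h3, mul_one]
  have hcard1 : Nat.card ((A.subgroupOf H).map f) = Nat.card A := by
    have e1 : Nat.card ((A.subgroupOf H).map f) = Nat.card (A.subgroupOf H) := by
      have : Nat.card ((f '' (A.subgroupOf H : Set H) : Set _)) = Nat.card (A.subgroupOf H : Set H) :=
        Nat.card_image_of_injOn hinj
      exact this
    rw [e1]
    exact Nat.card_congr (subgroupOfEquivOfLe hAH).toEquiv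
  rw [hcard1]
  -- lift the trace of the family
  have hQ' : IsPGroup 2 (fam (push 𝒜 H) (P : Subgroup (↥H ⧸ Cfsg.oddCore ↥H))) := isPGroup_fam _ P.2
  obtain ⟨Q, hQ, -, hlift⟩ := exists_lift hfs _ hQ'
  have hAH' : IsElemFam {x : H | (x : G) ∈ 𝒜} := h.restrict H
  have hcov : fam (push 𝒜 H) (P : Subgroup (↥H ⧸ Cfsg.oddCore ↥H)) ≤ (fam {x : H | (x : G) ∈ 𝒜} Q).map f := by
    intro y hy
    obtain ⟨⟨x, hx, hxy⟩, -⟩ := ((h.push H).toIsClosedFam.mem_fam_iff P.2).1 hy
    have hfx : f x ∈ fam (push 𝒜 H) (P : Subgroup (↥H ⧸ Cfsg.oddCore ↥H)) := by rw [hf, hxy]; exact hy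
    obtain ⟨n, hn, hnx⟩ := hlift x (hAH'.toIsClosedFam.isPGroup_zpowers hx) hfx
    refine ⟨n * x * n⁻¹, mem_fam (hAH'.toIsClosedFam.conj_mem x hx n) hnx, ?_⟩
    rw [MonoidHom.mem_ker] at hn
    rw [map_mul, map_mul, map_inv, hn]
    rw [hf, hxy]; simp
  have h1 : Nat.card (fam (push 𝒜 H) (P : Subgroup (↥H ⧸ Cfsg.oddCore ↥H))) ≤
      Nat.card (fam {x : H | (x : G) ∈ 𝒜} Q) := by
    refine (Subgroup.card_le_of_le hcov).trans ?_
    exact Nat.card_image_le (Set.toFinite _)
  have h2 : Nat.card (fam {x : H | (x : G) ∈ 𝒜} Q) ≤ Nat.card A := by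
    have e1 : Nat.card (fam {x : H | (x : G) ∈ 𝒜} Q) =
        Nat.card ((fam {x : H | (x : G) ∈ 𝒜} Q).map H.subtype) :=
      Nat.card_congr ((fam {x : H | (x : G) ∈ 𝒜} Q).equivMapOfInjective _ H.subtype_injective).toEquiv
    rw [e1, map_fam_restrict]
    obtain ⟨T, hT⟩ := (hQ.map H.subtype).exists_le_sylow
    refine (Subgroup.card_le_of_le (fam_mono 𝒜 hT)).trans ?_
    rw [hA, card_fam_sylow h.toIsClosedFam S T]
  exact h1.trans h2

/-- Normalizers of `A` lift modulo the core. -/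
theorem exists_mul_of_mem_normalizer {H : Subgroup G} (hAH : fam 𝒜 (S : Subgroup G) ≤ H) {c : G} (hc : c ∈ H)
    (hn : (QuotientGroup.mk' (Cfsg.oddCore ↥H)) ⟨c, hc⟩ ∈
      normalizer ((((fam 𝒜 (S : Subgroup G)).subgroupOf H).map (QuotientGroup.mk' (Cfsg.oddCore ↥H)) :
        Subgroup (↥H ⧸ Cfsg.oddCore ↥H)) : Set (↥H ⧸ Cfsg.oddCore ↥H))) :
    ∃ o ∈ core H, ∃ n ∈ normalizer (fam 𝒜 (S : Subgroup G) : Set G), n ∈ H ∧ c = o * n := by
  classical
  set A := fam 𝒜 (S : Subgroup G) with hA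
  set f := QuotientGroup.mk' (Cfsg.oddCore ↥H) with hf
  have hAK : A ≤ normalizer (core H : Set G) := by
    rw [le_normalizer_iff]
    intro a ha k hk
    exact conj_mem_core (hAH ha) hk
  have hmem : ∀ x, x ∈ A ⊔ core H ↔ ∃ a ∈ A, ∃ k ∈ core H, x = a * k := by
    intro x
    have h1 : x ∈ A ⊔ core H ↔ x ∈ ((A ⊔ core H : Subgroup G) : Set G) := Iff.rfl
    rw [h1, coe_mul_of_left_le_normalizer_right _ _ hAK, Set.mem_mul]
    constructor
    · rintro ⟨v, hv, k, hk, e⟩; exact ⟨v, hv, k, hk, e.symm⟩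
    · rintro ⟨v, hv, k, hk, e⟩; exact ⟨v, hv, k, hk, e.symm⟩
  have h2 : A.map (MulAut.conj c).toMonoidHom ≤ A ⊔ core H := by
    rintro _ ⟨a, ha, rfl⟩
    have h3 : f (⟨c, hc⟩ * ⟨a, hAH ha⟩ * ⟨c, hc⟩⁻¹) ∈ (A.subgroupOf H).map f := by
      rw [map_mul, map_mul, map_inv]
      exact (mem_normalizer_iff.1 hn _).1 ⟨⟨a, hAH ha⟩, ha, rfl⟩
    obtain ⟨b, hb, hbe⟩ := h3
    rw [hmem]
    refine ⟨b, hb, (b : G)⁻¹ * (c * a * c⁻¹), ?_, by change c * a * c⁻¹ = _; group⟩
    have h4 : b⁻¹ * (⟨c, hc⟩ * ⟨a, hAH ha⟩ * ⟨c, hc⟩⁻¹) ∈ Cfsg.oddCore ↥H := by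
      rw [← QuotientGroup.ker_mk' (Cfsg.oddCore ↥H), MonoidHom.mem_ker]
      change f (b⁻¹ * (⟨c, hc⟩ * ⟨a, hAH ha⟩ * ⟨c, hc⟩⁻¹)) = 1
      rw [map_mul, map_inv, hbe, inv_mul_cancel]
    exact ⟨_, h4, rfl⟩
  obtain ⟨d, hd, hdc⟩ := exists_conj_fam h.toIsClosedFam S (H := A ⊔ core H) le_sup_left h2
  obtain ⟨a, ha, k, hk, rfl⟩ := (hmem d).1 hd
  have hnorm : a * k * c ∈ normalizer (A : Set G) := mem_normalizer_of_map_conj hdc
  refine ⟨k⁻¹, inv_mem hk, k * c, ?_, ?_, by group⟩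
  · have e : k * c = a⁻¹ * (a * k * c) := by group
    rw [e]
    exact mul_mem (inv_mem (le_normalizer ha)) hnorm
  · exact mul_mem (core_le H hk) hc

end Push

section General

variable {G : Type u} [Group G] [Finite G] {𝒜 : Set G} (h : Setup 𝒜) (S : Sylow 2 G)

include h

omit [Finite G] in
theorem fam_le_centralizer {w : G} (hw : w ∈ fam 𝒜 (S : Subgroup G)) :
    fam 𝒜 (S : Subgroup G) ≤ centralizer ({w} : Set G) := by
  intro a ha
  exact mem_cent.2 (h.comm S a ha w hw)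

/-- If no component of `C(w)/O(C(w))` is active then `C(w) = O(C(w)) N_{C(w)}(A)`. -/
theorem mul_of_not_act {w : G} (hw : w ∈ fam 𝒜 (S : Subgroup G)) (hw1 : w ≠ 1)
    (hn : ∀ L : Subgroup (↥(centralizer ({w} : Set G)) ⧸ Cfsg.oddCore ↥(centralizer ({w} : Set G))),
      Cfsg.IsComponent L → ¬ Act (push 𝒜 (centralizer ({w} : Set G))) L) {c : G} (hc : c * w = w * c) :
    ∃ o ∈ core (centralizer ({w} : Set G)), ∃ n ∈ normalizer (fam 𝒜 (S : Subgroup G) : Set G),
      n ∈ centralizer ({w} : Set G) ∧ c = o * n := by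
  have hAH := fam_le_centralizer h S hw
  obtain ⟨P, hP⟩ := exists_sylow_push h.fam S hAH
  have hN := GoldLayer.normal_of_not_act (h.ctxCent hw1) P hn
  rw [hP] at hN
  refine exists_mul_of_mem_normalizer h.fam S hAH (mem_cent.2 hc) ?_
  rw [normalizer_eq_top_iff.2 hN]
  exact mem_top _

end General

/-! ### Elementary families of order two -/

section Two

variable {L : Type u} [Group L] [Finite L] {ℬ : Set L}

/-- The trace of a nontrivial family on a Sylow subgroup is nontrivial. -/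
theorem fam_ne_bot_of (h : IsElemFam ℬ) (hne : ∃ x ∈ ℬ, x ≠ 1) (T : Sylow 2 L) : fam ℬ (T : Subgroup L) ≠ ⊥ := by
  obtain ⟨x, hx, hx1⟩ := hne
  obtain ⟨g, hg⟩ := GoldLayer.exists_conj_mem h T hx
  intro hbot
  rw [hbot, mem_bot, mul_inv_eq_one, mul_eq_left] at hg
  exact hx1 hg

/-- In a simple nonabelian group the trace of an elementary family on a Sylow subgroup does not have order two
(Glauberman). -/
theorem card_ne_two_of (hsimple : IsSimpleGroup L) (hnonab : ∃ a b : L, a * b ≠ b * a) (h : IsElemFam ℬ)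
    (T : Sylow 2 L) : Nat.card (fam ℬ (T : Subgroup L)) ≠ 2 := by
  intro h2
  have hne : ∃ x ∈ fam ℬ (T : Subgroup L), x ≠ 1 := by
    by_contra hcon
    push Not at hcon
    have : fam ℬ (T : Subgroup L) = ⊥ := by
      rw [eq_bot_iff]; intro x hx; rw [mem_bot]; exact hcon x hx
    rw [this, card_bot] at h2
    omega
  obtain ⟨z, hz, hz1⟩ := hne
  have hz' := (h.toIsClosedFam.mem_fam_iff T.2).1 hz
  have huniq : ∀ y ∈ fam ℬ (T : Subgroup L), y ≠ 1 → y = z := by
    intro y hy hy1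
    rw [Nat.card_eq_two_iff' (⟨1, one_mem _⟩ : fam ℬ (T : Subgroup L))] at h2
    obtain ⟨u, -, hu⟩ := h2
    have e1 := hu ⟨y, hy⟩ (fun e => hy1 (congrArg Subtype.val e))
    have e2 := hu ⟨z, hz⟩ (fun e => hz1 (congrArg Subtype.val e))
    exact congrArg Subtype.val (e1.trans e2.symm)
  obtain ⟨N, hN, hNodd, hcom⟩ := Cfsg.Agent.S0215.result T z (h.orderOf_eq hz'.1 hz1) hz'.2 (by
    intro g hg
    apply huniq
    · rw [h.toIsClosedFam.mem_fam_iff T.2]
      exact ⟨h.conj_mem z hz'.1 g, hg⟩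
    · intro e
      rw [mul_inv_eq_one, mul_eq_left] at e
      exact hz1 e)
  rcases IsSimpleGroup.eq_bot_or_eq_top_of_normal N hN with hb | ht
  · have hzc : z ∈ center L := by
      rw [mem_center_iff]
      intro g
      have := hcom g
      rw [hb, mem_bot] at this
      have e : z * g = g * z := by
        have : z * g * z⁻¹ * g⁻¹ * g * z = g * z := by rw [this]; group
        rw [← this]; group
      exact e.symm
    rcases IsSimpleGroup.eq_bot_or_eq_top_of_normal (center L) inferInstance with hc | hc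
    · rw [hc, mem_bot] at hzc; exact hz1 hzc
    · obtain ⟨a, b, hab⟩ := hnonab
      apply hab
      have : b ∈ center L := by rw [hc]; exact mem_top b
      exact mem_center_iff.1 this a
  · rw [ht, card_top] at hNodd
    have h3 : orderOf z = 2 := h.orderOf_eq hz'.1 hz1
    have h4 : 2 ∣ Nat.card L := h3 ▸ orderOf_dvd_natCard z
    exact (Nat.not_even_iff_odd.2 hNodd) (even_iff_two_dvd.2 h4)

end Two

/-! ### No active components if `A` has order four and meets the centre -/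

section NoAct

variable {X : Type u} [Group X] [Finite X] {𝒜 : Set X}

theorem quasisimple_nonab {K : Type*} [Group K] (hK : Cfsg.IsQuasisimple K) :
    ∃ a b : K ⧸ center K, a * b ≠ b * a := by
  by_contra hcon
  push Not at hcon
  apply Cfsg.Agent.Lib.ComponentSolvable.quasisimple_not_solvable hK
  haveI h1 : Group.IsSolvable (K ⧸ center K) := Group.isSolvable_of_comm hcon
  haveI h2 : Group.IsSolvable ↥(center K) := Group.isSolvable_of_comm (fun a b => by
    apply Subtype.ext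
    exact (mem_center_iff.1 b.2 a))
  exact Group.isSolvable_of_ker_le_range (center K).subtype (QuotientGroup.mk' (center K))
    (by rw [QuotientGroup.ker_mk', Subgroup.range_subtype])

/-- If `A` has order at most four and contains a central involution of `X`, then no component is active. -/
theorem not_act_of_card_le (h : IsElemFam 𝒜) (S : Sylow 2 X) (h4 : Nat.card (fam 𝒜 (S : Subgroup X)) ≤ 4)
    {w : X} (hw : w ∈ 𝒜) (hw1 : w ≠ 1) (hwc : ∀ x : X, w * x = x * w)
    (L : Subgroup X) (hL : Cfsg.IsComponent L) : ¬ Act 𝒜 L := by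
  classical
  haveI : Fact (Nat.Prime 2) := ⟨Nat.prime_two⟩
  rintro ⟨x₀, hx₀, hx₀L, y₀, hy₀, hxy₀⟩
  set f := QuotientGroup.mk' (center ↥L) with hf
  have hfs : Function.Surjective f := QuotientGroup.mk'_surjective _
  have hr : IsElemFam {l : L | (l : X) ∈ 𝒜} := h.restrict L
  set ℬ : Set (↥L ⧸ center ↥L) := f '' {l : L | (l : X) ∈ 𝒜} with hB
  have hBe : IsElemFam ℬ := hr.image hfs
  obtain ⟨T⟩ : Nonempty (Sylow 2 (↥L ⧸ center ↥L)) := inferInstance
  have hne : ∃ b ∈ ℬ, b ≠ 1 := by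
    refine ⟨f ⟨x₀, hx₀L⟩, ⟨⟨x₀, hx₀L⟩, hx₀, rfl⟩, ?_⟩
    intro e
    have h1 : (⟨x₀, hx₀L⟩ : L) ∈ center ↥L := by
      rw [← QuotientGroup.ker_mk' (center ↥L)]; exact e
    have h2 := mem_center_iff.1 h1 ⟨y₀, hy₀⟩
    exact hxy₀ (congrArg Subtype.val h2).symm
  have hTp : IsPGroup 2 (fam ℬ (T : Subgroup (↥L ⧸ center ↥L))) := isPGroup_fam _ T.2
  obtain ⟨Q, hQ, -, hlift⟩ := exists_lift hfs _ hTp
  have hker : ∀ n ∈ f.ker, ∀ l : L, n * l * n⁻¹ = l := by
    intro n hn l
    rw [hf, QuotientGroup.ker_mk'] at hn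
    rw [← mem_center_iff.1 hn l]; group
  -- all the elements of the family over `T` lie in `Q`
  have hcov : ∀ b ∈ fam ℬ (T : Subgroup (↥L ⧸ center ↥L)), ∃ l : L, (l : X) ∈ 𝒜 ∧ l ∈ Q ∧ f l = b := by
    intro b hb
    obtain ⟨⟨l, hl, hlb⟩, -⟩ := (hBe.toIsClosedFam.mem_fam_iff T.2).1 hb
    obtain ⟨n, hn, hnl⟩ := hlift l (hr.toIsClosedFam.isPGroup_zpowers hl) (by rw [hlb]; exact hb)
    rw [hker n hn l] at hnl
    exact ⟨l, hl, hnl, hlb⟩
  -- a 2-group containing `Q` and `w`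
  have hwp : IsPGroup 2 (zpowers w) := h.toIsClosedFam.isPGroup_zpowers hw
  have hQp : IsPGroup 2 (Q.map L.subtype) := hQ.map _
  have hwn : zpowers w ≤ normalizer ((Q.map L.subtype : Subgroup X) : Set X) := by
    rw [zpowers_le, mem_normalizer_iff]
    intro x
    have e : w * x * w⁻¹ = x := by rw [hwc x]; group
    rw [e]
  have hQwp : IsPGroup 2 ((zpowers w ⊔ Q.map L.subtype : Subgroup X)) :=
    IsPGroup.to_sup_of_normal_right' hwp hQp hwn
  obtain ⟨P, hP⟩ := hQwp.exists_le_sylow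
  have hPcard : Nat.card (fam 𝒜 (P : Subgroup X)) ≤ 4 := by
    rw [card_fam_sylow h.toIsClosedFam P S]; exact h4
  have hwP : w ∈ fam 𝒜 (P : Subgroup X) := mem_fam hw (hP ((le_sup_left : zpowers w ≤ _) (mem_zpowers w)))
  have hlP : ∀ l : L, (l : X) ∈ 𝒜 → l ∈ Q → (l : X) ∈ fam 𝒜 (P : Subgroup X) := fun l hl hlQ =>
    mem_fam hl (hP ((le_sup_right : Q.map L.subtype ≤ _) ⟨l, hlQ, rfl⟩))
  -- `w` is not equal to an element with nontrivial image
  have hnw : ∀ l : L, f l ≠ 1 → (l : X) ≠ w := by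
    intro l hl e
    apply hl
    have h1 : l ∈ center ↥L := by
      rw [mem_center_iff]
      intro g
      apply Subtype.ext
      change (g : X) * l = l * g
      rw [e]; exact (hwc g).symm
    rw [← QuotientGroup.ker_mk' (center ↥L)] at h1
    exact h1
  have hcard : Nat.card (fam ℬ (T : Subgroup (↥L ⧸ center ↥L))) = 2 := by
    obtain ⟨b, hb⟩ := Subgroup.ne_bot_iff_exists_ne_one.1 (fam_ne_bot_of hBe hne T)
    rw [Nat.card_eq_two_iff' (⟨1, one_mem _⟩ : fam ℬ (T : Subgroup (↥L ⧸ center ↥L)))]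
    refine ⟨b, hb, ?_⟩
    rintro ⟨c, hc⟩ hc1
    have hc1' : c ≠ 1 := fun e => hc1 (Subtype.ext e)
    have hb1' : (b : ↥L ⧸ center ↥L) ≠ 1 := fun e => hb (Subtype.ext e)
    obtain ⟨l, hl, hlQ, hlb⟩ := hcov b b.2
    obtain ⟨m, hm, hmQ, hmc⟩ := hcov c hc
    apply Subtype.ext
    change c = b
    by_contra hcb
    -- five different elements of `fam 𝒜 P`
    have hl1 : (l : X) ≠ 1 := fun e => hb1' (by
      have : l = 1 := Subtype.ext e
      rw [← hlb, this, map_one])
    have hm1 : (m : X) ≠ 1 := fun e => hc1' (by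
      have : m = 1 := Subtype.ext e
      rw [← hmc, this, map_one])
    have hlm : (l : X) ≠ m := fun e => hcb (by
      have : l = m := Subtype.ext e
      rw [← hlb, ← hmc, this])
    have hlw : (l : X) ≠ w := hnw l (by rw [hlb]; exact hb1')
    have hmw : (m : X) ≠ w := hnw m (by rw [hmc]; exact hc1')
    have hlmL : f (l * m) ≠ 1 := by
      intro e
      apply hcb
      rw [map_mul, hlb, hmc] at e
      have h5 : (b : ↥L ⧸ center ↥L) * b = 1 := hBe.sq _ ((hBe.toIsClosedFam.mem_fam_iff T.2).1 b.2).1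
      exact mul_left_cancel (e.trans h5.symm)
    have hlmw : (l : X) * m ≠ w := hnw (l * m) hlmL
    have hlm1 : (l : X) * m ≠ 1 := fun e => hlmL (by
      have : l * m = 1 := Subtype.ext e
      rw [this, map_one])
    have hlml : (l : X) * m ≠ l := fun e => hm1 (mul_eq_left.1 e)
    have hlmm : (l : X) * m ≠ m := fun e => hl1 (mul_eq_right.1 e)
    let s : Finset (fam 𝒜 (P : Subgroup X)) :=
      {⟨1, one_mem _⟩, ⟨w, hwP⟩, ⟨l, hlP l hl hlQ⟩, ⟨m, hlP m hm hmQ⟩,
        ⟨l * m, mul_mem (hlP l hl hlQ) (hlP m hm hmQ)⟩}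
    have hs : s.card = 5 := by
      simp only [s]
      rw [Finset.card_insert_of_notMem, Finset.card_insert_of_notMem, Finset.card_insert_of_notMem,
        Finset.card_insert_of_notMem, Finset.card_singleton]
      · simp only [Finset.mem_singleton, Subtype.mk.injEq]; exact fun e => hlmm e.symm
      · simp only [Finset.mem_insert, Finset.mem_singleton, Subtype.mk.injEq]
        rintro (e | e)
        · exact hlm e
        · exact hlml e.symm
      · simp only [Finset.mem_insert, Finset.mem_singleton, Subtype.mk.injEq]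
        rintro (e | e | e)
        · exact hlw e.symm
        · exact hmw e.symm
        · exact hlmw e.symm
      · simp only [Finset.mem_insert, Finset.mem_singleton, Subtype.mk.injEq]
        rintro (e | e | e | e)
        · exact hw1 e.symm
        · exact hl1 e.symm
        · exact hm1 e.symm
        · exact hlm1 e.symm
    have hfin : Fintype (fam 𝒜 (P : Subgroup X)) := Fintype.ofFinite _
    have := Finset.card_le_univ s
    rw [hs, ← Nat.card_eq_fintype_card] at this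
    omega
  exact card_ne_two_of hL.2.2 (quasisimple_nonab hL.2) hBe T hcard

end NoAct

section Final

variable {G : Type u} [Group G] [Finite G] {𝒜 : Set G} (h : Setup 𝒜) (S : Sylow 2 G)

include h

/-- If `|A| = 4` then no component of `C(w)/O(C(w))`, `w ∈ A#`, is active. -/
theorem not_act_four (h4 : Nat.card (fam 𝒜 (S : Subgroup G)) = 4) {w : G}
    (hw : w ∈ fam 𝒜 (S : Subgroup G)) (hw1 : w ≠ 1)
    (L : Subgroup (↥(centralizer ({w} : Set G)) ⧸ Cfsg.oddCore ↥(centralizer ({w} : Set G))))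
    (hL : Cfsg.IsComponent L) : ¬ Act (push 𝒜 (centralizer ({w} : Set G))) L := by
  have hAH := fam_le_centralizer h S hw
  obtain ⟨P, hP⟩ := exists_sylow_push h.fam S hAH
  have hwH : w ∈ centralizer ({w} : Set G) := hAH hw
  have hcard : Nat.card (fam (push 𝒜 (centralizer ({w} : Set G)))
      (P : Subgroup (↥(centralizer ({w} : Set G)) ⧸ Cfsg.oddCore ↥(centralizer ({w} : Set G))))) ≤ 4 := by
    rw [hP]
    refine (Nat.card_image_le (Set.toFinite _)).trans ?_
    change Nat.card ((fam 𝒜 (S : Subgroup G)).subgroupOf (centralizer ({w} : Set G))) ≤ 4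
    rw [Nat.card_congr (subgroupOfEquivOfLe hAH).toEquiv, h4]
  have hwA : w ∈ 𝒜 := ((h.mem_iff S).1 hw).1
  refine not_act_of_card_le (h.fam.push _) P hcard
    (w := QuotientGroup.mk' (Cfsg.oddCore ↥(centralizer ({w} : Set G))) ⟨w, hwH⟩) ⟨⟨w, hwH⟩, hwA, rfl⟩ ?_ ?_ L hL
  · intro e
    have h1 : (⟨w, hwH⟩ : centralizer ({w} : Set G)) ∈ Cfsg.oddCore ↥(centralizer ({w} : Set G)) := by
      rw [← QuotientGroup.ker_mk' (Cfsg.oddCore ↥(centralizer ({w} : Set G)))]; exact e
    have h2 : orderOf w ∣ Nat.card (Cfsg.oddCore ↥(centralizer ({w} : Set G))) := by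
      have h3 := orderOf_dvd_natCard (⟨_, h1⟩ : Cfsg.oddCore ↥(centralizer ({w} : Set G)))
      rwa [← orderOf_coe, ← orderOf_coe] at h3
    rw [h.fam.orderOf_eq hwA hw1] at h2
    have h3 : (Nat.card (Cfsg.oddCore ↥(centralizer ({w} : Set G)))).Coprime 2 :=
      Cfsg.Agent.Lib.Cores.pPrimeCore_coprime 2
    have h5 : (2 : ℕ) = 1 := Nat.eq_one_of_dvd_coprimes h3 h2 (dvd_refl 2)
    omega
  · intro x
    obtain ⟨y, rfl⟩ := QuotientGroup.mk'_surjective _ x
    rw [← map_mul, ← map_mul]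
    congr 1
    apply Subtype.ext
    exact (mem_cent.1 y.2).symm

/-- `|A| = 4` implies `Solid`. -/
theorem solid (h4 : Nat.card (fam 𝒜 (S : Subgroup G)) = 4) : Solid 𝒜 S := by
  intro w hw hw1 c hc
  obtain ⟨o, ho, n, hn, -, e⟩ := mul_of_not_act h S hw hw1 (fun L hL => not_act_four h S h4 hw hw1 L hL) hc
  exact ⟨o, ho, n, hn, e⟩

end Final

end Cfsg.Agent.TwoFusion.GoldSolid
end
end

-- part: TwoFusion/GoldNZero
section
prune_inst 0x50000320450010000018000000003c42b2000002004b000011400102048e1c4020050e21e0602f021030884420340048118000000210000020000800411801a0802002029048a00021000180b003180c00000000000000000000000000041000000000000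
set_option linter.all false
open scoped Cfsg.Agent.FastGrp

/-!
# Goldschmidt's theorem: the case without components

If no component of any `C_G(w)/O(C_G(w))`, `w ∈ 𝒜#`, is acted on non-trivially by the family, then
`w ↦ O(C_G(w))` is a signalizer functor on `A` and `G` has a strongly embedded subgroup.
-/

set_option autoImplicit false
set_option linter.style.haveILetI false

namespace Cfsg.Agent.TwoFusion.GoldNZero

open Subgroup Cfsg
open Cfsg.Agent.TwoFusion.ClosedFam Cfsg.Agent.TwoFusion.Gold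
open Cfsg.Agent.SignalizersComponents
open Cfsg.Agent.SignalizersComponents.Components

universe u

section Local

variable {X : Type*} [Group X] [Finite X]

/-- In a group without odd core, what centralises `O₂(X)` and all components lies in `O₂(X)`. -/
theorem mem_pCore_of_centralizes (hO : pPrimeCore 2 X = ⊥) {x : X}
    (h1 : ∀ y ∈ pCore 2 X, y * x = x * y)
    (h2 : ∀ L : Subgroup X, IsComponent L → ∀ l ∈ L, l * x = x * l) : x ∈ pCore 2 X := by
  haveI : Fact (Nat.Prime 2) := ⟨Nat.prime_two⟩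
  have hF := BalanceAux.fitting_eq_pCore 2 hO
  haveI hFn : (generalizedFittingSubgroup X).Normal := Lib.GenFitting.genFitting_normal
  set C : Subgroup X := centralizer (generalizedFittingSubgroup X : Set X) with hC
  have hxC : x ∈ C := by
    have hle : generalizedFittingSubgroup X ≤ centralizer ({x} : Set X) := by
      refine sup_le (sSup_le ?_) ?_
      · intro L hL l hl
        rw [mem_centralizer_singleton_iff]
        exact h2 L hL l hl
      · rw [hF]
        intro y hy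
        rw [mem_centralizer_singleton_iff]
        exact h1 y hy
    rw [hC, mem_centralizer_iff]
    intro y hy
    exact mem_centralizer_singleton_iff.1 (hle hy)
  have hCle : C ≤ generalizedFittingSubgroup X := Lib.GenFitting.centralizer_genFitting_le
  have hCn : C.Normal := inferInstance
  have hcomm : ∀ a ∈ C, ∀ b ∈ C, a * b = b * a := fun a ha b hb =>
    ((mem_centralizer_iff.1 ha) b (hCle hb)).symm
  have hnil : Group.IsNilpotent C := by
    letI : CommGroup C := { (inferInstance : Group C) with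
      mul_comm := fun a b => Subtype.ext (hcomm a a.2 b b.2) }
    infer_instance
  have h3 := Lib.Cores.le_fittingSubgroup hCn hnil
  rw [hF] at h3
  exact h3 hxC

/-- If the family centralises all components, it lies in `O₂(X)`. -/
theorem mem_pCore {ℱ : Set X} (h : IsElemFam ℱ) (hO : pPrimeCore 2 X = ⊥)
    (hc : ∀ L : Subgroup X, IsComponent L → ∀ a ∈ ℱ, ∀ l ∈ L, a * l = l * a) :
    ∀ x ∈ ℱ, x ∈ pCore 2 X := by
  haveI : Fact (Nat.Prime 2) := ⟨Nat.prime_two⟩
  have hP : IsPGroup 2 (pCore 2 X) := Lib.Cores.pCore_isPGroup 2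
  have hPn : (pCore 2 X).Normal := Lib.Cores.pCore_normal 2
  set D := fam ℱ (pCore 2 X) with hD
  have hDn : D.Normal := h.toIsClosedFam.fam_normal (pCore 2 X)
  have memD : ∀ {d : X}, d ∈ D ↔ d ∈ ℱ ∧ d ∈ pCore 2 X := h.toIsClosedFam.mem_fam_iff hP
  have hQ : ∀ a ∈ ℱ, IsPGroup 2 (pCore 2 X ⊔ zpowers a : Subgroup X) := fun a ha =>
    IsPGroup.to_sup_of_normal_left hP (h.toIsClosedFam.isPGroup_zpowers ha)
  have step2 : ∀ a ∈ ℱ, ∀ x ∈ pCore 2 X, a * x * a⁻¹ * x⁻¹ ∈ D := by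
    intro a ha x hx
    rw [memD]
    constructor
    · have h1 : x * a⁻¹ * x⁻¹ ∈ ℱ := h.conj_mem _ (h.toIsClosedFam.inv_mem ha) x
      have haQ : a ∈ (pCore 2 X ⊔ zpowers a : Subgroup X) := le_sup_right (a := pCore 2 X) (mem_zpowers a)
      have hxQ : x ∈ (pCore 2 X ⊔ zpowers a : Subgroup X) := le_sup_left (b := zpowers a) hx
      have h2 := h.mul_mem _ (hQ a ha) a haQ (x * a⁻¹ * x⁻¹)
        (mul_mem (mul_mem hxQ (inv_mem haQ)) (inv_mem hxQ)) ha h1
      have h3 : a * x * a⁻¹ * x⁻¹ = a * (x * a⁻¹ * x⁻¹) := by group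
      rw [h3]; exact h2
    · exact mul_mem (hPn.conj_mem x hx a) (inv_mem hx)
  have step3 : ∀ a ∈ ℱ, ∀ d ∈ D, a * d = d * a := by
    intro a ha d hd
    obtain ⟨hd1, hd2⟩ := memD.1 hd
    exact h.comm (hQ a ha) ha (le_sup_right (a := pCore 2 X) (mem_zpowers a)) hd1
      (le_sup_left (b := zpowers a) hd2)
  let K : Subgroup X :=
    { carrier := {k | (∀ x ∈ pCore 2 X, k * x * k⁻¹ * x⁻¹ ∈ D) ∧ (∀ d ∈ D, k * d = d * k) ∧
        ∀ L : Subgroup X, IsComponent L → ∀ l ∈ L, k * l = l * k}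
      one_mem' := ⟨fun x _ => by simp, fun d _ => by simp, fun L _ l _ => by simp⟩
      mul_mem' := by
        rintro k m ⟨hk1, hk2, hk3⟩ ⟨hm1, hm2, hm3⟩
        refine ⟨fun x hx => ?_, fun d hd => ?_, fun L hL l hl => ?_⟩
        · have h1 := hm1 x hx
          have h2 := hk1 x hx
          have h3 : k * m * x * (k * m)⁻¹ * x⁻¹ =
              (k * (m * x * m⁻¹ * x⁻¹)) * x * k⁻¹ * x⁻¹ := by group
          rw [h3, hk2 _ h1]
          have h4 : (m * x * m⁻¹ * x⁻¹) * k * x * k⁻¹ * x⁻¹ =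
              (m * x * m⁻¹ * x⁻¹) * (k * x * k⁻¹ * x⁻¹) := by group
          rw [h4]
          exact mul_mem h1 h2
        · rw [mul_assoc, hm2 d hd, ← mul_assoc, hk2 d hd, mul_assoc]
        · rw [mul_assoc, hm3 L hL l hl, ← mul_assoc, hk3 L hL l hl, mul_assoc]
      inv_mem' := by
        rintro k ⟨hk1, hk2, hk3⟩
        refine ⟨fun x hx => ?_, fun d hd => ?_, fun L hL l hl => ?_⟩
        · have h1 := hk1 x hx
          have h3 : k⁻¹ * x * k⁻¹⁻¹ * x⁻¹ = k⁻¹ * (k * x * k⁻¹ * x⁻¹)⁻¹ * k := by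
            group
          rw [h3]
          have h4 := hDn.conj_mem _ (inv_mem h1) k⁻¹
          rwa [inv_inv] at h4
        · have h1 := hk2 d hd
          calc k⁻¹ * d = k⁻¹ * (d * k) * k⁻¹ := by group
            _ = k⁻¹ * (k * d) * k⁻¹ := by rw [h1]
            _ = d * k⁻¹ := by group
        · have h1 := hk3 L hL l hl
          calc k⁻¹ * l = k⁻¹ * (l * k) * k⁻¹ := by group
            _ = k⁻¹ * (k * l) * k⁻¹ := by rw [h1]
            _ = l * k⁻¹ := by group }
  have hsq : ∀ k ∈ K, k * k ∈ pCore 2 X := by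
    rintro k ⟨hk1, hk2, hk3⟩
    refine mem_pCore_of_centralizes hO ?_ ?_
    · intro x hx
      have h1 := hk1 x hx
      obtain ⟨hd1, -⟩ := memD.1 h1
      have h2 := h.sq _ hd1
      have h3 := hk2 _ h1
      set d := k * x * k⁻¹ * x⁻¹ with hd
      have h4 : k * x * k⁻¹ = d * x := by rw [hd]; group
      have h5 : k * (k * x * k⁻¹) * k⁻¹ = x := by
        rw [h4]
        calc k * (d * x) * k⁻¹ = (k * d) * x * k⁻¹ := by group
          _ = (d * k) * x * k⁻¹ := by rw [h3]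
          _ = d * (k * x * k⁻¹) := by group
          _ = d * (d * x) := by rw [h4]
          _ = (d * d) * x := by group
          _ = x := by rw [h2, one_mul]
      calc x * (k * k) = (k * (k * x * k⁻¹) * k⁻¹) * (k * k) := by rw [h5]
        _ = k * k * x := by group
    · intro L hL l hl
      have h1 := hk3 L hL l hl
      rw [← mul_assoc, ← h1, mul_assoc, ← h1, ← mul_assoc]
  have hcl : closure ℱ ≤ K := by
    rw [closure_le]
    intro a ha
    exact ⟨step2 a ha, step3 a ha, fun L hL l hl => hc L hL a ha l hl⟩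
  have hpg : IsPGroup 2 (closure ℱ) := by
    rintro ⟨k, hk⟩
    obtain ⟨n, hn⟩ := hP ⟨k * k, hsq k (hcl hk)⟩
    refine ⟨n + 1, ?_⟩
    apply Subtype.ext
    have h1 : (k * k) ^ 2 ^ n = 1 := congrArg Subtype.val hn
    rw [← pow_two, ← pow_mul, ← pow_succ'] at h1
    exact h1
  have hn : (closure ℱ).Normal := by
    refine ⟨fun k hk g => ?_⟩
    have h1 : closure ℱ ≤ (closure ℱ).comap (MulAut.conj g).toMonoidHom := by
      rw [closure_le]
      intro a ha
      exact subset_closure (h.conj_mem a ha g)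
    exact h1 hk
  intro x hx
  exact Lib.Cores.le_pCore hn hpg (subset_closure hx)

end Local

section Global

variable {G : Type*} [Group G] [Finite G] {𝒜 : Set G}

/-- `C_G(b) / O(C_G(b))` -/
abbrev CQ (b : G) : Type _ :=
  centralizer ({b} : Set G) ⧸ pPrimeCore 2 (centralizer ({b} : Set G))

/-- the projection -/
abbrev pr (b : G) : centralizer ({b} : Set G) →* CQ b :=
  QuotientGroup.mk' (pPrimeCore 2 (centralizer ({b} : Set G)))

omit [Finite G] in
theorem fam_le_centralizer (h : IsElemFam 𝒜) (S : Sylow 2 G) {a : G} (ha : a ∈ fam 𝒜 (S : Subgroup G)) :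
    fam 𝒜 (S : Subgroup G) ≤ centralizer ({a} : Set G) := by
  intro x hx
  rw [h.mem_fam_iff S.2] at hx ha
  rw [mem_centralizer_singleton_iff]
  exact h.comm S.2 hx.1 hx.2 ha.1 ha.2

/-- `C_G(a) ≤ O(C_G(a)) N_G(A)` if the family lies in `O₂` modulo the core. -/
theorem centralizer_le (h : IsElemFam 𝒜) (S : Sylow 2 G) {a : G} (ha : a ∈ fam 𝒜 (S : Subgroup G))
    (hmem : ∀ x ∈ push 𝒜 (centralizer ({a} : Set G)), x ∈ pCore 2 (CQ a)) {M : Subgroup G}
    (hcore : centralizerPPrimeCore 2 a ≤ M)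
    (hN : normalizer (fam 𝒜 (S : Subgroup G) : Set G) ≤ M) : centralizer ({a} : Set G) ≤ M := by
  haveI : Fact (Nat.Prime 2) := ⟨Nat.prime_two⟩
  set A := fam 𝒜 (S : Subgroup G) with hA
  have hAC : A ≤ centralizer ({a} : Set G) := fam_le_centralizer h S ha
  have hAp : IsPGroup 2 A := isPGroup_fam 𝒜 S.2
  set N : Subgroup (centralizer ({a} : Set G)) := (pCore 2 (CQ a)).comap (pr a) with hNdef
  haveI hNn : N.Normal := Subgroup.Normal.comap (Lib.Cores.pCore_normal 2) _
  have hAN : A.subgroupOf (centralizer ({a} : Set G)) ≤ N := by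
    intro x hx
    refine hmem _ ⟨x, ?_, rfl⟩
    exact ((h.mem_fam_iff S.2).1 (mem_subgroupOf.1 hx)).1
  have hAp' : IsPGroup 2 ((A.subgroupOf (centralizer ({a} : Set G))).subgroupOf N) :=
    (hAp.comap_of_injective _ (subtype_injective _)).comap_of_injective _ (subtype_injective _)
  obtain ⟨R, hR⟩ := hAp'.exists_le_sylow
  have hfr := R.normalizer_sup_eq_top
  set R1 : Subgroup (centralizer ({a} : Set G)) := (R : Subgroup N).map N.subtype with hR1
  set R2 : Subgroup G := R1.map (centralizer ({a} : Set G)).subtype with hR2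
  have hR2p : IsPGroup 2 R2 := (R.2.map _).map _
  have hAR : A ≤ R2 := by
    intro x hx
    have hx1 : (⟨x, hAC hx⟩ : centralizer ({a} : Set G)) ∈ A.subgroupOf (centralizer ({a} : Set G)) :=
      mem_subgroupOf.2 hx
    exact ⟨⟨x, hAC hx⟩, ⟨⟨_, hAN hx1⟩, hR (mem_subgroupOf.2 hx1), rfl⟩, rfl⟩
  have hfam : fam 𝒜 R2 = A := fam_eq_of_le h.toIsClosedFam S hR2p hAR
  have hNR : (normalizer (R1 : Set (centralizer ({a} : Set G)))).map
      (centralizer ({a} : Set G)).subtype ≤ M := by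
    refine le_trans ?_ hN
    rw [← hfam]
    refine le_trans ?_ (h.toIsClosedFam.normalizer_le_normalizer_fam R2)
    rintro _ ⟨n, hn, rfl⟩
    rw [SetLike.mem_coe] at hn
    refine mem_normalizer_fintype ?_
    rintro _ ⟨r, hr, rfl⟩
    exact ⟨n * r * n⁻¹, (mem_normalizer_iff.1 hn r).1 hr, rfl⟩
  have hNM : N.map (centralizer ({a} : Set G)).subtype ≤ M := by
    rintro _ ⟨n, hn, rfl⟩
    -- `R` covers `N` modulo the core
    have h1 : ∃ r ∈ R1, pr a r = pr a n := by
      let f : N →* pCore 2 (CQ a) := ((pr a).comp N.subtype).codRestrict _ (fun x => x.2)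
      have hf : Function.Surjective f := by
        rintro ⟨y, hy⟩
        obtain ⟨x, rfl⟩ := QuotientGroup.mk'_surjective _ y
        exact ⟨⟨x, hy⟩, rfl⟩
      have h2 : ((R.mapSurjective hf : Sylow 2 (pCore 2 (CQ a))) : Subgroup (pCore 2 (CQ a))) = ⊤ := by
        have h3 : IsPGroup 2 (⊤ : Subgroup (pCore 2 (CQ a))) :=
          (Lib.Cores.pCore_isPGroup (G := CQ a) 2).to_subgroup _
        exact ((R.mapSurjective hf).3 h3 le_top).symm
      have h4 : f ⟨n, hn⟩ ∈ ((R.mapSurjective hf : Sylow 2 (pCore 2 (CQ a))) :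
          Subgroup (pCore 2 (CQ a))) := by rw [h2]; exact mem_top _
      rw [Sylow.coe_mapSurjective] at h4
      obtain ⟨r, hr, hrn⟩ := h4
      exact ⟨r, ⟨r, hr, rfl⟩, congrArg Subtype.val hrn⟩
    obtain ⟨r, hr, hrn⟩ := h1
    have h5 : r⁻¹ * n ∈ pPrimeCore 2 (centralizer ({a} : Set G)) := QuotientGroup.eq.1 hrn
    have h6 : (centralizer ({a} : Set G)).subtype (r⁻¹ * n) ∈ M := hcore ⟨_, h5, rfl⟩
    have h7 : (centralizer ({a} : Set G)).subtype r ∈ M := hNR ⟨r, le_normalizer hr, rfl⟩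
    have h8 := mul_mem h7 h6
    rwa [← map_mul, mul_inv_cancel_left] at h8
  intro c hc
  have h1 : (⟨c, hc⟩ : centralizer ({a} : Set G)) ∈ normalizer (R1 : Set _) ⊔ N := by
    rw [hfr]; exact mem_top _
  have h2 : (normalizer (R1 : Set (centralizer ({a} : Set G))) ⊔ N).map
      (centralizer ({a} : Set G)).subtype ≤ M := by
    rw [Subgroup.map_sup]
    exact sup_le hNR hNM
  exact h2 ⟨_, h1, rfl⟩

/-- Balance. -/
theorem balance {a b : G} (ha2 : orderOf a = 2) (hab : a ∈ centralizer ({b} : Set G))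
    (hmem : pr b ⟨a, hab⟩ ∈ pCore 2 (CQ b)) :
    centralizerPPrimeCore 2 a ⊓ centralizer ({b} : Set G) ≤ centralizerPPrimeCore 2 b := by
  haveI : Fact (Nat.Prime 2) := ⟨Nat.prime_two⟩
  have hO : pPrimeCore 2 (CQ b) = ⊥ := Lib.Cores.pPrimeCore_quotient_pPrimeCore 2
  have hcop : (Nat.card (pPrimeCore 2 (centralizer ({b} : Set G)))).Coprime 2 :=
    Lib.Cores.pPrimeCore_coprime 2
  set a' : centralizer ({b} : Set G) := ⟨a, hab⟩ with ha'
  set Y : Subgroup (centralizer ({b} : Set G)) :=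
    (centralizerPPrimeCore 2 a).subgroupOf (centralizer ({b} : Set G)) with hY
  set Z : Subgroup (CQ b) := Y.map (pr b) with hZ
  have hYodd : (Nat.card Y).Coprime 2 := by
    have h1 : (Nat.card (centralizerPPrimeCore 2 a)).Coprime 2 := by
      rw [centralizerPPrimeCore, card_map_of_injective (subtype_injective _)]
      exact Lib.Cores.pPrimeCore_coprime 2
    have h2 : Nat.card (Y.map (centralizer ({b} : Set G)).subtype) = Nat.card Y :=
      card_map_of_injective (subtype_injective _)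
    rw [← h2]
    refine h1.coprime_dvd_left (card_dvd_of_le ?_)
    rintro _ ⟨y, hy, rfl⟩
    exact mem_subgroupOf.1 hy
  have hZodd : (Nat.card Z).Coprime 2 := hYodd.coprime_dvd_left (card_map_dvd _ _)
  have hapow : IsPGroup 2 (zpowers a') := by
    refine IsPGroup.of_card (n := 1) ?_
    rw [Nat.card_zpowers, ← Subgroup.orderOf_coe, pow_one]
    exact ha2
  -- the centralizer of `a` in the quotient normalises `Z`
  have hnorm : ∀ z : CQ b, z * pr b a' = pr b a' * z → ∀ y ∈ Z, z * y * z⁻¹ ∈ Z := by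
    intro z hz
    obtain ⟨g, rfl⟩ := QuotientGroup.mk'_surjective _ z
    obtain ⟨m, hm, hmg⟩ := PLocal.CoprimeLift.exists_commuting_lift
      (pPrimeCore 2 (centralizer ({b} : Set G))) (zpowers a') hcop hapow g (by
        intro x hx
        rw [← QuotientGroup.ker_mk' (pPrimeCore 2 (centralizer ({b} : Set G))), MonoidHom.mem_ker]
        obtain ⟨k, rfl⟩ := mem_zpowers_iff.1 hx
        have h5 : Commute (pr b a' ^ k) (pr b g) := Commute.zpow_left hz.symm k
        simp only [map_mul, map_inv, map_zpow]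
        rw [h5.eq]
        group)
    have hma := hmg a' (mem_zpowers a')
    rintro _ ⟨y, hy, rfl⟩
    have h1 : QuotientGroup.mk' (pPrimeCore 2 (centralizer ({b} : Set G))) g = pr b (m * g) := by
      rw [map_mul, show pr b m = 1 from (QuotientGroup.eq_one_iff m).2 hm, one_mul]
    rw [h1, ← map_mul, ← map_inv, ← map_mul]
    refine mem_map_of_mem _ ?_
    rw [hY, mem_subgroupOf]
    refine Walter.Embed.conj_mem_core ?_ (mem_subgroupOf.1 hy)
    rw [mem_centralizer_singleton_iff]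
    exact (congrArg Subtype.val hma).symm
  have haZ : ∀ y ∈ Z, y * pr b a' = pr b a' * y := by
    rintro _ ⟨y, hy, rfl⟩
    rw [← map_mul, ← map_mul]
    congr 1
    apply Subtype.ext
    exact mem_centralizer_singleton_iff.1 (Walter.Embed.core_le a (mem_subgroupOf.1 hy))
  have hdisj : ∀ x ∈ Z, x ∈ pCore 2 (CQ b) → x = 1 := by
    intro x hx1 hx2
    obtain ⟨k, hk⟩ := Lib.Cores.pCore_isPGroup (G := CQ b) 2 ⟨x, hx2⟩
    have hk' : x ^ 2 ^ k = 1 := congrArg Subtype.val hk
    have h1 : orderOf x ∣ 2 ^ k := orderOf_dvd_of_pow_eq_one hk'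
    have h2 : orderOf x ∣ Nat.card Z := by
      have := orderOf_dvd_natCard (⟨x, hx1⟩ : Z)
      rwa [← Subgroup.orderOf_coe] at this
    rw [← orderOf_eq_one_iff]
    exact Nat.eq_one_of_dvd_coprimes (hZodd.pow_right k) h2 h1
  have hPn : (pCore 2 (CQ b)).Normal := Lib.Cores.pCore_normal 2
  -- `Z` centralises `O₂`
  have hZP : Z ≤ centralizer (pCore 2 (CQ b) : Set (CQ b)) := by
    refine S0028.result 2 (zpowers (pr b a')) Z (pCore 2 (CQ b)) ?_ hZodd
      (Lib.Cores.pCore_isPGroup 2) ?_ ?_ ?_ ?_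
    · have := hapow.map (pr b)
      rwa [MonoidHom.map_zpowers] at this
    · rw [zpowers_le, mem_centralizer_iff]
      exact haZ
    · rw [normalizer_eq_top_iff.2 hPn]; exact le_top
    · rw [normalizer_eq_top_iff.2 hPn]; exact le_top
    · rintro u ⟨hu1, hu2⟩
      rw [mem_centralizer_iff]
      intro y hy
      have hua : u * pr b a' = pr b a' * u :=
        ((mem_centralizer_iff.1 hu2) _ (mem_zpowers _)).symm
      have h1 : y * (u * y⁻¹ * u⁻¹) ∈ Z := mul_mem hy (hnorm u hua y⁻¹ (inv_mem hy))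
      have h2 : y * (u * y⁻¹ * u⁻¹) ∈ pCore 2 (CQ b) := by
        have h3 := mul_mem (hPn.conj_mem u hu1 y) (inv_mem hu1)
        have h4 : y * u * y⁻¹ * u⁻¹ = y * (u * y⁻¹ * u⁻¹) := by group
        rwa [h4] at h3
      have h3 := hdisj _ h1 h2
      calc y * u = (y * (u * y⁻¹ * u⁻¹)) * (u * y) := by group
        _ = u * y := by rw [h3, one_mul]
  -- `Z` centralises the components
  have hZL : ∀ L : Subgroup (CQ b), IsComponent L → ∀ l ∈ L, ∀ z ∈ Z, l * z = z * l := by
    intro L hL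
    have hLa : ∀ l ∈ L, l * pr b a' = pr b a' * l := by
      have h1 : ⁅L, pCore 2 (CQ b)⁆ = ⊥ := by
        refine component_commutator_solvable hL ?_ ?_
        · rw [normalizer_eq_top_iff.2 hPn]; exact le_top
        · have := (Lib.Cores.pCore_isPGroup (G := CQ b) 2).isNilpotent
          infer_instance
      rw [commutator_comm, commutator_eq_bot_iff_le_centralizer] at h1
      intro l hl
      exact (mem_centralizer_iff.1 (h1 hmem)) l hl
    have hLZ : L ≤ normalizer (Z : Set (CQ b)) := by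
      intro l hl
      refine mem_normalizer_fintype ?_
      intro y hy
      exact hnorm l (hLa l hl) y hy
    rcases component_le_or_commutator_eq_bot_of_le_normalizer hL hLZ with h1 | h1
    · exfalso
      have h2 := BalanceAux.dvd_card_component 2 hO hL
      have h3 : 2 ∣ Nat.card Z := h2.trans (card_dvd_of_le h1)
      exact (Nat.Prime.coprime_iff_not_dvd Nat.prime_two).1 hZodd.symm h3
    · intro l hl z hz
      rw [commutator_comm, commutator_eq_bot_iff_le_centralizer] at h1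
      exact (mem_centralizer_iff.1 (h1 hz)) l hl
  have hZbot : ∀ z ∈ Z, z = 1 := by
    intro z hz
    refine hdisj z hz (mem_pCore_of_centralizes hO ?_ ?_)
    · intro y hy
      exact (mem_centralizer_iff.1 (hZP hz)) y hy
    · intro L hL l hl
      exact hZL L hL l hl z hz
  rintro x ⟨hx1, hx2⟩
  have h1 : pr b ⟨x, hx2⟩ ∈ Z := mem_map_of_mem _ (mem_subgroupOf.2 hx1)
  have h2 := hZbot _ h1
  exact ⟨⟨x, hx2⟩, (QuotientGroup.eq_one_iff _).1 h2, rfl⟩

end Global

/-- **The case without active components.** -/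
theorem false_of_not_act {G : Type u} [Group G] [Finite G] {𝒜 : Set G} (h : GoldSetup.Setup 𝒜)
    (S : Sylow 2 G) (_h8 : 8 ≤ Nat.card (fam 𝒜 (S : Subgroup G)))
    (hN : ∀ w ∈ 𝒜, w ≠ 1 → ∀ L : Subgroup (CQ w), IsComponent L →
      ¬ Act (push 𝒜 (centralizer ({w} : Set G))) L)
    (hOO : ∀ X : Subgroup G, ¬ 2 ∣ Nat.card X → Group.IsSolvable X)
    (hSF : ∀ θ : G → Subgroup G, IsSignalizerFunctor 2 (fam 𝒜 (S : Subgroup G)) θ →
      (∀ a ∈ fam 𝒜 (S : Subgroup G), a ≠ 1 → Group.IsSolvable (θ a)) →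
      ¬ 2 ∣ Nat.card ↥(⨆ a : {a : G // a ∈ fam 𝒜 (S : Subgroup G) ∧ a ≠ 1}, θ a))
    (hSE : GoldSetup.SE1174 G) : False := by
  haveI : Fact (Nat.Prime 2) := ⟨Nat.prime_two⟩
  haveI := h.simple
  apply h.noSE
  set A := fam 𝒜 (S : Subgroup G) with hA
  have memA : ∀ {x : G}, x ∈ A ↔ x ∈ 𝒜 ∧ x ∈ (S : Subgroup G) := h.mem_iff S
  have hmem : ∀ a ∈ A, a ≠ 1 → ∀ x ∈ push 𝒜 (centralizer ({a} : Set G)), x ∈ pCore 2 (CQ a) := by
    intro a ha ha1
    have hf : IsElemFam (push 𝒜 (centralizer ({a} : Set G))) := h.fam.push _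
    have hO : oddCore (CQ a) = ⊥ := Lib.Cores.pPrimeCore_quotient_pPrimeCore 2
    refine mem_pCore hf hO ?_
    intro L hL
    exact comm_of_not_act hf hO hL (hN a (memA.1 ha).1 ha1 L hL)
  have hcc : ∀ a ∈ A, A ≤ centralizer ({a} : Set G) := fun a ha => fam_le_centralizer h.fam S ha
  have hbal : ∀ a ∈ A, a ≠ 1 → ∀ b ∈ A, b ≠ 1 →
      centralizerPPrimeCore 2 a ⊓ centralizer ({b} : Set G) ≤ centralizerPPrimeCore 2 b := by
    intro a ha ha1 b hb hb1
    refine balance (h.fam.orderOf_eq (memA.1 ha).1 ha1) (hcc b hb ha) ?_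
    exact hmem b hb hb1 _ ⟨⟨a, hcc b hb ha⟩, (memA.1 ha).1, rfl⟩
  have hodd2 : ∀ a : G, ¬ 2 ∣ Nat.card (centralizerPPrimeCore 2 a) := by
    intro a
    rw [centralizerPPrimeCore, card_map_of_injective (subtype_injective _)]
    exact (Nat.Prime.coprime_iff_not_dvd Nat.prime_two).1 (Lib.Cores.pPrimeCore_coprime 2).symm
  have hW : ¬ 2 ∣ Nat.card (Walter.Embed.W A) := by
    refine hSF (fun a => centralizerPPrimeCore 2 a) ⟨?_, ?_, ?_, hbal⟩ ?_
    · intro a _ _
      exact Walter.Embed.core_le a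
    · intro a _ _
      exact hodd2 a
    · intro a ha _ b hb x hx
      exact Walter.Embed.conj_mem_core (hcc a ha hb) hx
    · intro a _ _
      exact hOO _ (hodd2 a)
  have hAbot : A ≠ ⊥ := h.fam_ne_bot S
  have hmain : ∀ M : Subgroup G, M ≠ ⊤ → normalizer (A : Set G) ≤ M →
      (∀ a ∈ A, a ≠ 1 → centralizerPPrimeCore 2 a ≤ M) → ∃ H : Subgroup G, IsStronglyEmbedded H := by
    intro M hM hNM hcore
    refine hSE S A hAbot (h.sc S) ?_
    intro htop
    apply hM
    rw [eq_top_iff, ← htop]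
    refine iSup_le ?_
    rintro ⟨t, ht, ht2⟩
    have ht1 : t ≠ 1 := by
      rintro rfl
      rw [orderOf_one] at ht2
      omega
    exact centralizer_le h.fam S ht (hmem t ht ht1) (hcore t ht ht1) hNM
  by_cases hWb : Walter.Embed.W A = ⊥
  · refine hmain (normalizer (A : Set G)) ?_ le_rfl ?_
    · intro htop
      have hAn : A.Normal := normalizer_eq_top_iff.1 htop
      rcases hAn.eq_bot_or_eq_top with h1 | h1
      · exact hAbot h1
      · obtain ⟨a, b, hab⟩ := h.nonab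
        have h2 : ∀ x : G, x ∈ A := fun x => by rw [h1]; exact mem_top x
        exact hab (h.comm S a (h2 a) b (h2 b))
    · intro a ha ha1
      have := Walter.Embed.le_W A ha ha1
      rw [hWb, le_bot_iff] at this
      rw [this]
      exact bot_le
  · refine hmain (normalizer (Walter.Embed.W A : Set G)) ?_
      (Walter.Embed.normalizer_le_normalizer_W A) ?_
    · intro htop
      have hWn : (Walter.Embed.W A).Normal := normalizer_eq_top_iff.1 htop
      rcases hWn.eq_bot_or_eq_top with h1 | h1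
      · exact hWb h1
      · rw [h1, card_top] at hW
        apply hW
        obtain ⟨⟨x, hx⟩, hx1⟩ := Subgroup.ne_bot_iff_exists_ne_one.1 hAbot
        have hx1' : x ≠ 1 := fun e => hx1 (Subtype.ext e)
        rw [← h.fam.orderOf_eq (memA.1 hx).1 hx1']
        exact orderOf_dvd_natCard x
    · intro a ha ha1
      exact (Walter.Embed.le_W A ha ha1).trans le_normalizer

end Cfsg.Agent.TwoFusion.GoldNZero
end

-- part: TwoFusion/GoldM1Glue
section
prune_inst 0x10000000000000000000000000000000000000000000000000000000000000000000000000000000000000000cc00000000000000000000000000000000000000000000000000000000000000000000000000000000000000000000000000000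
set_option linter.all false
open scoped Cfsg.Agent.FastGrp

-- part: TwoFusion/GoldM1Base
section
/-!
# Case [M1] of Goldschmidt's theorem: the elementary fields of the frame

`Base S A`: `A` is a strongly closed four-subgroup of the Sylow 2-subgroup `S`, containing all involutions of `S`,
`N_G(A)` is irreducible on `A` and has no subgroup of index two.
-/

set_option autoImplicit false
set_option linter.style.haveILetI false

namespace Cfsg.Agent.TwoFusion.GoldM1Base

open Subgroup Equiv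
open Cfsg.Agent.TwoFusion.ClosedFam Cfsg.Agent.TwoFusion.Gold Cfsg.Agent.TwoFusion.GoldSetup
open Cfsg.Agent.TwoFusion.ClosedLocal
open Cfsg.Agent.Classification.TypeB.Core (oc oc_le odd_oc le_oc le_normalizer_oc)

universe u

/-! ### Even permutations of three points -/

theorem fin3 : ∀ σ : Perm (Fin 3), Perm.sign σ = 1 → σ ≠ 1 →
    (∀ x, σ x ≠ x) ∧ (∀ x y, x = y ∨ σ x = y ∨ σ (σ x) = y) ∧ σ ^ 3 = 1 := by decide +kernel

theorem fin3' : ∀ σ τ : Perm (Fin 3), Perm.sign σ = 1 → σ ≠ 1 → Perm.sign τ = 1 → τ ≠ 1 →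
    σ = τ ∨ σ = τ⁻¹ := by decide +kernel

theorem three {T : Type*} [Fintype T] [DecidableEq T] (hT : Fintype.card T = 3) (σ : Perm T)
    (h1 : Perm.sign σ = 1) (h2 : σ ≠ 1) :
    (∀ x, σ x ≠ x) ∧ (∀ x y, x = y ∨ σ x = y ∨ σ (σ x) = y) ∧ σ ^ 3 = 1 := by
  let e : T ≃ Fin 3 := Fintype.equivFinOfCardEq hT
  let f : Perm T ≃* Perm (Fin 3) := e.permCongrHom
  have hf : ∀ (τ : Perm T) (x : T), f τ (e x) = e (τ x) := fun τ x => by simp [f]
  have h3 := fin3 (f σ) (by
    show Perm.sign (e.permCongr σ) = 1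
    rw [Perm.sign_permCongr]; exact h1) (fun h => h2 (f.injective (by rw [h, map_one])))
  refine ⟨fun x hx => h3.1 (e x) (by rw [hf, hx]), fun x y => ?_, f.injective (by
    rw [map_pow, map_one]; exact h3.2.2)⟩
  rcases h3.2.1 (e x) (e y) with h | h | h
  · exact Or.inl (e.injective h)
  · rw [hf] at h
    exact Or.inr (Or.inl (e.injective h))
  · rw [hf, hf] at h
    exact Or.inr (Or.inr (e.injective h))

theorem three' {T : Type*} [Fintype T] [DecidableEq T] (hT : Fintype.card T = 3) (σ τ : Perm T)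
    (h1 : Perm.sign σ = 1) (h2 : σ ≠ 1) (h3 : Perm.sign τ = 1) (h4 : τ ≠ 1) : σ = τ ∨ σ = τ⁻¹ := by
  let e : T ≃ Fin 3 := Fintype.equivFinOfCardEq hT
  let f : Perm T ≃* Perm (Fin 3) := e.permCongrHom
  have hs : ∀ ρ : Perm T, Perm.sign (f ρ) = Perm.sign ρ := fun ρ => by
    show Perm.sign (e.permCongr ρ) = _
    rw [Perm.sign_permCongr]
  have hn : ∀ ρ : Perm T, ρ ≠ 1 → f ρ ≠ 1 := fun ρ h h' => h (f.injective (by rw [h', map_one]))
  rcases fin3' (f σ) (f τ) (by rw [hs, h1]) (hn _ h2) (by rw [hs, h3]) (hn _ h4) with h | h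
  · exact Or.inl (f.injective h)
  · exact Or.inr (f.injective (by rw [h, map_inv]))

/-- The base hypotheses of case [M1]. -/
structure Base {G : Type*} [Group G] [Finite G] (S : Sylow 2 G) (A : Subgroup G) : Prop where
  sc : Cfsg.IsStronglyClosed A (S : Subgroup G)
  sq : ∀ a ∈ A, a * a = 1
  card : Nat.card A = 4
  inv : ∀ s ∈ (S : Subgroup G), s * s = 1 → s ∈ A
  irr : ∀ B : Subgroup G, B ≤ A → (∀ n ∈ normalizer (A : Set G), ∀ x ∈ B, n * x * n⁻¹ ∈ B) → B = ⊥ ∨ B = A
  idx : ∀ N₀ : Subgroup ↥(normalizer (A : Set G)), N₀.index ≠ 2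

/-- The base hypotheses hold in the minimal counterexample. -/
theorem base_of_setup {G : Type u} [Group G] [Finite G] {𝒜 : Set G} (h : Setup 𝒜) (S : Sylow 2 G)
    (hc : Nat.card (ClosedFam.fam 𝒜 (S : Subgroup G)) = 4)
    (hinv : ∀ s ∈ (S : Subgroup G), s * s = 1 → s ∈ ClosedFam.fam 𝒜 (S : Subgroup G)) :
    Base S (ClosedFam.fam 𝒜 (S : Subgroup G)) where
  sc := h.sc S
  sq := h.sq S
  card := hc
  inv := hinv
  irr _ hB hB' := h.irreducible S hB hB'
  idx := h.index_ne_two S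

/-- Transport of the structure of a Sylow 2-subgroup of `PSU(3,4)`. -/
theorem transport {X Y : Type*} [Group X] [Group Y] {S A : Subgroup X} {L T Z : Subgroup Y} (hAS : A ≤ S)
    (sq : ∀ a ∈ A, a * a = 1) (inv : ∀ s ∈ S, s * s = 1 → s ∈ A) (e : S ≃* T)
    (hZ : GoldU34.U34Data L T Z) : Nat.card S = 64 ∧ (∀ s ∈ S, ∀ u ∈ S, s * u * s⁻¹ * u⁻¹ ∈ A) ∧
    (∀ s ∈ S, s ∉ A → ∀ x ∈ A, ∃ u ∈ S, s * u * s⁻¹ * u⁻¹ = x) := by
  have hAZ : ∀ s : S, (s : X) ∈ A ↔ ((e s : T) : Y) ∈ Z := by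
    intro s
    constructor
    · intro hs
      apply hZ.inv _ (e s).2
      have h1 : s * s = 1 := Subtype.ext (sq _ hs)
      have h2 : e s * e s = 1 := by rw [← map_mul, h1, map_one]
      exact congrArg Subtype.val h2
    · intro hs
      apply inv _ s.2
      have h1 : e s * e s = 1 := Subtype.ext (hZ.sq_eq _ hs)
      have h2 : s * s = 1 := e.injective (by rw [map_mul, h1, map_one])
      exact congrArg Subtype.val h2
  refine ⟨?_, ?_, ?_⟩
  · rw [Nat.card_congr e.toEquiv]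
    exact hZ.card_T
  · intro s hs u hu
    have h1 := hZ.comm_mem _ (e ⟨s, hs⟩).2 _ (e ⟨u, hu⟩).2
    have h2 : e (⟨s, hs⟩ * ⟨u, hu⟩ * (⟨s, hs⟩ : S)⁻¹ * (⟨u, hu⟩ : S)⁻¹) =
      e ⟨s, hs⟩ * e ⟨u, hu⟩ * (e ⟨s, hs⟩)⁻¹ * (e ⟨u, hu⟩)⁻¹ := by
      simp only [map_mul, map_inv]
    have h3 : ((e (⟨s, hs⟩ * ⟨u, hu⟩ * (⟨s, hs⟩ : S)⁻¹ * (⟨u, hu⟩ : S)⁻¹) : T) : Y) ∈ Z := by
      rw [h2]; exact h1
    exact (hAZ _).2 h3
  · intro s hs hsA x hx
    have h1 : ((e ⟨s, hs⟩ : T) : Y) ∉ Z := fun h2 => hsA ((hAZ ⟨s, hs⟩).2 h2)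
    obtain ⟨u, hu, hu'⟩ := hZ.surj _ (e ⟨s, hs⟩).2 h1 _ ((hAZ ⟨x, hAS hx⟩).1 hx)
    refine ⟨(e.symm ⟨u, hu⟩ : S), (e.symm ⟨u, hu⟩).2, ?_⟩
    have h4 : (⟨s, hs⟩ : S) * e.symm ⟨u, hu⟩ * (⟨s, hs⟩ : S)⁻¹ * (e.symm ⟨u, hu⟩)⁻¹ = ⟨x, hAS hx⟩ := by
      apply e.injective
      simp only [map_mul, map_inv, MulEquiv.apply_symm_apply]
      exact Subtype.ext hu'
    exact congrArg Subtype.val h4

namespace Base

variable {G : Type u} [Group G] [Finite G] {S : Sylow 2 G} {A : Subgroup G} (h : Base S A)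

/-- The action of `N_G(A)` on `A#`. -/
def act (A : Subgroup G) : ↥(normalizer (A : Set G)) →* Perm {x : G // x ∈ A ∧ x ≠ 1} where
  toFun n :=
    { toFun := fun x => ⟨n * x * (n : G)⁻¹, (mem_normalizer_iff.1 n.2 _).1 x.2.1, fun e => x.2.2 (by
        have e1 : (x : G) = (n : G)⁻¹ * (n * x * (n : G)⁻¹) * n := by group
        rw [e1, e]; group)⟩
      invFun := fun x => ⟨(n : G)⁻¹ * x * n, by
        have := (mem_normalizer_iff.1 (inv_mem n.2) x).1 x.2.1
        rwa [inv_inv] at this, fun e => x.2.2 (by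
        have e1 : (x : G) = (n : G) * ((n : G)⁻¹ * x * n) * (n : G)⁻¹ := by group
        rw [e1, e]; group)⟩
      left_inv := fun x => Subtype.ext (by
        show (n : G)⁻¹ * (n * x * (n : G)⁻¹) * n = x
        group)
      right_inv := fun x => Subtype.ext (by
        show (n : G) * ((n : G)⁻¹ * x * n) * (n : G)⁻¹ = x
        group) }
  map_one' := by
    ext x
    simp only [_root_.ne_eq, _root_.OneMemClass.coe_one, _root_.one_mul, _root_.inv_one, _root_.mul_one, _root_.Subtype.coe_eta, _root_.Equiv.coe_fn_mk, _root_.Equiv.Perm.coe_one, _root_.id_eq]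
  map_mul' m n := by
    ext x
    show ((m : G) * n) * x * ((m : G) * n)⁻¹ = m * (n * x * (n : G)⁻¹) * (m : G)⁻¹
    group

omit [Finite G] in
theorem act_apply (n : ↥(normalizer (A : Set G))) (x : {x : G // x ∈ A ∧ x ≠ 1}) :
    ((act A n x : {x : G // x ∈ A ∧ x ≠ 1}) : G) = n * x * (n : G)⁻¹ := rfl

omit [Finite G] in
theorem act_eq_one_iff (n : ↥(normalizer (A : Set G))) :
    act A n = 1 ↔ ∀ x ∈ A, (n : G) * x = x * n := by
  constructor
  · intro e x hx
    by_cases h1 : x = 1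
    · rw [h1]; group
    have h2 := congrArg (fun σ : Perm {x : G // x ∈ A ∧ x ≠ 1} => ((σ ⟨x, hx, h1⟩ : {x : G // x ∈ A ∧ x ≠ 1}) : G)) e
    have h3 : (n : G) * x * (n : G)⁻¹ = x := h2
    rwa [mul_inv_eq_iff_eq_mul] at h3
  · intro e
    ext x
    show (n : G) * x * (n : G)⁻¹ = x
    rw [mul_inv_eq_iff_eq_mul]
    exact e x x.2.1

noncomputable instance : Fintype {x : G // x ∈ A ∧ x ≠ 1} := Fintype.ofFinite _
noncomputable instance : DecidableEq {x : G // x ∈ A ∧ x ≠ 1} := Classical.decEq _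

include h

theorem card_pts : Fintype.card {x : G // x ∈ A ∧ x ≠ 1} = 3 := by
  have h1 : Nat.card {x : G // x ∈ A ∧ x ≠ 1} = 3 := by
    have e1 : ((A : Set G) \ {1}).ncard = (A : Set G).ncard - 1 :=
      Set.ncard_sdiff_singleton_of_mem (one_mem A)
    have e2 : (A : Set G).ncard = 4 := by
      rw [← Nat.card_coe_set_eq]; exact h.card
    rw [e2] at e1
    have e3 : Nat.card {x : G // x ∈ A ∧ x ≠ 1} = ((A : Set G) \ {1}).ncard := by
      rw [← Nat.card_coe_set_eq]
      rfl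
    rw [e3, e1]
  rw [← h1, Nat.card_eq_fintype_card]

/-- `N_G(A)` induces even permutations on `A#`. -/
theorem sign_act (n : ↥(normalizer (A : Set G))) : Perm.sign (act A n) = 1 := by
  by_contra hs
  let f : ↥(normalizer (A : Set G)) →* ℤˣ := Perm.sign.comp (act A)
  have hf : f n = -1 := by
    rcases Int.units_eq_one_or (Perm.sign (act A n)) with h1 | h1
    · exact absurd h1 hs
    · exact h1
  apply h.idx f.ker
  rw [index_ker]
  have h1 : f.range = ⊤ := by
    rw [eq_top_iff]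
    intro y _
    rcases Int.units_eq_one_or y with rfl | rfl
    · exact one_mem _
    · exact ⟨n, hf⟩
  rw [h1, card_top, Nat.card_eq_fintype_card]
  rfl

theorem le_normalizer : (S : Subgroup G) ≤ normalizer (A : Set G) :=
  GoldControl.le_normalizer_of_sc h.sc

theorem A_le : A ≤ S := h.sc.1

theorem comm : ∀ a ∈ A, ∀ b ∈ A, a * b = b * a := by
  intro a ha b hb
  have h1 := h.sq _ (mul_mem ha hb)
  have h2 := h.sq a ha
  have h3 := h.sq b hb
  have h2' : a⁻¹ = a := inv_eq_of_mul_eq_one_left h2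
  have h3' : b⁻¹ = b := inv_eq_of_mul_eq_one_left h3
  have h4 : (a * b)⁻¹ = a * b := inv_eq_of_mul_eq_one_left h1
  rw [← h4, mul_inv_rev, h2', h3']

/-- `A` is central in `S`. -/
theorem cen : ∀ x ∈ A, ∀ s ∈ (S : Subgroup G), x * s = s * x := by
  intro x hx s hs
  have hn := h.le_normalizer hs
  by_contra hne
  have h1 : act A ⟨s, hn⟩ ≠ 1 := fun e => hne ((act_eq_one_iff _).1 e x hx).symm
  have h2 := (three h.card_pts _ (h.sign_act ⟨s, hn⟩) h1).2.2
  obtain ⟨k, hk⟩ : ∃ k : ℕ, s ^ 2 ^ k = 1 := by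
    obtain ⟨k, hk⟩ := S.2 ⟨s, hs⟩
    exact ⟨k, congrArg Subtype.val hk⟩
  have h3 : (act A ⟨s, hn⟩) ^ 2 ^ k = 1 := by
    rw [← map_pow]
    have e : (⟨s, hn⟩ : ↥(normalizer (A : Set G))) ^ 2 ^ k = 1 := Subtype.ext (by
      rw [SubmonoidClass.coe_pow]; exact hk)
    rw [e, map_one]
  have h4 : orderOf (act A ⟨s, hn⟩) ∣ Nat.gcd 3 (2 ^ k) :=
    Nat.dvd_gcd (orderOf_dvd_of_pow_eq_one h2) (orderOf_dvd_of_pow_eq_one h3)
  have h5 : Nat.gcd 3 (2 ^ k) = 1 := by
    apply Nat.Coprime.pow_right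
    norm_num
  rw [h5, Nat.dvd_one, orderOf_eq_one_iff] at h4
  exact h1 h4

/-- The normalizer of `S` normalizes `A`. -/
theorem normalizer_le : normalizer ((S : Subgroup G) : Set G) ≤ normalizer (A : Set G) := by
  have key : ∀ g ∈ normalizer ((S : Subgroup G) : Set G), ∀ x ∈ A, g * x * g⁻¹ ∈ A := fun g hg x hx =>
    h.sc.2 x hx g ((mem_normalizer_iff.1 hg x).1 (h.A_le hx))
  intro g hg
  rw [mem_normalizer_iff]
  intro x
  refine ⟨key g hg x, fun hx => ?_⟩
  have := key g⁻¹ (inv_mem hg) _ hx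
  have e : g⁻¹ * (g * x * g⁻¹) * g⁻¹⁻¹ = x := by group
  rwa [e] at this

/-- An element of `H ∩ N_G(A)` can be replaced by an element of `H ∩ N_G(S)` with the same action on `A`. -/
theorem exists_mem_normalizer {H : Subgroup G} (hH : (S : Subgroup G) ≤ H) {n : G} (hn : n ∈ normalizer (A : Set G))
    (hnH : n ∈ H) : ∃ g ∈ H, g ∈ normalizer ((S : Subgroup G) : Set G) ∧ ∀ x ∈ A, g * x * g⁻¹ = n * x * n⁻¹ := by
  haveI : Fact (Nat.Prime 2) := ⟨Nat.prime_two⟩
  let K : Subgroup G := H ⊓ centralizer (A : Set G)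
  have hSK : (S : Subgroup G) ≤ K := le_inf hH (fun s hs => mem_centralizer_iff.2 (fun x hx => h.cen x hx s hs))
  have hnK : (S : Subgroup G).map (MulAut.conj n⁻¹).toMonoidHom ≤ K := by
    rintro _ ⟨s, hs, rfl⟩
    refine Subgroup.mem_inf.2 ⟨mul_mem (mul_mem (inv_mem hnH) (hH hs)) (inv_mem (inv_mem hnH)), ?_⟩
    rw [mem_centralizer_iff]
    intro x hx
    have h1 := h.cen _ ((mem_normalizer_iff.1 hn x).1 hx) s hs
    show x * (n⁻¹ * s * n⁻¹⁻¹) = n⁻¹ * s * n⁻¹⁻¹ * x
    calc x * (n⁻¹ * s * n⁻¹⁻¹) = n⁻¹ * (n * x * n⁻¹ * s) * n := by group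
      _ = n⁻¹ * (s * (n * x * n⁻¹)) * n := by rw [h1]
      _ = n⁻¹ * s * n⁻¹⁻¹ * x := by group
  -- both are Sylow subgroups of `K`
  let P : Sylow 2 K := S.subtype hSK
  let T : Sylow 2 G := n⁻¹ • S
  have hTK : (T : Subgroup G) ≤ K := hnK
  let Q : Sylow 2 K := T.subtype hTK
  obtain ⟨c, hc⟩ := MulAction.exists_smul_eq K Q P
  have hcS : ∀ s : G, s ∈ (S : Subgroup G) ↔ (c : G)⁻¹ * s * c ∈ (T : Subgroup G) := by
    intro s
    constructor
    · intro hs
      have h1 : (⟨s, hSK hs⟩ : K) ∈ (P : Subgroup K) := hs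
      rw [← hc] at h1
      obtain ⟨t, ht, hts⟩ := h1
      have e : c * t * c⁻¹ = ⟨s, hSK hs⟩ := hts
      have e' : (c : G) * t * (c : G)⁻¹ = s := congrArg Subtype.val e
      have ht' : (t : G) ∈ (T : Subgroup G) := ht
      rw [← e']
      have e2 : (c : G)⁻¹ * ((c : G) * t * (c : G)⁻¹) * c = t := by group
      rwa [e2]
    · intro hs
      have h1 : (⟨(c : G)⁻¹ * s * c, hTK hs⟩ : K) ∈ (Q : Subgroup K) := hs
      have h2 : c * ⟨(c : G)⁻¹ * s * c, hTK hs⟩ * c⁻¹ ∈ (P : Subgroup K) := by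
        rw [← hc]
        exact ⟨_, h1, rfl⟩
      have h3 : ((c * ⟨(c : G)⁻¹ * s * c, hTK hs⟩ * c⁻¹ : K) : G) ∈ (S : Subgroup G) := h2
      have e2 : ((c * ⟨(c : G)⁻¹ * s * c, hTK hs⟩ * c⁻¹ : K) : G) = s := by
        show (c : G) * ((c : G)⁻¹ * s * c) * (c : G)⁻¹ = s
        group
      rwa [e2] at h3
  have hT : ∀ s : G, s ∈ (T : Subgroup G) ↔ n * s * n⁻¹ ∈ (S : Subgroup G) := by
    intro s
    constructor
    · rintro ⟨t, ht, rfl⟩
      show n * (n⁻¹ * t * n⁻¹⁻¹) * n⁻¹ ∈ _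
      have e : n * (n⁻¹ * t * n⁻¹⁻¹) * n⁻¹ = t := by group
      rw [e]; exact ht
    · intro hs
      refine ⟨_, hs, ?_⟩
      show n⁻¹ * (n * s * n⁻¹) * n⁻¹⁻¹ = s
      group
  have hcA : ∀ x ∈ A, (c : G) * x = x * c := fun x hx => (mem_centralizer_iff.1 c.2.2 x hx).symm
  refine ⟨n * (c : G)⁻¹, mul_mem hnH (inv_mem c.2.1), ?_, ?_⟩
  · rw [mem_normalizer_iff]
    intro s
    rw [hcS s, hT]
    have e : n * ((c : G)⁻¹ * s * c) * n⁻¹ = n * (c : G)⁻¹ * s * (n * (c : G)⁻¹)⁻¹ := by group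
    rw [e]
  · intro x hx
    have e1 : (c : G)⁻¹ * x * c = x := by
      rw [mul_assoc, ← hcA x hx]; group
    calc n * (c : G)⁻¹ * x * (n * (c : G)⁻¹)⁻¹ = n * ((c : G)⁻¹ * x * c) * n⁻¹ := by group
      _ = _ := by rw [e1]

/-- There is an element of `N_G(S)` acting fixed-point-freely on `A`. -/
theorem exists_g0 : ∃ g0 : G, g0 ∈ normalizer ((S : Subgroup G) : Set G) ∧ (∀ x ∈ A, g0 * x * g0⁻¹ ∈ A) ∧
    ∀ x ∈ A, g0 * x = x * g0 → x = 1 := by
  obtain ⟨n, hn⟩ : ∃ n : ↥(normalizer (A : Set G)), act A n ≠ 1 := by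
    by_contra hcon
    push Not at hcon
    obtain ⟨a, ha, ha1⟩ : ∃ a ∈ A, a ≠ 1 := by
      have : A ≠ ⊥ := by
        intro e
        have := h.card
        rw [e, card_bot] at this
        norm_num at this
      obtain ⟨a, ha⟩ := Subgroup.ne_bot_iff_exists_ne_one.1 this
      exact ⟨a, a.2, fun e => ha (Subtype.ext e)⟩
    have hle : zpowers a ≤ A := by rwa [zpowers_le]
    rcases h.irr (zpowers a) hle (by
      intro n hn x hx
      have e := (act_eq_one_iff (⟨n, hn⟩ : ↥(normalizer (A : Set G)))).1 (hcon ⟨n, hn⟩) x (hle hx)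
      have e' : n * x * n⁻¹ = x := by
        rw [mul_inv_eq_iff_eq_mul]; exact e
      rw [e']; exact hx) with hb | hb
    · rw [zpowers_eq_bot] at hb
      exact ha1 hb
    · have h1 := h.card
      rw [← hb, Nat.card_zpowers] at h1
      have h2 : orderOf a ∣ 2 := orderOf_dvd_of_pow_eq_one (by rw [pow_two]; exact h.sq a ha)
      rw [h1] at h2
      norm_num at h2
  obtain ⟨g, -, hgS, hg⟩ := h.exists_mem_normalizer (H := ⊤) le_top n.2 (mem_top _)
  have hgN := h.normalizer_le hgS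
  have hact : act A ⟨g, hgN⟩ = act A n := by
    ext x
    exact hg x x.2.1
  have h3 := three h.card_pts (act A ⟨g, hgN⟩) (h.sign_act _) (by rw [hact]; exact hn)
  refine ⟨g, hgS, fun x hx => (mem_normalizer_iff.1 hgN x).1 hx, fun x hx e => ?_⟩
  by_contra h1
  apply h3.1 ⟨x, hx, h1⟩
  apply Subtype.ext
  show g * x * g⁻¹ = x
  rw [mul_inv_eq_iff_eq_mul]; exact e

/-- Two elements of `N_G(A)` acting nontrivially on `A` have equal or inverse action. -/
theorem same_or_inv {g n : G} (hg : g ∈ normalizer (A : Set G)) (hn : n ∈ normalizer (A : Set G))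
    (hg1 : ∃ x ∈ A, g * x ≠ x * g) (hn1 : ∃ x ∈ A, n * x ≠ x * n) :
    (∀ x ∈ A, n * x * n⁻¹ = g * x * g⁻¹) ∨ (∀ x ∈ A, n⁻¹ * x * n = g * x * g⁻¹) := by
  have hne : ∀ {k : G} (hk : k ∈ normalizer (A : Set G)), (∃ x ∈ A, k * x ≠ x * k) →
      act A ⟨k, hk⟩ ≠ 1 := by
    rintro k hk ⟨x, hx, hx1⟩ e
    exact hx1 ((act_eq_one_iff _).1 e x hx)
  rcases three' h.card_pts (act A ⟨g, hg⟩) (act A ⟨n, hn⟩) (h.sign_act _) (hne hg hg1) (h.sign_act _)
    (hne hn hn1) with e | e
  · left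
    intro x hx
    by_cases h1 : x = 1
    · rw [h1]; group
    exact (congrArg (fun σ : Perm {x : G // x ∈ A ∧ x ≠ 1} => ((σ ⟨x, hx, h1⟩ : {x : G // x ∈ A ∧ x ≠ 1}) : G)) e).symm
  · right
    intro x hx
    by_cases h1 : x = 1
    · rw [h1]; group
    exact (congrArg (fun σ : Perm {x : G // x ∈ A ∧ x ≠ 1} => ((σ ⟨x, hx, h1⟩ : {x : G // x ∈ A ∧ x ≠ 1}) : G)) e).symm

/-- Transitivity on `A#` of an element acting nontrivially. -/
theorem exists_pow {g : G} (hg : g ∈ normalizer (A : Set G)) (hg1 : ∃ x ∈ A, g * x ≠ x * g) {x y : G}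
    (hx : x ∈ A) (hx1 : x ≠ 1) (hy : y ∈ A) (hy1 : y ≠ 1) : ∃ k : ℕ, g ^ k * x * (g ^ k)⁻¹ = y := by
  have h1 : act A ⟨g, hg⟩ ≠ 1 := by
    obtain ⟨z, hz, hz1⟩ := hg1
    exact fun e => hz1 ((act_eq_one_iff _).1 e z hz)
  rcases (three h.card_pts _ (h.sign_act ⟨g, hg⟩) h1).2.1 ⟨x, hx, hx1⟩ ⟨y, hy, hy1⟩ with e | e | e
  · have e' : x = y := congrArg Subtype.val e
    exact ⟨0, by simp [e']⟩
  · have e' : g * x * g⁻¹ = y := congrArg Subtype.val e
    exact ⟨1, by rw [pow_one]; exact e'⟩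
  · have e' : g * (g * x * g⁻¹) * g⁻¹ = y := congrArg Subtype.val e
    refine ⟨2, ?_⟩
    rw [← e', pow_two]
    group

/-- The dichotomy type I / type F, general form. -/
theorem typeI_or {H : Subgroup G} (hH : (S : Subgroup G) ≤ H) :
    (∀ x ∈ A, ∀ g ∈ H, g * x * g⁻¹ * x⁻¹ ∈ oc H) ∨
    ∃ n ∈ H, n ∈ normalizer (A : Set G) ∧ ∃ x ∈ A, n * x ≠ x * n := by
  haveI : Fact (Nat.Prime 2) := ⟨Nat.prime_two⟩
  by_cases hcon : ∃ n ∈ H, n ∈ normalizer (A : Set G) ∧ ∃ x ∈ A, n * x ≠ x * n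
  · exact Or.inr hcon
  left
  push Not at hcon
  intro x hx g hg
  by_cases h1 : x = 1
  · rw [h1]
    have e : g * 1 * g⁻¹ * 1⁻¹ = 1 := by group
    rw [e]; exact one_mem _
  let P : Sylow 2 H := S.subtype hH
  have hxS := h.A_le hx
  have hord : orderOf (⟨x, hH hxS⟩ : H) = 2 := by
    rw [Subgroup.orderOf_mk]
    exact orderOf_eq_prime (by rw [pow_two]; exact h.sq x hx) h1
  obtain ⟨N, hN, hodd, hcom⟩ := Cfsg.Agent.S0215.result P (⟨x, hH hxS⟩ : H) hord (show x ∈ (S : Subgroup G) from hxS) (by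
    intro k hk
    have hk' : (k : G) * x * (k : G)⁻¹ ∈ (S : Subgroup G) := hk
    have hkA := h.sc.2 x hx k hk'
    apply Subtype.ext
    show (k : G) * x * (k : G)⁻¹ = x
    -- `S` and `S^k` are Sylow subgroups of the centralizer of `x`
    let K : Subgroup G := H ⊓ centralizer ({x} : Set G)
    have hSK : (S : Subgroup G) ≤ K := le_inf hH (fun s hs => by
      rw [mem_centralizer_singleton_iff]; exact (h.cen x hx s hs).symm)
    let T : Sylow 2 G := (k : G)⁻¹ • S
    have hTm : ∀ s : G, s ∈ (T : Subgroup G) ↔ (k : G) * s * (k : G)⁻¹ ∈ (S : Subgroup G) := by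
      intro s
      constructor
      · rintro ⟨t, ht, rfl⟩
        show (k : G) * ((k : G)⁻¹ * t * (k : G)⁻¹⁻¹) * (k : G)⁻¹ ∈ _
        have e : (k : G) * ((k : G)⁻¹ * t * (k : G)⁻¹⁻¹) * (k : G)⁻¹ = t := by group
        rw [e]; exact ht
      · intro hs
        refine ⟨_, hs, ?_⟩
        show (k : G)⁻¹ * ((k : G) * s * (k : G)⁻¹) * (k : G)⁻¹⁻¹ = s
        group
    have hTK : (T : Subgroup G) ≤ K := by
      intro s hs
      rw [hTm] at hs
      refine Subgroup.mem_inf.2 ⟨?_, ?_⟩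
      · have := mul_mem (mul_mem (inv_mem k.2) (hH hs)) k.2
        have e : (k : G)⁻¹ * ((k : G) * s * (k : G)⁻¹) * k = s := by group
        rwa [e] at this
      · rw [mem_centralizer_singleton_iff]
        have h2 := h.cen _ hkA _ hs
        calc s * x = (k : G)⁻¹ * ((k : G) * s * (k : G)⁻¹ * ((k : G) * x * (k : G)⁻¹)) * k := by group
          _ = (k : G)⁻¹ * ((k : G) * x * (k : G)⁻¹ * ((k : G) * s * (k : G)⁻¹)) * k := by rw [h2]
          _ = x * s := by group
    let P' : Sylow 2 K := S.subtype hSK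
    let Q' : Sylow 2 K := T.subtype hTK
    obtain ⟨c, hc⟩ := MulAction.exists_smul_eq K P' Q'
    -- `k c` normalizes `S`
    have hkc : (k : G) * c ∈ normalizer ((S : Subgroup G) : Set G) := by
      have key : ∀ s ∈ (S : Subgroup G), (k : G) * c * s * ((k : G) * c)⁻¹ ∈ (S : Subgroup G) := by
        intro s hs
        have h2 : c * ⟨s, hSK hs⟩ * c⁻¹ ∈ (Q' : Subgroup K) := by
          rw [← hc]
          exact ⟨⟨s, hSK hs⟩, hs, rfl⟩
        have h3 : (c : G) * s * (c : G)⁻¹ ∈ (T : Subgroup G) := h2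
        rw [hTm] at h3
        have e : (k : G) * c * s * ((k : G) * c)⁻¹ = (k : G) * ((c : G) * s * (c : G)⁻¹) * (k : G)⁻¹ := by group
        rw [e]; exact h3
      rw [Cfsg.Agent.Lib.GoldschmidtFusion.mem_normalizer_iff_map_conj]
      apply Subgroup.eq_of_le_of_card_ge
      · rintro _ ⟨s, hs, rfl⟩
        exact key s hs
      · exact (Cfsg.Agent.Lib.GoldschmidtFusion.card_map_conj _ _).ge
    have h4 := hcon ((k : G) * c) (mul_mem k.2 c.2.1) (h.normalizer_le hkc) x hx
    have h5 : (c : G) * x = x * c := mem_centralizer_singleton_iff.1 c.2.2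
    rw [mul_inv_eq_iff_eq_mul]
    calc (k : G) * x = (k : G) * (x * c) * (c : G)⁻¹ := by group
      _ = (k : G) * (c * x) * (c : G)⁻¹ := by rw [h5]
      _ = ((k : G) * c * x) * (c : G)⁻¹ := by group
      _ = (x * ((k : G) * c)) * (c : G)⁻¹ := by rw [h4]
      _ = x * k := by group)
  have hNH : N.map H.subtype ≤ oc H := by
    apply le_oc
    · rintro _ ⟨y, -, rfl⟩
      exact y.2
    · intro y hy
      rw [mem_normalizer_iff]
      have key : ∀ y ∈ H, ∀ z ∈ N.map H.subtype, y * z * y⁻¹ ∈ N.map H.subtype := by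
        rintro y hy _ ⟨z, hz, rfl⟩
        exact ⟨⟨y, hy⟩ * z * (⟨y, hy⟩ : H)⁻¹, hN.conj_mem z hz _, rfl⟩
      intro z
      refine ⟨key y hy z, fun hz => ?_⟩
      have := key y⁻¹ (inv_mem hy) _ hz
      have e : y⁻¹ * (y * z * y⁻¹) * y⁻¹⁻¹ = z := by group
      rwa [e] at this
    · rw [Nat.card_congr (N.equivMapOfInjective H.subtype H.subtype_injective).symm.toEquiv]
      exact hodd
  have h2 : x * g * x⁻¹ * g⁻¹ ∈ oc H := hNH ⟨_, hcom ⟨g, hg⟩, rfl⟩
  have h3 := inv_mem h2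
  have e : (x * g * x⁻¹ * g⁻¹)⁻¹ = g * x * g⁻¹ * x⁻¹ := by group
  rwa [e] at h3

/-- Field `type`. -/
theorem type {g0 : G} (hg0S : g0 ∈ normalizer ((S : Subgroup G) : Set G))
    (hfpf : ∀ x ∈ A, g0 * x = x * g0 → x = 1) {H : Subgroup G} (hH : (S : Subgroup G) ≤ H) :
    (∀ x ∈ A, ∀ g ∈ H, g * x * g⁻¹ * x⁻¹ ∈ oc H) ∨
    ∃ g ∈ H, g ∈ normalizer ((S : Subgroup G) : Set G) ∧ ∀ x ∈ A, g * x * g⁻¹ = g0 * x * g0⁻¹ := by
  rcases h.typeI_or hH with h1 | ⟨n, hnH, hnA, hn1⟩
  · exact Or.inl h1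
  right
  obtain ⟨g, hgH, hgS, hg⟩ := h.exists_mem_normalizer hH hnA hnH
  have hg01 : ∃ x ∈ A, g0 * x ≠ x * g0 := by
    obtain ⟨x, hx, hx1⟩ := hn1
    refine ⟨x, hx, fun e => hx1 ?_⟩
    rw [hfpf x hx e]; group
  rcases h.same_or_inv (h.normalizer_le hg0S) hnA hg01 hn1 with e | e
  · exact ⟨g, hgH, hgS, fun x hx => (hg x hx).trans (e x hx)⟩
  · refine ⟨g⁻¹, inv_mem hgH, inv_mem hgS, fun x hx => ?_⟩
    rw [inv_inv, ← e x hx]
    -- `g⁻¹ x g = n⁻¹ x n`
    have hy : n⁻¹ * x * n ∈ A := by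
      have := (mem_normalizer_iff.1 (inv_mem hnA) x).1 hx
      rwa [inv_inv] at this
    have e1 := hg _ hy
    have e2 : n * (n⁻¹ * x * n) * n⁻¹ = x := by group
    rw [e2] at e1
    calc g⁻¹ * x * g = g⁻¹ * (g * (n⁻¹ * x * n) * g⁻¹) * g := by rw [e1]
      _ = n⁻¹ * x * n := by group

/-- The action of `g0` on `S`. -/
noncomputable def phi {g0 : G} (hg0S : g0 ∈ normalizer ((S : Subgroup G) : Set G)) :
    MulAut ↥(S : Subgroup G) :=
  (S : Subgroup G).normalizerMonoidHom ⟨g0, hg0S⟩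

omit h [Finite G] in
theorem phi_pow_apply {g0 : G} (hg0S : g0 ∈ normalizer ((S : Subgroup G) : Set G)) (k : ℕ)
    (s : ↥(S : Subgroup G)) : (((phi hg0S ^ k) s : ↥(S : Subgroup G)) : G) = g0 ^ k * s * (g0 ^ k)⁻¹ := by
  induction k with
  | zero => simp
  | succ k ih =>
    rw [pow_succ', MulAut.mul_apply]
    have e : ((phi hg0S ((phi hg0S ^ k) s) : ↥(S : Subgroup G)) : G) =
      g0 * ((phi hg0S ^ k) s : ↥(S : Subgroup G)) * g0⁻¹ := rfl
    rw [e, ih, pow_succ']
    group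

/-- `S` is isomorphic to a Sylow 2-subgroup of `PSU(3,4)` if it is not commutative. -/
theorem exists_equiv {g0 : G} (hg0S : g0 ∈ normalizer ((S : Subgroup G) : Set G))
    (hfpf : ∀ x ∈ A, g0 * x = x * g0 → x = 1)
    (hnc : ∃ x ∈ (S : Subgroup G), ∃ y ∈ (S : Subgroup G), x * y ≠ y * x)
    {F : Type*} [Field F] [Fintype F] (hF : Fintype.card F = 16) (P : Sylow 2 (Cfsg.PSU 3 F 4)) :
    Nonempty (↥(S : Subgroup G) ≃* ↥(P : Subgroup (Cfsg.PSU 3 F 4))) := by
  have hmem : ∀ s : ↥(S : Subgroup G), s ^ 2 = 1 → (s : G) ∈ A := fun s hs =>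
    h.inv s s.2 (by rw [← pow_two]; exact congrArg Subtype.val hs)
  have h2 : Cfsg.PRankLE 2 2 ↥(S : Subgroup G) := by
    intro B _ hB
    have hle : B.map (S : Subgroup G).subtype ≤ A := by
      rintro _ ⟨b, hb, rfl⟩
      exact hmem b (hB b hb)
    have h1 := Subgroup.card_le_of_le hle
    rw [h.card, Nat.card_congr (B.equivMapOfInjective _ (Subgroup.subtype_injective _)).symm.toEquiv] at h1
    exact h1
  have h1 : ¬ Cfsg.PRankLE 2 1 ↥(S : Subgroup G) := by
    intro hcon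
    have hc : Nat.card (A.subgroupOf (S : Subgroup G)) ≤ 2 ^ 1 := by
      apply hcon
      · constructor
        constructor
        intro a b
        apply Subtype.ext
        apply Subtype.ext
        exact h.comm _ a.2 _ b.2
      · intro a ha
        apply Subtype.ext
        rw [SubmonoidClass.coe_pow, pow_two]
        exact h.sq _ ha
    rw [Nat.card_congr (subgroupOfEquivOfLe h.A_le).toEquiv, h.card] at hc
    norm_num at hc
  rcases Cfsg.Agent.S1237.result S.2 h2 h1 (phi hg0S) (by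
    intro s t hs ht
    have hs2 : s ^ 2 = 1 := orderOf_dvd_iff_pow_eq_one.1 (by rw [hs])
    have ht2 : t ^ 2 = 1 := orderOf_dvd_iff_pow_eq_one.1 (by rw [ht])
    have hs1 : (s : G) ≠ 1 := fun e => by
      rw [show s = 1 from Subtype.ext e, orderOf_one] at hs
      norm_num at hs
    have ht1 : (t : G) ≠ 1 := fun e => by
      rw [show t = 1 from Subtype.ext e, orderOf_one] at ht
      norm_num at ht
    obtain ⟨k, hk⟩ := h.exists_pow (h.normalizer_le hg0S) ⟨s, hmem s hs2, fun e => hs1 (hfpf _ (hmem s hs2) e)⟩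
      (hmem s hs2) hs1 (hmem t ht2) ht1
    refine ⟨k, Subtype.ext ?_⟩
    rw [phi_pow_apply]
    exact hk) hF P with ⟨n, -, ⟨e⟩⟩ | h3
  · exfalso
    obtain ⟨x, hx, y, hy, hxy⟩ := hnc
    apply hxy
    have h4 : (⟨x, hx⟩ : ↥(S : Subgroup G)) * ⟨y, hy⟩ = ⟨y, hy⟩ * ⟨x, hx⟩ := by
      apply e.injective
      rw [map_mul, map_mul, mul_comm]
    exact congrArg Subtype.val h4
  · exact h3

/-- The structure of `S`. -/
theorem structS {g0 : G} (hg0S : g0 ∈ normalizer ((S : Subgroup G) : Set G))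
    (hfpf : ∀ x ∈ A, g0 * x = x * g0 → x = 1)
    (hnc : ∃ x ∈ (S : Subgroup G), ∃ y ∈ (S : Subgroup G), x * y ≠ y * x) :
    Nat.card (S : Subgroup G) = 64 ∧
    (∀ s ∈ (S : Subgroup G), ∀ u ∈ (S : Subgroup G), s * u * s⁻¹ * u⁻¹ ∈ A) ∧
    (∀ s ∈ (S : Subgroup G), s ∉ A → ∀ x ∈ A, ∃ u ∈ (S : Subgroup G), s * u * s⁻¹ * u⁻¹ = x) := by
  classical
  haveI : Fact (Nat.Prime 2) := ⟨Nat.prime_two⟩
  haveI : Fintype (GaloisField 2 4) := Fintype.ofFinite _
  have hF : Fintype.card (GaloisField 2 4) = 16 := by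
    rw [← Nat.card_eq_fintype_card, GaloisField.card 2 4 (by norm_num)]
    norm_num
  obtain ⟨P⟩ : Nonempty (Sylow 2 (Cfsg.PSU 3 (GaloisField 2 4) 4)) := inferInstance
  obtain ⟨e⟩ := h.exists_equiv hg0S hfpf hnc hF P
  obtain ⟨Z, hZ⟩ := GoldU34.exists_data hF (MulEquiv.refl _) P
  exact transport h.A_le h.sq h.inv e hZ

/-- Field `emb`. -/
theorem emb (hSE : ¬ ∃ H : Subgroup G, Cfsg.IsStronglyEmbedded H) {g0 : G}
    (hfpf : ∀ x ∈ A, g0 * x = x * g0 → x = 1) {H : Subgroup G} (hH : H ≠ ⊤) {x : G} (hx : x ∈ A) (hx1 : x ≠ 1)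
    (hC : centralizer ({x} : Set G) ≤ H) :
    ¬ ∃ g ∈ H, g ∈ normalizer ((S : Subgroup G) : Set G) ∧ ∀ x ∈ A, g * x * g⁻¹ = g0 * x * g0⁻¹ := by
  rintro ⟨g, hgH, hgS, hg⟩
  haveI : Fact (Nat.Prime 2) := ⟨Nat.prime_two⟩
  apply hSE
  refine ⟨H, ClosingPrime.isStronglyEmbedded_of_one_class (t := x)
    (orderOf_eq_prime (by rw [pow_two]; exact h.sq x hx) hx1) hC ?_ hH⟩
  intro y hy hy2
  have hSH : (S : Subgroup G) ≤ H := fun s hs => hC (by
    rw [mem_centralizer_singleton_iff]; exact (h.cen x hx s hs).symm)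
  let P : Sylow 2 H := S.subtype hSH
  -- `y` is conjugate in `H` to an element of `S`
  have hyp : IsPGroup 2 (zpowers (⟨y, hy⟩ : H)) := by
    apply IsPGroup.of_card (n := 1)
    rw [Nat.card_zpowers, Subgroup.orderOf_mk, hy2, pow_one]
  obtain ⟨Q, hQ⟩ := hyp.exists_le_sylow
  obtain ⟨c, hc⟩ := MulAction.exists_smul_eq H Q P
  have hyQ : (⟨y, hy⟩ : H) ∈ (Q : Subgroup H) := hQ (mem_zpowers _)
  have hcy : c * ⟨y, hy⟩ * c⁻¹ ∈ (P : Subgroup H) := by
    rw [← hc]
    exact ⟨_, hyQ, rfl⟩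
  have hcy' : (c : G) * y * (c : G)⁻¹ ∈ (S : Subgroup G) := hcy
  have hyy : y * y = 1 := by rw [← pow_two, ← hy2]; exact pow_orderOf_eq_one y
  have hcyA : (c : G) * y * (c : G)⁻¹ ∈ A := by
    apply h.inv _ hcy'
    calc (c : G) * y * (c : G)⁻¹ * ((c : G) * y * (c : G)⁻¹) = (c : G) * (y * y) * (c : G)⁻¹ := by group
      _ = 1 := by rw [hyy]; group
  have hcy1 : (c : G) * y * (c : G)⁻¹ ≠ 1 := by
    intro e
    have e1 : y = 1 := by
      have e2 : y = (c : G)⁻¹ * ((c : G) * y * (c : G)⁻¹) * c := by group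
      rw [e2, e]; group
    rw [e1, orderOf_one] at hy2
    norm_num at hy2
  have hg1 : ∃ z ∈ A, g * z ≠ z * g := by
    refine ⟨x, hx, fun e => hx1 (hfpf x hx ?_)⟩
    have e1 := hg x hx
    have e2 : g * x * g⁻¹ = x := by rw [mul_inv_eq_iff_eq_mul]; exact e
    rw [e2, eq_mul_inv_iff_mul_eq] at e1
    exact e1.symm
  obtain ⟨k, hk⟩ := h.exists_pow (h.normalizer_le hgS) hg1 hx hx1 hcyA hcy1
  refine ⟨(c : G)⁻¹ * g ^ k, mul_mem (inv_mem c.2) (pow_mem hgH k), ?_⟩
  calc (c : G)⁻¹ * g ^ k * x * ((c : G)⁻¹ * g ^ k)⁻¹ = (c : G)⁻¹ * (g ^ k * x * (g ^ k)⁻¹) * c := by group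
    _ = y := by rw [hk]; group

end Base

/-- Field `fact`. -/
theorem fact {G : Type u} [Group G] [Finite G] {𝒜 : Set G} (h : Setup 𝒜) (S : Sylow 2 G)
    (h4 : Nat.card (ClosedFam.fam 𝒜 (S : Subgroup G)) = 4) {x : G} (hx : x ∈ ClosedFam.fam 𝒜 (S : Subgroup G))
    (hx1 : x ≠ 1) : centralizer ({x} : Set G) ≤
      oc (centralizer ({x} : Set G)) ⊔ centralizer (ClosedFam.fam 𝒜 (S : Subgroup G) : Set G) := by
  intro c hc
  obtain ⟨o, ho, n, hn, rfl⟩ := GoldFour.cent_decomp h S h4 (GoldSolid.solid h S h4) hx hx1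
    (mem_centralizer_singleton_iff.1 hc)
  have hle : core (centralizer ({x} : Set G)) ≤ oc (centralizer ({x} : Set G)) := by
    apply le_oc (core_le _) ?_ (odd_core _)
    rw [Subgroup.le_normalizer_iff]
    intro g hg k hk
    exact conj_mem_core hg hk
  exact mul_mem (Subgroup.mem_sup_left (hle ho)) (Subgroup.mem_sup_right hn)

/-- The elementary fields of the local frame `GoldM1.Frame`. -/
structure Pre {G : Type*} [Group G] (S A : Subgroup G) (g0 : G) : Prop where
  simple : ∀ N : Subgroup G, N.Normal → N = ⊥ ∨ N = ⊤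
  cardS : Nat.card S = 64
  sylow : ¬ 2 ∣ S.index
  AS : A ≤ S
  cardA : Nat.card A = 4
  cen : ∀ x ∈ A, ∀ s ∈ S, x * s = s * x
  sq : ∀ x ∈ A, x * x = 1
  inv : ∀ s ∈ S, s * s = 1 → s ∈ A
  comm : ∀ s ∈ S, ∀ u ∈ S, s * u * s⁻¹ * u⁻¹ ∈ A
  surj : ∀ s ∈ S, s ∉ A → ∀ x ∈ A, ∃ u ∈ S, s * u * s⁻¹ * u⁻¹ = x
  g0S : g0 ∈ normalizer (S : Set G)
  g0A : ∀ x ∈ A, g0 * x * g0⁻¹ ∈ A
  g0_fpf : ∀ x ∈ A, g0 * x = x * g0 → x = 1
  fact : ∀ x ∈ A, x ≠ 1 →
    centralizer ({x} : Set G) ≤ oc (centralizer ({x} : Set G)) ⊔ centralizer (A : Set G)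
  type : ∀ H : Subgroup G, H ≠ ⊤ → S ≤ H → (∀ x ∈ A, ∀ h ∈ H, h * x * h⁻¹ * x⁻¹ ∈ oc H) ∨
    (∃ g ∈ H, g ∈ normalizer (S : Set G) ∧ ∀ x ∈ A, g * x * g⁻¹ = g0 * x * g0⁻¹)
  emb : ∀ H : Subgroup G, H ≠ ⊤ → ∀ x ∈ A, x ≠ 1 → centralizer ({x} : Set G) ≤ H →
    ¬ ∃ g ∈ H, g ∈ normalizer (S : Set G) ∧ ∀ x ∈ A, g * x * g⁻¹ = g0 * x * g0⁻¹

/-- The elementary fields of the frame hold in the minimal counterexample. -/
theorem exists_pre {G : Type u} [Group G] [Finite G] {𝒜 : Set G} (h : Setup 𝒜) (S : Sylow 2 G)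
    (h4 : Nat.card (ClosedFam.fam 𝒜 (S : Subgroup G)) = 4)
    (hinv : ∀ s ∈ (S : Subgroup G), s * s = 1 → s ∈ ClosedFam.fam 𝒜 (S : Subgroup G))
    (hnc : ∃ x ∈ (S : Subgroup G), ∃ y ∈ (S : Subgroup G), x * y ≠ y * x) :
    ∃ g0 : G, Pre (S : Subgroup G) (ClosedFam.fam 𝒜 (S : Subgroup G)) g0 := by
  haveI : Fact (Nat.Prime 2) := ⟨Nat.prime_two⟩
  have hb := base_of_setup h S h4 hinv
  obtain ⟨g0, hg0S, hg0A, hfpf⟩ := hb.exists_g0
  obtain ⟨hcard, hcomm, hsurj⟩ := hb.structS hg0S hfpf hnc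
  exact ⟨g0, {
    simple := fun N hN => (h.simple.eq_bot_or_eq_top_of_normal N hN)
    cardS := hcard
    sylow := S.not_dvd_index
    AS := hb.A_le
    cardA := h4
    cen := hb.cen
    sq := hb.sq
    inv := hinv
    comm := hcomm
    surj := hsurj
    g0S := hg0S
    g0A := hg0A
    g0_fpf := hfpf
    fact := fun x hx hx1 => fact h S h4 hx hx1
    type := fun H _ hH => hb.type hg0S hfpf hH
    emb := fun H hH x hx hx1 hC => hb.emb h.noSE hfpf hH hx hx1 hC }⟩

/-- The frame from the elementary fields and the remaining ones. -/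
theorem Pre.frame {G : Type*} [Group G] {S A : Subgroup G} {g0 : G} (h : Pre S A g0)
    (solv : ∀ X : Subgroup G, Odd (Nat.card X) → Group.IsSolvable X)
    (normCA : centralizer (A : Set G) ≤ normalizer ((oc (centralizer (A : Set G)) ⊔ S : Subgroup G) : Set G))
    (indexCA : (oc (centralizer (A : Set G)) ⊔ S).relIndex (centralizer (A : Set G)) = 1 ∨
      (oc (centralizer (A : Set G)) ⊔ S).relIndex (centralizer (A : Set G)) = 5)
    (invCore : ∀ H : Subgroup G, H ≠ ⊤ → S ≤ H → ∀ Y ≤ H, Odd (Nat.card Y) →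
      S ≤ normalizer (Y : Set G) → Y ≤ oc H)
    (sl : ∀ p : ℕ, p.Prime → p ≠ 2 → ¬ ∃ (H K : Subgroup G) (_ : (K.subgroupOf H).Normal),
      Nonempty ((H ⧸ K.subgroupOf H) ≃* Matrix.SpecialLinearGroup (Fin 2) (ZMod p))) :
    GoldM1.Frame S A g0 where
  simple := h.simple
  solv := solv
  cardS := h.cardS
  sylow := h.sylow
  AS := h.AS
  cardA := h.cardA
  cen := h.cen
  sq := h.sq
  inv := h.inv
  comm := h.comm
  surj := h.surj
  g0S := h.g0S
  g0A := h.g0A
  g0_fpf := h.g0_fpf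
  fact := h.fact
  normCA := normCA
  indexCA := indexCA
  invCore := invCore
  type := h.type
  emb := h.emb
  sl := sl

end Cfsg.Agent.TwoFusion.GoldM1Base
end

-- part: TwoFusion/GoldM1Loc
section
/-!
# Case [M1] of Goldschmidt's theorem (S1169): the structure of `S`

`Loc S A`: `S` has order 64 and is of the type of a Sylow 2-subgroup of `PSU(3,4)`, `A = Z(S) = Ω₁(S)`.

* `Loc.noQ`: `S` has no elements `x, y` with `x² = y² = (xy)²`, `x, y, xy ∉ A`.
-/

set_option autoImplicit false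

namespace Cfsg.Agent.TwoFusion.GoldM1Loc

open Subgroup

/-- The local structure: `S` is of the type of a Sylow 2-subgroup of `PSU(3,4)` with centre `A`. -/
structure Loc {G : Type*} [Group G] (S A : Subgroup G) : Prop where
  AS : A ≤ S
  cardS : Nat.card S = 64
  cardA : Nat.card A = 4
  cen : ∀ x ∈ A, ∀ s ∈ S, x * s = s * x
  sq : ∀ x ∈ A, x * x = 1
  inv : ∀ s ∈ S, s * s = 1 → s ∈ A
  comm : ∀ s ∈ S, ∀ u ∈ S, s * u * s⁻¹ * u⁻¹ ∈ A
  surj : ∀ s ∈ S, s ∉ A → ∀ x ∈ A, ∃ u ∈ S, s * u * s⁻¹ * u⁻¹ = x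

/-- Transport along a homomorphism which is injective on `S`. -/
theorem Loc.map {G H : Type*} [Group G] [Group H] {S A : Subgroup G} (h : Loc S A) (f : G →* H)
    (hf : ∀ s ∈ S, f s = 1 → s = 1) : Loc (S.map f) (A.map f) := by
  have hinj : ∀ s ∈ S, ∀ t ∈ S, f s = f t → s = t := by
    intro s hs t ht e
    have h1 : f (s * t⁻¹) = 1 := by rw [map_mul, e, map_inv, mul_inv_cancel]
    exact mul_inv_eq_one.1 (hf _ (mul_mem hs (inv_mem ht)) h1)
  have hcard : ∀ K : Subgroup G, K ≤ S → Nat.card (K.map f) = Nat.card K := by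
    intro K hK
    have : Function.Injective (fun k : K => (⟨f k, ⟨k, k.2, rfl⟩⟩ : K.map f)) := by
      intro k l e
      exact Subtype.ext (hinj k (hK k.2) l (hK l.2) (congrArg Subtype.val e))
    refine (Nat.card_congr (Equiv.ofBijective _ ⟨this, ?_⟩)).symm
    rintro ⟨_, k, hk, rfl⟩
    exact ⟨⟨k, hk⟩, rfl⟩
  refine ⟨Subgroup.map_mono h.AS, ?_, ?_, ?_, ?_, ?_, ?_, ?_⟩
  · rw [hcard S le_rfl, h.cardS]
  · rw [hcard A h.AS, h.cardA]
  · rintro _ ⟨z, hz, rfl⟩ _ ⟨t, ht, rfl⟩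
    rw [← map_mul, ← map_mul, h.cen z hz t ht]
  · rintro _ ⟨z, hz, rfl⟩
    rw [← map_mul, h.sq z hz, map_one]
  · rintro _ ⟨t, ht, rfl⟩ h1
    rw [← map_mul] at h1
    exact ⟨t, h.inv t ht (hf _ (mul_mem ht ht) h1), rfl⟩
  · rintro _ ⟨t, ht, rfl⟩ _ ⟨u, hu, rfl⟩
    exact ⟨_, h.comm t ht u hu, by simp only [_root_.map_mul, _root_.map_inv]⟩
  · rintro _ ⟨t, ht, rfl⟩ h1 _ ⟨z, hz, rfl⟩
    obtain ⟨u, hu, hu'⟩ := h.surj t ht (fun h2 => h1 ⟨t, h2, rfl⟩) z hz
    exact ⟨f u, ⟨u, hu, rfl⟩, by rw [← hu']; simp only [_root_.map_mul, _root_.map_inv]⟩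

/-- Restriction to a subgroup. -/
theorem Loc.subgroupOf {G : Type*} [Group G] {S A C : Subgroup G} (h : Loc S A) (hC : S ≤ C) :
    Loc (S.subgroupOf C) (A.subgroupOf C) where
  AS := fun x hx => h.AS hx
  cardS := by rw [← h.cardS]; exact Nat.card_congr (subgroupOfEquivOfLe hC).toEquiv
  cardA := by rw [← h.cardA]; exact Nat.card_congr (subgroupOfEquivOfLe (h.AS.trans hC)).toEquiv
  cen := fun x hx s hs => Subtype.ext (h.cen x hx s hs)
  sq := fun x hx => Subtype.ext (h.sq x hx)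
  inv := fun s hs e => h.inv s hs (congrArg Subtype.val e)
  comm := fun s hs u hu => h.comm s hs u hu
  surj := by
    intro s hs hsA x hx
    obtain ⟨u, hu, e⟩ := h.surj s hs hsA x hx
    exact ⟨⟨u, hC hu⟩, hu, Subtype.ext e⟩

/-- The local structure from a frame. -/
theorem Loc.of_frame {G : Type*} [Group G] {S A : Subgroup G} {g0 : G} (h : GoldM1.Frame S A g0) : Loc S A :=
  ⟨h.AS, h.cardS, h.cardA, h.cen, h.sq, h.inv, h.comm, h.surj⟩

theorem five_le {α : Type*} [Finite α] (a b c d e : α) (h : [a, b, c, d, e].Nodup) : 5 ≤ Nat.card α := by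
  classical
  have : Fintype α := Fintype.ofFinite α
  have h1 := List.toFinset_card_of_nodup h
  have h2 := Finset.card_le_univ ([a, b, c, d, e].toFinset)
  rw [h1, ← Nat.card_eq_fintype_card] at h2
  exact h2

/-- A subgroup of `B × B` which contains `(1, b)` and `(a, 1)` has at least four elements. -/
theorem four_le {B : Type*} [Group B] [Finite B] (R : Subgroup (B × B)) {a b : B} (ha : a ≠ 1) (hb : b ≠ 1)
    (h1 : ((1 : B), b) ∈ R) (h2 : (a, (1 : B)) ∈ R) : 4 ≤ Nat.card R := by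
  have hinj : Function.Injective (fun p : Bool × Bool => ((if p.1 then a else 1, if p.2 then b else 1) : B × B)) := by
    rintro ⟨i, j⟩ ⟨k, l⟩ e
    have e1 := (Prod.ext_iff.1 e).1
    have e2 := (Prod.ext_iff.1 e).2
    cases i <;> cases j <;> cases k <;> cases l <;> simp_all [eq_comm]
  have hr : ∀ p : Bool × Bool, ((if p.1 then a else 1, if p.2 then b else 1) : B × B) ∈ R := by
    rintro ⟨i, j⟩
    have h3 : (a, b) ∈ R := by simpa using R.mul_mem h1 h2
    cases i
    · cases j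
      · exact R.one_mem
      · exact h1
    · cases j
      · exact h2
      · exact h3
  have := Nat.card_le_card_of_injective (fun p : Bool × Bool => (⟨_, hr p⟩ : R))
    (fun i j hij => hinj (congrArg Subtype.val hij))
  simpa only [_root_.ge_iff_le, _root_.Nat.card_eq_fintype_card, _root_.Fintype.card_prod, _root_.Fintype.card_bool, _root_.Nat.reduceMul] using this

namespace Loc

variable {G : Type*} [Group G] {S A : Subgroup G} (h : Loc S A)

include h

theorem comm_mul_right {s u v : G} (hs : s ∈ S) (hu : u ∈ S) (hv : v ∈ S) :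
    s * (u * v) * s⁻¹ * (u * v)⁻¹ = (s * u * s⁻¹ * u⁻¹) * (s * v * s⁻¹ * v⁻¹) := by
  have h1 := h.cen _ (h.comm s hs v hv) _ (inv_mem hu)
  calc s * (u * v) * s⁻¹ * (u * v)⁻¹ = s * u * s⁻¹ * ((s * v * s⁻¹ * v⁻¹) * u⁻¹) := by group
    _ = s * u * s⁻¹ * (u⁻¹ * (s * v * s⁻¹ * v⁻¹)) := by rw [h1]
    _ = _ := by group

theorem comm_mul_left {s u v : G} (hs : s ∈ S) (hu : u ∈ S) (hv : v ∈ S) :
    (s * u) * v * (s * u)⁻¹ * v⁻¹ = (s * v * s⁻¹ * v⁻¹) * (u * v * u⁻¹ * v⁻¹) := by
  have h1 := h.cen _ (h.comm u hu v hv) _ hs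
  have h2 := h.cen _ (h.comm u hu v hv) _ (h.AS (h.comm s hs v hv))
  calc (s * u) * v * (s * u)⁻¹ * v⁻¹ = (s * (u * v * u⁻¹ * v⁻¹)) * v * s⁻¹ * v⁻¹ := by group
    _ = ((u * v * u⁻¹ * v⁻¹) * s) * v * s⁻¹ * v⁻¹ := by rw [h1]
    _ = (u * v * u⁻¹ * v⁻¹) * (s * v * s⁻¹ * v⁻¹) := by group
    _ = _ := h2

theorem inv_eq {x : G} (hx : x ∈ A) : x⁻¹ = x := inv_eq_of_mul_eq_one_left (h.sq x hx)

theorem comm_symm {s u : G} (hs : s ∈ S) (hu : u ∈ S) : u * s * u⁻¹ * s⁻¹ = s * u * s⁻¹ * u⁻¹ := by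
  rw [← h.inv_eq (h.comm s hs u hu)]
  group

theorem sq_mul {s u : G} (hs : s ∈ S) (hu : u ∈ S) :
    (s * u) * (s * u) = (s * s) * (u * u) * (s * u * s⁻¹ * u⁻¹) := by
  rw [← h.comm_symm hs hu]
  have h1 := h.cen _ (h.comm u hu s hs) _ hs
  have h2 := h.cen _ (h.comm u hu s hs) _ (mul_mem (mul_mem hs hs) (mul_mem hu hu))
  calc (s * u) * (s * u) = (s * (u * s * u⁻¹ * s⁻¹)) * s * u * u := by group
    _ = ((u * s * u⁻¹ * s⁻¹) * s) * s * u * u := by rw [h1]
    _ = (u * s * u⁻¹ * s⁻¹) * ((s * s) * (u * u)) := by group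
    _ = _ := h2

/-- The squares lie in `A`. -/
theorem sq_mem {s : G} (hs : s ∈ S) : s * s ∈ A := by
  by_contra hn
  have h4 : 1 < Nat.card A := by rw [h.cardA]; norm_num
  obtain ⟨x, hx⟩ : ∃ x : A, x ≠ 1 := by
    have hfA : Finite A := Nat.finite_of_card_ne_zero (by omega)
    have : Nontrivial A := Finite.one_lt_card_iff_nontrivial.1 h4
    exact exists_ne 1
  obtain ⟨u, hu, e⟩ := h.surj (s * s) (mul_mem hs hs) hn x x.2
  apply hx
  apply Subtype.ext
  rw [← e, h.comm_mul_left hs hs hu]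
  exact h.sq _ (h.comm s hs u hu)

/-- The commutator map. -/
noncomputable def ch {s : G} (hs : s ∈ S) : S →* A :=
  MonoidHom.mk' (fun u => ⟨s * u * s⁻¹ * (u : G)⁻¹, h.comm s hs u u.2⟩) (by
    intro u v
    apply Subtype.ext
    change s * ((u : G) * v) * s⁻¹ * ((u : G) * v)⁻¹ = _
    exact h.comm_mul_right hs u.2 v.2)

theorem ch_apply {s : G} (hs : s ∈ S) (u : S) : ((h.ch hs u : A) : G) = s * u * s⁻¹ * (u : G)⁻¹ := rfl

theorem ch_surjective {s : G} (hs : s ∈ S) (hA : s ∉ A) : Function.Surjective (h.ch hs) := by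
  rintro ⟨x, hx⟩
  obtain ⟨u, hu, e⟩ := h.surj s hs hA x hx
  exact ⟨⟨u, hu⟩, Subtype.ext e⟩

theorem card_ker_ch {s : G} (hs : s ∈ S) (hA : s ∉ A) : Nat.card (h.ch hs).ker = 16 := by
  have h1 := Subgroup.card_mul_index (h.ch hs).ker
  rw [Subgroup.index_ker, MonoidHom.range_eq_top.2 (h.ch_surjective hs hA), Subgroup.card_top, h.cardA, h.cardS]
    at h1
  omega

theorem mem_ker_ch {s : G} (hs : s ∈ S) {u : S} : u ∈ (h.ch hs).ker ↔ s * u = u * s := by
  rw [MonoidHom.mem_ker, Subtype.ext_iff, h.ch_apply]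
  change s * u * s⁻¹ * (u : G)⁻¹ = 1 ↔ _
  rw [mul_inv_eq_one, mul_inv_eq_iff_eq_mul]

/-- If `x, y` are elements with `[x,y] = a ≠ 1`, then the common centralizer of `x, y` in `S` is `A`, provided that
`x ∉ A`. -/
theorem mem_of_comm {x y s : G} (hx : x ∈ S) (hy : y ∈ S) (hxy : x * y ≠ y * x) (hs : s ∈ S)
    (hsx : s * x = x * s) (hsy : s * y = y * s) : s ∈ A := by
  have hfin : Finite S := Nat.finite_of_card_ne_zero (by rw [h.cardS]; norm_num)
  have hfA : Finite A := Nat.finite_of_card_ne_zero (by rw [h.cardA]; norm_num)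
  by_contra hn
  -- the homomorphism `C_S(s) → A × A`
  set K := (h.ch hs).ker with hK
  let φ : K →* A × A := ((h.ch hx).comp K.subtype).prod ((h.ch hy).comp K.subtype)
  have hxK : (⟨x, hx⟩ : S) ∈ K := (h.mem_ker_ch hs).2 hsx
  have hyK : (⟨y, hy⟩ : S) ∈ K := (h.mem_ker_ch hs).2 hsy
  have hsK : (⟨s, hs⟩ : S) ∈ K := (h.mem_ker_ch hs).2 rfl
  have e1 : h.ch hx ⟨x, hx⟩ = 1 := (h.mem_ker_ch hx).2 rfl
  have e2 : h.ch hy ⟨y, hy⟩ = 1 := (h.mem_ker_ch hy).2 rfl
  have e3 : h.ch hx ⟨y, hy⟩ ≠ 1 := fun e => hxy ((h.mem_ker_ch hx).1 e)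
  have e4 : h.ch hy ⟨x, hx⟩ ≠ 1 := fun e => hxy ((h.mem_ker_ch hy).1 e).symm
  have hcard : Nat.card K = 16 := h.card_ker_ch hs hn
  have h1 := Subgroup.card_mul_index φ.ker
  rw [Subgroup.index_ker, hcard] at h1
  have h4 : 4 ≤ Nat.card φ.range := by
    have f1 : φ ⟨_, hxK⟩ = (1, h.ch hy ⟨x, hx⟩) := Prod.ext e1 rfl
    have f2 : φ ⟨_, hyK⟩ = (h.ch hx ⟨y, hy⟩, 1) := Prod.ext rfl e2
    exact four_le φ.range e3 e4 ⟨_, f1⟩ ⟨_, f2⟩
  -- the kernel contains `A` and `s`
  have h5 : 5 ≤ Nat.card φ.ker := by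
    have hA : ∀ z ∈ A, ∃ k : φ.ker, (((k : K) : S) : G) = z := by
      intro z hz
      refine ⟨⟨⟨⟨z, h.AS hz⟩, (h.mem_ker_ch hs).2 (h.cen z hz s hs).symm⟩, ?_⟩, rfl⟩
      rw [MonoidHom.mem_ker]
      exact Prod.ext ((h.mem_ker_ch hx).2 (h.cen z hz x hx).symm) ((h.mem_ker_ch hy).2 (h.cen z hz y hy).symm)
    have hs' : ∃ k : φ.ker, (((k : K) : S) : G) = s := by
      refine ⟨⟨⟨_, hsK⟩, ?_⟩, rfl⟩
      rw [MonoidHom.mem_ker]
      exact Prod.ext ((h.mem_ker_ch hx).2 hsx.symm) ((h.mem_ker_ch hy).2 hsy.symm)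
    obtain ⟨k0, hk0⟩ := hs'
    choose f hf using hA
    have hinj : Function.Injective (fun o : Option A => o.elim k0 (fun z => f z z.2)) := by
      intro o o' e
      have e' : ∀ o : Option A, ((((fun o : Option A => o.elim k0 (fun z => f z z.2)) o : φ.ker) : K) : S) =
          (o.elim s (fun z => (z : G)) : G) := by
        intro o
        cases o with
        | none => exact hk0
        | some z => exact hf z z.2
      have e2 : (o.elim s (fun z => (z : G)) : G) = o'.elim s (fun z => (z : G)) := by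
        rw [← e', ← e', e]
      cases o with
      | none =>
        cases o' with
        | none => rfl
        | some z' => exact absurd (by rw [show s = (z' : G) from e2]; exact z'.2) hn
      | some z =>
        cases o' with
        | none => exact absurd (by rw [show s = (z : G) from e2.symm]; exact z.2) hn
        | some z' => rw [Subtype.ext (show (z : G) = z' from e2)]
    have h6 := Nat.card_le_card_of_injective _ hinj
    have h7 : Nat.card (Option A) = 5 := by
      rw [Finite.card_option, h.cardA]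
    rwa [h7] at h6
  nlinarith only [h1, h4, h5]


/-- `A` has exactly four elements. -/
theorem mem_A_cases {a c z : G} (ha : a ∈ A) (hc : c ∈ A) (ha1 : a ≠ 1) (hc1 : c ≠ 1) (hca : c ≠ a) (hz : z ∈ A) :
    z = 1 ∨ z = a ∨ z = c ∨ z = a * c := by
  by_contra hn
  push Not at hn
  obtain ⟨h1, h2, h3, h4⟩ := hn
  have hfA : Finite A := Nat.finite_of_card_ne_zero (by rw [h.cardA]; norm_num)
  have haa := h.inv_eq ha
  have hac : a * c ≠ 1 := fun e => hca (by rw [← haa]; exact eq_inv_of_mul_eq_one_right e)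
  have h5 := five_le (⟨1, one_mem _⟩ : A) ⟨a, ha⟩ ⟨c, hc⟩ ⟨a * c, mul_mem ha hc⟩ ⟨z, hz⟩ (by
    simp only [List.nodup_cons, List.mem_cons, Subtype.mk.injEq, List.not_mem_nil, or_false, not_or, not_false_eq_true,
      List.nodup_nil, and_true]
    refine ⟨⟨ha1.symm, hc1.symm, hac.symm, h1.symm⟩, ⟨hca.symm, ?_, h2.symm⟩, ⟨?_, h3.symm⟩, h4.symm⟩
    · intro e
      exact hc1 (by simpa using e)
    · intro e
      exact ha1 (by simpa using e))
  rw [h.cardA] at h5
  omega

/-- There is a third element in `A`. -/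
theorem exists_third {a : G} (ha : a ∈ A) : ∃ c ∈ A, c ≠ 1 ∧ c ≠ a := by
  by_contra hn
  push Not at hn
  have hfA : Finite A := Nat.finite_of_card_ne_zero (by rw [h.cardA]; norm_num)
  have hs : Function.Surjective (fun b : Bool => (if b then ⟨1, one_mem _⟩ else ⟨a, ha⟩ : A)) := by
    rintro ⟨c, hc⟩
    by_cases h1 : c = 1
    · exact ⟨true, by subst h1; rfl⟩
    · exact ⟨false, by have := hn c hc h1; subst this; rfl⟩
  have := Nat.card_le_card_of_surjective _ hs
  rw [h.cardA] at this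
  simp at this

/-- First step of `noQ`. -/
theorem noQ_aux {x y u a c : G} (hx : x ∈ S) (hy : y ∈ S) (hu : u ∈ S) (ha : a ∈ A) (hc : c ∈ A) (ha1 : a ≠ 1)
    (hc1 : c ≠ 1) (hca : c ≠ a) (hxa : x * x = a) (hya : y * y = a) (hxy : x * y * x⁻¹ * y⁻¹ = a)
    (hxu : x * u * x⁻¹ * u⁻¹ = 1) (hyu : y * u * y⁻¹ * u⁻¹ = c) : u * u = c := by
  have haa := h.sq a ha
  have hxu' : x * u = u * x := by
    rw [mul_inv_eq_one, mul_inv_eq_iff_eq_mul] at hxu
    exact hxu
  have h1 := h.mem_A_cases ha hc ha1 hc1 hca (h.sq_mem hu)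
  have huA : u ∉ A := by
    intro hu'
    apply hc1
    rw [← hyu, mul_inv_eq_one, mul_inv_eq_iff_eq_mul]
    exact (h.cen u hu' y hy).symm
  rcases h1 with h1 | h1 | h1 | h1
  · exact absurd (h.inv u hu h1) huA
  · exfalso
    have h2 : (x * u) * (x * u) = 1 := by
      rw [h.sq_mul hx hu, hxu, hxa, h1, haa, mul_one]
    have h3 := h.inv _ (mul_mem hx hu) h2
    have h4 := h.cen _ h3 y hy
    -- `x u` commutes with `y`
    have h5 : (y * (x * u) * y⁻¹ * (x * u)⁻¹) = 1 := by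
      rw [mul_inv_eq_one, mul_inv_eq_iff_eq_mul]
      exact h4.symm
    rw [h.comm_mul_right hy hx hu, h.comm_symm hx hy, hxy, hyu] at h5
    apply hca
    rw [← h.inv_eq ha]
    exact (inv_eq_of_mul_eq_one_right h5).symm
  · exact h1
  · exfalso
    have h2 : (y * u) * (y * u) = 1 := by
      rw [h.sq_mul hy hu, hyu, hya, h1]
      calc a * (a * c) * c = (a * a) * (c * c) := by group
        _ = 1 := by rw [haa, h.sq c hc, mul_one]
    have h3 := h.inv _ (mul_mem hy hu) h2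
    have h4 := h.cen _ h3 x hx
    have h5 : (x * (y * u) * x⁻¹ * (y * u)⁻¹) = 1 := by
      rw [mul_inv_eq_one, mul_inv_eq_iff_eq_mul]
      exact h4.symm
    rw [h.comm_mul_right hx hy hu, hxy, hxu, mul_one] at h5
    exact ha1 h5

/-- `S` has no elements `x, y` with `x² = y² = (xy)²` outside `A`. -/
theorem noQ {x y : G} (hx : x ∈ S) (hy : y ∈ S) (hxA : x ∉ A) (h1 : y * y = x * x)
    (h2 : (x * y) * (x * y) = x * x) : False := by
  have hfin : Finite S := Nat.finite_of_card_ne_zero (by rw [h.cardS]; norm_num)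
  have hfA : Finite A := Nat.finite_of_card_ne_zero (by rw [h.cardA]; norm_num)
  obtain ⟨a, hxa⟩ : ∃ a, x * x = a := ⟨_, rfl⟩
  have ha : a ∈ A := hxa ▸ h.sq_mem hx
  have ha1 : a ≠ 1 := fun e => hxA (h.inv x hx (hxa.trans e))
  have haa := h.sq a ha
  have hya : y * y = a := h1.trans hxa
  have hxy : x * y * x⁻¹ * y⁻¹ = a := by
    rw [h.sq_mul hx hy, hxa, hya, haa, one_mul] at h2
    exact h2
  have hxy' : x * y ≠ y * x := by
    intro e
    rw [e, mul_inv_cancel_right, mul_inv_cancel] at hxy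
    exact ha1 hxy.symm
  -- the homomorphism `S → A × A`
  let φ : S →* A × A := (h.ch hx).prod (h.ch hy)
  have hker : ∀ s : S, φ s = 1 → (s : G) ∈ A := by
    intro s hs
    have e1 : s ∈ (h.ch hx).ker := congrArg Prod.fst hs
    have e2 : s ∈ (h.ch hy).ker := congrArg Prod.snd hs
    exact h.mem_of_comm hx hy hxy' s.2 ((h.mem_ker_ch hx).1 e1).symm ((h.mem_ker_ch hy).1 e2).symm
  have hsurj : Function.Surjective φ := by
    have hle : Nat.card φ.ker ≤ 4 := by
      rw [← h.cardA]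
      refine Nat.card_le_card_of_injective (fun k : φ.ker => (⟨((k : S) : G), hker k k.2⟩ : A)) ?_
      intro k l e
      have e' : ((k : S) : G) = ((l : S) : G) := congrArg (fun z : A => (z : G)) e
      exact Subtype.ext (Subtype.ext e')
    have h3 := Subgroup.card_mul_index φ.ker
    rw [Subgroup.index_ker, h.cardS] at h3
    have h4 : 16 ≤ Nat.card φ.range := by nlinarith
    rw [← MonoidHom.range_eq_top]
    apply Subgroup.eq_top_of_le_card
    rw [Nat.card_prod, h.cardA]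
    exact h4
  obtain ⟨c, hc, hc1, hca⟩ := h.exists_third ha
  have hcc := h.sq c hc
  obtain ⟨⟨u, hu⟩, hu'⟩ := hsurj (1, ⟨c, hc⟩)
  obtain ⟨⟨v, hv⟩, hv'⟩ := hsurj (⟨c, hc⟩, 1)
  have hxu : x * u * x⁻¹ * u⁻¹ = 1 := congrArg (fun p : A × A => (p.1 : G)) hu'
  have hyu : y * u * y⁻¹ * u⁻¹ = c := congrArg (fun p : A × A => (p.2 : G)) hu'
  have hxv : x * v * x⁻¹ * v⁻¹ = c := congrArg (fun p : A × A => (p.1 : G)) hv'
  have hyv : y * v * y⁻¹ * v⁻¹ = 1 := congrArg (fun p : A × A => (p.2 : G)) hv'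
  have hyx : y * x * y⁻¹ * x⁻¹ = a := by rw [h.comm_symm hx hy, hxy]
  have qu : u * u = c := h.noQ_aux hx hy hu ha hc ha1 hc1 hca hxa hya hxy hxu hyu
  have qv : v * v = c := h.noQ_aux hy hx hv ha hc ha1 hc1 hca hya hxa hyx hyv hxv
  have quv : (u * v) * (u * v) = c := by
    refine h.noQ_aux (mul_mem hx hy) hy (mul_mem hu hv) ha hc ha1 hc1 hca (h2.trans hxa) hya ?_ ?_ ?_
    · rw [h.comm_mul_left hx hy hy, hxy]
      group
    · rw [h.comm_mul_left hx hy (mul_mem hu hv), h.comm_mul_right hx hu hv, h.comm_mul_right hy hu hv,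
        hxu, hxv, hyu, hyv, one_mul, mul_one, hcc]
    · rw [h.comm_mul_right hy hu hv, hyu, hyv, mul_one]
  have huv : u * v * u⁻¹ * v⁻¹ = c := by
    rw [h.sq_mul hu hv, qu, qv, hcc, one_mul] at quv
    exact quv
  have huA : u ∉ A := fun e => hc1 (by rw [← qu]; exact h.sq u e)
  -- the elements `t` with `[u, t] ∈ {1, c}`
  let T : Subgroup S := (zpowers (⟨c, hc⟩ : A)).comap (h.ch hu)
  have hTc : ∀ t : S, (u * t * u⁻¹ * (t : G)⁻¹ = 1 ∨ u * t * u⁻¹ * (t : G)⁻¹ = c) → t ∈ T := by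
    intro t ht
    rw [mem_comap]
    rcases ht with ht | ht
    · have e : h.ch hu t = 1 := Subtype.ext ht
      rw [e]; exact one_mem _
    · have e : h.ch hu t = ⟨c, hc⟩ := Subtype.ext ht
      rw [e]; exact mem_zpowers _
  have hT : ∀ t : S, t ∈ T := by
    have r1 : ((1 : A), (⟨a, ha⟩ : A)) ∈ T.map φ := by
      refine ⟨⟨x, hx⟩, hTc _ (Or.inl ?_), Prod.ext ?_ ?_⟩
      · change u * x * u⁻¹ * x⁻¹ = 1
        rw [h.comm_symm hx hu, hxu]
      · exact (h.mem_ker_ch hx).2 rfl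
      · exact Subtype.ext hyx
    have r2 : ((⟨a, ha⟩ : A), (1 : A)) ∈ T.map φ := by
      refine ⟨⟨y, hy⟩, hTc _ (Or.inr ?_), Prod.ext ?_ ?_⟩
      · change u * y * u⁻¹ * y⁻¹ = c
        rw [h.comm_symm hy hu, hyu]
      · exact Subtype.ext hxy
      · exact (h.mem_ker_ch hy).2 rfl
    have r3 : ((1 : A), (⟨c, hc⟩ : A)) ∈ T.map φ := by
      refine ⟨⟨u, hu⟩, hTc _ (Or.inl ?_), hu'⟩
      change u * u * u⁻¹ * u⁻¹ = 1
      group
    have r4 : ((⟨c, hc⟩ : A), (1 : A)) ∈ T.map φ := ⟨⟨v, hv⟩, hTc _ (Or.inr huv), hv'⟩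
    have r5 : ∀ z : A, ((1 : A), z) ∈ T.map φ := by
      rintro ⟨z, hz⟩
      rcases h.mem_A_cases ha hc ha1 hc1 hca hz with rfl | rfl | rfl | rfl
      · exact one_mem _
      · exact r1
      · exact r3
      · simpa only [_root_.Subgroup.mem_map, _root_.Subtype.exists, _root_.Prod.mk_mul_mk, _root_.mul_one, _root_.MulMemClass.mk_mul_mk] using mul_mem r1 r3
    have r6 : ∀ z : A, (z, (1 : A)) ∈ T.map φ := by
      rintro ⟨z, hz⟩
      rcases h.mem_A_cases ha hc ha1 hc1 hca hz with rfl | rfl | rfl | rfl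
      · exact one_mem _
      · exact r2
      · exact r4
      · simpa only [_root_.Subgroup.mem_map, _root_.Subtype.exists, _root_.Prod.mk_mul_mk, _root_.MulMemClass.mk_mul_mk, _root_.mul_one] using mul_mem r2 r4
    intro t
    have r7 : φ t ∈ T.map φ := by
      have := mul_mem (r6 (φ t).1) (r5 (φ t).2)
      simpa only [_root_.Subgroup.mem_map, _root_.Subtype.exists, _root_.Prod.mk_mul_mk, _root_.mul_one, _root_.one_mul, _root_.Prod.mk.eta] using this
    obtain ⟨t', ht', e⟩ := r7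
    have h3 : ((t'⁻¹ * t : S) : G) ∈ A := by
      apply hker
      rw [map_mul, map_inv, e, inv_mul_cancel]
    have h4 : t'⁻¹ * t ∈ T := by
      apply hTc
      left
      rw [mul_inv_eq_one, mul_inv_eq_iff_eq_mul]
      exact (h.cen _ h3 u hu).symm
    have h5 := mul_mem ht' h4
    rwa [mul_inv_cancel_left] at h5
  obtain ⟨t, ht, e⟩ := h.surj u hu huA a ha
  have h3 := hT ⟨t, ht⟩
  rw [mem_comap] at h3
  have h4 : h.ch hu ⟨t, ht⟩ = ⟨a, ha⟩ := Subtype.ext e
  rw [h4] at h3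
  obtain ⟨n, hn⟩ := mem_zpowers_iff.1 h3
  have hn' : c ^ n = a := congrArg Subtype.val hn
  have hc2 : c ^ (2 : ℤ) = 1 := by rw [zpow_ofNat, pow_two, hcc]
  rcases Int.even_or_odd' n with ⟨k, rfl | rfl⟩
  · rw [zpow_mul, hc2, one_zpow] at hn'
    exact ha1 hn'.symm
  · rw [zpow_add, zpow_mul, hc2, one_zpow, one_mul, zpow_one] at hn'
    exact hca hn'

end Loc

end Cfsg.Agent.TwoFusion.GoldM1Loc
end

-- part: TwoFusion/GoldM1CA
section
/-!
# Case [M1] of Goldschmidt's theorem (S1169): the centralizer of `A`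

* `no_component`, `normal_S`, `index_S`: a group `X` without odd core with a Sylow 2-subgroup `S` of the type of
  `PSU(3,4)` whose centre `A` is central in `X` (and the induction statement `TProp` for the components) has no
  components, `S` is normal in `X`, `C_X(S) ≤ S` and `|X : S|` is 1 or 5;
* `norm_and_index`: the fields `normCA` and `indexCA` of the frame `GoldM1.Frame`.
-/

set_option autoImplicit false

namespace Cfsg.Agent.TwoFusion.GoldM1CA

open Subgroup
open Cfsg.Agent.TwoFusion.GoldM1Loc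
open Cfsg.Agent.TwoFusion.Gold

/-- In a perfect group central elements of a Sylow subgroup lie in the kernel of every homomorphism of the Sylow
subgroup to an abelian group. -/
theorem hom_eq_one_of_center {K : Type*} [Group K] [Finite K] (hK : commutator K = ⊤) {p : ℕ} [Fact p.Prime]
    (T : Sylow p K) {B : Type*} [CommGroup B] (ϕ : (T : Subgroup K) →* B) (z : K) (hz : z ∈ center K)
    (hzT : z ∈ (T : Subgroup K)) : ϕ ⟨z, hzT⟩ = 1 := by
  have h1 : MonoidHom.transfer ϕ z = ϕ ⟨z ^ (T : Subgroup K).index, _⟩ :=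
    MonoidHom.transfer_eq_pow ϕ z (by
      intro k g _
      have h2 : z ^ k ∈ center K := pow_mem hz k
      rw [mem_center_iff] at h2
      rw [mul_assoc, ← h2 g, inv_mul_cancel_left])
  have h3 : MonoidHom.transfer ϕ z = 1 := by
    have h4 : z ∈ commutator K := by rw [hK]; exact mem_top z
    exact Abelianization.commutator_subset_ker _ h4
  have h5 : (ϕ ⟨z, hzT⟩) ^ (T : Subgroup K).index = 1 := by
    rw [← map_pow, ← h3, h1]
    rfl
  obtain ⟨k, hk⟩ := T.isPGroup' ⟨z, hzT⟩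
  have h6 : (ϕ ⟨z, hzT⟩) ^ p ^ k = 1 := by rw [← map_pow, hk, map_one]
  have h7 := orderOf_dvd_of_pow_eq_one h5
  have h8 := orderOf_dvd_of_pow_eq_one h6
  have h9 : (p ^ k).Coprime (T : Subgroup K).index :=
    Nat.Coprime.pow_left k ((Nat.Prime.coprime_iff_not_dvd Fact.out).2 T.not_dvd_index)
  exact orderOf_eq_one_iff.1 (Nat.eq_one_of_dvd_coprimes h9 h8 h7)

theorem dvd_sixteen {d : ℕ} (h : d ∣ 16) (h1 : d ≠ 1) (h2 : d ≠ 16) : d = 2 ∨ d = 4 ∨ d = 8 := by
  have hle : d ≤ 16 := Nat.le_of_dvd (by norm_num) h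
  interval_cases d <;> omega

theorem dvd_fifteen {d : ℕ} (h : d ∣ 15) (h1 : ¬ 3 ∣ d) : d = 1 ∨ d = 5 := by
  have hle : d ≤ 15 := Nat.le_of_dvd (by norm_num) h
  interval_cases d <;> omega

section NoComponent

variable {X : Type*} [Group X] [Finite X] {S A : Subgroup X}

/-- No components. -/
theorem no_component (h : Loc S A) (hS : ¬ 2 ∣ S.index) (hA : ∀ a ∈ A, ∀ x : X, a * x = x * a)
    (hO : Cfsg.oddCore X = ⊥) {K : Subgroup X} (hK : Cfsg.IsComponent K) (hT : TProp (↥K ⧸ center ↥K)) : False := by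
  have : Fact (Nat.Prime 2) := ⟨Nat.prime_two⟩
  have hSp : IsPGroup 2 S := IsPGroup.of_card (n := 6) (by rw [h.cardS]; norm_num)
  let P : Sylow 2 X := hSp.toSylow hS
  have hP : (P : Subgroup X) = S := rfl
  obtain ⟨T, hT'⟩ := exists_sylow_subgroupOf P hK.1
  have hperf : commutator K = ⊤ := hK.2.1.commutator_eq_top
  have hmemT : ∀ t : K, t ∈ (T : Subgroup K) ↔ (t : X) ∈ S := by
    intro t
    rw [hT', mem_subgroupOf, hP]
  have hsimp : IsSimpleGroup (K ⧸ center K) := hK.2.2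
  -- elements of `A` in `K` are central in `K`
  have hAc : ∀ t : K, (t : X) ∈ A → t ∈ center K := by
    intro t ht
    rw [mem_center_iff]
    intro g
    exact Subtype.ext (hA t ht g).symm
  -- central elements of `T` lie in `A`
  have hcA : ∀ t : K, t ∈ center K → (t : X) ∈ S → (t : X) ∈ A := by
    intro z hz hzS
    have hzT := (hmemT z).2 hzS
    have h1 := hom_eq_one_of_center hperf T Abelianization.of z hz hzT
    have h2 : (⟨z, hzT⟩ : (T : Subgroup K)) ∈ commutator (T : Subgroup K) := by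
      rw [← Abelianization.ker_of]
      exact h1
    have h3 : commutator (T : Subgroup K) ≤ (A.subgroupOf K).subgroupOf (T : Subgroup K) := by
      rw [commutator_def, commutator_le]
      intro a _ b _
      rw [mem_subgroupOf, mem_subgroupOf]
      exact h.comm _ ((hmemT a).1 a.2) _ ((hmemT b).1 b.2)
    have h4 := h3 h2
    rwa [mem_subgroupOf, mem_subgroupOf] at h4
  -- the quotient
  let f : K →* K ⧸ center K := QuotientGroup.mk' (center K)
  have hf : Function.Surjective f := QuotientGroup.mk'_surjective _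
  have hf1 : ∀ t : K, f t = 1 ↔ t ∈ center K := fun t => QuotientGroup.eq_one_iff t
  let Q : Sylow 2 (K ⧸ center K) := T.mapSurjective hf
  have hQ : ∀ q ∈ (Q : Subgroup (K ⧸ center K)), ∃ t : K, (t : X) ∈ S ∧ f t = q := by
    rintro q ⟨t, ht, rfl⟩
    exact ⟨t, (hmemT t).1 ht, rfl⟩
  have hQ2 : ∀ q ∈ (Q : Subgroup (K ⧸ center K)), q * q = 1 := by
    intro q hq
    obtain ⟨t, ht, rfl⟩ := hQ q hq
    rw [← map_mul, hf1]
    exact hAc _ (h.sq_mem ht)
  -- the family of all involutions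
  have hfam : IsElemFam {q : K ⧸ center K | q * q = 1} := by
    refine ⟨⟨?_, ?_, ?_, ?_⟩, fun q hq => hq⟩
    · exact mul_one 1
    · intro q hq g
      change g * q * g⁻¹ * (g * q * g⁻¹) = 1
      have hq' : q * q = 1 := hq
      calc g * q * g⁻¹ * (g * q * g⁻¹) = g * (q * q) * g⁻¹ := by group
        _ = 1 := by rw [hq', mul_one, mul_inv_cancel]
    · intro q hq
      exact ⟨1, by rw [pow_one, pow_two]; exact hq⟩
    · intro R hR x hx y hy _ _
      obtain ⟨R', hR'⟩ := hR.exists_le_sylow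
      obtain ⟨c, hc⟩ := MulAction.exists_smul_eq (K ⧸ center K) R' Q
      have h1 : c * (x * y) * c⁻¹ ∈ (Q : Subgroup (K ⧸ center K)) := by
        rw [← hc]
        exact ⟨x * y, hR' (mul_mem hx hy), rfl⟩
      have h2 := hQ2 _ h1
      have h3 : x * y * (x * y) = c⁻¹ * (c * (x * y) * c⁻¹ * (c * (x * y) * c⁻¹)) * c := by group
      change x * y * (x * y) = 1
      rw [h3, h2]; group
  have heven : Even (Nat.card (K ⧸ center K)) := by
    rw [even_iff_two_dvd, ← Subgroup.index_eq_card]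
    exact two_dvd_index_center hO hK
  have hperf' : Group.IsPerfect (K ⧸ center K) := by
    have := hK.2.1
    infer_instance
  have hncyc := Cfsg.Agent.SignalizersComponents.QsBasic.not_isCyclic_sylow heven Q
  -- two independent elements
  have hne : ∃ q ∈ (Q : Subgroup (K ⧸ center K)), q ≠ 1 := by
    by_contra hn
    push Not at hn
    apply hncyc
    have : Subsingleton Q := ⟨fun a b => Subtype.ext ((hn a a.2).trans (hn b b.2).symm)⟩
    infer_instance
  obtain ⟨q, hq, hq1⟩ := hne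
  have hne2 : ∃ r ∈ (Q : Subgroup (K ⧸ center K)), r ≠ 1 ∧ r ≠ q := by
    by_contra hn
    push Not at hn
    apply hncyc
    refine ⟨⟨q, hq⟩, ?_⟩
    rintro ⟨r, hr⟩
    by_cases h1 : r = 1
    · subst h1; exact (zpowers (⟨q, hq⟩ : Q)).one_mem
    · have := hn r hr h1
      subst this
      exact mem_zpowers _
  obtain ⟨r, hr, hr1, hrq⟩ := hne2
  have hcon := hT _ hfam ⟨q, hQ2 q hq, hq1⟩
  obtain ⟨x, hx, rfl⟩ := hQ q hq
  obtain ⟨y, hy, rfl⟩ := hQ r hr
  have hxy1 : f (x * y) ≠ 1 := by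
    intro e
    apply hrq
    rw [map_mul] at e
    have h2 := hQ2 _ hq
    exact mul_left_cancel (e.trans h2.symm)
  have hord : ∀ t : K, (t : X) ∈ S → f t ≠ 1 → orderOf (f t) = 2 := by
    intro t ht h1
    refine orderOf_eq_prime ?_ h1
    rw [pow_two, ← map_mul, hf1]
    exact hAc _ (h.sq_mem ht)
  -- conjugate elements have the same square
  have hsq : ∀ s t : K, (s : X) ∈ S → (t : X) ∈ S → f s ≠ 1 → f t ≠ 1 → (s : X) * s = (t : X) * t := by
    intro s t hs ht hs1 ht1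
    obtain ⟨g', hg'⟩ := hcon.conj (f s) (f t) (hord s hs hs1) (hord t ht ht1)
    obtain ⟨g, rfl⟩ := hf g'
    obtain ⟨z, hz⟩ : ∃ z : K, z = t⁻¹ * (g * s * g⁻¹) := ⟨_, rfl⟩
    have hzc : z ∈ center K := by
      rw [← hf1, hz]
      simp only [map_mul, map_inv]
      rw [hg', inv_mul_cancel]
    have hgs : g * s * g⁻¹ = t * z := by rw [hz]; group
    have hzt : z * t = t * z := (mem_center_iff.1 hzc t).symm
    have hss : (g * s * g⁻¹) * (g * s * g⁻¹) = s * s := by
      have h1 := mem_center_iff.1 (hAc (s * s) (h.sq_mem hs)) g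
      calc (g * s * g⁻¹) * (g * s * g⁻¹) = (g * (s * s)) * g⁻¹ := by group
        _ = _ := by rw [h1]; group
    have h1 : s * s = (t * t) * (z * z) := by
      rw [← hss, hgs]
      calc t * z * (t * z) = t * (z * t) * z := by group
        _ = t * (t * z) * z := by rw [hzt]
        _ = _ := by group
    have hzz : z * z = (t * t)⁻¹ * (s * s) := by rw [h1]; group
    have hzzA : ((z * z : K) : X) ∈ A := by
      rw [hzz]
      exact mul_mem (inv_mem (h.sq_mem ht)) (h.sq_mem hs)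
    have hz4 : z ^ 4 = 1 := by
      have h2 := h.sq _ hzzA
      have h3 : (z * z) * (z * z) = 1 := Subtype.ext h2
      calc z ^ 4 = (z * z) * (z * z) := by rw [pow_succ, pow_succ, pow_two]; group
        _ = 1 := h3
    have hzS : (z : X) ∈ S := by
      rw [← hmemT]
      have h2 : IsPGroup 2 (zpowers z) := by
        refine IsPGroup.of_card_dvd_pow (n := 2) ?_
        rw [Nat.card_zpowers]
        exact orderOf_dvd_of_pow_eq_one hz4
      have h3 : zpowers z ≤ normalizer (T : Set K) := by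
        refine le_trans ?_ (Subgroup.center_le_normalizer _)
        rw [zpowers_le]; exact hzc
      have h4 := h2.inf_normalizer_sylow T
      rw [inf_eq_left.2 h3] at h4
      have h5 : zpowers z ≤ (T : Subgroup K) := inf_eq_left.1 h4.symm
      exact h5 (mem_zpowers z)
    have hz1 : (z : X) * z = 1 := h.sq _ (hcA z hzc hzS)
    have h6 : s * s = t * t := by
      rw [h1, show z * z = 1 from Subtype.ext hz1, mul_one]
    exact congrArg Subtype.val h6
  refine h.noQ hx hy ?_ (hsq y x hy hx hr1 hq1) (hsq (x * y) x (mul_mem hx hy) hx hxy1 hq1)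
  intro hxA
  exact hq1 ((hf1 x).2 (hAc x hxA))

omit [Finite X] in
theorem normal_A (hA : ∀ a ∈ A, ∀ x : X, a * x = x * a) : A.Normal :=
  ⟨fun a ha g => by rw [← hA a ha g, mul_inv_cancel_right]; exact ha⟩

omit [Finite X] in
/-- The square of an element which centralizes `u` modulo `A` centralizes `u`. -/
theorem sq_comm (h : Loc S A) (hA : ∀ a ∈ A, ∀ x : X, a * x = x * a) {g u : X}
    (hgu : g * u * g⁻¹ * u⁻¹ ∈ A) : (g * g) * u = u * (g * g) := by
  have h1 := hA _ hgu g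
  have h2 := h.sq _ hgu
  have e : (g * g) * u * (g * g)⁻¹ * u⁻¹ = 1 := by
    calc (g * g) * u * (g * g)⁻¹ * u⁻¹ = (g * (g * u * g⁻¹ * u⁻¹)) * u * g⁻¹ * u⁻¹ := by group
      _ = ((g * u * g⁻¹ * u⁻¹) * g) * u * g⁻¹ * u⁻¹ := by rw [h1]
      _ = (g * u * g⁻¹ * u⁻¹) * (g * u * g⁻¹ * u⁻¹) := by group
      _ = 1 := h2
  rwa [mul_inv_eq_one, mul_inv_eq_iff_eq_mul] at e

omit [Finite X] in
/-- Commuting modulo `A`. -/
theorem mem_A_iff_commute [hAn : A.Normal] {g u : X} :
    g * u * g⁻¹ * u⁻¹ ∈ A ↔ Commute (QuotientGroup.mk' A g) (QuotientGroup.mk' A u) := by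
  rw [commute_iff_eq, ← QuotientGroup.eq_one_iff, ← QuotientGroup.mk'_apply]
  simp only [map_mul, map_inv]
  rw [mul_inv_eq_one, mul_inv_eq_iff_eq_mul]

/-- Without components `S` is normal and contains its centralizer. -/
theorem normal_S (h : Loc S A) (hS : ¬ 2 ∣ S.index) (hA : ∀ a ∈ A, ∀ x : X, a * x = x * a)
    (hO : Cfsg.oddCore X = ⊥) (hT : ∀ K : Subgroup X, Cfsg.IsComponent K → TProp (↥K ⧸ center ↥K)) :
    S.Normal ∧ centralizer (S : Set X) ≤ S := by
  have : Fact (Nat.Prime 2) := ⟨Nat.prime_two⟩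
  have hSp : IsPGroup 2 S := IsPGroup.of_card (n := 6) (by rw [h.cardS]; norm_num)
  let P : Sylow 2 X := hSp.toSylow hS
  have hl : Cfsg.layer X = ⊥ := Cfsg.Agent.SignalizersComponents.ComponentExists.layer_eq_bot_iff.2
    (fun K hK => no_component h hS hA hO hK (hT K hK))
  have hc := (Cfsg.Agent.SignalizersComponents.PConstrained.centralizer_pCore_le_iff_layer_eq_bot 2 hO).2 hl
  have hle : Cfsg.pCore 2 X ≤ S := Cfsg.Agent.Lib.Cores.pCore_le_sylow P
  have hAn := normal_A hA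
  have hpn : (Cfsg.pCore 2 X).Normal := Cfsg.Agent.Lib.Cores.pCore_normal 2
  let f := QuotientGroup.mk' A
  have hfs : Function.Surjective f := QuotientGroup.mk'_surjective _
  have hmn : ((Cfsg.pCore 2 X).map f).Normal := hpn.map f hfs
  let N : Subgroup X := (centralizer ((Cfsg.pCore 2 X).map f : Set (X ⧸ A))).comap f
  have hNn : N.Normal := inferInstance
  have hN : ∀ g, g ∈ N ↔ ∀ u ∈ Cfsg.pCore 2 X, g * u * g⁻¹ * u⁻¹ ∈ A := by
    intro g
    rw [mem_comap, mem_centralizer_iff]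
    constructor
    · intro h1 u hu
      rw [mem_A_iff_commute]
      exact (h1 (f u) ⟨u, hu, rfl⟩).symm
    · rintro h1 _ ⟨u, hu, rfl⟩
      exact (mem_A_iff_commute.1 (h1 u hu)).symm
  have hN2 : IsPGroup 2 N := by
    rintro ⟨g, hg⟩
    rw [hN] at hg
    have h1 : g * g ∈ Cfsg.pCore 2 X := by
      apply hc
      rw [mem_centralizer_iff]
      intro u hu
      exact (sq_comm h hA (hg u hu)).symm
    obtain ⟨k, hk⟩ := Cfsg.Agent.Lib.Cores.pCore_isPGroup (G := X) 2 ⟨_, h1⟩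
    refine ⟨k + 1, Subtype.ext ?_⟩
    have hk' : (g * g) ^ 2 ^ k = 1 := congrArg Subtype.val hk
    change g ^ 2 ^ (k + 1) = 1
    rw [pow_succ', pow_mul, pow_two]
    exact hk'
  have h3 : S ≤ Cfsg.pCore 2 X := by
    refine le_trans ?_ (Cfsg.Agent.Lib.Cores.le_pCore hNn hN2)
    intro s hs
    rw [hN]
    intro u hu
    exact h.comm s hs u (hle hu)
  have h4 : S = Cfsg.pCore 2 X := le_antisymm h3 hle
  rw [h4]
  exact ⟨hpn, hc⟩

omit [Finite X] in
/-- An element of odd order which centralizes `S/A` is trivial. -/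
theorem eq_one_of_odd (h : Loc S A) (hc : centralizer (S : Set X) ≤ S) (hA : ∀ a ∈ A, ∀ x : X, a * x = x * a)
    {g : X} (hg : Odd (orderOf g)) (hgs : ∀ s ∈ S, g * s * g⁻¹ * s⁻¹ ∈ A) : g = 1 := by
  have h1 : g * g ∈ S := by
    apply hc
    rw [mem_centralizer_iff]
    intro s hs
    exact (sq_comm h hA (hgs s hs)).symm
  have h2 : (g * g) ^ 64 = 1 := by
    have := pow_card_eq_one' (x := (⟨_, h1⟩ : S))
    rw [h.cardS] at this
    exact congrArg Subtype.val this
  have h3 : g ^ 128 = 1 := by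
    rw [← pow_two, ← pow_mul] at h2
    exact h2
  have h4 := orderOf_dvd_of_pow_eq_one h3
  have h5 : (orderOf g).Coprime 128 := by
    have : (128 : ℕ) = 2 ^ 7 := by norm_num
    rw [this]
    exact Nat.Coprime.pow_right 7 (Nat.coprime_two_right.2 hg)
  exact orderOf_eq_one_iff.1 (Nat.Coprime.eq_one_of_dvd h5 h4)

omit [Finite X] in
/-- Squares of elements of `S` are invariant under conjugation. -/
theorem sq_conj (h : Loc S A) (hA : ∀ a ∈ A, ∀ x : X, a * x = x * a) {s : X} (hs : s ∈ S) (g : X) :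
    (g * s * g⁻¹) * (g * s * g⁻¹) = s * s := by
  have h1 := hA _ (h.sq_mem hs) g
  calc (g * s * g⁻¹) * (g * s * g⁻¹) = (g * (s * s)) * g⁻¹ := by group
    _ = ((s * s) * g) * g⁻¹ := by rw [h1]
    _ = s * s := by group

omit [Finite X] in
/-- An element `g` with `g³ = 1` centralizes `S/A`. -/
theorem three (h : Loc S A) (hn : S.Normal) (hA : ∀ a ∈ A, ∀ x : X, a * x = x * a) {g : X}
    (hg : g ^ 3 = 1) : ∀ s ∈ S, g * s * g⁻¹ * s⁻¹ ∈ A := by
  intro s hs
  by_contra hns
  have hgc : ∀ k : X, ∀ t ∈ S, k * t * k⁻¹ ∈ S := fun k t ht => hn.conj_mem t ht k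
  obtain ⟨w, hw⟩ : ∃ w, w = s⁻¹ * (g * s * g⁻¹) := ⟨_, rfl⟩
  have hwS : w ∈ S := by rw [hw]; exact mul_mem (inv_mem hs) (hgc g s hs)
  have hwA : w ∉ A := by
    intro hwA
    apply hns
    have h1 := hA w hwA s⁻¹
    have e : g * s * g⁻¹ * s⁻¹ = s * (w * s⁻¹) := by rw [hw]; group
    rw [e, h1, mul_inv_cancel_left]
    exact hwA
  have hgg : g * g * g = 1 := by rw [← hg]; simp [pow_succ]
  have h3 : w * (g * w * g⁻¹) * ((g * g) * w * (g * g)⁻¹) = 1 := by
    rw [hw]
    calc s⁻¹ * (g * s * g⁻¹) * (g * (s⁻¹ * (g * s * g⁻¹)) * g⁻¹) *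
          (g * g * (s⁻¹ * (g * s * g⁻¹)) * (g * g)⁻¹) = s⁻¹ * (g * g * g) * s * (g * g * g)⁻¹ := by group
      _ = 1 := by rw [hgg]; group
  have h4 : w * (g * w * g⁻¹) = ((g * g) * w * (g * g)⁻¹)⁻¹ := eq_inv_of_mul_eq_one_left h3
  refine h.noQ hwS (hgc g w hwS) hwA (sq_conj h hA hwS g) ?_
  rw [h4, ← mul_inv_rev, sq_conj h hA hwS]
  exact h.inv_eq (h.sq_mem hwS)

omit [Finite X] in
/-- An element `g` with `g⁷ = 1` centralizes `S/A`. -/
theorem seven (h : Loc S A) (hn : S.Normal) (hA : ∀ a ∈ A, ∀ x : X, a * x = x * a) {g : X}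
    (hg : g ^ 7 = 1) : ∀ s ∈ S, g * s * g⁻¹ * s⁻¹ ∈ A := by
  intro s hs
  by_contra hns
  have hAn := normal_A hA
  have hgc : ∀ k : X, ∀ t ∈ S, k * t * k⁻¹ ∈ S := fun k t ht => hn.conj_mem t ht k
  have hsA : s ∉ A := by
    intro hsA
    apply hns
    have h1 := hA s hsA g
    have e : g * s * g⁻¹ * s⁻¹ = 1 := by rw [← h1]; group
    rw [e]; exact one_mem _
  have h8 : g ^ 8 = g := by rw [pow_succ, hg, one_mul]
  -- powers of `g` do not centralize `s` modulo `A`
  have hpow : ∀ k l : ℕ, (g ^ k) ^ l = g → g ^ k * s * (g ^ k)⁻¹ * s⁻¹ ∉ A := by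
    intro k l hkl hk
    apply hns
    rw [mem_A_iff_commute] at hk ⊢
    have h1 := hk.pow_left l
    rwa [← map_pow, hkl] at h1
  let v : ℕ → X := fun k => g ^ k * s * (g ^ k)⁻¹
  have hv : ∀ k, v k = g ^ k * s * (g ^ k)⁻¹ := fun k => rfl
  have hvS : ∀ k, v k ∈ S := fun k => hgc _ s hs
  have hvv : ∀ k, v k * v k = s * s := fun k => sq_conj h hA hs _
  have hnot : ∀ k l : ℕ, (g ^ k) ^ l = g → s * v k ∉ A := by
    intro k l hkl hk
    apply hpow k l hkl
    -- `v s⁻¹ = (s v)⁻¹ ...`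
    have h1 : v k * s⁻¹ = s⁻¹ * (s * v k) * s⁻¹ := by group
    have h2 : g ^ k * s * (g ^ k)⁻¹ * s⁻¹ = v k * s⁻¹ := rfl
    rw [h2, h1, ← hA _ hk, mul_assoc]
    refine mul_mem hk ?_
    rw [← mul_inv_rev]
    exact inv_mem (h.sq_mem hs)
  -- the function `F`
  have hF1 : ∀ k, (s * v k) * (s * v k) ≠ s * s := fun k e => h.noQ hs (hvS k) hsA (hvv k) e
  have hF2 : ∀ k, s * v k ∉ A → (s * v (2 * k)) * (s * v (2 * k)) ≠ (s * v k) * (s * v k) := by
    intro k hk e
    have hsq := sq_conj h hA (mul_mem hs (hvS k)) (g ^ k)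
    have e1 : (s * v k) * (g ^ k * (s * v k) * (g ^ k)⁻¹) = (s * s) * (s * v (2 * k)) := by
      have h1 : g ^ k * (s * v k) * (g ^ k)⁻¹ = v k * v (2 * k) := by
        simp only [hv, two_mul, pow_add]
        group
      rw [h1]
      calc (s * v k) * (v k * v (2 * k)) = s * (v k * v k) * v (2 * k) := by group
        _ = (s * s) * (s * v (2 * k)) := by rw [hvv]; group
    refine h.noQ (mul_mem hs (hvS k)) (hgc (g ^ k) _ (mul_mem hs (hvS k))) hk hsq ?_
    rw [e1, ← e]
    have h2 := hA _ (h.sq_mem hs) (s * v (2 * k))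
    calc (s * s) * (s * v (2 * k)) * ((s * s) * (s * v (2 * k)))
        = (s * s) * ((s * v (2 * k)) * (s * s)) * (s * v (2 * k)) := by group
      _ = (s * s) * ((s * s) * (s * v (2 * k))) * (s * v (2 * k)) := by rw [h2]
      _ = ((s * s) * (s * s)) * ((s * v (2 * k)) * (s * v (2 * k))) := by group
      _ = _ := by rw [h.sq _ (h.sq_mem hs), one_mul]
  have n1 : s * v 1 ∉ A := hnot 1 1 (by simp)
  have n2 : s * v 2 ∉ A := hnot 2 4 (by rw [← pow_mul, h8])
  have n4 : s * v 4 ∉ A := hnot 4 2 (by rw [← pow_mul, h8])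
  have f1 := hF2 1 n1
  have f2 := hF2 2 n2
  have f4 := hF2 4 n4
  have v8 : v (2 * 4) = v 1 := by simp only [hv, h8, pow_one]
  rw [v8] at f4
  have hfA : Finite A := Nat.finite_of_card_ne_zero (by rw [h.cardA]; norm_num)
  have hone : ∀ k, s * v k ∉ A → (s * v k) * (s * v k) ≠ 1 := fun k hk e =>
    hk (h.inv _ (mul_mem hs (hvS k)) e)
  have hss : s * s ≠ 1 := fun e => hsA (h.inv s hs e)
  have h5 := five_le (⟨1, one_mem _⟩ : A) ⟨s * s, h.sq_mem hs⟩ ⟨_, h.sq_mem (mul_mem hs (hvS 1))⟩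
    ⟨_, h.sq_mem (mul_mem hs (hvS 2))⟩ ⟨_, h.sq_mem (mul_mem hs (hvS 4))⟩ (by
    simp only [List.nodup_cons, List.mem_cons, Subtype.mk.injEq, List.not_mem_nil, or_false, not_or, not_false_eq_true,
      List.nodup_nil, and_true]
    exact ⟨⟨hss.symm, (hone 1 n1).symm, (hone 2 n2).symm, (hone 4 n4).symm⟩,
      ⟨(hF1 1).symm, (hF1 2).symm, (hF1 4).symm⟩, ⟨f1.symm, f4⟩, f2.symm⟩)
  rw [h.cardA] at h5
  omega

/-- An element of odd prime order has no fixed points on `S/A`. -/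
theorem no_fixed (h : Loc S A) (hn : S.Normal) (hc : centralizer (S : Set X) ≤ S)
    (hA : ∀ a ∈ A, ∀ x : X, a * x = x * a) {g : X} {p : ℕ} (hp : p.Prime) (hp2 : p ≠ 2) (hg : orderOf g = p)
    {v : X} (hv : v ∈ S) (hvA : v ∉ A) (hgv : g * v * g⁻¹ * v⁻¹ ∈ A) : False := by
  have hpf : Fact p.Prime := ⟨hp⟩
  have hodd : Odd (orderOf g) := hg ▸ hp.odd_of_ne_two hp2
  have hg1 : g ≠ 1 := by
    rintro rfl
    rw [orderOf_one] at hg
    exact hp.one_lt.ne hg
  have hAn := normal_A hA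
  let f := QuotientGroup.mk' A
  have hfs : Function.Surjective f := QuotientGroup.mk'_surjective _
  let W := S.map f
  have hWn : W.Normal := hn.map f hfs
  -- the order of `W`
  have hcW : Nat.card W = 16 := by
    let φ : S →* X ⧸ A := f.comp S.subtype
    have h1 : φ.range = W := by
      rw [MonoidHom.range_comp, range_subtype]
    have h2 : φ.ker = A.subgroupOf S := by
      ext s
      rw [MonoidHom.mem_ker, mem_subgroupOf]
      exact QuotientGroup.eq_one_iff (s : X)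
    have h3 : Nat.card (A.subgroupOf S) = 4 := by
      rw [← h.cardA]
      exact Nat.card_congr (subgroupOfEquivOfLe h.AS).toEquiv
    have h4 := Subgroup.card_mul_index φ.ker
    rw [Subgroup.index_ker, h1, h2, h3, h.cardS] at h4
    omega
  -- the action of `g`
  let ψ : zpowers (f g) →* MulAut W := (MulAut.conjNormal (H := W)).comp (zpowers (f g)).subtype
  let act : MulAction (zpowers (f g)) W := MulAction.compHom W ψ
  have hact : ∀ (z : zpowers (f g)) (w : W), ((z • w : W) : X ⧸ A) = z * w * (z : X ⧸ A)⁻¹ := fun z w => rfl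
  have hpg : IsPGroup p (zpowers (f g)) := by
    refine IsPGroup.of_card_dvd_pow (n := 1) ?_
    rw [Nat.card_zpowers, pow_one, ← hg]
    exact orderOf_map_dvd f g
  have hmod := hpg.card_modEq_card_fixedPoints W
  rw [hcW] at hmod
  -- the fixed points
  let D : Subgroup W := (centralizer ({f g} : Set (X ⧸ A))).subgroupOf W
  have hD : ∀ w : W, w ∈ D ↔ (f g) * w = w * (f g) := by
    intro w
    rw [mem_subgroupOf, mem_centralizer_singleton_iff]
    exact eq_comm
  have hfix : MulAction.fixedPoints (zpowers (f g)) W = (D : Set W) := by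
    ext w
    rw [MulAction.mem_fixedPoints, SetLike.mem_coe, hD]
    constructor
    · intro h1
      have h2 := congrArg Subtype.val (h1 ⟨f g, mem_zpowers _⟩)
      rw [hact, mul_inv_eq_iff_eq_mul] at h2
      exact h2
    · rintro h1 ⟨z, hz⟩
      apply Subtype.ext
      rw [hact, mul_inv_eq_iff_eq_mul]
      obtain ⟨n, rfl⟩ := mem_zpowers_iff.1 hz
      exact (Commute.zpow_left h1 n)
  rw [hfix] at hmod
  have hDdvd : Nat.card D ∣ 16 := hcW ▸ card_subgroup_dvd_card D
  -- `D ≠ 1`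
  have hfv : f v ∈ W := ⟨v, hv, rfl⟩
  have hD1 : Nat.card D ≠ 1 := by
    intro e
    have h1 : D = ⊥ := Subgroup.card_eq_one.1 e
    have h2 : (⟨f v, hfv⟩ : W) ∈ D := by
      rw [hD]
      exact (mem_A_iff_commute.1 hgv)
    rw [h1, mem_bot] at h2
    exact hvA ((QuotientGroup.eq_one_iff v).1 (congrArg Subtype.val h2))
  -- `D ≠ W`
  have hnc : ¬ ∀ s ∈ S, g * s * g⁻¹ * s⁻¹ ∈ A := fun e => hg1 (eq_one_of_odd h hc hA hodd e)
  have hD16 : Nat.card D ≠ 16 := by
    intro e
    apply hnc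
    have h1 : D = ⊤ := by
      apply Subgroup.eq_top_of_card_eq
      rw [e, hcW]
    intro s hs
    rw [mem_A_iff_commute]
    have h2 : (⟨f s, ⟨s, hs, rfl⟩⟩ : W) ∈ D := by rw [h1]; exact mem_top _
    exact (hD _).1 h2
  have hg3 : p ≠ 3 := by
    intro e
    apply hnc
    apply three h hn hA
    rw [← e, ← hg, pow_orderOf_eq_one]
  have hg7 : p ≠ 7 := by
    intro e
    apply hnc
    apply seven h hn hA
    rw [← e, ← hg, pow_orderOf_eq_one]
  have hcD : Nat.card (D : Set W) = Nat.card D := rfl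
  rw [hcD] at hmod
  obtain ⟨d, hd⟩ : ∃ d, d = Nat.card D := ⟨_, rfl⟩
  rw [← hd] at hmod hDdvd hD1 hD16
  have hle : d ≤ 16 := Nat.le_of_dvd (by norm_num) hDdvd
  have hcases : d = 2 ∨ d = 4 ∨ d = 8 := dvd_sixteen hDdvd hD1 hD16
  have hdvd := (Nat.modEq_iff_dvd' hle).1 hmod.symm
  have hp5 : ∀ q n : ℕ, q.Prime → p ∣ q ^ n → p = q := by
    intro q n hq hpq
    exact (Nat.prime_dvd_prime_iff_eq hp hq).1 (hp.dvd_of_dvd_pow hpq)
  rcases hcases with rfl | rfl | rfl
  · have h1 : p ∣ 2 * 7 := by norm_num; exact hdvd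
    rcases (Nat.Prime.dvd_mul hp).1 h1 with h2 | h2
    · exact hp2 ((Nat.prime_dvd_prime_iff_eq hp Nat.prime_two).1 h2)
    · exact hg7 ((Nat.prime_dvd_prime_iff_eq hp (by norm_num)).1 h2)
  · have h1 : p ∣ 2 ^ 2 * 3 := by norm_num; exact hdvd
    rcases (Nat.Prime.dvd_mul hp).1 h1 with h2 | h2
    · exact hp2 (hp5 2 2 Nat.prime_two h2)
    · exact hg3 ((Nat.prime_dvd_prime_iff_eq hp Nat.prime_three).1 h2)
  · have h1 : p ∣ 2 ^ 3 := by norm_num; exact hdvd
    exact hp2 (hp5 2 3 Nat.prime_two h1)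

/-- The index of `S` is 1 or 5. -/
theorem index_S (h : Loc S A) (hS : ¬ 2 ∣ S.index) (hn : S.Normal) (hc : centralizer (S : Set X) ≤ S)
    (hA : ∀ a ∈ A, ∀ x : X, a * x = x * a) : S.index = 1 ∨ S.index = 5 := by
  have : Fact (Nat.Prime 2) := ⟨Nat.prime_two⟩
  have hSp : IsPGroup 2 S := IsPGroup.of_card (n := 6) (by rw [h.cardS]; norm_num)
  let P : Sylow 2 X := hSp.toSylow hS
  have hAn := normal_A hA
  have hdvd : S.index ∣ A.relIndex S - 1 := by
    refine Cfsg.Agent.OddOrderCharacters.NilpotentIndex.index_dvd_relIndex_sub_one ?_ le_rfl ?_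
    · rw [commutator_le]
      intro a ha b hb
      exact h.comm a ha b hb
    · intro k hk hkA x hxk
      -- the subgroup of the elements which centralize `k` modulo `A`
      let D : Subgroup X := (centralizer ({QuotientGroup.mk' A k} : Set (X ⧸ A))).comap (QuotientGroup.mk' A)
      have hD : ∀ y, y ∈ D ↔ y * k * y⁻¹ * k⁻¹ ∈ A := by
        intro y
        rw [mem_comap, mem_centralizer_singleton_iff, mem_A_iff_commute]
        exact Iff.rfl
      have hSD : S ≤ D := fun s hs => (hD s).2 (h.comm s hs k hk)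
      have h2 : IsPGroup 2 D := by
        rw [IsPGroup.iff_card]
        refine ⟨_, Nat.eq_prime_pow_of_unique_prime_dvd Nat.card_pos.ne' ?_⟩
        intro q hq hqD
        by_contra hq2
        have hqf : Fact q.Prime := ⟨hq⟩
        obtain ⟨g, hg⟩ := exists_prime_orderOf_dvd_card' (G := D) q hqD
        have h3 := (hD g).1 g.2
        refine no_fixed h hn hc hA hq hq2 ?_ hk hkA h3
        rw [← hg]
        exact orderOf_submonoid g
      have h3 : D = S := P.is_maximal' h2 hSD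
      rw [← h3, hD]
      exact hxk
  have h15 : A.relIndex S = 16 := by
    have h1 : Nat.card (A.subgroupOf S) = 4 := by
      rw [← h.cardA]
      exact Nat.card_congr (subgroupOfEquivOfLe h.AS).toEquiv
    have h2 := Subgroup.card_mul_index (A.subgroupOf S)
    rw [h1, h.cardS] at h2
    change (A.subgroupOf S).index = 16
    omega
  rw [h15] at hdvd
  have h3 : ¬ 3 ∣ S.index := by
    intro h3
    have h4 : 3 ∣ Nat.card X := h3.trans S.index_dvd_card
    have : Fact (Nat.Prime 3) := ⟨Nat.prime_three⟩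
    obtain ⟨g, hg⟩ := exists_prime_orderOf_dvd_card' (G := X) 3 h4
    have h5 : g = 1 := eq_one_of_odd h hc hA (by rw [hg]; decide)
      (three h hn hA (by rw [← hg, pow_orderOf_eq_one]))
    rw [h5, orderOf_one] at hg
    omega
  exact dvd_fifteen hdvd h3

end NoComponent

open Cfsg.Agent.Classification.TypeB.Core (oc oc_def)

/-- `[M1-CA]`: the fields `normCA` and `indexCA` of the frame. -/
theorem norm_and_index {G : Type*} [Group G] [Finite G] {S A : Subgroup G} (h : Loc S A) (hS : ¬ 2 ∣ S.index)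
    (hT : ∀ K : Subgroup (↥(centralizer (A : Set G)) ⧸ Cfsg.oddCore ↥(centralizer (A : Set G))),
      Cfsg.IsComponent K → TProp (↥K ⧸ center ↥K)) :
    centralizer (A : Set G) ≤ normalizer ((oc (centralizer (A : Set G)) ⊔ S : Subgroup G) : Set G) ∧
    ((oc (centralizer (A : Set G)) ⊔ S).relIndex (centralizer (A : Set G)) = 1 ∨
      (oc (centralizer (A : Set G)) ⊔ S).relIndex (centralizer (A : Set G)) = 5) := by
  have : Fact (Nat.Prime 2) := ⟨Nat.prime_two⟩
  obtain ⟨C, hC⟩ : ∃ C, C = centralizer (A : Set G) := ⟨_, rfl⟩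
  rw [← hC] at hT ⊢
  have hAC : ∀ a ∈ A, ∀ x ∈ C, a * x = x * a := by
    intro a ha x hx
    rw [hC, mem_centralizer_iff] at hx
    exact hx a ha
  have hSC : S ≤ C := by
    intro s hs
    rw [hC, mem_centralizer_iff]
    intro a ha
    exact h.cen a ha s hs
  let f := QuotientGroup.mk' (Cfsg.oddCore C)
  have hf : Function.Surjective f := QuotientGroup.mk'_surjective _
  have hloc : Loc (S.subgroupOf C) (A.subgroupOf C) := h.subgroupOf hSC
  have hSp : IsPGroup 2 (S.subgroupOf C) := IsPGroup.of_card (n := 6) (by rw [hloc.cardS]; norm_num)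
  have hinj : ∀ s ∈ S.subgroupOf C, f s = 1 → s = 1 := by
    intro s hs h1
    have h2 : s ∈ Cfsg.oddCore C := (QuotientGroup.eq_one_iff s).1 h1
    have h3 : (Nat.card (Cfsg.oddCore C)).Coprime 2 := Cfsg.Agent.Lib.Cores.pPrimeCore_coprime 2
    have h4 : Disjoint (S.subgroupOf C) (Cfsg.oddCore C) := by
      apply Subgroup.disjoint_of_coprime_natCard
      rw [hloc.cardS]
      have e : (64 : ℕ) = 2 ^ 6 := by norm_num
      rw [e]
      exact Nat.Coprime.pow_left 6 h3.symm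
    exact (Subgroup.disjoint_def.1 h4) hs h2
  have hlocX := hloc.map f hinj
  have hSX : ¬ 2 ∣ ((S.subgroupOf C).map f).index := by
    intro h1
    have h2 : ((S.subgroupOf C).map f).index ∣ (S.subgroupOf C).index := Subgroup.index_map_dvd _ hf
    have h3 : (S.subgroupOf C).index ∣ S.index := Subgroup.relIndex_dvd_index_of_le hSC
    exact hS ((h1.trans h2).trans h3)
  have hAX : ∀ a ∈ (A.subgroupOf C).map f, ∀ x, a * x = x * a := by
    rintro _ ⟨a, ha, rfl⟩ x
    obtain ⟨y, rfl⟩ := hf x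
    rw [← map_mul, ← map_mul]
    congr 1
    exact Subtype.ext (hAC a ha y y.2)
  have hO : Cfsg.oddCore (C ⧸ Cfsg.oddCore C) = ⊥ := Cfsg.Agent.Lib.Cores.pPrimeCore_quotient_pPrimeCore 2
  obtain ⟨hn, hc⟩ := normal_S hlocX hSX hAX hO hT
  have hidx := index_S hlocX hSX hn hc hAX
  have hoc : oc C = (Cfsg.oddCore C).map C.subtype := by
    rw [oc_def]
    exact (Cfsg.Agent.OddOrderLocal.UniqZL.map_pPrimeCore_eq 2 C).symm
  obtain ⟨M, hM⟩ : ∃ M, M = ((S.subgroupOf C).map f).comap f := ⟨_, rfl⟩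
  have hM1 : M = S.subgroupOf C ⊔ Cfsg.oddCore C := by
    rw [hM, Subgroup.comap_map_eq, QuotientGroup.ker_mk']
  have hM2 : oc C ⊔ S = M.map C.subtype := by
    rw [hM1, Subgroup.map_sup, hoc, subgroupOf_map_subtype, inf_eq_left.2 hSC, sup_comm]
  have hMn : M.Normal := by rw [hM]; exact hn.comap f
  rw [hM2]
  constructor
  · rw [← Subgroup.normal_subgroupOf_iff_le_normalizer (map_subtype_le M), subgroupOf,
      comap_map_eq_self_of_injective C.subtype_injective]
    exact hMn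
  · have e : (M.map C.subtype).relIndex C = M.index := by
      change ((M.map C.subtype).subgroupOf C).index = _
      rw [subgroupOf, comap_map_eq_self_of_injective C.subtype_injective]
    rw [e, hM, Subgroup.index_comap_of_surjective _ hf]
    exact hidx

end Cfsg.Agent.TwoFusion.GoldM1CA
end

-- part: TwoFusion/QuatThree
section
/-!
# A subgroup `Q₈ : 3` of `SL(2,F)`, and sections `SL(2,F)` of finite groups

`exists_quat_three`: `SL(2,F)`, `F` a finite field of odd order, contains a nonabelian 2-subgroup `Q` and an element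
`w` of order 3 in its normaliser, with `i, j ∈ Q`, `w i w⁻¹ = j ≠ i`.
-/

set_option autoImplicit false

namespace Cfsg.Agent.TwoFusion.QuatThree

open Matrix Cfsg.Agent.Lib.SL2Mat Cfsg.Agent.TwoFusion.NormalSL2

section sl2

variable {F : Type*} [Field F]

theorem exists_quat_three [Finite F] (h2 : (2 : F) ≠ 0) :
    ∃ (Q : Subgroup (Matrix.SpecialLinearGroup (Fin 2) F)), IsPGroup 2 Q ∧
      ∃ i ∈ Q, ∃ j ∈ Q, i * j ≠ j * i ∧ (neg1 F) ∈ Q ∧
      ∃ w ∈ Subgroup.normalizer (Q : Set (Matrix.SpecialLinearGroup (Fin 2) F)), w ^ 3 = 1 ∧ w * i * w⁻¹ = j := by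
  obtain ⟨a, b, hab⟩ : ∃ a b : F, a ^ 2 + b ^ 2 = -1 := by
    obtain ⟨p, hpc⟩ := CharP.exists F
    have : CharP F p := hpc
    have hp : p.Prime := CharP.char_is_prime F p
    have : NeZero p := ⟨hp.ne_zero⟩
    obtain ⟨a, b, hab⟩ := CharP.sq_add_sq F p (-1)
    refine ⟨a, b, ?_⟩
    rw [hab]; push_cast; rfl
  obtain ⟨c, hc⟩ : ∃ c : F, 2 * c = 1 := ⟨(2 : F)⁻¹, mul_inv_cancel₀ h2⟩
  let i : Matrix.SpecialLinearGroup (Fin 2) F := mk 0 1 (-1) 0 (by ring)
  let j : Matrix.SpecialLinearGroup (Fin 2) F := mk a b b (-a) (by linear_combination -hab)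
  let w : Matrix.SpecialLinearGroup (Fin 2) F :=
    mk (-c * (1 + a + b)) (-c * (1 + b - a)) (-c * (-1 + b - a)) (-c * (1 - a - b))
      (by linear_combination (-2 * c ^ 2) * hab + (2 * c + 1) * hc)
  have hii : i * i = neg1 F := by
    refine ext_ent ?_ ?_ ?_ ?_ <;> simp [ent_mul, i]
  have hjj : j * j = neg1 F := by
    refine ext_ent ?_ ?_ ?_ ?_ <;> simp only [ent_mul, j, _root_.Fin.isValue, _root_.Cfsg.Agent.Lib.SL2Mat.mk_00, _root_.Cfsg.Agent.Lib.SL2Mat.mk_01, _root_.Cfsg.Agent.Lib.SL2Mat.mk_10, _root_.Cfsg.Agent.TwoFusion.NormalSL2.neg1_00, _root_.Cfsg.Agent.Lib.SL2Mat.mk_11, _root_.mul_neg, _root_.Cfsg.Agent.TwoFusion.NormalSL2.neg1_01, _root_.neg_mul, _root_.Cfsg.Agent.TwoFusion.NormalSL2.neg1_10, _root_.neg_neg, _root_.Cfsg.Agent.TwoFusion.NormalSL2.neg1_11]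
    · linear_combination hab
    · ring
    · ring
    · linear_combination hab
  have hij : i * j = neg1 F * (j * i) := by
    refine ext_ent ?_ ?_ ?_ ?_ <;> simp [ent_mul, i, j]
  have hwi : w * i = j * w := by
    refine ext_ent ?_ ?_ ?_ ?_ <;> simp only [ent_mul, i, j, w, _root_.neg_mul, _root_.Fin.isValue, _root_.Cfsg.Agent.Lib.SL2Mat.mk_00, _root_.MulZeroClass.mul_zero, _root_.Cfsg.Agent.Lib.SL2Mat.mk_01, _root_.Cfsg.Agent.Lib.SL2Mat.mk_10, _root_.mul_neg, _root_.mul_one, _root_.neg_neg, _root_.zero_add, _root_.Cfsg.Agent.Lib.SL2Mat.mk_11, _root_.add_zero]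
    · linear_combination (c) * hab
    · linear_combination (-c) * hab
    · linear_combination (c) * hab
    · linear_combination (c) * hab
  have hwj : w * j = (i * j) * w := by
    refine ext_ent ?_ ?_ ?_ ?_ <;> simp only [ent_mul, i, j, w, _root_.neg_mul, _root_.Fin.isValue, _root_.Cfsg.Agent.Lib.SL2Mat.mk_00, _root_.Cfsg.Agent.Lib.SL2Mat.mk_01, _root_.Cfsg.Agent.Lib.SL2Mat.mk_10, _root_.MulZeroClass.zero_mul, _root_.one_mul, _root_.zero_add, _root_.mul_neg, _root_.Cfsg.Agent.Lib.SL2Mat.mk_11, _root_.neg_neg, _root_.add_zero, _root_.neg_zero]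
    · ring
    · ring
    · ring
    · ring
  have hw3 : w ^ 3 = 1 := by
    have e00 : ent (w * w) 0 0 = -(ent w 0 0) - 1 := by
      simp only [ent_mul, w, mk_00, mk_01, mk_10]
      linear_combination (2 * c ^ 2) * hab + (c * (a + b) - (c + 1)) * hc
    have e01 : ent (w * w) 0 1 = -(ent w 0 1) := by
      simp only [ent_mul, w, mk_00, mk_01, mk_11]
      linear_combination (c * (1 + b - a)) * hc
    have e10 : ent (w * w) 1 0 = -(ent w 1 0) := by
      simp only [ent_mul, w, mk_00, mk_10, mk_11]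
      linear_combination (c * (-1 + b - a)) * hc
    have e11 : ent (w * w) 1 1 = -(ent w 1 1) - 1 := by
      simp only [ent_mul, w, mk_01, mk_10, mk_11]
      linear_combination (2 * c ^ 2) * hab + (-c * (a + b) - (c + 1)) * hc
    have f00 := e00
    have f01 := e01
    have f10 := e10
    have f11 := e11
    rw [ent_mul] at f00 f01 f10 f11
    rw [show w ^ 3 = (w * w) * w by rw [pow_succ, sq]]
    refine ext_ent ?_ ?_ ?_ ?_
    · rw [ent_mul, e00, e01, ent_one_00]
      linear_combination -f00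
    · rw [ent_mul, e00, e01, ent_one_01]
      linear_combination -f01
    · rw [ent_mul, e10, e11, ent_one_10]
      linear_combination -f10
    · rw [ent_mul, e10, e11, ent_one_11]
      linear_combination -f11
  have h4 : ∀ x : Matrix.SpecialLinearGroup (Fin 2) F, x * x = neg1 F → IsPGroup 2 (Subgroup.zpowers x) := by
    intro x hx
    rintro ⟨_, ⟨n, rfl⟩⟩
    refine ⟨2, ?_⟩
    apply Subtype.ext
    change (x ^ n) ^ (2 ^ 2) = 1
    rw [← zpow_natCast, zpow_comm]
    have : x ^ ((2 ^ 2 : ℕ) : ℤ) = 1 := by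
      rw [zpow_natCast]
      calc x ^ 2 ^ 2 = (x * x) * (x * x) := by rw [show 2 ^ 2 = 2 + 2 from rfl, pow_add, sq]
        _ = 1 := by rw [hx, neg1_mul_neg1]
    rw [this, _root_.one_zpow]
  have hnorm : Subgroup.zpowers j ≤ Subgroup.normalizer (Subgroup.zpowers i : Set (Matrix.SpecialLinearGroup (Fin 2) F)) := by
    have hi3 : j * i * j⁻¹ = i⁻¹ := by
      have e1 : i⁻¹ = neg1 F * i := by
        refine inv_eq_of_mul_eq_one_right ?_
        rw [← mul_assoc, ← neg1_comm, mul_assoc, hii, neg1_mul_neg1]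
      have e2 : j * i = i⁻¹ * j := by
        rw [e1, mul_assoc, hij, ← mul_assoc, neg1_mul_neg1, one_mul]
      rw [e2, mul_inv_cancel_right]
    rw [Subgroup.zpowers_le, Subgroup.mem_normalizer_iff]
    intro h
    have e3 : ∀ y, j * y * j⁻¹ = MulAut.conj j y := fun y => rfl
    constructor
    · rintro ⟨n, rfl⟩
      refine ⟨-n, ?_⟩
      change i ^ (-n) = j * i ^ n * j⁻¹
      rw [e3, map_zpow, ← e3, hi3, _root_.inv_zpow, _root_.zpow_neg]
    · rintro ⟨n, hn⟩
      refine ⟨-n, ?_⟩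
      change i ^ (-n) = h
      change i ^ n = j * h * j⁻¹ at hn
      apply (MulAut.conj j).injective
      rw [← e3 h, ← hn, map_zpow, ← e3, hi3, _root_.inv_zpow, _root_.zpow_neg, inv_inv]
  have hiQ : i ∈ Subgroup.zpowers i ⊔ Subgroup.zpowers j := Subgroup.mem_sup_left (Subgroup.mem_zpowers i)
  have hjQ : j ∈ Subgroup.zpowers i ⊔ Subgroup.zpowers j := Subgroup.mem_sup_right (Subgroup.mem_zpowers j)
  refine ⟨Subgroup.zpowers i ⊔ Subgroup.zpowers j, (h4 i hii).to_sup_of_normal_left' (h4 j hjj) hnorm,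
    i, hiQ, j, hjQ, ?_, ?_, w, ?_, hw3, ?_⟩
  · intro h
    rw [h] at hij
    have : neg1 F = 1 := by
      have := mul_right_cancel (a := neg1 F) (b := j * i) (c := 1) (by rw [← hij, one_mul])
      exact this
    exact neg1_ne_one h2 this
  · rw [← hii]
    exact mul_mem hiQ hiQ
  · have hle : (Subgroup.zpowers i ⊔ Subgroup.zpowers j).map (MulAut.conj w).toMonoidHom ≤
        Subgroup.zpowers i ⊔ Subgroup.zpowers j := by
      rw [Subgroup.map_sup, sup_le_iff, MonoidHom.map_zpowers, MonoidHom.map_zpowers, Subgroup.zpowers_le,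
        Subgroup.zpowers_le]
      constructor
      · change w * i * w⁻¹ ∈ _
        rw [hwi, mul_inv_cancel_right]
        exact hjQ
      · change w * j * w⁻¹ ∈ _
        rw [hwj, mul_inv_cancel_right]
        exact mul_mem hiQ hjQ
    have heq : (Subgroup.zpowers i ⊔ Subgroup.zpowers j).map (MulAut.conj w).toMonoidHom =
        Subgroup.zpowers i ⊔ Subgroup.zpowers j :=
      Subgroup.eq_of_le_of_card_ge hle
        (by rw [Subgroup.card_map_of_injective (MulAut.conj w).injective])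
    rw [Subgroup.mem_normalizer_iff]
    intro h
    constructor
    · intro hh
      rw [← heq]
      exact ⟨h, hh, rfl⟩
    · intro hh
      rw [← heq] at hh
      obtain ⟨y, hy, hyh⟩ := hh
      have : y = h := (MulAut.conj w).injective hyh
      rwa [← this]
  · rw [hwi, mul_inv_cancel_right]

end sl2

section abstract_part

open Subgroup Cfsg.Agent.Classification.TypeB.Core

variable {G X L : Type*} [Group G] [Group X] [Group L]

theorem exists_three_power {h : X} [Finite X] {w : L} (φ : X →* L) (hw : w ^ 3 = 1) (hh : φ h = w) :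
    ∃ e : ℕ, φ (h ^ e) = w ∧ ∃ k : ℕ, (h ^ e) ^ 3 ^ k = 1 := by
  have hn : orderOf h ≠ 0 := (orderOf_pos h).ne'
  obtain ⟨k, m, hm, hkm⟩ := Nat.exists_eq_pow_mul_and_not_dvd hn 3 (by norm_num)
  refine ⟨m * m, ?_, k, ?_⟩
  · rw [map_pow, hh]
    have h1 : (m * m) % 3 = 1 := by
      have : m % 3 = 1 ∨ m % 3 = 2 := by omega
      rcases this with h | h <;> simp [Nat.mul_mod, h]
    have h2 : w ^ (m * m) = w ^ (3 * (m * m / 3) + m * m % 3) := by rw [Nat.div_add_mod]
    rw [h2, h1, pow_add, pow_mul, hw, one_pow, one_mul, pow_one]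
  · rw [← pow_mul, show m * m * 3 ^ k = (3 ^ k * m) * m by ring, ← hkm, pow_mul, pow_orderOf_eq_one, one_pow]

/-- the final step -/
theorem false_of_central [Finite G] [Finite X] [Finite L]
    (h3 : ∀ x : G, x * x = 1 → x ≠ 1 → ∀ h, h * x = x * h → (∃ k, h ^ 3 ^ k = 1) →
      h ∈ oc (centralizer ({x} : Set G)))
    (ι : X →* G) (hι : Function.Injective ι) (φ : X →* L) (Q : Subgroup L) [hQn : Q.Normal]
    (hQ : IsPGroup 2 Q) {i w : L} (hi : i ∈ Q) (hw3 : w ^ 3 = 1)
    (hwi : w * i * w⁻¹ ≠ i) {x : G} (hx2 : x * x = 1) (hx1 : x ≠ 1) (X1 : Subgroup X)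
    (hX1 : X1.map φ = ⊤) (hcent : ∀ y ∈ X1, ι y * x = x * ι y) : False := by
  obtain ⟨h, hhX, hhw⟩ : w ∈ X1.map φ := by rw [hX1]; trivial
  obtain ⟨e, he, k, hk⟩ := exists_three_power φ hw3 hhw
  have heX : h ^ e ∈ X1 := pow_mem hhX e
  have hmem : ι (h ^ e) ∈ oc (centralizer ({x} : Set G)) :=
    h3 x hx2 hx1 _ (hcent _ heX) ⟨k, by rw [← map_pow, hk, map_one]⟩
  set O : Subgroup G := oc (centralizer ({x} : Set G)) with hO
  have hwN : w ∈ (O.comap ι ⊓ X1).map φ := ⟨h ^ e, ⟨hmem, heX⟩, he⟩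
  have hnorm : ∀ n ∈ (O.comap ι ⊓ X1).map φ, ∀ g : L, g * n * g⁻¹ ∈ (O.comap ι ⊓ X1).map φ := by
    rintro _ ⟨n, ⟨hnO, hnX⟩, rfl⟩ g
    obtain ⟨y, hyX, rfl⟩ : g ∈ X1.map φ := by rw [hX1]; trivial
    refine ⟨y * n * y⁻¹, ⟨?_, X1.mul_mem (X1.mul_mem hyX hnX) (X1.inv_mem hyX)⟩, by simp only [_root_.map_mul, _root_.map_inv]⟩
    change ι (y * n * y⁻¹) ∈ O
    rw [map_mul, map_mul, map_inv]
    have hyn : ι y ∈ normalizer (O : Set G) := by
      rw [hO]
      exact le_normalizer_oc _ (mem_centralizer_singleton_iff.mpr (hcent y hyX))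
    exact (mem_normalizer_iff.mp hyn _).mp hnO
  have hodd : Odd (Nat.card ((O.comap ι ⊓ X1).map φ : Subgroup L)) := by
    have h1 : Nat.card ((O.comap ι ⊓ X1).map φ : Subgroup L) ∣ Nat.card (O.comap ι ⊓ X1 : Subgroup X) :=
      card_map_dvd _ _
    have h2 : Nat.card (O.comap ι ⊓ X1 : Subgroup X) = Nat.card ((O.comap ι ⊓ X1).map ι : Subgroup G) :=
      (card_map_of_injective hι).symm
    have h4 : (O.comap ι ⊓ X1).map ι ≤ O := by
      rintro _ ⟨n, ⟨hnO, -⟩, rfl⟩
      exact hnO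
    rw [h2] at h1
    exact (odd_oc _).of_dvd_nat (h1.trans (card_dvd_of_le h4))
  have hdisj : (O.comap ι ⊓ X1).map φ ⊓ Q = ⊥ := by
    obtain ⟨n, hn⟩ := (IsPGroup.iff_card (p := 2)).mp hQ
    refine (disjoint_of_coprime_natCard ?_).eq_bot
    rw [hn]
    exact (Nat.coprime_two_right.mpr hodd).pow_right _
  have hmem2 : w * i * w⁻¹ * i⁻¹ ∈ (O.comap ι ⊓ X1).map φ ⊓ Q := by
    refine ⟨?_, Q.mul_mem (hQn.conj_mem i hi w) (Q.inv_mem hi)⟩
    have := mul_mem hwN (hnorm _ (inv_mem hwN) i)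
    rwa [show w * (i * w⁻¹ * i⁻¹) = w * i * w⁻¹ * i⁻¹ by group] at this
  rw [hdisj, mem_bot] at hmem2
  exact hwi (mul_inv_eq_one.mp hmem2)

theorem unique_inv [Finite X] (N : Subgroup X) [N.Normal] (P : Sylow 2 N) {x0 : X}
    (hx0 : x0 ∈ (P : Subgroup N).map N.subtype) (hx1 : x0 ≠ 1) (hx2 : x0 * x0 = 1)
    (huniq : ∀ y ∈ (P : Subgroup N).map N.subtype, y ≠ 1 → y * y = 1 → y = x0) :
    ∃ X1 : Subgroup X, X1 ⊔ N = ⊤ ∧ (∀ y ∈ X1, y * x0 = x0 * y) ∧ x0 ∈ X1 := by
  refine ⟨normalizer ((P : Subgroup N).map N.subtype : Set X), P.normalizer_sup_eq_top, ?_,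
    le_normalizer hx0⟩
  intro y hy
  have h1 : y * x0 * y⁻¹ ∈ (P : Subgroup N).map N.subtype := (mem_normalizer_iff.mp hy _).mp hx0
  have h2 : y * x0 * y⁻¹ ≠ 1 := fun h => hx1 (by
    have := conj_eq_one_iff.mp h
    exact this)
  have h3 : (y * x0 * y⁻¹) * (y * x0 * y⁻¹) = 1 := by
    rw [show (y * x0 * y⁻¹) * (y * x0 * y⁻¹) = y * (x0 * x0) * y⁻¹ by group, hx2]; group
  have h4 := huniq _ h1 h2 h3
  calc y * x0 = y * x0 * y⁻¹ * y := by group
    _ = x0 * y := by rw [h4]

theorem exists_inv_of_two_group [Finite X] {P : Subgroup X} (hP : IsPGroup 2 P) (hne : P ≠ ⊥) :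
    ∃ x ∈ P, x ≠ 1 ∧ x * x = 1 := by
  have : Nontrivial P := (Subgroup.nontrivial_iff_ne_bot P).mpr hne
  obtain ⟨n, hn, hcard⟩ := (IsPGroup.nontrivial_iff_card hP).mp inferInstance
  have h2 : 2 ∣ Nat.card P := by rw [hcard]; exact dvd_pow_self 2 hn.ne'
  obtain ⟨x, hx⟩ := exists_prime_orderOf_dvd_card' 2 h2
  refine ⟨x, x.2, fun h => ?_, ?_⟩
  · have : x = 1 := Subtype.ext h
    rw [this, orderOf_one] at hx
    omega
  · have := pow_orderOf_eq_one x
    rw [hx, sq] at this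
    exact congrArg Subtype.val this

theorem exists_cover [Finite G] [Finite X] [Finite L]
    (h2 : ∀ T : Subgroup G, IsPGroup 2 T → ∃ A' : Subgroup G, Nat.card A' = 4 ∧
      (∀ s ∈ T, s * s = 1 → s ∈ A') ∧ (∀ s ∈ T, ∀ u ∈ T, s * u * s⁻¹ * u⁻¹ ∈ A'))
    (ι : X →* G) (hι : Function.Injective ι) (φ : X →* L) (hφ : Function.Surjective φ)
    (Q : Subgroup L) [hQn : Q.Normal] (hQ : IsPGroup 2 Q) {i j z : L} (hi : i ∈ Q) (hj : j ∈ Q)
    (hij : i * j ≠ j * i) (hz2 : z * z = 1) (hz1 : z ≠ 1) (hzc : ∀ y, y * z = z * y) :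
    ∃ x0 : X, x0 * x0 = 1 ∧ x0 ≠ 1 ∧ ∃ X1 : Subgroup X, X1.map φ = ⊤ ∧
      ∀ y ∈ X1, y * x0 = x0 * y := by
  obtain ⟨P⟩ : Nonempty (Sylow 2 φ.ker) := inferInstance
  by_cases hP : (P : Subgroup φ.ker) = ⊥
  · -- the kernel has odd order
    have hker : ¬ 2 ∣ Nat.card φ.ker := by
      have := P.not_dvd_index
      rwa [hP, index_bot] at this
    have hodd : ∀ u : X, φ u = 1 → (∃ k, u ^ 2 ^ k = 1) → u = 1 := by
      rintro u hu ⟨k, hk⟩
      have h1 : orderOf u ∣ 2 ^ k := orderOf_dvd_of_pow_eq_one hk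
      have h3 : orderOf u ∣ Nat.card φ.ker := by
        have := _root_.orderOf_dvd_natCard (⟨u, hu⟩ : φ.ker)
        rwa [← Subgroup.orderOf_coe] at this
      have h4 : Nat.Coprime (2 ^ k) (Nat.card φ.ker) :=
        (Nat.Coprime.pow_left k ((Nat.Prime.coprime_iff_not_dvd Nat.prime_two).mpr hker))
      exact orderOf_eq_one_iff.mp (Nat.eq_one_of_dvd_coprimes h4 h1 h3)
    have hNn : ((zpowers z).comap φ).Normal := by
      have : (zpowers z).Normal := by
        refine ⟨?_⟩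
        rintro _ ⟨n, rfl⟩ g
        refine ⟨n, ?_⟩
        change z ^ n = g * z ^ n * g⁻¹
        rw [((show Commute g z from hzc g).zpow_right n).eq, mul_inv_cancel_right]
      exact this.comap φ
    obtain ⟨P2⟩ : Nonempty (Sylow 2 ((zpowers z).comap φ)) := inferInstance
    have hz01 : ∀ y ∈ zpowers z, y = 1 ∨ y = z := by
      rintro _ ⟨n, rfl⟩
      change z ^ n = 1 ∨ z ^ n = z
      have hz2' : z ^ (2 : ℤ) = 1 := by rw [zpow_ofNat, sq, hz2]
      rcases Int.even_or_odd' n with ⟨m, rfl | rfl⟩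
      · left; rw [_root_.zpow_mul, hz2', _root_.one_zpow]
      · right; rw [_root_.zpow_add, _root_.zpow_mul, hz2', _root_.one_zpow, one_mul, zpow_one]
    have hP2 : IsPGroup 2 ((P2 : Subgroup ((zpowers z).comap φ)).map ((zpowers z).comap φ).subtype) :=
      P2.2.map _
    have hφP : ∀ y ∈ (P2 : Subgroup ((zpowers z).comap φ)).map ((zpowers z).comap φ).subtype, y ≠ 1 →
        φ y = z := by
      intro y hy hy1
      obtain ⟨⟨y', hy'⟩, hyP, rfl⟩ := hy
      rcases hz01 _ hy' with h | h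
      · exfalso
        apply hy1
        refine hodd _ h ?_
        obtain ⟨k, hk⟩ := P2.2 ⟨_, hyP⟩
        exact ⟨k, by
          have := congrArg Subtype.val (congrArg Subtype.val hk)
          simpa only [_root_.Subgroup.subtype_apply, _root_.SubmonoidClass.mk_pow, _root_.OneMemClass.coe_one] using this⟩
      · exact h
    have hne : (P2 : Subgroup ((zpowers z).comap φ)).map ((zpowers z).comap φ).subtype ≠ ⊥ := by
      intro h
      have h1 : (P2 : Subgroup ((zpowers z).comap φ)) = ⊥ :=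
        (map_eq_bot_iff_of_injective _ ((zpowers z).comap φ).subtype_injective).mp h
      have h3 : ¬ 2 ∣ Nat.card ((zpowers z).comap φ) := by
        have := P2.not_dvd_index
        rwa [h1, index_bot] at this
      obtain ⟨u, hu⟩ := hφ z
      have huN : u ∈ (zpowers z).comap φ := by
        change φ u ∈ zpowers z
        rw [hu]; exact mem_zpowers z
      have h4 : z ^ Nat.card ((zpowers z).comap φ) = 1 := by
        have h5 : (⟨u, huN⟩ : ((zpowers z).comap φ : Subgroup X)) ^ Nat.card ((zpowers z).comap φ) = 1 :=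
          pow_card_eq_one'
        have h6 : u ^ Nat.card ((zpowers z).comap φ) = 1 := by
          have := congrArg Subtype.val h5
          simpa only [_root_.Subgroup.mem_comap, _root_.SubmonoidClass.mk_pow, _root_.OneMemClass.coe_one] using this
        have h7 := congrArg φ h6
        rwa [map_pow, hu, map_one] at h7
      obtain ⟨m, hm⟩ := Nat.odd_iff.mpr (Nat.two_dvd_ne_zero.mp h3)
      rw [hm, pow_succ, pow_mul, sq, hz2, one_pow, one_mul] at h4
      exact hz1 h4
    obtain ⟨x0, hx0, hx1, hx2⟩ := exists_inv_of_two_group hP2 hne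
    obtain ⟨X1, hsup, hcent, hxX⟩ := unique_inv ((zpowers z).comap φ) P2 hx0 hx1 hx2 (by
      intro y hy hy1 _
      by_contra hyx
      have h1 : y * x0⁻¹ ≠ 1 := fun h => hyx (mul_inv_eq_one.mp h)
      have h3 := hφP _ (mul_mem hy (inv_mem hx0)) h1
      rw [map_mul, map_inv, hφP _ hy hy1, hφP _ hx0 hx1, mul_inv_cancel] at h3
      exact hz1 h3.symm)
    refine ⟨x0, hx2, hx1, X1, ?_, hcent⟩
    have h5 : (X1 ⊔ (zpowers z).comap φ).map φ = ⊤ := by
      rw [hsup]; exact map_top_of_surjective φ hφ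
    rw [Subgroup.map_sup, map_comap_eq_self_of_surjective hφ] at h5
    rw [← h5, left_eq_sup, zpowers_le]
    exact ⟨x0, hxX, hφP _ hx0 hx1⟩
  · have hne : (P : Subgroup φ.ker).map φ.ker.subtype ≠ ⊥ := by
      intro h
      exact hP ((map_eq_bot_iff_of_injective _ φ.ker.subtype_injective).mp h)
    have hPg : IsPGroup 2 ((P : Subgroup φ.ker).map φ.ker.subtype) := P.2.map _
    obtain ⟨x0, hx0, hx1, hx2⟩ := exists_inv_of_two_group hPg hne
    obtain ⟨T, hT⟩ := hPg.exists_le_sylow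
    obtain ⟨A', hA4, hAinv, hAcomm⟩ := h2 ((T : Subgroup X).map ι) (T.2.map _)
    have hQT : Q ≤ (T : Subgroup X).map φ := by
      have := hQ.le_sylow_of_normal (T.mapSurjective hφ)
      simpa using this
    -- `A'` is not contained in the kernel
    have hnot : ¬ A' ≤ ((P : Subgroup φ.ker).map φ.ker.subtype).map ι := by
      intro hle
      obtain ⟨s, hs, rfl⟩ := hQT hi
      obtain ⟨u, hu, rfl⟩ := hQT hj
      apply hij
      have h1 := hle (hAcomm (ι s) (mem_map_of_mem ι hs) (ι u) (mem_map_of_mem ι hu))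
      obtain ⟨v, ⟨⟨v', hv'⟩, -, rfl⟩, hv⟩ := h1
      have h3 : v' = s * u * s⁻¹ * u⁻¹ := hι (by simpa only [_root_.map_mul, _root_.map_inv, _root_.Subgroup.subtype_apply] using hv)
      have h4 : φ (s * u * s⁻¹ * u⁻¹) = 1 := by rw [← h3]; exact hv'
      simp only [map_mul, map_inv] at h4
      have h6 : φ s * φ u * (φ s)⁻¹ = φ u := mul_inv_eq_one.mp h4
      exact mul_inv_eq_iff_eq_mul.mp h6
    obtain ⟨X1, hsup, hcent, hxX⟩ := unique_inv φ.ker P hx0 hx1 hx2 (by
      intro y hy hy1 hy2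
      by_contra hyx
      apply hnot
      -- `1, x0, y, x0 y` are the elements of `A'`
      have hB : (A' ⊓ ((P : Subgroup φ.ker).map φ.ker.subtype).map ι) = A' := by
        have hmem : ∀ v ∈ (P : Subgroup φ.ker).map φ.ker.subtype, v * v = 1 →
            ι v ∈ A' ⊓ ((P : Subgroup φ.ker).map φ.ker.subtype).map ι := by
          intro v hv hvv
          refine ⟨hAinv _ (mem_map_of_mem ι (hT hv)) (by rw [← map_mul, hvv, map_one]), mem_map_of_mem ι hv⟩
        have hd : Nat.card (A' ⊓ ((P : Subgroup φ.ker).map φ.ker.subtype).map ι : Subgroup G) ∣ 4 := by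
          rw [← hA4]; exact card_dvd_of_le inf_le_left
        have h3 : 3 ≤ Nat.card (A' ⊓ ((P : Subgroup φ.ker).map φ.ker.subtype).map ι : Subgroup G) := by
          have hinj : Function.Injective (![⟨1, one_mem _⟩, ⟨ι x0, hmem x0 hx0 hx2⟩, ⟨ι y, hmem y hy hy2⟩] :
              Fin 3 → (A' ⊓ ((P : Subgroup φ.ker).map φ.ker.subtype).map ι : Subgroup G)) := by
            have e1 : (1 : G) ≠ ι x0 := fun h => hx1 (hι (by rw [← h, map_one]))
            have e2 : (1 : G) ≠ ι y := fun h => hy1 (hι (by rw [← h, map_one]))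
            have e3 : ι x0 ≠ ι y := fun h => hyx (hι h.symm)
            intro a b hab
            fin_cases a <;> fin_cases b <;> first | rfl | (exfalso; simp [Subtype.ext_iff, e1, e2, e3, e1.symm, e2.symm, e3.symm] at hab)
          have := Nat.card_le_card_of_injective _ hinj
          simpa only [_root_.Subgroup.mem_inf, _root_.Subgroup.mem_map, _root_.Subgroup.subtype_apply, _root_.Subtype.exists, _root_.MonoidHom.mem_ker, _root_.exists_and_right, _root_.exists_eq_right, _root_.ge_iff_le, _root_.Nat.succ_eq_add_one, _root_.Nat.reduceAdd, _root_.Nat.card_eq_fintype_card, _root_.Fintype.card_fin] using this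
        have h4 : Nat.card (A' ⊓ ((P : Subgroup φ.ker).map φ.ker.subtype).map ι : Subgroup G) = 4 := by
          have hle := Nat.le_of_dvd (by norm_num) hd
          interval_cases hc : Nat.card (A' ⊓ ((P : Subgroup φ.ker).map φ.ker.subtype).map ι : Subgroup G)
          · omega
          · rfl
        exact eq_of_le_of_card_ge inf_le_left (by rw [h4, hA4])
      rw [← hB]
      exact inf_le_right)
    refine ⟨x0, hx2, hx1, X1, ?_, hcent⟩
    have h5 : (X1 ⊔ φ.ker).map φ = ⊤ := by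
      rw [hsup]; exact map_top_of_surjective φ hφ
    rwa [Subgroup.map_sup, (map_eq_bot_iff φ.ker).mpr le_rfl, sup_bot_eq] at h5

/-- `SL(2,F)` is not a section of `G` -/
theorem not_section {F : Type*} [Field F] [Finite F] (hF2 : (2 : F) ≠ 0) [Finite G] [Finite X]
    (h2 : ∀ T : Subgroup G, IsPGroup 2 T → ∃ A' : Subgroup G, Nat.card A' = 4 ∧
      (∀ s ∈ T, s * s = 1 → s ∈ A') ∧ (∀ s ∈ T, ∀ u ∈ T, s * u * s⁻¹ * u⁻¹ ∈ A'))
    (h3 : ∀ x : G, x * x = 1 → x ≠ 1 → ∀ h, h * x = x * h → (∃ k, h ^ 3 ^ k = 1) →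
      h ∈ oc (centralizer ({x} : Set G)))
    (ι : X →* G) (hι : Function.Injective ι) (φ : X →* Matrix.SpecialLinearGroup (Fin 2) F)
    (hφ : Function.Surjective φ) : False := by
  obtain ⟨Q, hQ, i, hi, j, hj, hij, hzQ, w, hw, hw3, hwi⟩ := exists_quat_three (F := F) hF2
  have hQL : Q ≤ normalizer (Q : Set (Matrix.SpecialLinearGroup (Fin 2) F)) := le_normalizer
  have hQn : (Q.subgroupOf (normalizer (Q : Set (Matrix.SpecialLinearGroup (Fin 2) F)))).Normal :=
    normal_in_normalizer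
  have hQp : IsPGroup 2 (Q.subgroupOf (normalizer (Q : Set (Matrix.SpecialLinearGroup (Fin 2) F)))) :=
    hQ.comap_subtype
  let ι' : ((normalizer (Q : Set (Matrix.SpecialLinearGroup (Fin 2) F))).comap φ) →* G :=
    ι.comp (Subgroup.subtype _)
  have hι' : Function.Injective ι' := hι.comp (Subgroup.subtype_injective _)
  let φ' : ((normalizer (Q : Set (Matrix.SpecialLinearGroup (Fin 2) F))).comap φ) →*
      (normalizer (Q : Set (Matrix.SpecialLinearGroup (Fin 2) F))) := φ.subgroupComap _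
  have hφ' : Function.Surjective φ' := φ.subgroupComap_surjective_of_surjective _ hφ
  obtain ⟨x0, hx2, hx1, X1, hX1, hcent⟩ := exists_cover h2 ι' hι' φ' hφ'
    (Q.subgroupOf (normalizer (Q : Set (Matrix.SpecialLinearGroup (Fin 2) F)))) hQp
    (i := ⟨i, hQL hi⟩) (j := ⟨j, hQL hj⟩) (z := ⟨neg1 F, hQL hzQ⟩) hi hj
    (fun h => hij (congrArg Subtype.val h)) (Subtype.ext neg1_mul_neg1)
    (fun h => neg1_ne_one hF2 (congrArg Subtype.val h))
    (fun y => Subtype.ext (neg1_comm y.1).symm)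
  refine false_of_central h3 ι' hι' φ'
    (Q.subgroupOf (normalizer (Q : Set (Matrix.SpecialLinearGroup (Fin 2) F)))) hQp
    (i := ⟨i, hQL hi⟩) (w := ⟨w, hw⟩) hi (Subtype.ext hw3) ?_ (x := ι' x0) ?_ ?_ X1 hX1 ?_
  · intro h
    have h4 : w * i * w⁻¹ = i := congrArg Subtype.val h
    apply hij
    rw [← hwi, h4]
  · rw [← map_mul, hx2, map_one]
  · intro h
    exact hx1 (hι' (by rw [h, map_one]))
  · intro y hy
    rw [← map_mul, hcent y hy, map_mul]

end abstract_part

end Cfsg.Agent.TwoFusion.QuatThree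
end

-- part: TwoFusion/GoldM1SL
section
/-!
# Case [M1] of Goldschmidt's theorem: `G` has no section `SL(2,p)`, `p` odd

The field `sl` of `GoldM1.Frame` from the fields `cardS, sylow, AS, cardA, cen, sq, inv, comm, fact, indexCA`.
-/

set_option autoImplicit false

namespace Cfsg.Agent.TwoFusion.GoldM1SL

open Subgroup
open Cfsg.Agent.Classification.TypeB.Core
open Cfsg.Agent.TwoFusion.QuatThree

variable {G : Type*} [Group G] [Finite G] {S A : Subgroup G}

omit [Finite G] in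
theorem isPGroup_S (cardS : Nat.card S = 64) : IsPGroup 2 S :=
  IsPGroup.of_card (n := 6) (by rw [cardS]; norm_num)

theorem exists_conj_le (cardS : Nat.card S = 64) (sylow : ¬ 2 ∣ S.index) {T : Subgroup G}
    (hT : IsPGroup 2 T) : ∃ g : G, ∀ t ∈ T, g * t * g⁻¹ ∈ S := by
  obtain ⟨P, hP⟩ := hT.exists_le_sylow
  obtain ⟨g, hg⟩ := MulAction.exists_smul_eq G P ((isPGroup_S cardS).toSylow sylow)
  refine ⟨g, fun t ht => ?_⟩
  have h1 : g * t * g⁻¹ ∈ ((g • P : Sylow 2 G) : Subgroup G) := by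
    rw [Sylow.coe_subgroup_smul, Subgroup.mem_pointwise_smul_iff_inv_smul_mem]
    simpa only [MulAut.smul_def, mul_assoc, _root_.smul_mul', _root_.MulAut.inv_apply, _root_.MulAut.conj_symm_apply, _root_.inv_mul_cancel, _root_.one_mul, _root_.smul_inv', _root_.mul_inv_cancel, _root_.mul_one, _root_.mul_inv_cancel_left] using hP ht
  rw [hg] at h1
  exact h1

theorem two (cardS : Nat.card S = 64) (sylow : ¬ 2 ∣ S.index) (cardA : Nat.card A = 4)
    (inv : ∀ s ∈ S, s * s = 1 → s ∈ A) (comm : ∀ s ∈ S, ∀ u ∈ S, s * u * s⁻¹ * u⁻¹ ∈ A)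
    (T : Subgroup G) (hT : IsPGroup 2 T) :
    ∃ A' : Subgroup G, Nat.card A' = 4 ∧
      (∀ s ∈ T, s * s = 1 → s ∈ A') ∧ (∀ s ∈ T, ∀ u ∈ T, s * u * s⁻¹ * u⁻¹ ∈ A') := by
  obtain ⟨g, hg⟩ := exists_conj_le cardS sylow hT
  refine ⟨A.comap (MulAut.conj g).toMonoidHom, ?_, ?_, ?_⟩
  · rw [← cardA]
    exact Nat.card_congr ((A.comap (MulAut.conj g).toMonoidHom).equivMapOfInjective _
      (MulAut.conj g).injective |>.toEquiv.trans (Equiv.setCongr (by
        rw [map_comap_eq_self_of_surjective (MulAut.conj g).surjective])))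
  · intro s hs hss
    change g * s * g⁻¹ ∈ A
    refine inv _ (hg s hs) ?_
    rw [show g * s * g⁻¹ * (g * s * g⁻¹) = g * (s * s) * g⁻¹ by group, hss]; group
  · intro s hs u hu
    change g * (s * u * s⁻¹ * u⁻¹) * g⁻¹ ∈ A
    have := comm _ (hg s hs) _ (hg u hu)
    rwa [show g * s * g⁻¹ * (g * u * g⁻¹) * (g * s * g⁻¹)⁻¹ * (g * u * g⁻¹)⁻¹ =
      g * (s * u * s⁻¹ * u⁻¹) * g⁻¹ by group] at this

omit [Finite G] in
theorem relIndex_sup {K N : Subgroup G} (h : K ≤ normalizer (N : Set G)) :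
    N.relIndex (K ⊔ N) = N.relIndex K := by
  have := Subgroup.normal_subgroupOf_of_le_normalizer h
  have := Subgroup.normal_subgroupOf_sup_of_le_normalizer h
  exact (Nat.card_congr (QuotientGroup.quotientInfEquivProdNormalizerQuotient K N h).toEquiv).symm

omit [Finite G] in
theorem pow_relIndex_mem {H K : Subgroup G} (h : K ≤ normalizer (H : Set G)) {a : G} (ha : a ∈ K) :
    a ^ H.relIndex K ∈ H := by
  have := Subgroup.normal_subgroupOf_of_le_normalizer h
  have h1 : (⟨a, ha⟩ : K) ^ (H.subgroupOf K).index ∈ H.subgroupOf K := pow_index_mem _ _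
  rw [mem_subgroupOf] at h1
  exact h1

/-- `O(C(A)) ≤ O(C(x))` -/
theorem oc_le_oc (fact : ∀ x ∈ A, x ≠ 1 →
      centralizer ({x} : Set G) ≤ oc (centralizer ({x} : Set G)) ⊔ centralizer (A : Set G))
    {x : G} (hx : x ∈ A) (hx1 : x ≠ 1) :
    oc (centralizer (A : Set G)) ≤ oc (centralizer ({x} : Set G)) := by
  have hCC : centralizer (A : Set G) ≤ centralizer ({x} : Set G) :=
    centralizer_le (Set.singleton_subset_iff.mpr hx)
  have hD : oc (centralizer (A : Set G)) ≤ normalizer (oc (centralizer ({x} : Set G)) : Set G) :=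
    (oc_le _).trans (hCC.trans (le_normalizer_oc _))
  refine le_trans le_sup_right (le_oc (Y := oc (centralizer ({x} : Set G)) ⊔ oc (centralizer (A : Set G)))
    (sup_le (oc_le _) ((oc_le _).trans hCC)) ?_ ?_)
  · refine (fact x hx hx1).trans (sup_le (le_sup_left.trans le_normalizer) ?_)
    exact (le_inf (hCC.trans (le_normalizer_oc _)) (le_normalizer_oc _)).trans
      (normalizer_inf_normalizer_le_normalizer_sup _ _)
  · have h1 : Nat.card (oc (centralizer (A : Set G)) ⊔ oc (centralizer ({x} : Set G)) : Subgroup G) =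
        Nat.card (oc (centralizer ({x} : Set G))) *
          (oc (centralizer ({x} : Set G))).relIndex (oc (centralizer (A : Set G))) := by
      rw [← relIndex_sup hD]
      have h2 := relIndex_mul_relIndex ⊥ (oc (centralizer ({x} : Set G)))
        (oc (centralizer (A : Set G)) ⊔ oc (centralizer ({x} : Set G))) bot_le le_sup_right
      rw [relIndex_bot_left, relIndex_bot_left] at h2
      exact h2.symm
    rw [sup_comm, h1]
    exact (odd_oc _).mul ((odd_oc _).of_dvd_nat (relIndex_dvd_card _ _))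

/-- elements of 3-power order of `C(x)`, `x ∈ A`, lie in `O(C(x))` -/
theorem three_aux (cardS : Nat.card S = 64) (cen : ∀ x ∈ A, ∀ s ∈ S, x * s = s * x)
    (fact : ∀ x ∈ A, x ≠ 1 →
      centralizer ({x} : Set G) ≤ oc (centralizer ({x} : Set G)) ⊔ centralizer (A : Set G))
    (normCA : centralizer (A : Set G) ≤
      normalizer ((oc (centralizer (A : Set G)) ⊔ S : Subgroup G) : Set G))
    (indexCA : (oc (centralizer (A : Set G)) ⊔ S).relIndex (centralizer (A : Set G)) = 1 ∨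
      (oc (centralizer (A : Set G)) ⊔ S).relIndex (centralizer (A : Set G)) = 5)
    {x : G} (hx : x ∈ A) (hx1 : x ≠ 1) {h : G} (hh : h * x = x * h) (h3 : ∃ k, h ^ 3 ^ k = 1) :
    h ∈ oc (centralizer ({x} : Set G)) := by
  have hSC : S ≤ centralizer (A : Set G) := by
    intro s hs
    rw [mem_centralizer_iff]
    intro a ha
    exact cen a ha s hs
  have hCC : centralizer (A : Set G) ≤ centralizer ({x} : Set G) :=
    centralizer_le (Set.singleton_subset_iff.mpr hx)
  have hCn : centralizer (A : Set G) ≤ normalizer (oc (centralizer ({x} : Set G)) : Set G) :=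
    hCC.trans (le_normalizer_oc _)
  have hSD : S ≤ normalizer (oc (centralizer (A : Set G)) : Set G) := hSC.trans (le_normalizer_oc _)
  -- a power of every element of `C(A)` is in `O(C(x))`
  have hpow : ∀ c ∈ centralizer (A : Set G), c ^ 320 ∈ oc (centralizer ({x} : Set G)) := by
    intro c hc
    have h1 : c ^ 5 ∈ oc (centralizer (A : Set G)) ⊔ S := by
      have := pow_relIndex_mem normCA hc
      rcases indexCA with h | h
      · rw [h, pow_one] at this
        exact pow_mem this 5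
      · rwa [h] at this
    have h2 : (oc (centralizer (A : Set G))).relIndex (S ⊔ oc (centralizer (A : Set G))) ∣ 64 := by
      rw [relIndex_sup hSD, ← cardS]
      exact relIndex_dvd_card _ _
    have h4 : (c ^ 5) ^ (oc (centralizer (A : Set G))).relIndex (S ⊔ oc (centralizer (A : Set G))) ∈
        oc (centralizer (A : Set G)) := by
      refine pow_relIndex_mem (sup_le hSD le_normalizer) ?_
      rw [sup_comm]; exact h1
    obtain ⟨m, hm⟩ := h2
    refine oc_le_oc fact hx hx1 ?_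
    rw [show (320 : ℕ) = 5 * 64 by norm_num, hm, pow_mul, pow_mul]
    exact pow_mem h4 m
  have hhC : h ∈ centralizer ({x} : Set G) := mem_centralizer_singleton_iff.mpr hh
  -- so a power of `h` is in `O(C(x))`
  have hh320 : h ^ 320 ∈ oc (centralizer ({x} : Set G)) := by
    have h1 := fact x hx hx1 hhC
    rw [sup_comm, ← SetLike.mem_coe, coe_mul_of_left_le_normalizer_right _ _ hCn, Set.mem_mul] at h1
    obtain ⟨c, hc, o, ho, rfl⟩ := h1
    have hn := Subgroup.normal_subgroupOf_of_le_normalizer (le_normalizer_oc (centralizer ({x} : Set G)))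
    have hcx := hCC hc
    have hox := oc_le _ ho
    have hq : (QuotientGroup.mk' ((oc (centralizer ({x} : Set G))).subgroupOf (centralizer ({x} : Set G))))
        (⟨c * o, mul_mem hcx hox⟩ ^ 320) = 1 := by
      rw [map_pow, show (⟨c * o, mul_mem hcx hox⟩ : centralizer ({x} : Set G)) = ⟨c, hcx⟩ * ⟨o, hox⟩ from rfl,
        map_mul]
      have e1 : (QuotientGroup.mk' ((oc (centralizer ({x} : Set G))).subgroupOf (centralizer ({x} : Set G))))
          (⟨o, hox⟩ : centralizer ({x} : Set G)) = 1 := (QuotientGroup.eq_one_iff _).mpr ho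
      rw [e1, mul_one, ← map_pow]
      exact (QuotientGroup.eq_one_iff _).mpr (hpow c hc)
    have := (QuotientGroup.eq_one_iff _).mp hq
    rw [mem_subgroupOf] at this
    simpa using this
  obtain ⟨k, hk⟩ := h3
  -- `h` is a power of `h ^ 320`
  have hcop : Nat.Coprime (orderOf h) 320 := by
    have h1 : orderOf h ∣ 3 ^ k := orderOf_dvd_of_pow_eq_one hk
    exact Nat.Coprime.coprime_dvd_left h1 (Nat.Coprime.pow_left k (by norm_num))
  obtain ⟨m, hm⟩ := exists_pow_eq_self_of_coprime hcop.symm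
  rw [← hm]
  exact pow_mem hh320 m

theorem three (cardS : Nat.card S = 64) (sylow : ¬ 2 ∣ S.index) (cen : ∀ x ∈ A, ∀ s ∈ S, x * s = s * x)
    (inv : ∀ s ∈ S, s * s = 1 → s ∈ A)
    (fact : ∀ x ∈ A, x ≠ 1 →
      centralizer ({x} : Set G) ≤ oc (centralizer ({x} : Set G)) ⊔ centralizer (A : Set G))
    (normCA : centralizer (A : Set G) ≤
      normalizer ((oc (centralizer (A : Set G)) ⊔ S : Subgroup G) : Set G))
    (indexCA : (oc (centralizer (A : Set G)) ⊔ S).relIndex (centralizer (A : Set G)) = 1 ∨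
      (oc (centralizer (A : Set G)) ⊔ S).relIndex (centralizer (A : Set G)) = 5)
    (x : G) (hxx : x * x = 1) (hx1 : x ≠ 1) (h : G) (hh : h * x = x * h) (h3 : ∃ k, h ^ 3 ^ k = 1) :
    h ∈ oc (centralizer ({x} : Set G)) := by
  have hP : IsPGroup 2 (zpowers x) := by
    rintro ⟨_, n, rfl⟩
    refine ⟨1, Subtype.ext ?_⟩
    change (x ^ n) ^ 2 ^ 1 = 1
    rw [pow_one, sq, ← _root_.zpow_add, ← two_mul, _root_.zpow_mul, zpow_ofNat, sq, hxx, _root_.one_zpow]
  obtain ⟨g, hg⟩ := exists_conj_le cardS sylow hP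
  have hy : g * x * g⁻¹ ∈ A := by
    refine inv _ (hg x (mem_zpowers x)) ?_
    rw [show g * x * g⁻¹ * (g * x * g⁻¹) = g * (x * x) * g⁻¹ by group, hxx]; group
  have hy1 : g * x * g⁻¹ ≠ 1 := fun h => hx1 (conj_eq_one_iff.mp h)
  have h5 := three_aux cardS cen fact normCA indexCA hy hy1 (h := g * h * g⁻¹)
    (by rw [show g * h * g⁻¹ * (g * x * g⁻¹) = g * (h * x) * g⁻¹ by group, hh]; group)
    (by
      obtain ⟨k, hk⟩ := h3
      exact ⟨k, by rw [conj_pow, hk]; group⟩)
  have h6 : centralizer ({g * x * g⁻¹} : Set G) =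
      (centralizer ({x} : Set G)).map (MulAut.conj g).toMonoidHom := by
    ext y
    rw [mem_centralizer_singleton_iff]
    constructor
    · intro hyx
      refine ⟨g⁻¹ * y * g, ?_, by change g * (g⁻¹ * y * g) * g⁻¹ = y; group⟩
      rw [SetLike.mem_coe, mem_centralizer_singleton_iff]
      calc g⁻¹ * y * g * x = g⁻¹ * (y * (g * x * g⁻¹)) * g := by group
        _ = g⁻¹ * ((g * x * g⁻¹) * y) * g := by rw [hyx]
        _ = x * (g⁻¹ * y * g) := by group
    · rintro ⟨z, hz, rfl⟩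
      rw [SetLike.mem_coe, mem_centralizer_singleton_iff] at hz
      change g * z * g⁻¹ * (g * x * g⁻¹) = g * x * g⁻¹ * (g * z * g⁻¹)
      rw [show g * z * g⁻¹ * (g * x * g⁻¹) = g * (z * x) * g⁻¹ by group, hz]; group
  rw [h6, oc_def, Cfsg.Agent.OddOrderLocal.Equivariance.piCoreOf_map] at h5
  obtain ⟨z, hz, hzh⟩ := h5
  have : z = h := (MulAut.conj g).injective hzh
  rw [← this]
  exact hz

/-- the field `sl` of `GoldM1.Frame` -/
theorem sl (cardS : Nat.card S = 64) (sylow : ¬ 2 ∣ S.index) (cardA : Nat.card A = 4)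
    (cen : ∀ x ∈ A, ∀ s ∈ S, x * s = s * x)
    (inv : ∀ s ∈ S, s * s = 1 → s ∈ A) (comm : ∀ s ∈ S, ∀ u ∈ S, s * u * s⁻¹ * u⁻¹ ∈ A)
    (fact : ∀ x ∈ A, x ≠ 1 →
      centralizer ({x} : Set G) ≤ oc (centralizer ({x} : Set G)) ⊔ centralizer (A : Set G))
    (normCA : centralizer (A : Set G) ≤
      normalizer ((oc (centralizer (A : Set G)) ⊔ S : Subgroup G) : Set G))
    (indexCA : (oc (centralizer (A : Set G)) ⊔ S).relIndex (centralizer (A : Set G)) = 1 ∨
      (oc (centralizer (A : Set G)) ⊔ S).relIndex (centralizer (A : Set G)) = 5) :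
    ∀ p : ℕ, p.Prime → p ≠ 2 → ¬ ∃ (H K : Subgroup G) (_ : (K.subgroupOf H).Normal),
      Nonempty ((H ⧸ K.subgroupOf H) ≃* Matrix.SpecialLinearGroup (Fin 2) (ZMod p)) := by
  rintro p hp hp2 ⟨H, K, hK, ⟨e⟩⟩
  have := Fact.mk hp
  have h2 : (2 : ZMod p) ≠ 0 := by
    intro h
    have h1 : ((2 : ℕ) : ZMod p) = 0 := by exact_mod_cast h
    rw [ZMod.natCast_eq_zero_iff] at h1
    exact hp2 ((Nat.prime_dvd_prime_iff_eq hp Nat.prime_two).mp h1)
  exact not_section (X := H) h2 (two cardS sylow cardA inv comm)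
    (three cardS sylow cen inv fact normCA indexCA) H.subtype H.subtype_injective
    (e.toMonoidHom.comp (QuotientGroup.mk' (K.subgroupOf H)))
    (e.surjective.comp (QuotientGroup.mk'_surjective _))

end Cfsg.Agent.TwoFusion.GoldM1SL
end

-- part: TwoFusion/GoldM1Inv
section
/-!
# Case [M1] of Goldschmidt's theorem: the local structure

`X` is a finite group without odd core, `P` a Sylow 2-subgroup like the one of `PSU(3,4)` with centre `A`.

* `le_of_component`: every component contains `A`;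
* `not_le_centralizer`, `eq_one_of_central`, `center_eq_bot`: the components are simple and meet `C(L)` trivially;
* `big`: if there is a component `L` then `P ≤ L`, `L` is normal, simple, `C(L) = 1` and `BenPack L`;
* `inv_eq_bot`: (INV), `P`-invariant subgroups of odd order are trivial;
* `eq_pCore`, `index_eq`: if `A` is central then `P` is normal of index 1 or 5.
-/

set_option autoImplicit false
set_option linter.style.haveILetI false

namespace Cfsg.Agent.TwoFusion.GoldM1Inv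

open Subgroup
open Cfsg.Agent.TwoFusion.ClosedFam Cfsg.Agent.TwoFusion.Gold Cfsg.Agent.TwoFusion.GoldM1
open scoped commutatorElement

variable {X : Type*} [Group X] [Finite X]

/-- The focal subgroup argument in a component. -/
theorem focal (P : Sylow 2 X) {L : Subgroup X} (hL : Cfsg.IsComponent L) {D : Subgroup X}
    (hD : ∀ x ∈ (P : Subgroup X), x ∈ L → ∀ u ∈ L, u * x⁻¹ * u⁻¹ ∈ (P : Subgroup X) →
      x * (u * x⁻¹ * u⁻¹) ∈ D) {x : X} (hx : x ∈ (P : Subgroup X)) (hxL : x ∈ L) : x ∈ D := by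
  haveI : Fact (Nat.Prime 2) := ⟨Nat.prime_two⟩
  obtain ⟨T, hT⟩ := exists_sylow_subgroupOf P hL.1
  have hperf : commutator L = ⊤ := hL.2.1.commutator_eq_top
  have hfoc : (T : Subgroup L) = (T : Subgroup L).focalSubgroup := by
    have h1 := Subgroup.commutator_inf_eq_focalSubgroup T
    rw [hperf, top_inf_eq] at h1
    exact h1
  have h1 : (T : Subgroup L) ≤ D.comap L.subtype := by
    rw [hfoc, Subgroup.focalSubgroup_def, closure_le]
    rintro g ⟨hg, y, hy, u, rfl⟩
    change ((⁅y, u⁆ : L) : X) ∈ D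
    have hyP : (y : X) ∈ (P : Subgroup X) := by
      rw [hT] at hy
      exact hy
    have hgP : ((⁅y, u⁆ : L) : X) ∈ (P : Subgroup X) := by
      rw [hT] at hg
      exact hg
    have e1 : ((⁅y, u⁆ : L) : X) = (y : X) * ((u : X) * (y : X)⁻¹ * (u : X)⁻¹) := by
      rw [commutatorElement_def]
      push_cast
      group
    rw [e1] at hgP ⊢
    refine hD _ hyP y.2 _ u.2 ?_
    have := mul_mem (inv_mem hyP) hgP
    rwa [inv_mul_cancel_left] at this
  have h2 : (⟨x, hxL⟩ : L) ∈ (T : Subgroup L) := by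
    rw [hT]
    exact hx
  exact h1 h2

theorem not_central (hO : Cfsg.oddCore X = ⊥) (P : Sylow 2 X) {L : Subgroup X} (hL : Cfsg.IsComponent L) :
    ¬ ∀ x ∈ (P : Subgroup X), x ∈ L → ∀ y ∈ L, x * y = y * x := by
  intro hc
  haveI : Fact (Nat.Prime 2) := ⟨Nat.prime_two⟩
  obtain ⟨T, hT⟩ := exists_sylow_subgroupOf P hL.1
  have hdvd : 2 ∣ Nat.card L := by
    have h1 := Cfsg.Agent.S1270.component_not_coprime hO hL
    rw [Nat.coprime_comm, Nat.Prime.coprime_iff_not_dvd Nat.prime_two, not_not] at h1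
    exact h1
  refine Cfsg.Agent.SignalizersComponents.CompBasic.sylow_not_le_center_of_perfect hL.2.1 2 hdvd T ?_
  intro x hx
  rw [hT] at hx
  rw [mem_center_iff]
  intro y
  exact Subtype.ext (hc x hx x.2 y y.2).symm

section SylForm

variable {P : Sylow 2 X} {A : Subgroup X} (hs : Syl (P : Subgroup X) A)

include hs

/-- Every component contains `A`. -/
theorem le_of_component (hO : Cfsg.oddCore X = ⊥) {L : Subgroup X} (hL : Cfsg.IsComponent L) : A ≤ L := by
  by_contra hAL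
  haveI := hs.finA
  -- two nontrivial elements of `A ∩ L` are equal
  have huniq : ∀ a ∈ A, a ∈ L → a ≠ 1 → ∀ b ∈ A, b ∈ L → b ≠ 1 → a = b := by
    intro a ha haL ha1 b hb hbL hb1
    by_contra hab
    apply hAL
    intro c hc
    rcases hs.mem_A ha hb ha1 hb1 hab hc with rfl | rfl | rfl | rfl
    · exact one_mem _
    · exact haL
    · exact hbL
    · exact mul_mem haL hbL
  have key : ∀ v ∈ (P : Subgroup X), v ∈ L → v ∉ A → ∀ w ∈ (P : Subgroup X), w ∈ L → w ∉ A → v * w ∈ A := by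
    intro v hv hvL hvA w hw hwL hwA
    by_contra hvw
    have h1 := huniq _ (hs.sq_mem hv) (mul_mem hvL hvL) (hs.sq_ne hv hvA) _ (hs.sq_mem hw) (mul_mem hwL hwL)
      (hs.sq_ne hw hwA)
    have h2 := huniq _ (hs.sq_mem hv) (mul_mem hvL hvL) (hs.sq_ne hv hvA) _ (hs.sq_mem (mul_mem hv hw))
      (mul_mem (mul_mem hvL hwL) (mul_mem hvL hwL)) (hs.sq_ne (mul_mem hv hw) hvw)
    exact hs.sq_ne hv hvA (hs.no_quat hv hw rfl h1.symm h2.symm)
  -- conjugates of elements of `A`
  have hconjA : ∀ x ∈ (P : Subgroup X), ∀ u : X, u * x⁻¹ * u⁻¹ ∈ (P : Subgroup X) → x ∈ A →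
      u * x⁻¹ * u⁻¹ ∈ A := by
    intro x _ u hu hxA
    refine hs.inv _ hu ?_
    have e : u * x⁻¹ * u⁻¹ * (u * x⁻¹ * u⁻¹) = u * (x * x)⁻¹ * u⁻¹ := by group
    rw [e, hs.sq x hxA]; group
  have hconjA' : ∀ x ∈ (P : Subgroup X), ∀ u : X, u * x⁻¹ * u⁻¹ ∈ (P : Subgroup X) → u * x⁻¹ * u⁻¹ ∈ A →
      x ∈ A := by
    intro x hx u _ hxA
    refine hs.inv _ hx ?_
    have e : x * x = u⁻¹ * (u * x⁻¹ * u⁻¹ * (u * x⁻¹ * u⁻¹))⁻¹ * u := by simp only [mul_assoc, _root_.inv_mul_cancel_left, _root_.mul_inv_rev, _root_.inv_inv, _root_.inv_mul_cancel, _root_.mul_one]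
    rw [e, hs.sq _ hxA]; group
  have h1 : ∀ x ∈ (P : Subgroup X), x ∈ L → x ∈ A := by
    intro x hx hxL
    refine focal P hL (D := A) ?_ hx hxL
    intro x hx hxL u hu hux
    by_cases hxA : x ∈ A
    · exact mul_mem hxA (hconjA x hx u hux hxA)
    · exact key x hx hxL hxA _ hux (mul_mem (mul_mem hu (inv_mem hxL)) (inv_mem hu))
        (fun hc => hxA (hconjA' x hx u hux hc))
  have h2 : ∀ x ∈ (P : Subgroup X), x ∈ L → x ∈ (⊥ : Subgroup X) := by
    intro x hx hxL
    refine focal P hL (D := ⊥) ?_ hx hxL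
    intro x hx hxL u hu hux
    have hxA := h1 x hx hxL
    rw [mem_bot]
    by_cases hx1 : x = 1
    · rw [hx1]; group
    · have h3 := huniq x hxA hxL hx1 (u * x⁻¹ * u⁻¹) (hconjA x hx u hux hxA)
        (mul_mem (mul_mem hu (inv_mem hxL)) (inv_mem hu)) (by
          intro e
          apply hx1
          have e' : x = u⁻¹ * (u * x⁻¹ * u⁻¹)⁻¹ * u := by group
          rw [e', e]; group)
      rw [← h3]
      exact hs.sq x hxA
  refine not_central hO P hL ?_
  intro x hx hxL y _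
  have := h2 x hx hxL
  rw [mem_bot] at this
  rw [this, one_mul, mul_one]

omit hs in
/-- Two elements of `P ∩ L` which generate a four-group modulo the centre of `L` (if squares are central). -/
theorem exists_pair (hO : Cfsg.oddCore X = ⊥) {L : Subgroup X} (hL : Cfsg.IsComponent L) :
    ∃ v ∈ (P : Subgroup X), v ∈ L ∧ ∃ w ∈ (P : Subgroup X), w ∈ L ∧ v ∉ centralizer (L : Set X) ∧
      w ∉ centralizer (L : Set X) ∧ v * w ∉ centralizer (L : Set X) := by
  by_contra hn
  push Not at hn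
  have h1 : ∀ x ∈ (P : Subgroup X), x ∈ L → x ∈ centralizer (L : Set X) := by
    intro x hx hxL
    refine focal P hL (D := centralizer (L : Set X)) ?_ hx hxL
    intro x hx hxL u hu hux
    have h2 : ∀ y : X, y ∈ centralizer (L : Set X) → u * y * u⁻¹ ∈ centralizer (L : Set X) := by
      intro y hy
      have e : u * y * u⁻¹ = y := by
        rw [mem_centralizer_iff] at hy
        rw [hy u hu]; group
      rw [e]; exact hy
    by_cases hxC : x ∈ centralizer (L : Set X)
    · exact mul_mem hxC (h2 _ (inv_mem hxC))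
    · refine hn x hx hxL _ hux (mul_mem (mul_mem hu (inv_mem hxL)) (inv_mem hu)) hxC ?_
      intro hc
      apply hxC
      rw [mem_centralizer_iff] at hc
      have e1 : u * x⁻¹ = u * x⁻¹ * u⁻¹ * u := by group
      have e2 := hc u hu
      have e3 : u * x⁻¹ * u⁻¹ = x⁻¹ := by
        have : u * (u * x⁻¹ * u⁻¹) = u * x⁻¹ := by rw [e2]; group
        exact mul_left_cancel this
      rw [e3] at hc
      have h4 : x⁻¹ ∈ centralizer (L : Set X) := hc
      exact inv_mem_iff.1 h4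
  refine not_central hO P hL ?_
  intro x hx hxL y hy
  have := mem_centralizer_iff.1 (h1 x hx hxL) y hy
  exact this.symm

end SylForm

/-- A 2-subgroup is conjugate into a given Sylow subgroup. -/
theorem exists_conj_le {L : Type*} [Group L] [Finite L] (T : Sylow 2 L) {Q : Subgroup L} (hQ : IsPGroup 2 Q) :
    ∃ g : L, ∀ q ∈ Q, g * q * g⁻¹ ∈ (T : Subgroup L) := by
  haveI : Fact (Nat.Prime 2) := ⟨Nat.prime_two⟩
  obtain ⟨R, hR⟩ := hQ.exists_le_sylow
  obtain ⟨g, hg⟩ := MulAction.exists_smul_eq L R T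
  refine ⟨g, fun t ht => ?_⟩
  have h1 : g * t * g⁻¹ ∈ ((g • R : Sylow 2 L) : Subgroup L) := by
    rw [Sylow.coe_subgroup_smul, Subgroup.mem_pointwise_smul_iff_inv_smul_mem]
    simpa only [MulAut.smul_def, mul_assoc, _root_.smul_mul', _root_.MulAut.inv_apply, _root_.MulAut.conj_symm_apply, _root_.inv_mul_cancel, _root_.one_mul, _root_.smul_inv', _root_.mul_inv_cancel, _root_.mul_one, _root_.mul_inv_cancel_left] using hR ht
  rw [hg] at h1
  exact h1

omit [Finite X] in
theorem isPGroup_zpowers_of_pow {x : X} {k : ℕ} (hx : x ^ 2 ^ k = 1) : IsPGroup 2 (zpowers x) := by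
  rintro ⟨y, hy⟩
  refine ⟨k, ?_⟩
  obtain ⟨n, rfl⟩ := mem_zpowers_iff.1 hy
  apply Subtype.ext
  simp only [SubmonoidClass.mk_pow, OneMemClass.coe_one]
  rw [← zpow_natCast, ← zpow_mul, mul_comm, zpow_mul, zpow_natCast, hx, one_zpow]

/-- Central 2-elements of a component lie in `P`. -/
theorem mem_of_central (P : Sylow 2 X) {L : Subgroup X} (hL : Cfsg.IsComponent L) {z : X} (hzL : z ∈ L)
    (hzC : z ∈ centralizer (L : Set X)) {k : ℕ} (hz : z ^ 2 ^ k = 1) : z ∈ (P : Subgroup X) := by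
  haveI : Fact (Nat.Prime 2) := ⟨Nat.prime_two⟩
  obtain ⟨T, hT⟩ := exists_sylow_subgroupOf P hL.1
  have h1 : (⟨z, hzL⟩ : L) ^ 2 ^ k = 1 := Subtype.ext hz
  obtain ⟨g, hg⟩ := exists_conj_le T (isPGroup_zpowers_of_pow h1)
  have h2 := hg _ (mem_zpowers _)
  rw [hT, mem_subgroupOf] at h2
  have e : ((g * ⟨z, hzL⟩ * g⁻¹ : L) : X) = z := by
    push_cast
    rw [mem_centralizer_iff.1 hzC g g.2]; group
  rwa [e] at h2

section Comp

universe u

variable {X : Type u} [Group X] [Finite X] {𝒜 : Set X} {P : Sylow 2 X} {A : Subgroup X}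
  (hs : Syl (P : Subgroup X) A) (hc : Ctx 𝒜)

include hs hc

/-- `A` is not contained in the centre of a component. -/
theorem not_le_centralizer {L : Subgroup X} (hL : Cfsg.IsComponent L) : ¬ A ≤ centralizer (L : Set X) := by
  classical
  intro hAC
  haveI : Fact (Nat.Prime 2) := ⟨Nat.prime_two⟩
  obtain ⟨v, hv, hvL, w, hw, hwL, hvC, hwC, hvwC⟩ := exists_pair (P := P) hc.core hL
  obtain ⟨T, hT⟩ := exists_sylow_subgroupOf P hL.1
  set f := QuotientGroup.mk' (center ↥L) with hf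
  have hfs : Function.Surjective f := QuotientGroup.mk'_surjective _
  have hker : ∀ l : L, f l = 1 ↔ (l : X) ∈ centralizer (L : Set X) := by
    intro l
    rw [hf, ← MonoidHom.mem_ker, QuotientGroup.ker_mk', mem_center_iff, mem_centralizer_iff]
    constructor
    · intro h m hm
      exact congrArg Subtype.val (h ⟨m, hm⟩)
    · intro h m
      exact Subtype.ext (h m m.2)
  set ℬ : Set (↥L ⧸ center ↥L) := {x | x * x = 1} with hB
  have hBe : IsElemFam ℬ :=
    { one_mem := mul_one 1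
      conj_mem := by
        intro x hx g
        change g * x * g⁻¹ * (g * x * g⁻¹) = 1
        have e : g * x * g⁻¹ * (g * x * g⁻¹) = g * (x * x) * g⁻¹ := by group
        rw [e, show x * x = 1 from hx]; group
      two := by
        intro x hx
        exact ⟨1, by rw [pow_one, pow_two]; exact hx⟩
      mul_mem := by
        intro Q hQ x hx y hy hxx hyy
        obtain ⟨Q0, hQ0, hmap, -⟩ := exists_lift hfs Q hQ
        rw [← hmap] at hx hy
        obtain ⟨x0, hx0, rfl⟩ := hx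
        obtain ⟨y0, hy0, rfl⟩ := hy
        obtain ⟨g, hg⟩ := exists_conj_le T hQ0
        have h1 := hg _ hx0
        have h2 := hg _ hy0
        rw [hT, mem_subgroupOf] at h1 h2
        have h3 : f ((g * x0 * g⁻¹) * (g * y0 * g⁻¹) * (g * x0 * g⁻¹)⁻¹ * (g * y0 * g⁻¹)⁻¹) = 1 :=
          (hker _).2 (hAC (hs.comm _ h1 _ h2))
        have h4 : f x0 * f y0 = f y0 * f x0 := by
          have e : f ((g * x0 * g⁻¹) * (g * y0 * g⁻¹) * (g * x0 * g⁻¹)⁻¹ * (g * y0 * g⁻¹)⁻¹) =
              f g * (f x0 * f y0 * (f x0)⁻¹ * (f y0)⁻¹) * (f g)⁻¹ := by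
            simp only [map_mul, map_inv]; group
          rw [e, mul_inv_eq_one, mul_eq_left] at h3
          calc f x0 * f y0 = f x0 * f y0 * (f x0)⁻¹ * (f y0)⁻¹ * (f y0 * f x0) := by group
            _ = f y0 * f x0 := by rw [h3, one_mul]
        change f x0 * f y0 * (f x0 * f y0) = 1
        calc f x0 * f y0 * (f x0 * f y0) = f x0 * (f y0 * f x0) * f y0 := by group
          _ = f x0 * (f x0 * f y0) * f y0 := by rw [h4]
          _ = (f x0 * f x0) * (f y0 * f y0) := by group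
          _ = 1 := by
            rw [show f x0 * f x0 = 1 from hxx, show f y0 * f y0 = 1 from hyy, one_mul]
      sq := fun x hx => hx }
  -- the elements of `P ∩ L` have images of order at most 2
  have hsq : ∀ x ∈ (P : Subgroup X), ∀ hxL : x ∈ L, f ⟨x, hxL⟩ * f ⟨x, hxL⟩ = 1 := by
    intro x hx hxL
    rw [← map_mul]
    exact (hker _).2 (hAC (hs.sq_mem hx))
  have hord : ∀ x ∈ (P : Subgroup X), ∀ hxL : x ∈ L, x ∉ centralizer (L : Set X) → orderOf (f ⟨x, hxL⟩) = 2 := by
    intro x hx hxL hxC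
    exact orderOf_eq_prime (by rw [pow_two]; exact hsq x hx hxL) (fun e => hxC ((hker _).1 e))
  have hTC : TCon (↥L ⧸ center ↥L) :=
    hc.T L hL ℬ hBe ⟨f ⟨v, hvL⟩, hsq v hv hvL, fun e => hvC ((hker _).1 e)⟩
  have key : ∀ v ∈ (P : Subgroup X), v ∈ L → v ∉ centralizer (L : Set X) → ∀ w ∈ (P : Subgroup X), w ∈ L →
      w ∉ centralizer (L : Set X) → ∀ r ∈ (P : Subgroup X), r ∈ L → r ∉ centralizer (L : Set X) →
      w * r ∉ centralizer (L : Set X) → v * v = w * w := by
    intro v hv hvL hvC w hw hwL hwC r hr hrL hrC hwr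
    obtain ⟨g', hg'⟩ := hTC.conj _ _ (hord v hv hvL hvC) (hord w hw hwL hwC)
    obtain ⟨g, rfl⟩ := hfs g'
    obtain ⟨z, hz⟩ : ∃ z : L, z = (⟨w, hwL⟩ : L)⁻¹ * (g * ⟨v, hvL⟩ * g⁻¹) := ⟨_, rfl⟩
    have hzC : (z : X) ∈ centralizer (L : Set X) := by
      rw [← hker, hz]
      simp only [map_mul, map_inv]
      rw [hg', inv_mul_cancel]
    have hzc := mem_centralizer_iff.1 hzC
    have hgv : (g : X) * v * (g : X)⁻¹ = w * z := by
      rw [hz]; push_cast; group
    have hv4 : v * v * (v * v) = 1 := hs.sq _ (hs.sq_mem hv)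
    have hw4 : w * w * (w * w) = 1 := hs.sq _ (hs.sq_mem hw)
    have hwz : (z : X) * w = w * z := (hzc w hwL).symm
    have h1 : w * z * (w * z) = w * w * (z * z) := by
      calc w * z * (w * z) = w * (z * w) * z := by group
        _ = w * (w * z) * z := by rw [hwz]
        _ = _ := by group
    have h2 : (g : X) * (v * v) * (g : X)⁻¹ = w * w * (z * z) := by
      rw [← h1, ← hgv]; group
    have hvvC := mem_centralizer_iff.1 (hAC (hs.sq_mem hv))
    have h3 : (g : X) * (v * v) * (g : X)⁻¹ = v * v := by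
      rw [hvvC g g.2]; group
    rw [h3] at h2
    have hz4 : (z : X) ^ 2 ^ 2 = 1 := by
      have e1 : (z : X) * z = (w * w)⁻¹ * (v * v) := by rw [h2]; group
      have e2 : (z : X) * z ∈ A := by
        rw [e1]; exact mul_mem (inv_mem (hs.sq_mem hw)) (hs.sq_mem hv)
      have e3 := hs.sq _ e2
      have e4 : (z : X) ^ 2 ^ 2 = ((z : X) ^ 2) ^ 2 := pow_mul (z : X) 2 2
      rw [e4, pow_two, pow_two]
      exact e3
    have hzP : (z : X) ∈ (P : Subgroup X) := mem_of_central P hL z.2 hzC hz4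
    by_cases hzA : (z : X) ∈ A
    · rw [h2, hs.sq _ hzA, mul_one]
    · exfalso
      have htwo : ∀ x ∈ hs.two hzP, x ∈ centralizer (L : Set X) := by
        intro x hx
        rcases (hs.mem_two hzP).1 hx with h4 | h4
        · exact hAC h4
        · have e : x = z * ((z : X)⁻¹ * x) := by group
          rw [e]
          exact mul_mem hzC (hAC h4)
      refine hwr (htwo _ (hs.cent_four hzP hzA hw hwz hr (hzc r hrL).symm (fun h => hwC (htwo _ h))
        (fun h => hrC (htwo _ h))))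
  have hwvC : w * v ∉ centralizer (L : Set X) := by
    intro h
    apply hvwC
    have e : v * w = v * (w * v) * v⁻¹ := by group
    rw [e, mem_centralizer_iff.1 h v hvL, mul_inv_cancel_right]
    exact h
  have e1 : v * v = w * w := key v hv hvL hvC w hw hwL hwC v hv hvL hvC hwvC
  have e2 : v * v = v * w * (v * w) := by
    refine key v hv hvL hvC (v * w) (mul_mem hv hw) (mul_mem hvL hwL) hvwC w hw hwL hwC ?_
    intro h
    apply hvC
    have e : v = v * w * w * (w * w)⁻¹ := by group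
    rw [e]
    exact mul_mem h (inv_mem (hAC (hs.sq_mem hw)))
  have h5 := hs.no_quat hv hw rfl e1.symm e2.symm
  exact hvC (hAC (hs.inv v hv h5))

variable (hA : ∀ x ∈ A, x ∈ 𝒜)

include hA

/-- `A ∩ Z(L) = 1` for the components `L`. -/
theorem eq_one_of_central {L : Subgroup X} (hL : Cfsg.IsComponent L) {z : X} (hz : z ∈ A)
    (hzC : z ∈ centralizer (L : Set X)) : z = 1 := by
  classical
  by_contra hz1
  haveI : Fact (Nat.Prime 2) := ⟨Nat.prime_two⟩
  haveI := hs.finA
  have hAL := le_of_component hs hc.core hL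
  obtain ⟨b, hb, hbC⟩ := SetLike.not_le_iff_exists.1 (not_le_centralizer hs hc hL)
  obtain ⟨T, hT⟩ := exists_sylow_subgroupOf P hL.1
  have hr : IsElemFam {l : L | (l : X) ∈ 𝒜} := hc.fam.restrict L
  have h4 : Nat.card (fam {l : L | (l : X) ∈ 𝒜} (T : Subgroup L)) ≤ 4 := by
    have h1 : (fam {l : L | (l : X) ∈ 𝒜} (T : Subgroup L)).map L.subtype ≤ A := by
      rintro _ ⟨l, hl, rfl⟩
      have h2 := (hr.toIsClosedFam.mem_fam_iff T.2).1 hl
      have h3 : (l : X) ∈ (P : Subgroup X) := by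
        have := h2.2
        rw [hT] at this
        exact this
      exact hs.inv _ h3 (hc.fam.sq _ h2.1)
    have e1 : Nat.card (fam {l : L | (l : X) ∈ 𝒜} (T : Subgroup L)) =
        Nat.card ((fam {l : L | (l : X) ∈ 𝒜} (T : Subgroup L)).map L.subtype) :=
      Nat.card_congr ((fam {l : L | (l : X) ∈ 𝒜} (T : Subgroup L)).equivMapOfInjective _
        L.subtype_injective).toEquiv
    rw [e1, ← hs.cardA]
    exact Subgroup.card_le_of_le h1
  have hzc := mem_centralizer_iff.1 hzC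
  refine GoldSolid.not_act_of_card_le hr T h4 (w := ⟨z, hAL hz⟩) (hA z hz)
    (fun e => hz1 (congrArg Subtype.val e)) (fun x => Subtype.ext (hzc x x.2).symm) ⊤
    ⟨Subgroup.IsSubnormal.top, Cfsg.Agent.SignalizersComponents.Components.isQuasisimple_of_mulEquiv
      topEquiv.symm hL.2⟩ ?_
  rw [mem_centralizer_iff] at hbC
  push Not at hbC
  obtain ⟨y, hy, hyb⟩ := hbC
  exact ⟨⟨b, hAL hb⟩, hA b hb, mem_top _, ⟨y, hy⟩, mem_top _, fun e => hyb (congrArg Subtype.val e).symm⟩

/-- The components are simple. -/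
theorem center_eq_bot {L : Subgroup X} (hL : Cfsg.IsComponent L) : center L = ⊥ := by
  haveI : Fact (Nat.Prime 2) := ⟨Nat.prime_two⟩
  have hcop : (Nat.card (center L)).Coprime 2 := by
    rw [Nat.coprime_comm, Nat.Prime.coprime_iff_not_dvd Nat.prime_two]
    intro hd
    obtain ⟨z, hz⟩ := exists_prime_orderOf_dvd_card' 2 hd
    have hz2 : (z : L) * z = 1 := by
      have : z ^ 2 = 1 := by rw [← hz]; exact pow_orderOf_eq_one z
      rw [pow_two] at this
      exact congrArg Subtype.val this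
    have hzC : ((z : L) : X) ∈ centralizer (L : Set X) := by
      rw [mem_centralizer_iff]
      intro m hm
      exact congrArg Subtype.val (mem_center_iff.1 z.2 ⟨m, hm⟩)
    have hz2' : ((z : L) : X) * ((z : L) : X) = 1 := congrArg Subtype.val hz2
    have hzP : ((z : L) : X) ∈ (P : Subgroup X) :=
      mem_of_central P hL (z : L).2 hzC (k := 1) (by rw [pow_one, pow_two]; exact hz2')
    have hz1 := eq_one_of_central hs hc hA hL (hs.inv _ hzP hz2') hzC
    have hz1' : z = 1 := Subtype.ext (Subtype.ext hz1)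
    rw [hz1', orderOf_one] at hz
    omega
  have h1 : center L ≤ Cfsg.pPrimeCore 2 L := Cfsg.Agent.Lib.Cores.le_pPrimeCore inferInstance hcop
  have h2 := Cfsg.Agent.SignalizersComponents.CompBasic.map_subtype_pPrimeCore_of_subnormal 2 hL.1
  rw [eq_bot_iff]
  intro z hz
  have h3 : (z : X) ∈ (Cfsg.pPrimeCore 2 L).map L.subtype := ⟨z, h1 hz, rfl⟩
  rw [h2] at h3
  have h4 : (z : X) ∈ Cfsg.oddCore X := h3.2
  rw [hc.core, mem_bot] at h4
  rw [mem_bot]
  exact Subtype.ext h4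

omit hA in
/-- There is only one component. -/
theorem component_unique {L L' : Subgroup X} (hL : Cfsg.IsComponent L) (hL' : Cfsg.IsComponent L') : L = L' := by
  by_contra hne
  refine not_le_centralizer hs hc hL ?_
  intro a ha
  have h1 := Cfsg.Agent.S1270.component_comm_of_ne hL hL' hne
  rw [commutator_eq_bot_iff_le_centralizer] at h1
  rw [mem_centralizer_iff]
  intro l hl
  have h2 := mem_centralizer_iff.1 (h1 hl) a (le_of_component hs hc.core hL' ha)
  exact h2.symm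

omit hA in
theorem component_normal {L : Subgroup X} (hL : Cfsg.IsComponent L) : L.Normal := by
  refine ⟨fun l hl g => ?_⟩
  have h1 := component_unique hs hc hL (Cfsg.Agent.S1270.component_conj hL g)
  have h2 : g * l * g⁻¹ ∈ L.map (MulAut.conj g).toMonoidHom := ⟨l, hl, rfl⟩
  rw [← h1] at h2
  exact h2

theorem tCon {L : Subgroup X} (hL : Cfsg.IsComponent L) : TCon L := by
  have hbot := center_eq_bot hs hc hA hL
  have hAL := le_of_component hs hc.core hL
  obtain ⟨b, hb, hb1⟩ : ∃ b ∈ A, b ≠ 1 := by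
    by_contra hn
    push Not at hn
    have h1 : A = ⊥ := (Subgroup.eq_bot_iff_forall A).2 hn
    have h4 := hs.cardA
    rw [h1, Subgroup.card_bot] at h4
    omega
  have h1 : TCon (↥L ⧸ center ↥L) := by
    refine hc.T L hL ((QuotientGroup.mk' (center ↥L)) '' {l : L | (l : X) ∈ 𝒜})
      ((hc.fam.restrict L).image (QuotientGroup.mk'_surjective _))
      ⟨_, ⟨⟨b, hAL hb⟩, hA b hb, rfl⟩, ?_⟩
    intro e
    have h2 : (⟨b, hAL hb⟩ : L) ∈ center L := by
      rw [← QuotientGroup.ker_mk' (center L)]; exact e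
    rw [hbot, mem_bot] at h2
    exact hb1 (congrArg Subtype.val h2)
  exact GoldTrans.tCon_congr ((QuotientGroup.quotientMulEquivOfEq hbot).trans QuotientGroup.quotientBot) h1

omit hc hA in
/-- Every involution is conjugate into `A`. -/
theorem exists_conj_mem_A {z : X} (hz : z * z = 1) : ∃ g : X, g * z * g⁻¹ ∈ A := by
  have h1 : z ^ 2 ^ 1 = 1 := by rw [pow_one, pow_two]; exact hz
  obtain ⟨g, hg⟩ := exists_conj_le P (isPGroup_zpowers_of_pow h1)
  refine ⟨g, hs.inv _ (hg z (mem_zpowers z)) ?_⟩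
  have e : g * z * g⁻¹ * (g * z * g⁻¹) = g * (z * z) * g⁻¹ := by group
  rw [e, hz]; group

theorem centralizer_eq_bot {L : Subgroup X} (hL : Cfsg.IsComponent L) : centralizer (L : Set X) = ⊥ := by
  haveI : Fact (Nat.Prime 2) := ⟨Nat.prime_two⟩
  have hLn : L.Normal := component_normal hs hc hL
  have hcop : (Nat.card (centralizer (L : Set X))).Coprime 2 := by
    rw [Nat.coprime_comm, Nat.Prime.coprime_iff_not_dvd Nat.prime_two]
    intro hd
    obtain ⟨z, hz⟩ := exists_prime_orderOf_dvd_card' 2 hd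
    have hz2 : (z : X) * z = 1 := by
      have : z ^ 2 = 1 := by rw [← hz]; exact pow_orderOf_eq_one z
      rw [pow_two] at this
      exact congrArg Subtype.val this
    obtain ⟨g, hg⟩ := exists_conj_mem_A hs hz2
    have h1 : g * z * g⁻¹ ∈ centralizer (L : Set X) := (inferInstance : (centralizer (L : Set X)).Normal).conj_mem _ z.2 g
    have h2 := eq_one_of_central hs hc hA hL hg h1
    rw [mul_inv_eq_one, mul_eq_left] at h2
    have h3 : z = 1 := Subtype.ext h2
    rw [h3, orderOf_one] at hz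
    omega
  have h1 := Cfsg.Agent.Lib.Cores.le_pPrimeCore (G := X) (N := centralizer (L : Set X)) inferInstance hcop
  have h2 : Cfsg.pPrimeCore 2 X = ⊥ := hc.core
  rw [h2] at h1
  exact le_bot_iff.1 h1

end Comp

section Norm

variable {P : Sylow 2 X} {A : Subgroup X} (hs : Syl (P : Subgroup X) A)

/-- Burnside's argument inside a normal subgroup. -/
theorem exists_normalizing {L : Subgroup X} (hLn : L.Normal) (hAP : ∀ x ∈ A, ∀ s ∈ (P : Subgroup X), x * s = s * x)
    (hAL : A ≤ L) {a b g : X} (ha : a ∈ A) (hb : b ∈ A) (hg : g ∈ L) (hab : g * a * g⁻¹ = b) :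
    ∃ l ∈ L, l ∈ normalizer ((P : Subgroup X) : Set X) ∧ l * a * l⁻¹ = b := by
  haveI : Fact (Nat.Prime 2) := ⟨Nat.prime_two⟩
  have hLK : L ≤ L ⊔ (P : Subgroup X) := le_sup_left
  have hPK : (P : Subgroup X) ≤ L ⊔ (P : Subgroup X) := le_sup_right
  obtain ⟨n, hn, hn2⟩ := (P.subtype hPK).conj_eq_normalizer_conj_of_mem_centralizer ⟨a, hLK (hAL ha)⟩
    ⟨g⁻¹, hLK (inv_mem hg)⟩ (by
      rw [mem_centralizer_iff]
      intro s hs
      exact Subtype.ext (hAP a ha s hs).symm) (by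
      rw [mem_centralizer_iff]
      intro s hs
      have h1 := hAP b hb s hs
      apply Subtype.ext
      have e : (((⟨g⁻¹, hLK (inv_mem hg)⟩ : ↥(L ⊔ (P : Subgroup X)))⁻¹ * ⟨a, hLK (hAL ha)⟩ *
        ⟨g⁻¹, hLK (inv_mem hg)⟩ : ↥(L ⊔ (P : Subgroup X))) : X) = b := by
        rw [← hab]; simp only [_root_.Subgroup.coe_mul, _root_.InvMemClass.coe_inv, _root_.inv_inv]
      change (s : X) * _ = _ * (s : X)
      rw [e]
      exact h1.symm)
  have hn3 : (n : X)⁻¹ * a * n = b := by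
    have := congrArg Subtype.val hn2
    rw [← hab]
    simpa only [_root_.Subgroup.coe_mul, _root_.InvMemClass.coe_inv, _root_.inv_inv] using this.symm
  have hnP : (n : X) ∈ normalizer ((P : Subgroup X) : Set X) := by
    rw [mem_normalizer_iff]
    intro x
    constructor
    · intro hx
      exact (mem_normalizer_iff.1 hn ⟨x, hPK hx⟩).1 hx
    · intro hx
      have hxK : x ∈ L ⊔ (P : Subgroup X) := by
        have e : x = (n : X)⁻¹ * (n * x * (n : X)⁻¹) * n := by group
        rw [e]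
        exact mul_mem (mul_mem (inv_mem n.2) (hPK hx)) n.2
      exact (mem_normalizer_iff.1 hn ⟨x, hxK⟩).2 hx
  obtain ⟨l, hl, s, hs, hls⟩ := Subgroup.mem_sup_of_normal_left.1 (inv_mem n.2)
  refine ⟨l, hl, ?_, ?_⟩
  · have e : l = (n : X)⁻¹ * s⁻¹ := by rw [← hls]; group
    rw [e]
    exact mul_mem (inv_mem hnP) (le_normalizer (inv_mem hs))
  · rw [← hn3]
    have e : (n : X) = (l * s)⁻¹ := by rw [hls]; group
    rw [e]
    have h1 := hAP a ha s hs
    calc l * a * l⁻¹ = l * (a * s) * s⁻¹ * l⁻¹ := by group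
      _ = l * (s * a) * s⁻¹ * l⁻¹ := by rw [h1]
      _ = _ := by group

include hs

/-- An element of `N(P)` which moves a nontrivial element of `A` acts without fixed points on `A`. -/
theorem fpf {l a : X} (hl : l ∈ normalizer ((P : Subgroup X) : Set X)) (ha : a ∈ A) (hla : l * a * l⁻¹ ≠ a)
    {x : X} (hx : x ∈ A) (hlx : l * x = x * l) : x = 1 := by
  haveI : Fact (Nat.Prime 2) := ⟨Nat.prime_two⟩
  by_contra hx1
  have hnA : ∀ y ∈ A, l * y * l⁻¹ ∈ A := by
    intro y hy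
    refine hs.inv _ ((mem_normalizer_iff.1 hl y).1 (hs.AS hy)) ?_
    have e : l * y * l⁻¹ * (l * y * l⁻¹) = l * (y * y) * l⁻¹ := by group
    rw [e, hs.sq y hy]; group
  have ha1 : a ≠ 1 := by
    rintro rfl
    apply hla; group
  set b : X := l * a * l⁻¹ with hb
  have hbA : b ∈ A := hnA a ha
  have hb1 : b ≠ 1 := by
    intro e
    rw [hb, mul_inv_eq_one, mul_eq_left] at e
    exact ha1 e
  -- the action on the three involutions
  have h2 : l * b * l⁻¹ = a := by
    have hlx' : l * x * l⁻¹ = x := by rw [hlx]; group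
    have hxa : x ≠ a := by
      rintro rfl
      exact hla hlx'
    have hxb : x ≠ b := by
      rintro e
      apply hla
      have : l * b * l⁻¹ = l * a * l⁻¹ := by rw [← e, hlx', e]
      have h3 := mul_left_cancel (mul_right_cancel this)
      exact h3
    rcases hs.mem_A ha hx ha1 hx1 (Ne.symm hxa) (hnA b hbA) with h | h | h | h
    · exfalso
      rw [mul_inv_eq_one, mul_eq_left] at h
      exact hb1 h
    · exact h
    · exfalso
      rw [← hlx'] at h
      have h3 := mul_left_cancel (mul_right_cancel h)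
      exact hxb h3.symm
    · -- `b = a x`, so `l b l⁻¹ = b x`
      exfalso
      rcases hs.mem_A ha hx ha1 hx1 (Ne.symm hxa) hbA with h3 | h3 | h3 | h3
      · exact hb1 h3
      · exact hla h3
      · exact hxb h3.symm
      · have h4 : l * b * l⁻¹ = b * x := by
          calc l * b * l⁻¹ = l * (a * x) * l⁻¹ := by rw [← h3]
            _ = l * a * l⁻¹ * (l * x * l⁻¹) := by group
            _ = b * x := by rw [hlx']
        rw [h, h3, mul_assoc, hs.sq x hx, mul_one, mul_eq_left] at h4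
        exact hx1 h4
  -- the 2'-part
  obtain ⟨k, m, hm, hkm⟩ := Nat.exists_eq_two_pow_mul_odd (n := orderOf l) (orderOf_pos l).ne'
  have hlm : l ^ m ∈ (P : Subgroup X) := by
    have h3 : (l ^ m) ^ 2 ^ k = 1 := by
      rw [← pow_mul, mul_comm, ← hkm, pow_orderOf_eq_one]
    have h4 := (isPGroup_zpowers_of_pow h3).inf_normalizer_sylow P
    have h5 : l ^ m ∈ zpowers (l ^ m) ⊓ normalizer ((P : Subgroup X) : Set X) :=
      mem_inf.2 ⟨mem_zpowers _, pow_mem hl m⟩
    exact (h4.le h5).2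
  obtain ⟨j, hj⟩ := hm
  have h3 : ∀ i : ℕ, l ^ (2 * i) * a = a * l ^ (2 * i) := by
    intro i
    induction i with
    | zero => simp
    | succ i ih =>
      have e1 : l * l * a = a * (l * l) := by
        calc l * l * a = l * (l * a * l⁻¹) * l⁻¹ * (l * l) := by group
          _ = a * (l * l) := by rw [← hb, h2]
      calc l ^ (2 * (i + 1)) * a = l ^ (2 * i) * (l * l * a) := by rw [mul_add, pow_add]; simp [pow_two, mul_assoc]
        _ = l ^ (2 * i) * a * (l * l) := by rw [e1, mul_assoc]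
        _ = a * l ^ (2 * i) * (l * l) := by rw [ih]
        _ = a * l ^ (2 * (i + 1)) := by rw [mul_add, pow_add]; simp [pow_two, mul_assoc]
  have h4 := hs.cen a ha _ hlm
  rw [hj, pow_succ] at h4
  apply hla
  rw [hb]
  have h5 := h3 j
  have h6 : l ^ (2 * j) * (a * l) = l ^ (2 * j) * (l * a) := by
    calc l ^ (2 * j) * (a * l) = l ^ (2 * j) * a * l := by group
      _ = a * l ^ (2 * j) * l := by rw [h5]
      _ = a * (l ^ (2 * j) * l) := by group
      _ = l ^ (2 * j) * l * a := h4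
      _ = _ := by group
  have h7 := mul_left_cancel h6
  rw [← h7]; group

end Norm

/-- The situation if there is a component. -/
structure Big {X : Type*} [Group X] (P : Sylow 2 X) (L : Subgroup X) : Prop where
  ne : ∃ x ∈ (P : Subgroup X), x ≠ 1
  normal : L.Normal
  le : (P : Subgroup X) ≤ L
  simple : IsSimpleGroup L
  ben : BenPack L
  cent : centralizer (L : Set X) = ⊥

section LayerCase

universe u

variable {X : Type u} [Group X] [Finite X] {𝒜 : Set X} {P : Sylow 2 X} {A : Subgroup X}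
  (hs : Syl (P : Subgroup X) A) (hc : Ctx 𝒜) (hA : ∀ x ∈ A, x ∈ 𝒜)

omit [Finite X] in
include hs in
theorem exists_two : ∃ a ∈ A, a ≠ 1 ∧ ∃ b ∈ A, b ≠ 1 ∧ a ≠ b := by
  haveI := hs.finA
  by_contra hn
  push Not at hn
  have h1 : Nat.card A ≤ 2 := by
    by_cases h : ∃ a ∈ A, a ≠ 1
    · obtain ⟨a, ha, ha1⟩ := h
      have h2 : ∀ x ∈ A, x = 1 ∨ x = a := by
        intro x hx
        by_cases hx1 : x = 1
        · exact Or.inl hx1
        · exact Or.inr (hn a ha ha1 x hx hx1).symm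
      have h3 : (A : Set X) ⊆ {1, a} := by
        intro x hx
        rcases h2 x hx with h | h
        · rw [h]; simp
        · rw [h]; simp
      have h4 : (A : Set X).ncard ≤ ({1, a} : Set X).ncard := Set.ncard_le_ncard h3 (Set.toFinite _)
      have h5 : ({1, a} : Set X).ncard ≤ 2 := Set.ncard_insert_le _ _ |>.trans (by rw [Set.ncard_singleton])
      exact h4.trans h5
    · push Not at h
      have h2 : A = ⊥ := (Subgroup.eq_bot_iff_forall A).2 h
      rw [h2, Subgroup.card_bot]; omega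
  rw [hs.cardA] at h1
  omega

include hs hc hA

theorem le_component {L : Subgroup X} (hL : Cfsg.IsComponent L) : (P : Subgroup X) ≤ L := by
  haveI := hs.finS
  have hAL := le_of_component hs hc.core hL
  have hLn := component_normal hs hc hL
  obtain ⟨a, ha, ha1, b, hb, hb1, hab⟩ := exists_two hs
  have hord : ∀ x : X, ∀ hx : x ∈ A, x ≠ 1 → orderOf (⟨x, hAL hx⟩ : L) = 2 := by
    intro x hx hx1
    refine orderOf_eq_prime ?_ (fun e => hx1 (congrArg Subtype.val e))
    rw [pow_two]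
    exact Subtype.ext (hs.sq x hx)
  obtain ⟨g, hg⟩ := (tCon hs hc hA hL).conj _ _ (hord a ha ha1) (hord b hb hb1)
  have hg' : (g : X) * a * (g : X)⁻¹ = b := congrArg Subtype.val hg
  obtain ⟨l, hl, hlP, hlab⟩ := exists_normalizing (P := P) hLn hs.cen hAL ha hb g.2 hg'
  have hfix : ∀ x ∈ A, l * x = x * l → x = 1 := fun x hx hlx =>
    fpf hs hlP ha (by rw [hlab]; exact Ne.symm hab) hx hlx
  have hfixP : ∀ s ∈ (P : Subgroup X), l * s = s * l → s = 1 := by
    intro s hsP hls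
    have h1 : s * s = 1 := by
      refine hfix _ (hs.sq_mem hsP) ?_
      calc l * (s * s) = l * s * s := by group
        _ = s * (l * s) := by rw [← mul_assoc s l s, ← hls]
        _ = s * s * l := by rw [hls]; group
    exact hfix s (hs.inv s hsP h1) hls
  let φ : ↥(P : Subgroup X) → ↥(P : Subgroup X) := fun s =>
    ⟨s * (l * (s : X)⁻¹ * l⁻¹), mul_mem s.2 ((mem_normalizer_iff.1 hlP _).1 (inv_mem s.2))⟩
  have hinj : Function.Injective φ := by
    intro s t hst
    have h1 : (s : X) * (l * (s : X)⁻¹ * l⁻¹) = t * (l * (t : X)⁻¹ * l⁻¹) := congrArg Subtype.val hst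
    have h2 : l * ((t : X)⁻¹ * s) = ((t : X)⁻¹ * s) * l := by
      have h3 : (t : X)⁻¹ * (s * (l * (s : X)⁻¹ * l⁻¹)) = l * (t : X)⁻¹ * l⁻¹ := by
        rw [h1]; group
      calc l * ((t : X)⁻¹ * s) = (l * (t : X)⁻¹ * l⁻¹) * (l * s) := by group
        _ = (t : X)⁻¹ * (s * (l * (s : X)⁻¹ * l⁻¹)) * (l * s) := by rw [h3]
        _ = ((t : X)⁻¹ * s) * l := by group
    have h3 := hfixP _ (mul_mem (inv_mem t.2) s.2) h2
    exact Subtype.ext (inv_mul_eq_one.1 h3).symm
  have hsurj : Function.Surjective φ := Finite.surjective_of_injective hinj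
  intro p hp
  obtain ⟨s, hsp⟩ := hsurj ⟨p, hp⟩
  have h1 : (s : X) * (l * (s : X)⁻¹ * l⁻¹) = p := congrArg Subtype.val hsp
  have e : (s : X) * (l * (s : X)⁻¹ * l⁻¹) = (s * l * (s : X)⁻¹) * l⁻¹ := by group
  rw [← h1, e]
  exact mul_mem (hLn.conj_mem l hl s) (inv_mem hl)

theorem big {L : Subgroup X} (hL : Cfsg.IsComponent L) : Big P L where
  ne := by
    obtain ⟨a, ha, ha1, -⟩ := exists_two hs
    exact ⟨a, hs.AS ha, ha1⟩
  normal := component_normal hs hc hL
  le := le_component hs hc hA hL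
  simple := by
    have hbot := center_eq_bot hs hc hA hL
    haveI : IsSimpleGroup (L ⧸ center L) := hL.2.2
    have e : L ≃* L ⧸ center L :=
      ((QuotientGroup.quotientMulEquivOfEq hbot).trans QuotientGroup.quotientBot).symm
    haveI : Nontrivial L := e.toEquiv.nontrivial
    exact IsSimpleGroup.isSimpleGroup_of_surjective e.symm.toMonoidHom e.symm.surjective
  ben := by
    haveI := hs.finA
    have hle := le_component hs hc hA hL
    rcases (tCon hs hc hA hL).alt with h | h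
    · exfalso
      have h1 : (P : Subgroup X) ≤ A := by
        intro s hsP
        exact hs.inv s hsP (congrArg Subtype.val (h (P.subtype hle) ⟨s, hle hsP⟩ hsP))
      have h2 := Subgroup.card_le_of_le h1
      rw [hs.cardS, hs.cardA] at h2
      omega
    · exact h
  cent := centralizer_eq_bot hs hc hA hL

end LayerCase

namespace Big

variable {P : Sylow 2 X} {L : Subgroup X} (h : Big P L)

include h

theorem all_le (R : Sylow 2 X) : (R : Subgroup X) ≤ L := by
  haveI := h.normal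
  haveI : Fact (Nat.Prime 2) := ⟨Nat.prime_two⟩
  obtain ⟨g, hg⟩ := MulAction.exists_smul_eq X P R
  rw [← hg]
  rintro _ ⟨s, hs, rfl⟩
  exact h.normal.conj_mem s (h.le hs) g

theorem ti {R R' : Sylow 2 X} (hne : R ≠ R') {x : X} (hx : x ∈ (R : Subgroup X)) (hx' : x ∈ (R' : Subgroup X)) :
    x = 1 := by
  have h1 := h.ben.ti (R.subtype (h.all_le R)) (R'.subtype (h.all_le R')) (fun e => hne (Sylow.subtype_injective e))
  have h2 : (⟨x, h.all_le R hx⟩ : L) ∈
      ((R.subtype (h.all_le R) : Sylow 2 L) : Subgroup L) ⊓ (R'.subtype (h.all_le R') : Sylow 2 L) :=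
    mem_inf.2 ⟨hx, hx'⟩
  rw [h1, mem_bot] at h2
  exact congrArg Subtype.val h2

theorem card : Nat.card (Sylow 2 X) = 1 + Nat.card (P : Subgroup X) := by
  haveI : Fact (Nat.Prime 2) := ⟨Nat.prime_two⟩
  let f : Sylow 2 X → Sylow 2 L := fun R => R.subtype (h.all_le R)
  have hinj : Function.Injective f := fun R R' e => Sylow.subtype_injective e
  have hsurj : Function.Surjective f := by
    intro T
    obtain ⟨l, hl⟩ := MulAction.exists_smul_eq L (P.subtype h.le) T
    refine ⟨l • P, ?_⟩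
    rw [← hl, Sylow.smul_subtype]
  have h1 : Nat.card (Sylow 2 X) = Nat.card (Sylow 2 L) := Nat.card_congr (Equiv.ofBijective f ⟨hinj, hsurj⟩)
  rw [h1, h.ben.card (P.subtype h.le)]
  congr 1
  exact Nat.card_congr (subgroupOfEquivOfLe h.le).toEquiv

omit h [Finite X] in
/-- a 2-element which normalizes a Sylow subgroup lies in it -/
theorem mem_of_smul_eq {R : Sylow 2 X} {x : X} {k : ℕ} (hx : x ^ 2 ^ k = 1) (hxR : x • R = R) :
    x ∈ (R : Subgroup X) := by
  haveI : Fact (Nat.Prime 2) := ⟨Nat.prime_two⟩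
  rw [Sylow.smul_eq_iff_mem_normalizer] at hxR
  have h4 := (isPGroup_zpowers_of_pow hx).inf_normalizer_sylow R
  exact (h4.le (mem_inf.2 ⟨mem_zpowers _, hxR⟩)).2

theorem eq_of_smul_eq {R : Sylow 2 X} {x : X} (hx : x ∈ (P : Subgroup X)) (hx1 : x ≠ 1) (hxR : x • R = R) :
    R = P := by
  by_contra hne
  obtain ⟨k, hk⟩ := P.2 ⟨x, hx⟩
  have hk' : x ^ 2 ^ k = 1 := congrArg Subtype.val hk
  exact hx1 (h.ti hne (mem_of_smul_eq hk' hxR) hx)

omit h [Finite X] in
theorem smul_self {x : X} (hx : x ∈ (P : Subgroup X)) : x • P = P :=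
  Sylow.smul_eq_iff_mem_normalizer.2 (le_normalizer hx)

/-- `P` is transitive on the other Sylow subgroups. -/
theorem exists_smul {R R' : Sylow 2 X} (hR : R ≠ P) (hR' : R' ≠ P) :
    ∃ s ∈ (P : Subgroup X), s • R = R' := by
  haveI : Fact (Nat.Prime 2) := ⟨Nat.prime_two⟩
  let f : ↥(P : Subgroup X) → {Q : Sylow 2 X // Q ≠ P} := fun s => ⟨(s : X) • R, fun e => hR (by
    have h1 : (s : X)⁻¹ • ((s : X) • R) = (s : X)⁻¹ • P := by rw [e]
    rw [inv_smul_smul, smul_self (inv_mem s.2)] at h1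
    exact h1)⟩
  have hinj : Function.Injective f := by
    intro s t hst
    have h1 : (s : X) • R = (t : X) • R := congrArg Subtype.val hst
    by_contra hne
    refine hR (h.eq_of_smul_eq (x := (t : X)⁻¹ * s) (mul_mem (inv_mem t.2) s.2) ?_ ?_)
    · intro e
      exact hne (Subtype.ext (inv_mul_eq_one.1 e).symm)
    · rw [mul_smul, h1, inv_smul_smul]
  have hcard : Nat.card {Q : Sylow 2 X // Q ≠ P} = Nat.card (P : Subgroup X) := by
    have h1 := h.card
    have h2 : Nat.card {Q : Sylow 2 X // Q ≠ P} + 1 = Nat.card (Sylow 2 X) := by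
      haveI : Fintype (Sylow 2 X) := Fintype.ofFinite _
      classical
      rw [Nat.card_eq_fintype_card, Nat.card_eq_fintype_card, Fintype.card_subtype_compl,
        Fintype.card_subtype_eq]
      exact Nat.sub_add_cancel (Fintype.card_pos_iff.2 ⟨P⟩)
    omega
  have hbij : Function.Bijective f := (Nat.bijective_iff_injective_and_card f).2 ⟨hinj, hcard.symm⟩
  obtain ⟨s, hs⟩ := hbij.2 ⟨R', hR'⟩
  exact ⟨s, s.2, congrArg Subtype.val hs⟩

/-- An element which fixes all Sylow subgroups is trivial. -/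
theorem eq_one_of_fixes {y : X} (hy : ∀ R : Sylow 2 X, y • R = R) : y = 1 := by
  haveI : Fact (Nat.Prime 2) := ⟨Nat.prime_two⟩
  haveI := h.normal
  haveI := h.simple
  set K : Subgroup X := (MulAction.toPermHom X (Sylow 2 X)).ker with hK
  have hmem : ∀ x : X, x ∈ K ↔ ∀ R : Sylow 2 X, x • R = R := by
    intro x
    rw [hK, MonoidHom.mem_ker, Equiv.Perm.ext_iff]
    rfl
  have hKn : K.Normal := MonoidHom.normal_ker _
  rcases GoldAS.inf_eq_bot_or_le h.simple hKn with h1 | h1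
  · have h2 : y ∈ centralizer (L : Set X) := by
      rw [mem_centralizer_iff]
      intro m hm
      have h3 : m * y * m⁻¹ * y⁻¹ ∈ K ⊓ L := by
        refine mem_inf.2 ⟨mul_mem (hKn.conj_mem y ((hmem y).2 hy) m) (inv_mem ((hmem y).2 hy)), ?_⟩
        have e : m * y * m⁻¹ * y⁻¹ = m * (y * m⁻¹ * y⁻¹) := by group
        rw [e]
        exact mul_mem hm (h.normal.conj_mem _ (inv_mem hm) y)
      rw [h1, mem_bot] at h3
      calc m * y = (m * y * m⁻¹ * y⁻¹) * (y * m) := by group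
        _ = y * m := by rw [h3, one_mul]
    rw [h.cent, mem_bot] at h2
    exact h2
  · exfalso
    -- there is another Sylow subgroup
    have h2 := h.card
    have h3 : 0 < Nat.card (P : Subgroup X) := Nat.card_pos
    haveI : Finite (Sylow 2 X) := inferInstance
    have h4 : 1 < Nat.card (Sylow 2 X) := by omega
    haveI : Nontrivial (Sylow 2 X) := (Finite.one_lt_card_iff_nontrivial).1 h4
    obtain ⟨R, hR⟩ := exists_ne P
    obtain ⟨x, hx, hx1⟩ := h.ne
    exact hR (h.eq_of_smul_eq hx hx1 ((hmem x).1 (h1 (h.le hx)) R))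

/-- Elements of odd order which centralize `P` are trivial. -/
theorem eq_one_of_commutes {y : X} (hy : ∀ s ∈ (P : Subgroup X), y * s = s * y) (hodd : Odd (orderOf y)) :
    y = 1 := by
  haveI : Fact (Nat.Prime 2) := ⟨Nat.prime_two⟩
  have hyP : y • P = P := by
    rw [Sylow.smul_eq_iff_mem_normalizer]
    change y ∈ normalizer ((P : Subgroup X) : Set X)
    rw [mem_normalizer_iff]
    intro x
    constructor
    · intro hx
      rw [hy x hx, mul_inv_cancel_right]
      exact hx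
    · intro hx
      have h1 := hy _ hx
      have e : x = y * x * y⁻¹ := by
        have h2 : y * (y * x * y⁻¹) = y * x := by rw [h1]; group
        exact (mul_left_cancel h2).symm
      rw [e]; exact hx
  apply h.eq_one_of_fixes
  intro R
  by_cases hR : R = P
  · rw [hR, hyP]
  have hyR : y • R ≠ P := by
    intro e
    apply hR
    have h1 : y⁻¹ • (y • R) = y⁻¹ • P := by rw [e]
    rw [inv_smul_smul] at h1
    rw [h1, inv_smul_eq_iff, hyP]
  obtain ⟨s, hs, hsR⟩ := h.exists_smul hR hyR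
  have hpow : ∀ n : ℕ, y ^ n • R = s ^ n • R := by
    intro n
    induction n with
    | zero => simp
    | succ n ih =>
      have e1 : y * s ^ n = s ^ n * y := (Commute.pow_right (show Commute y s from hy s hs) n).eq
      calc y ^ (n + 1) • R = y • (y ^ n • R) := by rw [pow_succ', mul_smul]
        _ = (y * s ^ n) • R := by rw [ih, mul_smul]
        _ = s ^ n • (y • R) := by rw [e1, mul_smul]
        _ = s ^ (n + 1) • R := by rw [← hsR, pow_succ, mul_smul]
  have h1 := hpow (orderOf y)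
  rw [pow_orderOf_eq_one, one_smul] at h1
  by_cases hs1 : s ^ orderOf y = 1
  · obtain ⟨k, hk⟩ := P.2 ⟨s, hs⟩
    have hk' : s ^ 2 ^ k = 1 := congrArg Subtype.val hk
    have h2 : orderOf s ∣ 2 ^ k := orderOf_dvd_of_pow_eq_one hk'
    have h3 : orderOf s ∣ orderOf y := orderOf_dvd_of_pow_eq_one hs1
    have h4 : Nat.Coprime (2 ^ k) (orderOf y) := Nat.Coprime.pow_left k (Nat.coprime_two_left.2 hodd)
    have h5 := Nat.eq_one_of_dvd_coprimes h4 h2 h3
    rw [orderOf_eq_one_iff] at h5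
    rw [← hsR, h5, one_smul]
  · exact absurd (h.eq_of_smul_eq (pow_mem hs _) hs1 h1.symm) hR

omit h [Finite X] in
theorem odd_orderOf {Y : Subgroup X} (hY : Odd (Nat.card Y)) {y : X} (hy : y ∈ Y) : Odd (orderOf y) := by
  have h1 := _root_.orderOf_dvd_natCard (⟨y, hy⟩ : Y)
  rw [← orderOf_coe] at h1
  exact Odd.of_dvd_nat hY h1

/-- `P`-invariant subgroups of odd order are trivial. -/
theorem inv_eq_bot {A : Subgroup X} (hs : Syl (P : Subgroup X) A) {Y : Subgroup X} (hY : Odd (Nat.card Y))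
    (hPY : (P : Subgroup X) ≤ normalizer (Y : Set X)) : Y = ⊥ := by
  haveI : Fact (Nat.Prime 2) := ⟨Nat.prime_two⟩
  have hdisj : ∀ x ∈ Y, x ∈ (P : Subgroup X) → x = 1 := by
    intro x hx hxP
    obtain ⟨k, hk⟩ := P.2 ⟨x, hxP⟩
    have hk' : x ^ 2 ^ k = 1 := congrArg Subtype.val hk
    have h4 : Nat.Coprime (2 ^ k) (orderOf x) := Nat.Coprime.pow_left k (Nat.coprime_two_left.2 (odd_orderOf hY hx))
    exact orderOf_eq_one_iff.1 (Nat.eq_one_of_dvd_coprimes h4 (orderOf_dvd_of_pow_eq_one hk') dvd_rfl)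
  -- `N_Y(P) = 1`
  have hNY : ∀ y ∈ Y, y • P = P → y = 1 := by
    intro y hy hyP
    rw [Sylow.smul_eq_iff_mem_normalizer] at hyP
    refine h.eq_one_of_commutes ?_ (odd_orderOf hY hy)
    intro s hsP
    have h1 : y * s * y⁻¹ * s⁻¹ ∈ (P : Subgroup X) :=
      mul_mem ((mem_normalizer_iff.1 hyP s).1 hsP) (inv_mem hsP)
    have h2 : y * s * y⁻¹ * s⁻¹ ∈ Y := by
      have e : y * s * y⁻¹ * s⁻¹ = y * (s * y⁻¹ * s⁻¹) := by group
      rw [e]
      exact mul_mem hy ((mem_normalizer_iff.1 (hPY hsP) _).1 (inv_mem hy))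
    have h3 := hdisj _ h2 h1
    calc y * s = (y * s * y⁻¹ * s⁻¹) * (s * y) := by group
      _ = s * y := by rw [h3, one_mul]
  -- involutions of `A` invert `Y`
  have hfix : ∀ a ∈ A, a ≠ 1 → ∀ y ∈ Y, a * y = y * a → y = 1 := by
    intro a ha ha1 y hy hay
    apply hNY y hy
    refine h.eq_of_smul_eq (hs.AS ha) ha1 ?_
    rw [← mul_smul, hay, mul_smul, smul_self (hs.AS ha)]
  have hinv : ∀ a ∈ A, a ≠ 1 → ∀ y ∈ Y, a * y * a⁻¹ = y⁻¹ := by
    intro a ha ha1 y hy
    haveI : Finite Y := inferInstance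
    have haY := hPY (hs.AS ha)
    let φ : Y → Y := fun x => ⟨(x : X)⁻¹ * (a * x * a⁻¹), mul_mem (inv_mem x.2) ((mem_normalizer_iff.1 haY _).1 x.2)⟩
    have hinj : Function.Injective φ := by
      intro u v huv
      have h1 : (u : X)⁻¹ * (a * u * a⁻¹) = (v : X)⁻¹ * (a * v * a⁻¹) := congrArg Subtype.val huv
      have h2 : a * (u * (v : X)⁻¹) = (u * (v : X)⁻¹) * a := by
        have h3 : a * u * a⁻¹ = u * ((v : X)⁻¹ * (a * v * a⁻¹)) := by rw [← h1]; group
        calc a * (u * (v : X)⁻¹) = (a * u * a⁻¹) * (a * (v : X)⁻¹) := by group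
          _ = u * ((v : X)⁻¹ * (a * v * a⁻¹)) * (a * (v : X)⁻¹) := by rw [h3]
          _ = (u * (v : X)⁻¹) * a := by group
      have h3 := hfix a ha ha1 _ (mul_mem u.2 (inv_mem v.2)) h2
      exact Subtype.ext (mul_inv_eq_one.1 h3)
    obtain ⟨x, hx⟩ := Finite.surjective_of_injective hinj ⟨y, hy⟩
    have h1 : (x : X)⁻¹ * (a * x * a⁻¹) = y := congrArg Subtype.val hx
    have haa : a * a = 1 := hs.sq a ha
    have hai : a⁻¹ = a := inv_eq_of_mul_eq_one_left haa
    rw [← h1, hai]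
    calc a * ((x : X)⁻¹ * (a * x * a)) * a = a * (x : X)⁻¹ * a * x * (a * a) := by group
      _ = a * (x : X)⁻¹ * a * x := by rw [haa, mul_one]
      _ = ((x : X)⁻¹ * (a⁻¹ * x * a⁻¹))⁻¹ := by group
      _ = ((x : X)⁻¹ * (a * x * a))⁻¹ := by rw [hai]
  obtain ⟨a, ha, ha1, b, hb, hb1, hab⟩ := exists_two hs
  have hab1 : a * b ≠ 1 := by
    intro e
    apply hab
    have h1 : a = b⁻¹ := eq_inv_of_mul_eq_one_left e
    rw [h1, inv_eq_of_mul_eq_one_left (hs.sq b hb)]
  rw [Subgroup.eq_bot_iff_forall]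
  intro y hy
  refine hfix (a * b) (mul_mem ha hb) hab1 y hy ?_
  have h1 := hinv b hb hb1 y hy
  have h2 := hinv a ha ha1 y⁻¹ (inv_mem hy)
  rw [inv_inv] at h2
  calc a * b * y = a * (b * y * b⁻¹) * a⁻¹ * (a * b) := by group
    _ = y * (a * b) := by rw [h1, h2]

end Big

omit [Finite X] in
/-- Elements of odd order: if `h` moves `u` by a 2-element which commutes with `h`, then `h` commutes with `u`. -/
theorem comm_of_odd {h u d : X} (hd : h * d = d * h) (hu : h * u * h⁻¹ = u * d) (hodd : Odd (orderOf h)) {k : ℕ}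
    (hk : d ^ 2 ^ k = 1) : h * u = u * h := by
  have hu' : h * u = u * d * h := by rw [← hu]; group
  have key : ∀ n : ℕ, h ^ n * u = u * d ^ n * h ^ n := by
    intro n
    induction n with
    | zero => simp
    | succ n ih =>
      have e1 : h * d ^ n = d ^ n * h := (Commute.pow_right (show Commute h d from hd) n).eq
      calc h ^ (n + 1) * u = h * (h ^ n * u) := by rw [pow_succ', mul_assoc]
        _ = h * u * d ^ n * h ^ n := by rw [ih]; group
        _ = u * d * (h * d ^ n) * h ^ n := by rw [hu']; group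
        _ = u * (d * d ^ n) * (h * h ^ n) := by rw [e1]; group
        _ = u * d ^ (n + 1) * h ^ (n + 1) := by rw [pow_succ' d, pow_succ' h]
  have h1 := key (orderOf h)
  rw [pow_orderOf_eq_one, one_mul, mul_one] at h1
  have h2 : d ^ orderOf h = 1 := by
    have : u * 1 = u * d ^ orderOf h := by rw [mul_one]; exact h1
    exact (mul_left_cancel this).symm
  have h3 : orderOf d ∣ orderOf h := orderOf_dvd_of_pow_eq_one h2
  have h4 : orderOf d ∣ 2 ^ k := orderOf_dvd_of_pow_eq_one hk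
  have h5 : Nat.Coprime (2 ^ k) (orderOf h) := Nat.Coprime.pow_left k (Nat.coprime_two_left.2 hodd)
  have h6 := Nat.eq_one_of_dvd_coprimes h5 h4 h3
  rw [orderOf_eq_one_iff] at h6
  rw [hu', h6, mul_one]

section Final

universe u

variable {X : Type u} [Group X] [Finite X] {𝒜 : Set X} {P : Sylow 2 X} {A : Subgroup X}
  (hs : Syl (P : Subgroup X) A) (hc : Ctx 𝒜) (hA : ∀ x ∈ A, x ∈ 𝒜)

include hs hc hA

/-- (INV), local form. -/
theorem inv_eq_bot {Y : Subgroup X} (hY : Odd (Nat.card Y)) (hPY : (P : Subgroup X) ≤ normalizer (Y : Set X)) :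
    Y = ⊥ := by
  haveI : Fact (Nat.Prime 2) := ⟨Nat.prime_two⟩
  by_cases hL : ∃ L : Subgroup X, Cfsg.IsComponent L
  · obtain ⟨L, hL⟩ := hL
    exact (big hs hc hA hL).inv_eq_bot hs hY hPY
  · refine Cfsg.Agent.SignalizersComponents.OddFixed.eq_bot_of_centralizes hc.core ?_ ?_
      (fun L hL' => absurd ⟨L, hL'⟩ hL)
    · exact Nat.coprime_two_right.2 hY
    · intro y hy u hu
      have huP : u ∈ (P : Subgroup X) := Cfsg.Agent.Lib.Cores.pCore_le_sylow P hu
      have hn : (Cfsg.pCore 2 X).Normal := Cfsg.Agent.Lib.Cores.pCore_normal 2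
      have h1 : y * u * y⁻¹ * u⁻¹ ∈ Cfsg.pCore 2 X := mul_mem (hn.conj_mem u hu y) (inv_mem hu)
      have h2 : y * u * y⁻¹ * u⁻¹ ∈ Y := by
        have e : y * u * y⁻¹ * u⁻¹ = y * (u * y⁻¹ * u⁻¹) := by group
        rw [e]
        exact mul_mem hy ((mem_normalizer_iff.1 (hPY huP) _).1 (inv_mem hy))
      have h3 : y * u * y⁻¹ * u⁻¹ = 1 := by
        obtain ⟨k, hk⟩ := P.2 ⟨_, Cfsg.Agent.Lib.Cores.pCore_le_sylow P h1⟩
        have hk' : (y * u * y⁻¹ * u⁻¹) ^ 2 ^ k = 1 := congrArg Subtype.val hk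
        have h4 : Nat.Coprime (2 ^ k) (orderOf (y * u * y⁻¹ * u⁻¹)) :=
          Nat.Coprime.pow_left k (Nat.coprime_two_left.2 (Big.odd_orderOf hY h2))
        exact orderOf_eq_one_iff.1 (Nat.eq_one_of_dvd_coprimes h4 (orderOf_dvd_of_pow_eq_one hk') dvd_rfl)
      change y * u = u * y
      calc y * u = (y * u * y⁻¹ * u⁻¹) * (u * y) := by group
        _ = u * y := by rw [h3, one_mul]

/-- If `A` is central there is no component. -/
theorem no_component (hcen : ∀ a ∈ A, ∀ x : X, a * x = x * a) {L : Subgroup X} (hL : Cfsg.IsComponent L) :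
    False := by
  obtain ⟨a, ha, ha1, -⟩ := exists_two hs
  refine ha1 (eq_one_of_central hs hc hA hL ha ?_)
  rw [mem_centralizer_iff]
  intro x _
  exact (hcen a ha x).symm

/-- If `A` is central then `P = O₂(X)`. -/
theorem eq_pCore (hcen : ∀ a ∈ A, ∀ x : X, a * x = x * a) : (P : Subgroup X) = Cfsg.pCore 2 X := by
  haveI : Fact (Nat.Prime 2) := ⟨Nat.prime_two⟩
  have hn : (Cfsg.pCore 2 X).Normal := Cfsg.Agent.Lib.Cores.pCore_normal 2
  have hQP := Cfsg.Agent.Lib.Cores.pCore_le_sylow P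
  let D : Subgroup X :=
    { carrier := {x | ∀ q ∈ Cfsg.pCore 2 X, x * q * x⁻¹ * q⁻¹ ∈ A}
      one_mem' := by
        intro q _
        simp
      mul_mem' := by
        intro x y hx hy q hq
        have e : x * y * q * (x * y)⁻¹ * q⁻¹ = x * (y * q * y⁻¹ * q⁻¹) * x⁻¹ * (x * q * x⁻¹ * q⁻¹) := by group
        rw [e, ← hcen _ (hy q hq) x, mul_inv_cancel_right]
        exact mul_mem (hy q hq) (hx q hq)
      inv_mem' := by
        intro x hx q hq
        have e : x⁻¹ * q * x⁻¹⁻¹ * q⁻¹ = x⁻¹ * (x * q * x⁻¹ * q⁻¹)⁻¹ * x := by group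
        rw [e, ← hcen _ (inv_mem (hx q hq)) x⁻¹, mul_assoc, inv_mul_cancel, mul_one]
        exact inv_mem (hx q hq) }
  have hD : ∀ x, x ∈ D ↔ ∀ q ∈ Cfsg.pCore 2 X, x * q * x⁻¹ * q⁻¹ ∈ A := fun x => Iff.rfl
  have hDn : D.Normal := by
    refine ⟨fun x hx g => ?_⟩
    rw [hD] at hx ⊢
    intro q hq
    have h1 : g⁻¹ * q * g ∈ Cfsg.pCore 2 X := by
      have := hn.conj_mem q hq g⁻¹
      rwa [inv_inv] at this
    have h2 := hx _ h1
    have e : g * x * g⁻¹ * q * (g * x * g⁻¹)⁻¹ * q⁻¹ =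
        g * (x * (g⁻¹ * q * g) * x⁻¹ * (g⁻¹ * q * g)⁻¹) * g⁻¹ := by group
    rw [e, ← hcen _ h2 g, mul_inv_cancel_right]
    exact h2
  have hPD : (P : Subgroup X) ≤ D := fun x hx q hq => hs.comm x hx q (hQP hq)
  have hD2 : IsPGroup 2 D := by
    rw [IsPGroup.iff_orderOf]
    intro d
    obtain ⟨k, m, hm, hkm⟩ := Nat.exists_eq_two_pow_mul_odd (n := orderOf d) (orderOf_pos d).ne'
    have h1 : orderOf (d ^ 2 ^ k) = m := by
      rw [orderOf_pow_of_dvd (by positivity) (by rw [hkm]; exact Dvd.intro _ rfl), hkm,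
        Nat.mul_div_cancel_left _ (by positivity)]
    set x : X := ((d ^ 2 ^ k : D) : X) with hx
    have hxo : Odd (orderOf x) := by
      rw [hx, orderOf_coe, h1]; exact hm
    have hxD := (hD x).1 (d ^ 2 ^ k).2
    have hxQ : x ∈ Cfsg.pCore 2 X := by
      refine GoldNZero.mem_pCore_of_centralizes hc.core ?_ (fun L hL => (no_component hs hc hA hcen hL).elim)
      intro q hq
      have h2 := hxD q hq
      have h3 : x * q * x⁻¹ = q * (x * q * x⁻¹ * q⁻¹) := by
        rw [← hcen _ h2 q]; group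
      have h4 := hs.sq _ h2
      exact (comm_of_odd (k := 1) (hcen _ h2 x).symm h3 hxo (by rw [pow_one, pow_two]; exact h4)).symm
    have h2 : x = 1 := by
      obtain ⟨j, hj⟩ := P.2 ⟨x, hQP hxQ⟩
      have hj' : x ^ 2 ^ j = 1 := congrArg Subtype.val hj
      have h4 : Nat.Coprime (2 ^ j) (orderOf x) := Nat.Coprime.pow_left j (Nat.coprime_two_left.2 hxo)
      exact orderOf_eq_one_iff.1 (Nat.eq_one_of_dvd_coprimes h4 (orderOf_dvd_of_pow_eq_one hj') dvd_rfl)
    have h3 : m = 1 := by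
      rw [← h1]
      rw [orderOf_eq_one_iff]
      exact Subtype.ext h2
    exact ⟨k, by rw [hkm, h3, mul_one]⟩
  exact le_antisymm (hPD.trans (Cfsg.Agent.Lib.Cores.le_pCore hDn hD2)) hQP

/-- If `A` is central, elements of odd order which commute with an element of `P ∖ A` are trivial. -/
theorem eq_one_of_comm (hcen : ∀ a ∈ A, ∀ x : X, a * x = x * a) {h v : X} (hodd : Odd (orderOf h))
    (hv : v ∈ (P : Subgroup X)) (hvA : v ∉ A) (hhv : h * v = v * h) : h = 1 := by
  haveI : Fact (Nat.Prime 2) := ⟨Nat.prime_two⟩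
  have hPc := eq_pCore hs hc hA hcen
  have hPn : (P : Subgroup X).Normal := by rw [hPc]; exact Cfsg.Agent.Lib.Cores.pCore_normal 2
  have h2el : ∀ x ∈ (P : Subgroup X), x ^ 2 ^ 2 = 1 := by
    intro x hx
    have e4 : x ^ 2 ^ 2 = (x ^ 2) ^ 2 := pow_mul x 2 2
    rw [e4, pow_two, pow_two]
    exact hs.sq _ (hs.sq_mem hx)
  -- `h` centralizes `C_P(v)`
  have h1 : ∀ c ∈ (P : Subgroup X), c * v = v * c → h * c = c * h := by
    intro c hcP hcv
    have hA' : ∀ x ∈ hs.two hv, h * x = x * h := by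
      intro x hx
      rcases (hs.mem_two hv).1 hx with h3 | h3
      · exact (hcen x h3 h).symm
      · have e : x = v * (v⁻¹ * x) := by group
        rw [e, ← mul_assoc, hhv, mul_assoc, ← hcen _ h3 h]; group
    by_cases hc2 : c ∈ hs.two hv
    · exact hA' c hc2
    have hc'P : h * c * h⁻¹ ∈ (P : Subgroup X) := hPn.conj_mem c hcP h
    have hc'v : h * c * h⁻¹ * v = v * (h * c * h⁻¹) := by
      calc h * c * h⁻¹ * v = h * c * (h⁻¹ * (v * h)) * h⁻¹ := by group
        _ = h * (c * v) * h⁻¹ := by rw [← hhv]; group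
        _ = h * v * c * h⁻¹ := by rw [hcv]; group
        _ = v * (h * c * h⁻¹) := by rw [hhv]; group
    have hc'2 : h * c * h⁻¹ ∉ hs.two hv := by
      intro h3
      apply hc2
      have h4 := hA' _ h3
      have e : c = h * c * h⁻¹ := by
        have h5 : h * (h * c * h⁻¹) = h * c := by rw [h4]; group
        exact (mul_left_cancel h5).symm
      rw [e]; exact h3
    have h3 := hs.cent_four hv hvA (inv_mem hcP) (by
      have : v * c⁻¹ = c⁻¹ * v := by
        calc v * c⁻¹ = c⁻¹ * (c * v) * c⁻¹ := by group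
          _ = c⁻¹ * v := by rw [hcv]; group
      exact this) hc'P hc'v.symm (fun h4 => hc2 (inv_mem_iff.1 h4)) hc'2
    refine comm_of_odd (d := c⁻¹ * (h * c * h⁻¹)) (k := 2) (hA' _ h3) (by group) hodd ?_
    exact h2el _ (mul_mem (inv_mem hcP) hc'P)
  -- `h` centralizes `P`
  have h2 : ∀ u ∈ (P : Subgroup X), h * u = u * h := by
    intro u hu
    have hu'P : h * u * h⁻¹ ∈ (P : Subgroup X) := hPn.conj_mem u hu h
    have hd : (u⁻¹ * (h * u * h⁻¹)) * v = v * (u⁻¹ * (h * u * h⁻¹)) := by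
      have e1 : k v (h * u * h⁻¹) = k v u := by
        have e2 : k v (h * u * h⁻¹) = h * k v u * h⁻¹ := by
          have e3 : v = h * v * h⁻¹ := by rw [hhv]; group
          calc k v (h * u * h⁻¹) = k (h * v * h⁻¹) (h * u * h⁻¹) := by rw [← e3]
            _ = h * k v u * h⁻¹ := by unfold k; group
        rw [e2, ← hcen _ (hs.k_mem hv hu) h, mul_inv_cancel_right]
      have e4 : k v (u⁻¹ * (h * u * h⁻¹)) = 1 := by
        rw [hs.k_mul_right hv (inv_mem hu) hu'P, e1, ← hs.k_mul_right hv (inv_mem hu) hu, inv_mul_cancel]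
        simp [k]
      exact (k_eq_one_iff.1 e4).symm
    refine comm_of_odd (d := u⁻¹ * (h * u * h⁻¹)) (k := 2) (h1 _ (mul_mem (inv_mem hu) hu'P) hd) (by group)
      hodd (h2el _ (mul_mem (inv_mem hu) hu'P))
  have hxQ : h ∈ Cfsg.pCore 2 X := by
    refine GoldNZero.mem_pCore_of_centralizes hc.core ?_ (fun L hL => (no_component hs hc hA hcen hL).elim)
    intro q hq
    rw [← hPc] at hq
    exact (h2 q hq).symm
  rw [← hPc] at hxQ
  have h4 : Nat.Coprime (2 ^ 2) (orderOf h) := Nat.Coprime.pow_left 2 (Nat.coprime_two_left.2 hodd)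
  exact orderOf_eq_one_iff.1 (Nat.eq_one_of_dvd_coprimes h4 (orderOf_dvd_of_pow_eq_one (h2el h hxQ)) dvd_rfl)

end Final

section Export

universe u

variable {X : Type u} [Group X] [Finite X]

/-- The family of all elements with square 1 is an elementary closed family. -/
theorem isElemFam_sq {P : Sylow 2 X} {A : Subgroup X} (hs : Syl (P : Subgroup X) A) :
    IsElemFam {x : X | x * x = 1} where
  one_mem := mul_one 1
  conj_mem := by
    intro x hx g
    change g * x * g⁻¹ * (g * x * g⁻¹) = 1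
    have e : g * x * g⁻¹ * (g * x * g⁻¹) = g * (x * x) * g⁻¹ := by group
    rw [e, show x * x = 1 from hx]; group
  two := by
    intro x hx
    exact ⟨1, by rw [pow_one, pow_two]; exact hx⟩
  mul_mem := by
    intro Q hQ x hx y hy hxx hyy
    obtain ⟨g, hg⟩ := exists_conj_le P hQ
    have hA : ∀ z ∈ Q, z * z = 1 → g * z * g⁻¹ ∈ A := by
      intro z hz hzz
      refine hs.inv _ (hg z hz) ?_
      have e : g * z * g⁻¹ * (g * z * g⁻¹) = g * (z * z) * g⁻¹ := by group
      rw [e, hzz]; group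
    have h1 := hs.sq _ (mul_mem (hA x hx hxx) (hA y hy hyy))
    change x * y * (x * y) = 1
    have e : x * y * (x * y) = g⁻¹ * (g * x * g⁻¹ * (g * y * g⁻¹) * (g * x * g⁻¹ * (g * y * g⁻¹))) * g := by group
    rw [e, h1]; group
  sq := fun x hx => hx

/-- **(INV)**, local form: if `T` is a Sylow 2-subgroup like the one of `PSU(3,4)` in a group without odd core,
then the `T`-invariant subgroups of odd order are trivial. -/
theorem inv (hO : Cfsg.oddCore X = ⊥) {T A : Subgroup X} (h : GoldM1Loc.Loc T A) (hT : ¬ 2 ∣ T.index)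
    (hTP : ∀ K : Subgroup X, Cfsg.IsComponent K → TProp (↥K ⧸ center ↥K)) {Y : Subgroup X}
    (hY : Odd (Nat.card Y)) (hTY : T ≤ normalizer (Y : Set X)) : Y = ⊥ := by
  haveI : Fact (Nat.Prime 2) := ⟨Nat.prime_two⟩
  have hT2 : IsPGroup 2 T := IsPGroup.of_card (n := 6) (by rw [h.cardS]; norm_num)
  obtain ⟨P, hP⟩ : ∃ P : Sylow 2 X, (P : Subgroup X) = T := ⟨hT2.toSylow hT, rfl⟩
  have hs : Syl (P : Subgroup X) A := by
    rw [hP]
    exact ⟨h.cardS, h.AS, h.cardA, h.cen, h.sq, h.inv, h.comm, h.surj⟩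
  have hc : Ctx {x : X | x * x = 1} := ⟨isElemFam_sq hs, hO, hTP⟩
  exact inv_eq_bot hs hc (fun x hx => hs.sq x hx) hY (by rw [hP]; exact hTY)

end Export

end Cfsg.Agent.TwoFusion.GoldM1Inv
end

-- part: TwoFusion/GoldM1Glue
section
/-!
# Case [M1] of Goldschmidt's theorem (S1169): the frame holds in the minimal counterexample

`exists_frame`: the frame holds.
-/

set_option autoImplicit false

namespace Cfsg.Agent.TwoFusion.GoldM1Glue

open Subgroup
open Cfsg.Agent.TwoFusion.ClosedFam Cfsg.Agent.TwoFusion.Gold Cfsg.Agent.TwoFusion.GoldSetup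
open Cfsg.Agent.TwoFusion.GoldM1Loc
open Cfsg.Agent.Classification.TypeB.Core (oc oc_def)

universe u

/-- Field `invCore` of the frame. -/
theorem inv_core {G : Type u} [Group G] [Finite G] {𝒜 : Set G} (h : Setup 𝒜) (S : Sylow 2 G)
    (hloc : Loc (S : Subgroup G) (fam 𝒜 (S : Subgroup G))) {H : Subgroup G} (hH : H ≠ ⊤)
    (hSH : (S : Subgroup G) ≤ H) {Y : Subgroup G} (hYH : Y ≤ H) (hY : Odd (Nat.card Y))
    (hSY : (S : Subgroup G) ≤ normalizer (Y : Set G)) : Y ≤ oc H := by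
  have : Fact (Nat.Prime 2) := ⟨Nat.prime_two⟩
  let f := QuotientGroup.mk' (Cfsg.oddCore H)
  have hf : Function.Surjective f := QuotientGroup.mk'_surjective _
  have hlocH := hloc.subgroupOf hSH
  have hSp : IsPGroup 2 ((S : Subgroup G).subgroupOf H) := IsPGroup.of_card (n := 6) (by rw [hlocH.cardS]; norm_num)
  have hinj : ∀ s ∈ (S : Subgroup G).subgroupOf H, f s = 1 → s = 1 := by
    intro s hs h1
    have h2 : s ∈ Cfsg.oddCore H := (QuotientGroup.eq_one_iff s).1 h1
    have h3 : (Nat.card (Cfsg.oddCore H)).Coprime 2 := Cfsg.Agent.Lib.Cores.pPrimeCore_coprime 2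
    have h4 : Disjoint ((S : Subgroup G).subgroupOf H) (Cfsg.oddCore H) := by
      apply Subgroup.disjoint_of_coprime_natCard
      rw [hlocH.cardS]
      have e : (64 : ℕ) = 2 ^ 6 := by norm_num
      rw [e]
      exact Nat.Coprime.pow_left 6 h3.symm
    exact (Subgroup.disjoint_def.1 h4) hs h2
  have hlocX := hlocH.map f hinj
  have hSX : ¬ 2 ∣ (((S : Subgroup G).subgroupOf H).map f).index := by
    intro h1
    have h2 : (((S : Subgroup G).subgroupOf H).map f).index ∣ ((S : Subgroup G).subgroupOf H).index :=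
      Subgroup.index_map_dvd _ hf
    have h3 : ((S : Subgroup G).subgroupOf H).index ∣ (S : Subgroup G).index :=
      Subgroup.relIndex_dvd_index_of_le hSH
    exact S.not_dvd_index ((h1.trans h2).trans h3)
  have hc := h.ctxAll H hH
  have key := GoldM1Inv.inv hc.core hlocX hSX hc.T (Y := (Y.subgroupOf H).map f) (by
      refine Odd.of_dvd_nat hY ((Subgroup.card_map_dvd _ _).trans ?_)
      rw [Nat.card_congr (subgroupOfEquivOfLe hYH).toEquiv]) (by
      apply ClosedFour.le_normalizer_of_conj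
      rintro _ ⟨s, hs, rfl⟩ _ ⟨y, hy, rfl⟩
      refine ⟨s * y * s⁻¹, ?_, by simp only [map_mul, map_inv]⟩
      exact (mem_normalizer_iff.1 (hSY hs) _).1 hy)
  have hoc : oc H = (Cfsg.oddCore H).map H.subtype := by
    rw [oc_def]
    exact (Cfsg.Agent.OddOrderLocal.UniqZL.map_pPrimeCore_eq 2 H).symm
  rw [hoc]
  intro y hy
  have h1 : f ⟨y, hYH hy⟩ ∈ (Y.subgroupOf H).map f := ⟨_, hy, rfl⟩
  rw [key, mem_bot] at h1
  exact ⟨⟨y, hYH hy⟩, (QuotientGroup.eq_one_iff _).1 h1, rfl⟩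

/-- The frame. -/
theorem exists_frame {G : Type u} [Group G] [Finite G] {𝒜 : Set G} (h : Setup 𝒜)
    (S : Sylow 2 G) (h4 : Nat.card (fam 𝒜 (S : Subgroup G)) = 4)
    (hO : ∀ x ∈ (S : Subgroup G), x * x = 1 → x ∈ fam 𝒜 (S : Subgroup G))
    (hna : ∃ x ∈ (S : Subgroup G), ∃ y ∈ (S : Subgroup G), x * y ≠ y * x)
    (hsolv : ∀ X : Subgroup G, Odd (Nat.card X) → Group.IsSolvable X) :
    ∃ g0 : G, GoldM1.Frame (S : Subgroup G) (fam 𝒜 (S : Subgroup G)) g0 := by
  obtain ⟨g0, hp⟩ := GoldM1Base.exists_pre h S h4 hO hna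
  have hloc : Loc (S : Subgroup G) (fam 𝒜 (S : Subgroup G)) :=
    ⟨hp.AS, hp.cardS, hp.cardA, hp.cen, hp.sq, hp.inv, hp.comm, hp.surj⟩
  have hCA : centralizer (fam 𝒜 (S : Subgroup G) : Set G) ≠ ⊤ := by
    intro ht
    obtain ⟨a, ha⟩ := Subgroup.ne_bot_iff_exists_ne_one.1 (h.fam_ne_bot S)
    have hc : (a : G) ∈ center G := by
      rw [mem_center_iff]
      intro g
      have hg : g ∈ centralizer (fam 𝒜 (S : Subgroup G) : Set G) := by rw [ht]; exact mem_top g
      exact ((mem_centralizer_iff.1 hg) a a.2).symm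
    rcases h.simple.eq_bot_or_eq_top_of_normal (center G) inferInstance with hb | hb
    · rw [hb, mem_bot] at hc
      exact ha (Subtype.ext hc)
    · obtain ⟨x, y, hxy⟩ := h.nonab
      have : y ∈ center G := by rw [hb]; exact mem_top y
      exact hxy (mem_center_iff.1 this x)
  obtain ⟨hn, hi⟩ := GoldM1CA.norm_and_index hloc hp.sylow (h.ctxAll _ hCA).T
  exact ⟨g0, hp.frame hsolv hn hi (fun H hH hSH Y hYH hY hSY => inv_core h S hloc hH hSH hYH hY hSY)
    (GoldM1SL.sl hp.cardS hp.sylow hp.cardA hp.cen hp.inv hp.comm hp.fact hn hi)⟩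

end Cfsg.Agent.TwoFusion.GoldM1Glue
end

private theorem dce_ff8ea1ffdda6 : _root_.True := by
  try have : _root_.True := by simp only [_root_.Sylow.mapSurjective.congr_simp]
  try have : _root_.True := by simp only [_root_.Cfsg.Agent.TwoFusion.GoldM1Base.Base.phi.congr_simp]
  exact _root_.True.intro
end
end
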