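import Cfsg.Agent.Lib.ComponentSolvable
import Cfsg.Agent.SignalizersComponents.BalanceAux
import Cfsg.Agent.SignalizersComponents.PCompCore
import Cfsg.Agent.TwoFusion.GoldM1Glue
import Cfsg.Agent.TwoFusion.GoldNorm_m3
import Cfsg.Agent.TwoFusion.ClosedZ_m3
import Cfsg.Agent.Lib.GoldschmidtFusion
import Mathlib
import Cfsg.Agent.ProdFusion.FunctorComplete_m3
import Cfsg.Agent.SignalizersComponents.PCompQuot
import Cfsg.Agent.SignalizersComponents.LBalanceCore
import Cfsg.Agent.SignalizersComponents.CompBasic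
import Cfsg.Agent.SignalizersComponents.OddFixed
import Cfsg.Agent.Lib.ThompsonPQ
import Cfsg.Agent.SignalizersComponents.GoldschmidtGen
import Cfsg.Agent.SignalizersComponents.SolFunctorTwo
import Cfsg.Agent.TwoFusion.GoldControl
import Cfsg.Agent.TwoFusion.ClosedFam
import Cfsg.Agent.TypeL3.Fusion
import Cfsg.Agent.Classification.BGMainFour_m3
import Cfsg.Agent.TwoFusion.DihedralFusion
import Cfsg.Agent.Classification.DihReduction
import Cfsg.Agent.Characters.Linear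
import Cfsg.Agent.Lib.LocalCore
import Cfsg.Agent.OddOrderLocal.FreeAction
import Cfsg.Agent.Walter.PSLFacts
import Cfsg.Agent.SignalizersComponents.Components
import Cfsg.Prelude.Def_TwoFusion
import Cfsg.Agent.TypeL3.Basic
import Cfsg.Agent.Transfer.ThompsonTransfer
import Cfsg.Agent.TypeL3.Control
import Cfsg.Agent.Lib.EssentialFusion
import Cfsg.Agent.TwoFusion.GoldEight
import Cfsg.Agent.Solvable.Glauberman
import Cfsg.Agent.Lib.CoprimeAbelian
import Cfsg.Agent.Lib.CoprimeStab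
import Cfsg.Agent.TwoFusion.GoldBenPSU
import Cfsg.Agent.SuzukiRankOne.Assembly
import Cfsg.Agent.StrongEmb.CoreCentral_mg_m3
import Cfsg.Agent.S1121
import Cfsg.Agent.SylowL.CompFacts
import Cfsg.Agent.FastGrp
import Cfsg.Agent.Prune
set_option linter.all false

section
prune_inst 0x7ff0eef88ea88ddedfff7e3ffefcdffc30c4cffff6dff943bfeca39fcbdf03232be1fb878de058fe8ee6e29410b87803f97ec23eaa4bdc7ffffd5ff41ffb6c0f8167b50951d488340fbc2ff603f0778e6f3ffffffffffffffffffffffffffffffffdfbbeffff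

-- part: TwoFusion/GoldInner
section
prune_inst 0x4410000
set_option linter.all false
open scoped Cfsg.Agent.FastGrp

/-!
# The action of an elementary closed family on a component

If (T) holds for `L/Z(L)` and the component `L` is not centralized by the family `𝒜`, then every element of
`𝒜` acts on `L` as an element of `𝒜 ∩ L`, and there is a group of odd order in `N_L(A)` which is transitive on
the nontrivial elements of `A/C_A(L)`.
-/

set_option autoImplicit false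
set_option linter.style.haveILetI false

namespace Cfsg.Agent.TwoFusion.GoldInner

open Subgroup
open Cfsg.Agent.TwoFusion.ClosedFam Cfsg.Agent.TwoFusion.Gold

section Model

variable {X : Type*} [Group X] (L : Subgroup X)

/-- The centralizer of `L` in its normalizer. -/
def cn : Subgroup ↥(normalizer (L : Set X)) := (centralizer (L : Set X)).subgroupOf (normalizer (L : Set X))

theorem mem_cn {x : ↥(normalizer (L : Set X))} : x ∈ cn L ↔ (x : X) ∈ centralizer (L : Set X) := mem_subgroupOf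

instance cn_normal : (cn L).Normal := by
  refine ⟨fun x hx g => ?_⟩
  rw [mem_cn, mem_centralizer_iff] at hx ⊢
  intro l hl
  have h1 : (g : X)⁻¹ * l * g ∈ L := by
    have := (mem_normalizer_iff.1 (inv_mem g.2) l).1 hl
    rwa [inv_inv] at this
  have h2 := hx _ h1
  simp only [coe_mul, coe_inv]
  calc l * ((g : X) * x * (g : X)⁻¹) = g * ((g : X)⁻¹ * l * g * x) * (g : X)⁻¹ := by group
    _ = g * (x * ((g : X)⁻¹ * l * g)) * (g : X)⁻¹ := by rw [h2]
    _ = _ := by group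

/-- The projection `N(L) → N(L)/C(L)`. -/
def pr : ↥(normalizer (L : Set X)) →* ↥(normalizer (L : Set X)) ⧸ cn L := QuotientGroup.mk' (cn L)

theorem pr_surjective : Function.Surjective (pr L) := QuotientGroup.mk'_surjective _

theorem pr_eq_one {x : ↥(normalizer (L : Set X))} : pr L x = 1 ↔ (x : X) ∈ centralizer (L : Set X) := by
  unfold pr
  rw [QuotientGroup.mk'_apply, QuotientGroup.eq_one_iff, mem_cn]

theorem pr_eq_iff {x y : ↥(normalizer (L : Set X))} :
    pr L x = pr L y ↔ (x : X) * (y : X)⁻¹ ∈ centralizer (L : Set X) := by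
  rw [← mul_inv_eq_one, ← map_inv, ← map_mul, pr_eq_one]
  rfl

/-- The inner automorphisms. -/
def inn : Subgroup (↥(normalizer (L : Set X)) ⧸ cn L) := (L.subgroupOf (normalizer (L : Set X))).map (pr L)

instance inn_normal : (inn L).Normal := by
  have h1 : (L.subgroupOf (normalizer (L : Set X))).Normal := by
    refine ⟨fun x hx g => ?_⟩
    rw [mem_subgroupOf] at hx ⊢
    exact (mem_normalizer_iff.1 g.2 x).1 hx
  exact h1.map _ (pr_surjective L)

/-- The map `L → Inn`. -/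
def toInn : ↥L →* ↥(inn L) where
  toFun l := ⟨pr L ⟨l, le_normalizer l.2⟩, ⟨⟨l, le_normalizer l.2⟩, mem_subgroupOf.2 l.2, rfl⟩⟩
  map_one' := by
    apply Subtype.ext
    change pr L ⟨((1 : L) : X), _⟩ = 1
    rw [pr_eq_one]
    exact one_mem _
  map_mul' x y := by
    apply Subtype.ext
    change pr L ⟨((x * y : L) : X), _⟩ = pr L ⟨x, _⟩ * pr L ⟨y, _⟩
    rw [← map_mul]
    rfl

theorem toInn_surjective : Function.Surjective (toInn L) := by
  rintro ⟨_, ⟨x, hx, rfl⟩⟩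
  exact ⟨⟨x, mem_subgroupOf.1 hx⟩, rfl⟩

theorem toInn_eq_one {l : L} : toInn L l = 1 ↔ (l : X) ∈ centralizer (L : Set X) := by
  rw [Subtype.ext_iff]
  exact pr_eq_one L (x := ⟨l, le_normalizer l.2⟩)

theorem ker_toInn : (toInn L).ker = center ↥L := by
  ext l
  rw [MonoidHom.mem_ker, toInn_eq_one, mem_centralizer_iff, mem_center_iff]
  constructor
  · intro h g
    exact Subtype.ext (h g g.2)
  · intro h g hg
    exact congrArg Subtype.val (h ⟨g, hg⟩)

/-- `L/Z(L) ≃ Inn`. -/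
noncomputable def innEquiv : (↥L ⧸ center ↥L) ≃* ↥(inn L) :=
  (QuotientGroup.quotientMulEquivOfEq (ker_toInn L).symm).trans
    (QuotientGroup.quotientKerEquivOfSurjective (toInn L) (toInn_surjective L))

variable {L}

theorem isSimpleGroup_inn (hL : Cfsg.IsComponent L) : IsSimpleGroup ↥(inn L) := by
  haveI := hL.2.2
  haveI : Nontrivial ↥(inn L) := (innEquiv L).symm.toEquiv.nontrivial
  exact IsSimpleGroup.isSimpleGroup_of_surjective (innEquiv L).toMonoidHom (innEquiv L).surjective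

theorem centralizer_inn (hL : Cfsg.IsComponent L) :
    centralizer (inn L : Set (↥(normalizer (L : Set X)) ⧸ cn L)) = ⊥ := by
  rw [eq_bot_iff]
  intro y hy
  obtain ⟨n, rfl⟩ := pr_surjective L y
  rw [mem_bot, pr_eq_one]
  rw [mem_centralizer_iff] at hy
  -- `[n, L] ≤ Z(L)`
  have h1 : ∀ l ∈ L, (n : X) * l * (n : X)⁻¹ * l⁻¹ ∈ centralizer (L : Set X) := by
    intro l hl
    have h2 := hy (pr L ⟨l, le_normalizer hl⟩) ⟨⟨l, le_normalizer hl⟩, mem_subgroupOf.2 hl, rfl⟩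
    rw [← map_mul, ← map_mul, pr_eq_iff] at h2
    have h3 := (centralizer (L : Set X)).inv_mem h2
    have e : ((((⟨l, le_normalizer hl⟩ : ↥(normalizer (L : Set X))) * n :
      ↥(normalizer (L : Set X))) : X) * ((n * ⟨l, le_normalizer hl⟩ : ↥(normalizer (L : Set X))) : X)⁻¹)⁻¹ =
        (n : X) * l * (n : X)⁻¹ * l⁻¹ := by
      simp only [coe_mul]
      group
    rwa [e] at h3
  have hL1 : ∀ l ∈ L, (n : X) * l * (n : X)⁻¹ * l⁻¹ ∈ L := fun l hl =>
    mul_mem ((mem_normalizer_iff.1 n.2 l).1 hl) (inv_mem hl)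
  let κ : ↥L →* ↥(center ↥L) :=
    { toFun := fun l => ⟨⟨(n : X) * l * (n : X)⁻¹ * (l : X)⁻¹, hL1 l l.2⟩, by
        rw [mem_center_iff]
        intro g
        exact Subtype.ext ((mem_centralizer_iff.1 (h1 l l.2)) g g.2)⟩
      map_one' := by
        apply Subtype.ext
        apply Subtype.ext
        change (n : X) * 1 * (n : X)⁻¹ * (1 : X)⁻¹ = 1
        group
      map_mul' := by
        intro x y
        apply Subtype.ext
        apply Subtype.ext
        change (n : X) * (x * y) * (n : X)⁻¹ * ((x : X) * y)⁻¹ =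
          ((n : X) * x * (n : X)⁻¹ * (x : X)⁻¹) * ((n : X) * y * (n : X)⁻¹ * (y : X)⁻¹)
        have h5 := (mem_centralizer_iff.1 (h1 y y.2)) x x.2
        calc (n : X) * (x * y) * (n : X)⁻¹ * ((x : X) * y)⁻¹ =
            (n : X) * x * (n : X)⁻¹ * ((n : X) * y * (n : X)⁻¹ * (y : X)⁻¹) * (x : X)⁻¹ := by group
          _ = (n : X) * x * (n : X)⁻¹ * (x : X)⁻¹ *
              ((x : X) * ((n : X) * y * (n : X)⁻¹ * (y : X)⁻¹)) * (x : X)⁻¹ := by group
          _ = (n : X) * x * (n : X)⁻¹ * (x : X)⁻¹ *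
              (((n : X) * y * (n : X)⁻¹ * (y : X)⁻¹) * (x : X)) * (x : X)⁻¹ := by rw [h5]
          _ = _ := by group }
  rw [mem_centralizer_iff]
  intro l hl
  have h6 : κ ⟨l, hl⟩ = 1 := by
    letI : CommGroup ↥(center ↥L) := { (inferInstance : Group ↥(center ↥L)) with
      mul_comm := fun a b => Subtype.ext ((mem_center_iff.1 b.2 a)) }
    exact Cfsg.Agent.SignalizersComponents.CompBasic.hom_eq_one_of_perfect hL.2.1 κ ⟨l, hl⟩
  have h7 : (n : X) * l * (n : X)⁻¹ * l⁻¹ = 1 :=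
    congrArg (fun z : ↥(center ↥L) => ((z : ↥L) : X)) h6
  calc l * (n : X) = 1 * l * n := by group
    _ = (n : X) * l * (n : X)⁻¹ * l⁻¹ * l * n := by rw [h7]
    _ = n * l := by group

end Model

section Inner

variable {X : Type*} [Group X] [Finite X] {𝒜 : Set X} {L : Subgroup X}

/-- The family in `N(L)/C(L)`. -/
def famN (𝒜 : Set X) (L : Subgroup X) : Set (↥(normalizer (L : Set X)) ⧸ cn L) :=
  pr L '' {x : ↥(normalizer (L : Set X)) | (x : X) ∈ 𝒜}

theorem isElemFam_famN (h : IsElemFam 𝒜) : IsElemFam (famN 𝒜 L) :=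
  (h.restrict _).image (pr_surjective L)

omit [Finite X] in
theorem exists_mem_famN (hA : Act 𝒜 L) : ∃ x ∈ famN 𝒜 L, x ∈ inn L ∧ x ≠ 1 := by
  obtain ⟨x, hx, hxL, y, hy, hne⟩ := hA
  refine ⟨pr L ⟨x, le_normalizer hxL⟩, ⟨⟨x, le_normalizer hxL⟩, hx, rfl⟩,
    ⟨⟨x, le_normalizer hxL⟩, mem_subgroupOf.2 hxL, rfl⟩, ?_⟩
  rw [Ne, pr_eq_one, mem_centralizer_iff]
  intro hc
  exact hne (hc y hy).symm

/-- (T) gives `TCon` for the group of inner automorphisms. -/
theorem tCon_inn (h : Ctx 𝒜) (hL : Cfsg.IsComponent L) (hA : Act 𝒜 L) : TCon ↥(inn L) := by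
  have h1 : TProp ↥(inn L) := GoldTrans.tProp_congr (innEquiv L) (h.T L hL)
  obtain ⟨x, hx, hxi, hx1⟩ := exists_mem_famN hA
  exact h1 _ ((isElemFam_famN h.fam).restrict (inn L)) ⟨⟨x, hxi⟩, hx, fun e => hx1 (congrArg Subtype.val e)⟩

/-- `Z(L) ≤ S`. -/
theorem center_le (hO : Cfsg.oddCore X = ⊥) (hL : Cfsg.IsComponent L) (S : Sylow 2 X) {z : X} (hz : z ∈ L)
    (hzc : z ∈ centralizer (L : Set X)) : z ∈ (S : Subgroup X) := by
  haveI : Fact (Nat.Prime 2) := ⟨Nat.prime_two⟩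
  have h1 := Cfsg.Agent.SignalizersComponents.BalanceAux.center_component_le_pCore 2 hO hL
  exact Cfsg.Agent.Lib.Cores.pCore_le_sylow S (h1 ⟨hz, hzc⟩)

/-- Conjugation of elements of `L` whose images in `Inn L` are nontrivial elements of the family. -/
theorem exists_conj_mul (h : Ctx 𝒜) (hL : Cfsg.IsComponent L) (hA : Act 𝒜 L) {x y : X} (hxL : x ∈ L)
    (hyN : y ∈ normalizer (L : Set X)) (hyL : pr L ⟨y, hyN⟩ ∈ inn L)
    (hxx : x * x ∈ centralizer (L : Set X)) (hyy : y * y ∈ centralizer (L : Set X))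
    (hx : x ∉ centralizer (L : Set X)) (hy : y ∉ centralizer (L : Set X)) :
    ∃ l ∈ L, l * x * l⁻¹ * y⁻¹ ∈ centralizer (L : Set X) := by
  have hT := tCon_inn h hL hA
  have o1 : orderOf (toInn L ⟨x, hxL⟩) = 2 := by
    refine orderOf_eq_prime ?_ ?_
    · rw [pow_two, ← map_mul, toInn_eq_one]
      exact hxx
    · rw [Ne, toInn_eq_one]; exact hx
  have o2 : orderOf (⟨pr L ⟨y, hyN⟩, hyL⟩ : ↥(inn L)) = 2 := by
    refine orderOf_eq_prime ?_ ?_
    · apply Subtype.ext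
      rw [pow_two]
      change pr L ⟨y, hyN⟩ * pr L ⟨y, hyN⟩ = 1
      rw [← map_mul, pr_eq_one]
      exact hyy
    · intro e
      have e' : pr L ⟨y, hyN⟩ = 1 := congrArg Subtype.val e
      rw [pr_eq_one] at e'
      exact hy e'
  obtain ⟨g, hg⟩ := hT.conj _ _ o1 o2
  obtain ⟨⟨l, hl⟩, rfl⟩ := toInn_surjective L g
  refine ⟨l, hl, ?_⟩
  have h1 : pr L ⟨l, le_normalizer hl⟩ * pr L ⟨x, le_normalizer hxL⟩ * (pr L ⟨l, le_normalizer hl⟩)⁻¹ =
      pr L ⟨y, hyN⟩ := congrArg Subtype.val hg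
  rw [← map_mul, ← map_inv, ← map_mul, pr_eq_iff] at h1
  exact h1

/-- (1.4) Every element of the family acts on the component `L` as an element of the family in `L`. -/
theorem exists_inner (h : Ctx 𝒜) (hL : Cfsg.IsComponent L) (hA : Act 𝒜 L) (S : Sylow 2 X) :
    ∀ a ∈ 𝒜, a ∈ (S : Subgroup X) → ∃ b ∈ 𝒜, b ∈ (S : Subgroup X) ∧ b ∈ L ∧
      ∀ l ∈ L, a * l * a⁻¹ = b * l * b⁻¹ := by
  classical
  haveI : Fact (Nat.Prime 2) := ⟨Nat.prime_two⟩
  intro a ha haS
  have haN : a ∈ normalizer (L : Set X) := mem_normalizer h.fam h.core hL ha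
  by_cases hac : a ∈ centralizer (L : Set X)
  · refine ⟨1, h.fam.one_mem, one_mem _, one_mem _, fun l hl => ?_⟩
    rw [mem_centralizer_iff] at hac
    have := hac l hl
    calc a * l * a⁻¹ = l * a * a⁻¹ := by rw [this]
      _ = 1 * l * 1⁻¹ := by group
  have hT := tCon_inn h hL hA
  -- `a` acts as an inner automorphism
  have h1 : pr L ⟨a, haN⟩ ∈ inn L :=
    GoldAS.mem_of_simple (isElemFam_famN h.fam) (isSimpleGroup_inn hL) (centralizer_inn hL) hT
      (exists_mem_famN hA) ⟨⟨a, haN⟩, ha, rfl⟩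
  -- an element of the family in `L` with the same action
  obtain ⟨x, hx, hxL, y, hy, hne⟩ := hA
  have hA : Act 𝒜 L := ⟨x, hx, hxL, y, hy, hne⟩
  have hxc : x ∉ centralizer (L : Set X) := by
    rw [mem_centralizer_iff]
    intro hc
    exact hne (hc y hy).symm
  obtain ⟨l, hl, hlc⟩ := exists_conj_mul h hL hA hxL haN h1
    (by rw [h.fam.sq x hx]; exact one_mem _) (by rw [h.fam.sq a ha]; exact one_mem _) hxc hac
  set b : X := l * x * l⁻¹ with hb
  have hb𝒜 : b ∈ 𝒜 := h.fam.conj_mem x hx l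
  have hbL : b ∈ L := mul_mem (mul_mem hl hxL) (inv_mem hl)
  -- the Sylow subgroup of `L`
  obtain ⟨T, hT'⟩ := exists_sylow_subgroupOf S hL.1
  have hTmem : ∀ m : L, m ∈ T ↔ (m : X) ∈ (S : Subgroup X) := by
    intro m
    change m ∈ (T : Subgroup L) ↔ _
    rw [hT', mem_subgroupOf]
  -- its image
  let R : Sylow 2 ↥(inn L) := T.mapSurjective (toInn_surjective L)
  have hRcoe : (R : Subgroup ↥(inn L)) = (T : Subgroup L).map (toInn L) :=
    T.coe_mapSurjective (toInn_surjective L)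
  have hab : toInn L ⟨b, hbL⟩ = ⟨pr L ⟨a, haN⟩, h1⟩ := by
    apply Subtype.ext
    change pr L ⟨b, le_normalizer hbL⟩ = pr L ⟨a, haN⟩
    rw [pr_eq_iff]
    exact hlc
  have h2 : (⟨pr L ⟨a, haN⟩, h1⟩ : ↥(inn L)) ∈ R := by
    set m : ↥(inn L) := ⟨pr L ⟨a, haN⟩, h1⟩ with hm
    have hmm : m * m = 1 := by
      apply Subtype.ext
      change pr L ⟨a, haN⟩ * pr L ⟨a, haN⟩ = 1
      rw [← map_mul, pr_eq_one]
      change a * a ∈ _
      rw [h.fam.sq a ha]; exact one_mem _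
    have h3 : IsPGroup 2 (zpowers m) := by
      rintro ⟨y, hy⟩
      obtain ⟨n, rfl⟩ := mem_zpowers_iff.1 hy
      refine ⟨1, Subtype.ext ?_⟩
      simp only [SubmonoidClass.mk_pow, OneMemClass.coe_one]
      rw [← zpow_natCast, ← zpow_mul, mul_comm, zpow_mul, zpow_natCast, pow_one, pow_two, hmm, one_zpow]
    have h4 := h3.inf_normalizer_sylow R
    have h5 : m ∈ normalizer (R : Set ↥(inn L)) := by
      have h6 : m ∈ normalizer ((R : Subgroup ↥(inn L)) : Set ↥(inn L)) := by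
        rw [mem_normalizer_iff]
        -- conjugation by `m` is conjugation by `a`
        have key : ∀ z : ↥(inn L), z ∈ (R : Subgroup ↥(inn L)) → m * z * m⁻¹ ∈ (R : Subgroup ↥(inn L)) := by
          intro z hz
          rw [hRcoe] at hz ⊢
          obtain ⟨t, ht, rfl⟩ := hz
          have h7 : a * (t : X) * a⁻¹ ∈ L := (mem_normalizer_iff.1 haN t).1 t.2
          refine ⟨⟨a * (t : X) * a⁻¹, h7⟩, ?_, ?_⟩
          · change (⟨a * (t : X) * a⁻¹, h7⟩ : L) ∈ T
            rw [hTmem]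
            exact mul_mem (mul_mem haS ((hTmem t).1 ht)) (inv_mem haS)
          · apply Subtype.ext
            change pr L ⟨a * (t : X) * a⁻¹, _⟩ = pr L ⟨a, haN⟩ * pr L ⟨t, _⟩ * (pr L ⟨a, haN⟩)⁻¹
            rw [← map_mul, ← map_inv, ← map_mul]
            rfl
        intro z
        refine ⟨key z, fun hz => ?_⟩
        have hmi : m⁻¹ = m := inv_eq_of_mul_eq_one_left hmm
        have h8 := key _ hz
        have e : m * (m * z * m⁻¹) * m⁻¹ = z := by
          calc m * (m * z * m⁻¹) * m⁻¹ = (m * m) * z * (m * m)⁻¹ := by group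
            _ = z := by rw [hmm]; group
        rwa [e] at h8
      exact h6
    have h9 : m ∈ zpowers m ⊓ normalizer (R : Set ↥(inn L)) := mem_inf.2 ⟨mem_zpowers m, h5⟩
    rw [h4, mem_inf] at h9
    exact h9.2
  have hbS : b ∈ (S : Subgroup X) := by
    have h3 : toInn L ⟨b, hbL⟩ ∈ (R : Subgroup ↥(inn L)) := by rw [hab]; exact h2
    rw [hRcoe] at h3
    obtain ⟨t, ht, htb⟩ := h3
    have h4 : toInn L (t⁻¹ * ⟨b, hbL⟩) = 1 := by rw [map_mul, map_inv, htb, inv_mul_cancel]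
    rw [toInn_eq_one] at h4
    have h5 := center_le h.core hL S (SetLike.coe_mem _) h4
    have h6 : b = (t : X) * ((t⁻¹ * ⟨b, hbL⟩ : L) : X) := by
      simp only [coe_mul, coe_inv]
      group
    rw [h6]
    exact mul_mem ((hTmem t).1 ht) h5
  refine ⟨b, hb𝒜, hbS, hbL, fun m hm => ?_⟩
  rw [mem_centralizer_iff] at hlc
  have h10 := hlc (a * m * a⁻¹) ((mem_normalizer_iff.1 haN m).1 hm)
  -- `b a⁻¹` centralizes `L`
  have h11 : b * m * a⁻¹ = (a * m * a⁻¹) * (b * a⁻¹) := by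
    rw [h10]; group
  calc a * m * a⁻¹ = (a * m * a⁻¹) * (b * a⁻¹) * (b * a⁻¹)⁻¹ := by group
    _ = b * m * a⁻¹ * (b * a⁻¹)⁻¹ := by rw [h11]
    _ = b * m * b⁻¹ := by group

end Inner

end Cfsg.Agent.TwoFusion.GoldInner
end

-- part: TwoFusion/GoldP_mg
section
prune_inst 0x81000010020000000000001010003810800000000020040014000000000409004000010040201001000000000001000000001002000000000000000008000040000000000100a000000090001000000000000000000000000000000000000000200000000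
set_option linter.all false
open scoped Cfsg.Agent.FastGrp

-- part: TwoFusion/GoldP
section
/-!
# Lemma P of Goldschmidt's theorem

`G` simple nonabelian, `A` an elementary abelian strongly closed 2-subgroup of the Sylow 2-subgroup `S`,
`A ≤ Z(S)`.  If `A` meets the subgroup generated by the squares of `S` trivially, then `S = A`.
-/

set_option autoImplicit false

namespace Cfsg.Agent.TwoFusion.GoldP

open Subgroup

/-- The subgroup generated by the squares. -/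
def sq (S : Type*) [Group S] : Subgroup S := closure {x : S | ∃ s : S, x = s * s}

instance sq_normal (S : Type*) [Group S] : (sq S).Normal := by
  constructor
  intro n hn g
  have h : sq S ≤ (sq S).comap (MulAut.conj g).toMonoidHom := by
    rw [sq, closure_le]
    rintro x ⟨s, rfl⟩
    simp only [coe_comap, MulEquiv.coe_toMonoidHom, Set.mem_preimage, MulAut.conj_apply, SetLike.mem_coe]
    exact subset_closure ⟨g * s * g⁻¹, by group⟩
  exact h hn

/-- Existence of a retraction onto a subgroup which meets the Frattini subgroup trivially. -/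
theorem exists_retraction {S A : Type*} [Group S] [CommGroup A] (i : A →* S) (hel : ∀ a : A, a * a = 1)
    (hi : ∀ a : A, i a ∈ sq S → a = 1) : ∃ π : S →* A, ∀ a, π (i a) = a := by
  classical
  have hQ : ∀ x : S ⧸ sq S, x * x = 1 := by
    intro x
    obtain ⟨s, rfl⟩ := QuotientGroup.mk_surjective x
    rw [← QuotientGroup.mk_mul, QuotientGroup.eq_one_iff]
    exact subset_closure ⟨s, rfl⟩
  let Q := S ⧸ sq S
  let : CommGroup Q := { (inferInstance : Group Q) with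
    mul_comm := fun x y => by
      have h1 : x⁻¹ = x := inv_eq_of_mul_eq_one_left (hQ x)
      have h2 : y⁻¹ = y := inv_eq_of_mul_eq_one_left (hQ y)
      have h3 : (x * y)⁻¹ = x * y := inv_eq_of_mul_eq_one_left (hQ (x * y))
      rw [← h3, mul_inv_rev, h1, h2] }
  let : Module (ZMod 2) (Additive A) := AddCommGroup.zmodModule (n := 2) (fun x => by
    rw [two_nsmul]; exact hel x.toMul)
  let : Module (ZMod 2) (Additive Q) := AddCommGroup.zmodModule (n := 2) (fun x => by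
    rw [two_nsmul]; exact hQ x.toMul)
  let f0 : A →* Q := (QuotientGroup.mk' (sq S)).comp i
  let f : Additive A →ₗ[ZMod 2] Additive Q := f0.toAdditive.toZModLinearMap 2
  have hinj : Function.Injective f := by
    rw [injective_iff_map_eq_zero]
    intro a ha
    exact hi a.toMul ((QuotientGroup.eq_one_iff _).1 ha)
  obtain ⟨g, hg⟩ := f.exists_leftInverse_of_injective (LinearMap.ker_eq_bot.2 hinj)
  let g0 : Q →* A := AddMonoidHom.toMultiplicative g.toAddMonoidHom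
  refine ⟨g0.comp (QuotientGroup.mk' (sq S)), fun a => ?_⟩
  exact LinearMap.congr_fun hg (Additive.ofMul a)

theorem mulZMod_sq (x : Multiplicative (ZMod 2)) : x * x = 1 := by
  revert x; decide

/-- Elements outside of the subgroup generated by the squares are detected by homomorphisms to a group of order
two. -/
theorem exists_hom_of_not_mem_sq {S : Type*} [Group S] {a : S} (ha : a ∉ sq S) :
    ∃ χ : S →* Multiplicative (ZMod 2), χ a ≠ 1 := by
  classical
  have hQ : ∀ x : S ⧸ sq S, x * x = 1 := by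
    intro x
    obtain ⟨s, rfl⟩ := QuotientGroup.mk_surjective x
    rw [← QuotientGroup.mk_mul, QuotientGroup.eq_one_iff]
    exact subset_closure ⟨s, rfl⟩
  let Q := S ⧸ sq S
  let : CommGroup Q := { (inferInstance : Group Q) with
    mul_comm := fun x y => by
      have h1 : x⁻¹ = x := inv_eq_of_mul_eq_one_left (hQ x)
      have h2 : y⁻¹ = y := inv_eq_of_mul_eq_one_left (hQ y)
      have h3 : (x * y)⁻¹ = x * y := inv_eq_of_mul_eq_one_left (hQ (x * y))
      rw [← h3, mul_inv_rev, h1, h2] }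
  let : Module (ZMod 2) (Additive Q) := AddCommGroup.zmodModule (n := 2) (fun x => by
    rw [two_nsmul]; exact hQ x.toMul)
  let v : Additive Q := Additive.ofMul (QuotientGroup.mk a)
  have hv : v ≠ 0 := fun h0 => ha ((QuotientGroup.eq_one_iff _).1 h0)
  obtain ⟨f, hf⟩ : ∃ f : Module.Dual (ZMod 2) (Additive Q), f v ≠ 0 := by
    by_contra hcon
    push Not at hcon
    exact hv ((Module.forall_dual_apply_eq_zero_iff (ZMod 2) v).1 hcon)
  let g0 : Q →* Multiplicative (ZMod 2) := AddMonoidHom.toMultiplicative f.toAddMonoidHom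
  exact ⟨g0.comp (QuotientGroup.mk' (sq S)), fun h1 => hf h1⟩

/-- Transfer extends a retraction from a subgroup of odd index. -/
theorem exists_extension {C A : Type*} [Group C] [CommGroup A] (S : Subgroup C) (hS : Odd S.index)
    (i : A →* C) (hel : ∀ a : A, a * a = 1) (hcen : ∀ a c, i a * c = c * i a) (hiS : ∀ a, i a ∈ S)
    (π : S →* A) (hπ : ∀ a, π ⟨i a, hiS a⟩ = a) : ∃ V : C →* A, ∀ a, V (i a) = a := by
  have : S.FiniteIndex := ⟨fun h => by rw [h] at hS; exact absurd hS (by decide)⟩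
  refine ⟨MonoidHom.transfer π, fun a => ?_⟩
  rw [MonoidHom.transfer_eq_pow π (i a) (fun k g₀ _ => by
    rw [mul_assoc, ← map_pow, hcen, inv_mul_cancel_left])]
  have hp : i a ^ S.index = i a := by
    rw [← map_pow]
    obtain ⟨m, hm⟩ := hS
    rw [hm, pow_succ, pow_mul, pow_two, hel, one_pow, one_mul]
  have : (⟨i a ^ S.index, MonoidHom.transfer_eq_pow_aux (i a) (fun k g₀ _ => by
    rw [mul_assoc, ← map_pow, hcen, inv_mul_cancel_left])⟩ : S) = ⟨i a, hiS a⟩ := Subtype.ext hp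
  rw [this, hπ]

section Average

variable {N : Type*} [Group N] {C A : Subgroup N} [C.Normal] [A.Normal]

/-- The conjugation action of `N` on `Hom(C, A)`. -/
def act (n : N) (V : C →* A) : C →* A :=
  (MulAut.conjNormal n : A ≃* A).toMonoidHom.comp (V.comp (MulAut.conjNormal n⁻¹ : C ≃* C).toMonoidHom)

theorem coe_act (n : N) (V : C →* A) (c : C) :
    (act n V c : N) = n * V (MulAut.conjNormal n⁻¹ c) * n⁻¹ := rfl

theorem act_mul (m n : N) (V : C →* A) : act (m * n) V = act m (act n V) := by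
  ext c
  rw [coe_act, coe_act, coe_act, mul_inv_rev, map_mul, MulAut.mul_apply]
  group

/-- Averaging a retraction over a group of odd order. -/
theorem exists_equivariant [Finite N] (hC : Odd C.index) (hAC : A ≤ C) (hel : ∀ a ∈ A, a * a = 1)
    (hcen : ∀ a ∈ A, ∀ c ∈ C, a * c = c * a) (V₀ : C →* A) (hV : ∀ a (h : a ∈ A), (V₀ ⟨a, hAC h⟩ : N) = a) :
    ∃ V : C →* A, (∀ a (h : a ∈ A), (V ⟨a, hAC h⟩ : N) = a) ∧ ∀ n c, V (MulAut.conjNormal n c) =
      MulAut.conjNormal n (V c) := by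
  classical
  let : CommGroup A := { (inferInstance : Group A) with
    mul_comm := fun x y => Subtype.ext (hcen x x.2 y (hAC y.2)) }
  have hact : ∀ c ∈ C, ∀ V : C →* A, act c V = V := by
    intro c hc V
    ext x
    rw [coe_act]
    have h1 : (MulAut.conjNormal c⁻¹ x : C) = ⟨c, hc⟩⁻¹ * x * ⟨c, hc⟩ := by
      ext
      simp only [_root_.map_inv, _root_.MulAut.inv_apply, _root_.MulAut.conjNormal_symm_apply, _root_.Subgroup.coe_mul, _root_.InvMemClass.coe_inv]
    rw [h1, map_mul, map_mul, map_inv, mul_comm _ (V x), inv_mul_cancel_right, ← hcen _ (V x).2 c hc,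
      mul_inv_cancel_right]
  let : Fintype (N ⧸ C) := Fintype.ofFinite _
  let V : C →* A := ∏ q : N ⧸ C, act q.out V₀
  have hVap : ∀ c, V c = ∏ q : N ⧸ C, act q.out V₀ c := fun c => by
    simp only [V, MonoidHom.finsetProd_apply]
  refine ⟨V, ?_, ?_⟩
  · intro a ha
    have h1 : ∀ q : N ⧸ C, act q.out V₀ ⟨a, hAC ha⟩ = ⟨a, ha⟩ := by
      intro q
      ext
      rw [coe_act]
      have h2 : q.out⁻¹ * a * q.out ∈ A := by
        have := (inferInstance : A.Normal).conj_mem a ha q.out⁻¹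
        simpa using this
      have h3 : (MulAut.conjNormal (q.out)⁻¹ ⟨a, hAC ha⟩ : C) = ⟨q.out⁻¹ * a * q.out, hAC h2⟩ := by
        ext
        simp only [_root_.map_inv, _root_.MulAut.inv_apply, _root_.MulAut.conjNormal_symm_apply]
      rw [h3, hV _ h2]
      group
    rw [hVap, Finset.prod_congr rfl (fun q _ => h1 q), Finset.prod_const, Finset.card_univ,
      ← Nat.card_eq_fintype_card]
    have h4 : Nat.card (N ⧸ C) = C.index := rfl
    obtain ⟨m, hm⟩ := hC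
    rw [h4, hm]
    rw [pow_succ, pow_mul, pow_two]
    have h5 : (⟨a, ha⟩ : A) * ⟨a, ha⟩ = 1 := Subtype.ext (hel a ha)
    rw [h5, one_pow, one_mul]
  · intro n c
    rw [hVap, hVap, map_prod]
    -- reindex by left multiplication by `n⁻¹`
    refine Fintype.prod_equiv (MulAction.toPerm (n⁻¹ : N)) _ _ (fun q => ?_)
    rw [MulAction.toPerm_apply]
    obtain ⟨d, hd, hd2⟩ : ∃ d ∈ C, (n⁻¹ • q).out = n⁻¹ * q.out * d := by
      have h1 : ((n⁻¹ • q).out : N ⧸ C) = ((n⁻¹ * q.out : N) : N ⧸ C) := by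
        rw [QuotientGroup.out_eq']
        conv_lhs => rw [← QuotientGroup.out_eq' q]
        rfl
      have h2 := QuotientGroup.eq.1 h1.symm
      exact ⟨_, h2, by group⟩
    rw [hd2, act_mul, hact d hd]
    ext
    rw [coe_act, MulAut.conjNormal_apply, coe_act]
    have h3 : (MulAut.conjNormal (n⁻¹ * q.out)⁻¹ c : C) = MulAut.conjNormal (q.out)⁻¹ (MulAut.conjNormal n c) := by
      rw [mul_inv_rev, inv_inv, map_mul, MulAut.mul_apply]
    rw [h3]
    group

end Average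

section Split

open Cfsg.Agent.TwoFusion.ClosedFam Cfsg.Agent.TwoFusion.Gold Cfsg.Agent.TwoFusion.GoldSetup

universe u

variable {G : Type u} [Group G] [Finite G] {𝒜 : Set G}

/-- The product theorem (commutator part) for the group `G`. -/
def C1 (G : Type u) [Group G] : Prop :=
  ∀ ℬ 𝒞 : Set G, Pair ℬ 𝒞 → (∀ x ∈ ℬ, x = 1) ∨ (∀ x ∈ 𝒞, x = 1)

/-- `C1 G` for nonabelian simple groups from the commutator part of the product theorem
(`ClosedCommutator.fam_commutator_le`). -/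
theorem c1_of (hs : IsSimpleGroup G) (hna : ∃ a b : G, a * b ≠ b * a)
    (hcl : ∀ ℬ 𝒞 : Set G, Pair ℬ 𝒞 → ⁅fam ℬ ⊤, fam 𝒞 ⊤⁆ ≤ Cfsg.oddCore G) : C1 G := by
  intro ℬ 𝒞 hp
  have htriv : Odd (Nat.card G) → ∀ x ∈ ℬ, x = 1 := by
    intro hodd x hx
    obtain ⟨k, hk⟩ := hp.left.two x hx
    have h1 : orderOf x ∣ 2 ^ k := orderOf_dvd_of_pow_eq_one hk
    have h2 : orderOf x ∣ Nat.card G := orderOf_dvd_natCard x
    have h3 : Nat.Coprime (2 ^ k) (Nat.card G) := (Nat.coprime_two_left.2 hodd).pow_left k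
    exact orderOf_eq_one_iff.1 (Nat.eq_one_of_dvd_coprimes h3 h1 h2)
  have hcore : Cfsg.oddCore G = ⊥ ∨ Odd (Nat.card G) := by
    rcases IsSimpleGroup.eq_bot_or_eq_top_of_normal (Cfsg.oddCore G) inferInstance with hb | ht
    · exact Or.inl hb
    · right
      have h1 := Cfsg.Agent.Lib.Cores.pPrimeCore_coprime (G := G) 2
      change Nat.Coprime (Nat.card (Cfsg.oddCore G)) 2 at h1
      rw [ht, card_top] at h1
      exact Nat.coprime_two_right.1 h1
  rcases hcore with hb | ho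
  swap
  · exact Or.inl (htriv ho)
  have hc := hcl ℬ 𝒞 hp
  rw [hb, le_bot_iff] at hc
  have hn1 : (fam ℬ ⊤).Normal := hp.left.fam_normal ⊤
  have hn2 : (fam 𝒞 ⊤).Normal := hp.right.fam_normal ⊤
  rcases IsSimpleGroup.eq_bot_or_eq_top_of_normal _ hn1 with h1 | h1
  · left
    intro x hx
    have := mem_fam hx (mem_top x)
    rwa [h1, mem_bot] at this
  rcases IsSimpleGroup.eq_bot_or_eq_top_of_normal _ hn2 with h2 | h2
  · right
    intro x hx
    have := mem_fam hx (mem_top x)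
    rwa [h2, mem_bot] at this
  exfalso
  obtain ⟨a, b, hab⟩ := hna
  rw [h1, h2] at hc
  have h3 := commutator_mem_commutator (mem_top a) (mem_top b)
  rw [hc, mem_bot, commutatorElement_eq_one_iff_mul_comm] at h3
  exact hab h3

section

variable (h : Setup 𝒜) (S : Sylow 2 G)

/-- `C_G(A)` as a subgroup of `N_G(A)`. -/
def CN (A : Subgroup G) : Subgroup ↥(normalizer (A : Set G)) :=
  (centralizer (A : Set G)).subgroupOf (normalizer (A : Set G))

/-- `A` as a subgroup of `N_G(A)`. -/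
def AN (A : Subgroup G) : Subgroup ↥(normalizer (A : Set G)) := A.subgroupOf (normalizer (A : Set G))

omit [Finite G] in
theorem mem_CN {A : Subgroup G} {x : ↥(normalizer (A : Set G))} : x ∈ CN A ↔ ∀ a ∈ A, a * (x : G) = x * a := by
  rw [CN, mem_subgroupOf, mem_centralizer_iff]; rfl

omit [Finite G] in
theorem mem_AN {A : Subgroup G} {x : ↥(normalizer (A : Set G))} : x ∈ AN A ↔ (x : G) ∈ A := by
  rw [AN, mem_subgroupOf]

instance AN_normal (A : Subgroup G) : (AN A).Normal := by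
  constructor
  intro x hx n
  rw [mem_AN] at hx ⊢
  exact (mem_normalizer_iff.1 n.2 _).1 hx

instance CN_normal (A : Subgroup G) : (CN A).Normal := by
  constructor
  intro x hx n
  rw [mem_CN] at hx ⊢
  intro a ha
  have h1 : (n : G)⁻¹ * a * n ∈ A := by
    have := (mem_normalizer_iff.1 (inv_mem n.2) a).1 ha
    simpa using this
  have h2 := hx _ h1
  simp only [coe_mul, InvMemClass.coe_inv]
  calc a * ((n : G) * x * (n : G)⁻¹) = n * (((n : G)⁻¹ * a * n) * x) * (n : G)⁻¹ := by group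
    _ = n * (x * ((n : G)⁻¹ * a * n)) * (n : G)⁻¹ := by rw [h2]
    _ = _ := by group

include h

/-- From a homomorphism `C_G(A) → A` which is the identity on `A` we get `S = A`. -/
theorem le_of_hom (hC1 : C1 G) (hcent : ∀ a ∈ ClosedFam.fam 𝒜 (S : Subgroup G), ∀ s ∈ (S : Subgroup G), s * a = a * s)
    (hAC : AN (ClosedFam.fam 𝒜 (S : Subgroup G)) ≤ CN (ClosedFam.fam 𝒜 (S : Subgroup G)))
    (hodd : Odd (CN (ClosedFam.fam 𝒜 (S : Subgroup G))).index)
    (V₀ : CN (ClosedFam.fam 𝒜 (S : Subgroup G)) →* AN (ClosedFam.fam 𝒜 (S : Subgroup G)))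
    (hV₀ : ∀ a (ha : a ∈ AN (ClosedFam.fam 𝒜 (S : Subgroup G))),
      (V₀ ⟨a, hAC ha⟩ : ↥(normalizer (ClosedFam.fam 𝒜 (S : Subgroup G) : Set G))) = a) :
    (S : Subgroup G) ≤ ClosedFam.fam 𝒜 (S : Subgroup G) := by
  have hA := h.fam_ne_bot S
  have hsc := h.sc S
  have hsq := h.sq S
  have hN := h.le_normalizer S
  have hinf := fun X hX => h.sc_inf S (X := X) hX
  generalize ClosedFam.fam 𝒜 (S : Subgroup G) = A at *
  obtain ⟨V, hV1, hV2⟩ := exists_equivariant hodd hAC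
    (fun a ha => Subtype.ext (hsq _ (mem_AN.1 ha)))
    (fun a ha c hc => Subtype.ext (mem_CN.1 hc _ (mem_AN.1 ha))) V₀ hV₀
  let X : Subgroup G := ((V.ker).map (CN A).subtype).map (normalizer (A : Set G)).subtype
  have hXmem : ∀ x : G, x ∈ X ↔ ∃ (h1 : x ∈ normalizer (A : Set G)) (h2 : (⟨x, h1⟩ : ↥(normalizer (A : Set G))) ∈ CN A),
      V ⟨⟨x, h1⟩, h2⟩ = 1 := by
    intro x
    constructor
    · rintro ⟨_, ⟨⟨⟨y, h1⟩, h2⟩, h3, rfl⟩, rfl⟩
      exact ⟨h1, h2, h3⟩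
    · rintro ⟨h1, h2, h3⟩
      exact ⟨⟨x, h1⟩, ⟨⟨⟨x, h1⟩, h2⟩, h3, rfl⟩, rfl⟩
  have hXn : ∀ n ∈ normalizer (A : Set G), ∀ x ∈ X, n * x * n⁻¹ ∈ X := by
    intro n hn x hx
    rw [hXmem] at hx ⊢
    obtain ⟨h1, h2, h3⟩ := hx
    have h4 := hV2 ⟨n, hn⟩ ⟨⟨x, h1⟩, h2⟩
    rw [h3, map_one] at h4
    refine ⟨mul_mem (mul_mem hn h1) (inv_mem hn), ?_, ?_⟩
    · exact (CN_normal A).conj_mem ⟨x, h1⟩ h2 ⟨n, hn⟩
    · rw [← h4]
      congr 1
  have hX := hinf X hXn
  have hdisj : A ⊓ ((S : Subgroup G) ⊓ X) = ⊥ := by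
    rw [eq_bot_iff]
    rintro a ⟨ha, -, hax⟩
    obtain ⟨h1, h2, h3⟩ := (hXmem a).1 hax
    have h4 := hV1 ⟨a, h1⟩ (mem_AN.2 ha)
    rw [h3] at h4
    have h5 := congrArg Subtype.val h4
    rw [mem_bot]
    exact h5.symm
  rcases hC1 _ _ (pair_of_isStronglyClosed S A _ hdisj hsc hX) with h1 | h1
  · exfalso
    apply hA
    rw [eq_bot_iff]
    intro a ha
    exact h1 a ⟨1, by simpa using ha⟩
  · intro s hs
    have hsN : s ∈ normalizer (A : Set G) := hN hs
    have hsC : (⟨s, hsN⟩ : ↥(normalizer (A : Set G))) ∈ CN A := mem_CN.2 fun a ha => (hcent a ha s hs).symm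
    let a := V ⟨⟨s, hsN⟩, hsC⟩
    have ha : (((a : ↥(normalizer (A : Set G)))) : G) ∈ A := mem_AN.1 a.2
    have h2 : s * ((a : ↥(normalizer (A : Set G))) : G)⁻¹ ∈ (S : Subgroup G) ⊓ X := by
      refine mem_inf.2 ⟨mul_mem hs (inv_mem (hsc.1 ha)), ?_⟩
      rw [hXmem]
      refine ⟨mul_mem hsN (inv_mem (a : ↥(normalizer (A : Set G))).2), mul_mem hsC (inv_mem (hAC a.2)), ?_⟩
      have h3 : (⟨⟨s * ((a : ↥(normalizer (A : Set G))) : G)⁻¹, mul_mem hsN (inv_mem (a : ↥(normalizer (A : Set G))).2)⟩,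
          mul_mem hsC (inv_mem (hAC a.2))⟩ : CN A) = ⟨⟨s, hsN⟩, hsC⟩ * (⟨(a : ↥(normalizer (A : Set G))), hAC a.2⟩ : CN A)⁻¹ := rfl
      rw [h3, map_mul, map_inv]
      have h4 : V (⟨(a : ↥(normalizer (A : Set G))), hAC a.2⟩ : CN A) = a := Subtype.ext (hV1 _ a.2)
      rw [h4]
      exact mul_inv_cancel a
    have h5 := h1 _ ⟨1, by simpa only [_root_.one_mul, _root_.inv_one, _root_.mul_one, _root_.Subgroup.mem_inf] using h2⟩
    have h6 : s = ((a : ↥(normalizer (A : Set G))) : G) := by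
      rw [mul_inv_eq_one] at h5; exact h5
    rw [h6]; exact ha

omit h in
/-- Odd indices. -/
theorem odd_index {A : Subgroup G} (hN : (S : Subgroup G) ≤ normalizer (A : Set G))
    (hcent : ∀ a ∈ A, ∀ s ∈ (S : Subgroup G), s * a = a * s) :
    (S : Subgroup G).subgroupOf (normalizer (A : Set G)) ≤ CN A ∧ Odd (CN A).index ∧
      Odd (((S : Subgroup G).subgroupOf (normalizer (A : Set G))).subgroupOf (CN A)).index := by
  have hSC : (S : Subgroup G).subgroupOf (normalizer (A : Set G)) ≤ CN A := by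
    intro x hx
    rw [mem_CN]
    intro a ha
    exact (hcent a ha _ (mem_subgroupOf.1 hx)).symm
  have hSodd := Cfsg.Agent.TwoFusion.IndexTwo.odd_index_sylow S
  have h1 := relIndex_mul_index hN
  rw [← h1] at hSodd
  have h2 : Odd ((S : Subgroup G).subgroupOf (normalizer (A : Set G))).index := (Nat.odd_mul.1 hSodd).1
  rw [← relIndex_mul_index hSC] at h2
  exact ⟨hSC, (Nat.odd_mul.1 h2).2, (Nat.odd_mul.1 h2).1⟩

omit h in
theorem split_aux {A : Subgroup G} (hcent : ∀ a ∈ A, ∀ s ∈ (S : Subgroup G), s * a = a * s)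
    (hcomm : ∀ a ∈ A, ∀ b ∈ A, a * b = b * a) (hsq : ∀ a ∈ A, a * a = 1)
    (hN : (S : Subgroup G) ≤ normalizer (A : Set G)) (hle : A ≤ (S : Subgroup G))
    (hend : ∀ (hAC : AN A ≤ CN A), Odd (CN A).index → ∀ (V₀ : ↥(CN A) →* ↥(AN A)),
      (∀ (a : ↥(normalizer (A : Set G))) (ha : a ∈ AN A), (V₀ ⟨a, hAC ha⟩ : ↥(normalizer (A : Set G))) = a) →
        (S : Subgroup G) ≤ A)
    (π : (S : Subgroup G) →* A) (hπ : ∀ a (ha : a ∈ A), (π ⟨a, hle ha⟩ : G) = a) : (S : Subgroup G) ≤ A := by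
  obtain ⟨hSC, hodd, hodd'⟩ := odd_index S hN hcent
  have hAN : A ≤ normalizer (A : Set G) := le_normalizer
  have hAC : AN A ≤ CN A := by
    intro x hx
    rw [mem_CN]
    intro a ha
    exact hcomm a ha _ (mem_AN.1 hx)
  let : CommGroup (AN A) := { (inferInstance : Group (AN A)) with
    mul_comm := fun x y => Subtype.ext (Subtype.ext (hcomm _ (mem_AN.1 x.2) _ (mem_AN.1 y.2))) }
  let i : AN A →* CN A := inclusion hAC
  let S₁ := ((S : Subgroup G).subgroupOf (normalizer (A : Set G))).subgroupOf (CN A)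
  have hS₁ : ∀ x : S₁, (((x : CN A) : ↥(normalizer (A : Set G))) : G) ∈ (S : Subgroup G) := fun x =>
    mem_subgroupOf.1 (mem_subgroupOf.1 x.2)
  let j : S₁ →* (S : Subgroup G) :=
    { toFun := fun x => ⟨(((x : CN A) : ↥(normalizer (A : Set G))) : G), hS₁ x⟩
      map_one' := rfl
      map_mul' := fun _ _ => rfl }
  let k : A →* AN A :=
    { toFun := fun x => ⟨⟨x, hAN x.2⟩, mem_AN.2 x.2⟩
      map_one' := rfl
      map_mul' := fun _ _ => rfl }
  obtain ⟨V, hV⟩ := exists_extension S₁ hodd' i (fun a => Subtype.ext (Subtype.ext (hsq _ (mem_AN.1 a.2))))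
    (fun a c => Subtype.ext (Subtype.ext (mem_CN.1 c.2 _ (mem_AN.1 a.2))))
    (fun a => mem_subgroupOf.2 (mem_subgroupOf.2 (hle (mem_AN.1 a.2)))) (k.comp (π.comp j)) (by
      intro a
      apply Subtype.ext
      apply Subtype.ext
      exact hπ _ (mem_AN.1 a.2))
  refine hend hAC hodd V ?_
  intro a ha
  exact congrArg Subtype.val (hV ⟨a, ha⟩)

/-- **Lemma P** (first form): if `A ≤ Z(S)` and `S` has a retraction onto `A` then `S = A`. -/
theorem eq_of_split (hC1 : C1 G)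
    (hcent : ∀ a ∈ ClosedFam.fam 𝒜 (S : Subgroup G), ∀ s ∈ (S : Subgroup G), s * a = a * s)
    (π : (S : Subgroup G) →* ClosedFam.fam 𝒜 (S : Subgroup G))
    (hπ : ∀ a (ha : a ∈ ClosedFam.fam 𝒜 (S : Subgroup G)), (π ⟨a, (h.sc S).1 ha⟩ : G) = a) :
    (S : Subgroup G) ≤ ClosedFam.fam 𝒜 (S : Subgroup G) :=
  split_aux S hcent (h.comm S) (h.sq S) (h.le_normalizer S) (h.sc S).1 (le_of_hom h S hC1 hcent) π hπ

/-- **Lemma P** (second form): if `A ≤ Z(S)` then `S = A` or `A` is contained in the subgroup generated by the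
squares of `S`. -/
theorem le_or_le_sq (hC1 : C1 G)
    (hcent : ∀ a ∈ ClosedFam.fam 𝒜 (S : Subgroup G), ∀ s ∈ (S : Subgroup G), s * a = a * s) :
    (S : Subgroup G) ≤ ClosedFam.fam 𝒜 (S : Subgroup G) ∨
      ClosedFam.fam 𝒜 (S : Subgroup G) ≤ (sq (S : Subgroup G)).map (S : Subgroup G).subtype := by
  have hcomm := h.comm S
  have hsq := h.sq S
  have hN := h.le_normalizer S
  have hle := (h.sc S).1
  have hend := le_of_hom h S hC1 hcent
  have hirr := fun B h1 h2 => h.irreducible S (B := B) h1 h2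
  generalize ClosedFam.fam 𝒜 (S : Subgroup G) = A at *
  obtain ⟨hSC, hodd, hodd'⟩ := odd_index S hN hcent
  have hAN : A ≤ normalizer (A : Set G) := le_normalizer
  have hAC : AN A ≤ CN A := by
    intro x hx
    rw [mem_CN]
    intro a ha
    exact hcomm a ha _ (mem_AN.1 hx)
  let : CommGroup (AN A) := { (inferInstance : Group (AN A)) with
    mul_comm := fun x y => Subtype.ext (Subtype.ext (hcomm _ (mem_AN.1 x.2) _ (mem_AN.1 y.2))) }
  let i : AN A →* CN A := inclusion hAC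
  have hel : ∀ a : AN A, a * a = 1 := fun a => Subtype.ext (Subtype.ext (hsq _ (mem_AN.1 a.2)))
  -- the elements of `A` in the subgroup generated by the squares of `C_G(A)`
  let B : Subgroup G := (((sq (CN A)).comap i).map (AN A).subtype).map (normalizer (A : Set G)).subtype
  have hBmem : ∀ x : G, x ∈ B ↔ ∃ (h1 : x ∈ normalizer (A : Set G)) (h2 : (⟨x, h1⟩ : ↥(normalizer (A : Set G))) ∈ AN A),
      i ⟨⟨x, h1⟩, h2⟩ ∈ sq (CN A) := by
    intro x
    constructor
    · rintro ⟨_, ⟨⟨⟨y, h1⟩, h2⟩, h3, rfl⟩, rfl⟩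
      exact ⟨h1, h2, h3⟩
    · rintro ⟨h1, h2, h3⟩
      exact ⟨⟨x, h1⟩, ⟨⟨⟨x, h1⟩, h2⟩, h3, rfl⟩, rfl⟩
  rcases hirr B (fun x hx => by
      obtain ⟨h1, h2, -⟩ := (hBmem x).1 hx
      exact mem_AN.1 h2) (by
      intro n hn x hx
      rw [hBmem] at hx ⊢
      obtain ⟨h1, h2, h3⟩ := hx
      refine ⟨mul_mem (mul_mem hn h1) (inv_mem hn), (AN_normal A).conj_mem ⟨x, h1⟩ h2 ⟨n, hn⟩, ?_⟩
      have key : sq (CN A) ≤ (sq (CN A)).comap (MulAut.conjNormal (⟨n, hn⟩ : ↥(normalizer (A : Set G))) :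
          CN A ≃* CN A).toMonoidHom := by
        rw [sq, closure_le]
        rintro _ ⟨s, rfl⟩
        refine subset_closure ⟨MulAut.conjNormal (⟨n, hn⟩ : ↥(normalizer (A : Set G))) s, ?_⟩
        exact map_mul _ _ _
      exact key h3) with hB | hB
  · left
    obtain ⟨V, hV⟩ := exists_retraction i hel (by
      intro a ha
      have h1 : ((a : ↥(normalizer (A : Set G))) : G) ∈ B := by
        rw [hBmem]
        exact ⟨(a : ↥(normalizer (A : Set G))).2, a.2, ha⟩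
      rw [hB, mem_bot] at h1
      exact Subtype.ext (Subtype.ext h1))
    refine hend hAC hodd V ?_
    intro a ha
    exact congrArg Subtype.val (hV ⟨a, ha⟩)
  · right
    intro a ha
    by_contra hcon
    -- a homomorphism from `S` to a group of order two which is nontrivial on `a`
    have haS : a ∈ (S : Subgroup G) := hle ha
    obtain ⟨χ, hχ⟩ := exists_hom_of_not_mem_sq (a := (⟨a, haS⟩ : (S : Subgroup G))) (fun hmem =>
      hcon ⟨⟨a, haS⟩, hmem, rfl⟩)
    obtain ⟨h1, h2, h3⟩ := (hBmem a).1 (hB.symm ▸ ha)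
    let S₁ := ((S : Subgroup G).subgroupOf (normalizer (A : Set G))).subgroupOf (CN A)
    have hS₁ : ∀ x : S₁, (((x : CN A) : ↥(normalizer (A : Set G))) : G) ∈ (S : Subgroup G) := fun x =>
      mem_subgroupOf.1 (mem_subgroupOf.1 x.2)
    let j : S₁ →* (S : Subgroup G) :=
      { toFun := fun x => ⟨(((x : CN A) : ↥(normalizer (A : Set G))) : G), hS₁ x⟩
        map_one' := rfl
        map_mul' := fun _ _ => rfl }
    have hfi : S₁.FiniteIndex := ⟨fun h0 => by
      have h5 := hodd'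
      rw [h0] at h5; exact absurd h5 (by decide)⟩
    let c : CN A := i ⟨⟨a, h1⟩, h2⟩
    have hc1 : ∀ x : CN A, c * x = x * c := fun x => Subtype.ext (Subtype.ext (mem_CN.1 x.2 _ ha))
    have hc2 : c * c = 1 := congrArg i (hel ⟨⟨a, h1⟩, h2⟩) |>.trans (map_one i)
    have key : ∀ (k : ℕ) (g₀ : CN A), g₀⁻¹ * c ^ k * g₀ ∈ S₁ → g₀⁻¹ * c ^ k * g₀ = c ^ k := by
      intro k g₀ _
      rw [mul_assoc, (show Commute (c ^ k) g₀ from (show Commute c g₀ from hc1 g₀).pow_left k).eq, inv_mul_cancel_left]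
    have h4 := MonoidHom.transfer_eq_pow (χ.comp j) c key
    have h6 : c ^ S₁.index = c := by
      obtain ⟨m, hm⟩ := hodd'
      change c ^ (((S : Subgroup G).subgroupOf (normalizer (A : Set G))).subgroupOf (CN A)).index = c
      rw [hm, pow_succ, pow_mul, pow_two, hc2, one_pow, one_mul]
    have h7 : j ⟨c ^ S₁.index, MonoidHom.transfer_eq_pow_aux c key⟩ = ⟨a, haS⟩ := by
      apply Subtype.ext
      change ((((c ^ S₁.index : CN A)) : ↥(normalizer (A : Set G))) : G) = a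
      rw [h6]; rfl
    rw [MonoidHom.comp_apply, h7] at h4
    apply hχ
    rw [← h4]
    have h8 : sq (CN A) ≤ (MonoidHom.transfer (χ.comp j)).ker := by
      rw [sq, closure_le]
      rintro _ ⟨s, rfl⟩
      rw [SetLike.mem_coe, MonoidHom.mem_ker, map_mul]
      exact mulZMod_sq _
    exact h8 h3

/-- **Lemma P** (third form): if `A ≤ Z(S)` and some element of `A` lies outside of some subgroup of index two of
`S` then `S = A`. -/
theorem le_of_index_two (hC1 : C1 G)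
    (hcent : ∀ a ∈ ClosedFam.fam 𝒜 (S : Subgroup G), ∀ s ∈ (S : Subgroup G), s * a = a * s)
    {a : G} (ha : a ∈ ClosedFam.fam 𝒜 (S : Subgroup G)) {M : Subgroup G}
    (hM : M.relIndex (S : Subgroup G) = 2) (haM : a ∉ M) :
    (S : Subgroup G) ≤ ClosedFam.fam 𝒜 (S : Subgroup G) := by
  rcases le_or_le_sq h S hC1 hcent with h1 | h1
  · exact h1
  · exfalso
    obtain ⟨b, hb, hba⟩ := h1 ha
    have h2 : sq (S : Subgroup G) ≤ M.subgroupOf (S : Subgroup G) := by
      rw [sq, closure_le]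
      rintro _ ⟨s, rfl⟩
      exact mul_self_mem_of_index_two (H := M.subgroupOf (S : Subgroup G)) hM s
    apply haM
    rw [← hba]
    exact mem_subgroupOf.1 (h2 hb)

end

end Split

end Cfsg.Agent.TwoFusion.GoldP
end

-- part: TwoFusion/GoldFourAct
section
/-!
# Goldschmidt's theorem, `|A| = 4`: 2-elements acting on a simple group with a four-group as Sylow 2-subgroup

`mem_of_comm`: `K` is a simple normal subgroup of `Y` with `C_Y(K) = 1` whose Sylow 2-subgroup `A` is a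
four-group.  Then every 2-element centralizing `A` lies in `A` (by the Z*-theorem).
`exists_mul_mem_centralizer`: the version without `C_Y(K) = 1`.
-/

set_option autoImplicit false
set_option linter.style.haveILetI false

namespace Cfsg.Agent.TwoFusion.GoldFourAct

open Subgroup
open Cfsg.Agent.TwoFusion.ClosedFam Cfsg.Agent.TwoFusion.ClosedLocal
open Cfsg.Agent.Lib.GoldschmidtFusion (exists_conj_le_in map_conj_map_conj mem_normalizer_iff_map_conj
  map_conj_le_of_le_normalizer mem_map_conj card_map_conj)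

variable {Y : Type*} [Group Y] [Finite Y]

omit [Finite Y] in
/-- If `C` is normal of odd index in `N`, then `n² ∈ C` implies `n ∈ C`. -/
theorem mem_of_sq_mem {C N : Subgroup Y} (hn : ∀ n ∈ N, ∀ c ∈ C, n * c * n⁻¹ ∈ C)
    (hodd : ¬ 2 ∣ C.relIndex N) {n : Y} (hnN : n ∈ N) (h2 : n * n ∈ C) : n ∈ C := by
  have hnorm : (C.subgroupOf N).Normal := by
    refine ⟨fun c hc g => ?_⟩
    rw [mem_subgroupOf] at hc ⊢
    exact hn g g.2 c hc
  have h1 : (⟨n, hnN⟩ : N) ^ (C.subgroupOf N).index ∈ C.subgroupOf N :=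
    Subgroup.pow_index_mem (C.subgroupOf N) _
  rw [mem_subgroupOf] at h1
  have h3 : n ^ C.relIndex N ∈ C := h1
  obtain ⟨k, hk⟩ : Odd (C.relIndex N) := Nat.not_even_iff_odd.1 (fun he => hodd he.two_dvd)
  rw [hk, pow_succ, pow_mul, pow_two] at h3
  have h4 : (n * n) ^ k ∈ C := pow_mem h2 k
  have e : n = ((n * n) ^ k)⁻¹ * ((n * n) ^ k * n) := by group
  rw [e]
  exact mul_mem (inv_mem h4) h3

omit [Finite Y] in
/-- the elements of a four-group -/
theorem exhaust {A : Subgroup Y} (hA4 : Nat.card A = 4) (hAsq : ∀ a ∈ A, a * a = 1) {x y z : Y} (hx : x ∈ A)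
    (hy : y ∈ A) (hz : z ∈ A) (hx1 : x ≠ 1) (hy1 : y ≠ 1) (hxy : x ≠ y) :
    z = 1 ∨ z = x ∨ z = y ∨ z = x * y := by
  classical
  by_contra hcon
  push Not at hcon
  obtain ⟨h1, h2, h3, h5⟩ := hcon
  have hxx := hAsq x hx
  have hyy := hAsq y hy
  have hxy1 : x * y ≠ 1 := by
    intro e
    apply hxy
    have : x = y⁻¹ := eq_inv_of_mul_eq_one_left e
    rw [this]; exact inv_eq_of_mul_eq_one_left hyy
  have hxyx : x * y ≠ x := fun e => hy1 (mul_eq_left.1 e)
  have hxyy : x * y ≠ y := fun e => hx1 (mul_eq_right.1 e)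
  let s : Finset A :=
    {⟨1, one_mem _⟩, ⟨x, hx⟩, ⟨y, hy⟩, ⟨x * y, mul_mem hx hy⟩, ⟨z, hz⟩}
  have hs : s.card = 5 := by
    simp only [s]
    rw [Finset.card_insert_of_notMem, Finset.card_insert_of_notMem, Finset.card_insert_of_notMem,
      Finset.card_insert_of_notMem, Finset.card_singleton]
    · simp only [Finset.mem_singleton, Subtype.mk.injEq]; exact fun e => h5 e.symm
    · simp only [Finset.mem_insert, Finset.mem_singleton, Subtype.mk.injEq]
      rintro (e | e)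
      · exact hxyy e.symm
      · exact h3 e.symm
    · simp only [Finset.mem_insert, Finset.mem_singleton, Subtype.mk.injEq]
      rintro (e | e | e)
      · exact hxy e
      · exact hxyx e.symm
      · exact h2 e.symm
    · simp only [Finset.mem_insert, Finset.mem_singleton, Subtype.mk.injEq]
      rintro (e | e | e | e)
      · exact hx1 e.symm
      · exact hy1 e.symm
      · exact hxy1 e.symm
      · exact h1 e.symm
  haveI hfinA : Finite A := Nat.finite_of_card_ne_zero (by rw [hA4]; norm_num)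
  have hfin : Fintype A := Fintype.ofFinite _
  have := Finset.card_le_univ s
  rw [hs, ← Nat.card_eq_fintype_card, hA4] at this
  omega

omit [Finite Y] in
theorem comm_of_sq {A : Subgroup Y} (hAsq : ∀ a ∈ A, a * a = 1) {x y : Y} (hx : x ∈ A) (hy : y ∈ A) :
    x * y = y * x := by
  have h1 := hAsq _ (mul_mem hx hy)
  have hx' : x⁻¹ = x := inv_eq_of_mul_eq_one_right (hAsq x hx)
  have hy' : y⁻¹ = y := inv_eq_of_mul_eq_one_right (hAsq y hy)
  have h2 : (x * y)⁻¹ = x * y := inv_eq_of_mul_eq_one_right h1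
  rw [mul_inv_rev, hx', hy'] at h2
  exact h2.symm

omit [Finite Y] in
theorem isPGroup_of_sq {A : Subgroup Y} (hAsq : ∀ a ∈ A, a * a = 1) : IsPGroup 2 A := by
  rintro ⟨a, ha⟩
  refine ⟨1, Subtype.ext ?_⟩
  rw [pow_one, pow_two]
  exact hAsq a ha

omit [Finite Y] in
/-- The number of elements normalising `A` modulo those centralising it is odd. -/
theorem odd_relIndex {A K N : Subgroup Y} (hAi : ¬ 2 ∣ A.relIndex K) (hNK : N ≤ K) {C : Subgroup Y}
    (hAC : A ≤ C) (hCN : C ≤ N) : ¬ 2 ∣ C.relIndex N := by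
  intro h
  apply hAi
  have h1 : A.relIndex K = A.relIndex N * N.relIndex K :=
    (relIndex_mul_relIndex A N K (hAC.trans hCN) hNK).symm
  have h2 : A.relIndex N = A.relIndex C * C.relIndex N :=
    (relIndex_mul_relIndex A C N hAC hCN).symm
  rw [h1, h2]
  exact (h.mul_left _).mul_right _

/-- Burnside's fusion theorem for abelian Sylow subgroups, relative version. -/
theorem exists_normalizer_conj {W P : Subgroup Y} (hPW : P ≤ W) (hP : IsPGroup 2 P)
    (hPi : ¬ 2 ∣ P.relIndex W) (hc : ∀ x ∈ P, ∀ y ∈ P, x * y = y * x) {s g : Y} (hs : s ∈ P) (hg : g ∈ W)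
    (hgs : g * s * g⁻¹ ∈ P) : ∃ m ∈ W, m ∈ normalizer (P : Set Y) ∧ m * s * m⁻¹ = g * s * g⁻¹ := by
  haveI : Fact (Nat.Prime 2) := ⟨Nat.prime_two⟩
  have hP' : IsPGroup 2 (P.subgroupOf W) := hP.comap_of_injective W.subtype W.subtype_injective
  let Q : Sylow 2 W := hP'.toSylow hPi
  have hQ : ∀ x : W, x ∈ Q ↔ (x : Y) ∈ P := fun x => mem_subgroupOf
  haveI hQc : IsMulCommutative (Q : Subgroup W) := by
    refine ⟨⟨fun x y => ?_⟩⟩
    apply Subtype.ext
    apply Subtype.ext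
    exact hc _ ((hQ _).1 x.2) _ ((hQ _).1 y.2)
  obtain ⟨n, hn, hnz⟩ := Q.conj_eq_normalizer_conj_of_mem ⟨s, hPW hs⟩ (⟨g, hg⟩ : W)⁻¹ ((hQ _).2 hs)
    ((hQ _).2 (by simpa only [_root_.inv_inv, _root_.MulMemClass.mk_mul_mk, _root_.Subgroup.coe_mul, _root_.InvMemClass.coe_inv] using hgs))
  set m : W := n⁻¹ with hm
  refine ⟨m, m.2, ?_, ?_⟩
  · have h1 : m ∈ normalizer ((Q : Subgroup W) : Set W) := inv_mem hn
    rw [mem_normalizer_iff] at h1 ⊢
    intro a
    by_cases ha : a ∈ W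
    · have h2 : (⟨a, ha⟩ : W) ∈ Q ↔ m * ⟨a, ha⟩ * m⁻¹ ∈ Q := h1 ⟨a, ha⟩
      exact ((hQ _).symm.trans h2).trans (hQ _)
    · constructor
      · intro h2; exact absurd (hPW h2) ha
      · intro h2
        exfalso
        apply ha
        have h3 := hPW h2
        have e : a = (m : Y)⁻¹ * ((m : Y) * a * (m : Y)⁻¹) * m := by group
        rw [e]
        exact mul_mem (mul_mem (inv_mem m.2) h3) m.2
  · have := congrArg Subtype.val hnz
    simp only [coe_mul, coe_inv, inv_inv] at this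
    rw [hm]
    simp only [coe_inv, inv_inv]
    exact this.symm

/-- In a simple nonabelian group with a four-group `A` as Sylow 2-subgroup some element of `N(A)` acts without
fixed points on `A`. -/
theorem exists_fpf {K A : Subgroup Y} (hK : IsSimpleGroup K) (hna : ∃ x ∈ K, ∃ y ∈ K, x * y ≠ y * x)
    (hAK : A ≤ K) (hA4 : Nat.card A = 4) (hAsq : ∀ a ∈ A, a * a = 1) (hAi : ¬ 2 ∣ A.relIndex K) :
    ∃ n ∈ K, n ∈ normalizer (A : Set Y) ∧ ∀ a ∈ A, n * a * n⁻¹ = a → a = 1 := by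
  classical
  haveI : Fact (Nat.Prime 2) := ⟨Nat.prime_two⟩
  haveI := hK
  have hAp : IsPGroup 2 A := isPGroup_of_sq hAsq
  have hAp' : IsPGroup 2 (A.subgroupOf K) := hAp.comap_of_injective K.subtype K.subtype_injective
  let P : Sylow 2 K := hAp'.toSylow hAi
  have hP : ∀ x : K, x ∈ P ↔ (x : Y) ∈ A := fun x => mem_subgroupOf
  -- a nontrivial element
  obtain ⟨z, hz1⟩ : ∃ z : A, z ≠ 1 := by
    haveI : Nontrivial A := Finite.one_lt_card_iff_nontrivial.1 (by rw [hA4]; norm_num)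
    exact exists_ne 1
  have hz1' : (z : Y) ≠ 1 := fun e => hz1 (Subtype.ext e)
  have hz2 : orderOf (z : Y) = 2 := orderOf_eq_prime (by rw [pow_two]; exact hAsq z z.2) hz1'
  -- it is not isolated
  obtain ⟨g, hgA, hgz⟩ : ∃ g : K, (g : Y) * z * (g : Y)⁻¹ ∈ A ∧ (g : Y) * z * (g : Y)⁻¹ ≠ z := by
    by_contra hcon
    push Not at hcon
    obtain ⟨N, hN, hNodd, hNc⟩ := Cfsg.Agent.S0215.result (G := K) P ⟨z, hAK z.2⟩
      (by rw [← Subgroup.orderOf_coe]; exact hz2) ((hP _).2 z.2) (by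
        intro g hg
        apply Subtype.ext
        exact hcon g ((hP _).1 hg))
    rcases IsSimpleGroup.eq_bot_or_eq_top_of_normal N hN with hb | ht
    · have hzc : (⟨z, hAK z.2⟩ : K) ∈ center K := by
        rw [mem_center_iff]
        intro g
        have := hNc g
        rw [hb, mem_bot] at this
        calc g * (⟨z, hAK z.2⟩ : K) = 1 * (g * ⟨z, hAK z.2⟩) := by rw [one_mul]
          _ = (⟨z, hAK z.2⟩ : K) * g := by rw [← this]; group
      rcases IsSimpleGroup.eq_bot_or_eq_top_of_normal (center K) inferInstance with hc | hc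
      · rw [hc, mem_bot] at hzc
        exact hz1' (congrArg Subtype.val hzc)
      · obtain ⟨x, hx, y, hy, hxy⟩ := hna
        apply hxy
        have : (⟨y, hy⟩ : K) ∈ center K := by rw [hc]; exact mem_top _
        exact congrArg Subtype.val (mem_center_iff.1 this ⟨x, hx⟩)
    · rw [ht, card_top] at hNodd
      have h4 : Nat.card A ∣ Nat.card K := Subgroup.card_dvd_of_le hAK
      rw [hA4] at h4
      exact (Nat.not_even_iff_odd.2 hNodd) (even_iff_two_dvd.2 ((by norm_num : 2 ∣ 4).trans h4))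
  -- Burnside
  haveI hPc : IsMulCommutative (P : Subgroup K) := by
    refine ⟨⟨fun x y => ?_⟩⟩
    apply Subtype.ext
    apply Subtype.ext
    exact comm_of_sq hAsq ((hP _).1 x.2) ((hP _).1 y.2)
  obtain ⟨n, hn, hnz⟩ := P.conj_eq_normalizer_conj_of_mem ⟨z, hAK z.2⟩ g⁻¹ ((hP _).2 z.2)
    ((hP _).2 (by simpa only [_root_.inv_inv, _root_.Subgroup.coe_mul, _root_.InvMemClass.coe_inv] using hgA))
  set m : K := n⁻¹ with hm
  have hmN : (m : Y) ∈ normalizer (A : Set Y) := by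
    have h1 : m ∈ normalizer ((P : Subgroup K) : Set K) := inv_mem hn
    rw [mem_normalizer_iff] at h1 ⊢
    intro a
    by_cases ha : a ∈ K
    · have h2 : (⟨a, ha⟩ : K) ∈ P ↔ m * ⟨a, ha⟩ * m⁻¹ ∈ P := h1 ⟨a, ha⟩
      exact ((hP _).symm.trans h2).trans (hP _)
    · constructor
      · intro h2; exact absurd (hAK h2) ha
      · intro h2
        exfalso
        apply ha
        have h3 := hAK h2
        have e : a = (m : Y)⁻¹ * ((m : Y) * a * (m : Y)⁻¹) * m := by group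
        rw [e]
        exact mul_mem (mul_mem (inv_mem m.2) h3) m.2
  have hmz : (m : Y) * z * (m : Y)⁻¹ ≠ z := by
    have h1 : (m : Y) * z * (m : Y)⁻¹ = (g : Y) * z * (g : Y)⁻¹ := by
      have := congrArg Subtype.val hnz
      simp only [coe_mul, coe_inv, inv_inv] at this
      rw [hm]
      simp only [coe_inv, inv_inv]
      exact this.symm
    rw [h1]; exact hgz
  refine ⟨m, m.2, hmN, ?_⟩
  intro w hw hmw
  by_contra hw1
  have hzw : (z : Y) ≠ w := by
    rintro e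
    rw [← e] at hmw
    exact hmz hmw
  have hmzA : (m : Y) * z * (m : Y)⁻¹ ∈ A := (mem_normalizer_iff.1 hmN _).1 z.2
  have hmz' : (m : Y) * z * (m : Y)⁻¹ = z * w := by
    rcases exhaust hA4 hAsq z.2 hw hmzA hz1' hw1 hzw with e | e | e | e
    · exfalso
      apply hz1'
      have : (z : Y) = (m : Y)⁻¹ * ((m : Y) * z * (m : Y)⁻¹) * m := by group
      rw [this, e]; group
    · exact absurd e hmz
    · exfalso
      exact hzw (mul_left_cancel (mul_right_cancel (e.trans hmw.symm)))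
    · exact e
  -- `m²` centralises `A`
  have hcent : (m : Y) * m ∈ centralizer (A : Set Y) := by
    rw [mem_centralizer_iff]
    intro a ha
    have hfz : (m : Y) * m * z * ((m : Y) * m)⁻¹ = z := by
      calc (m : Y) * m * z * ((m : Y) * m)⁻¹ = (m : Y) * ((m : Y) * z * (m : Y)⁻¹) * (m : Y)⁻¹ := by group
        _ = (m : Y) * (z * w) * (m : Y)⁻¹ := by rw [hmz']
        _ = ((m : Y) * z * (m : Y)⁻¹) * ((m : Y) * w * (m : Y)⁻¹) := by group
        _ = z * (w * w) := by rw [hmz', hmw]; group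
        _ = z := by rw [hAsq w hw, mul_one]
    have hfw : (m : Y) * m * w * ((m : Y) * m)⁻¹ = w := by
      calc (m : Y) * m * w * ((m : Y) * m)⁻¹ = (m : Y) * ((m : Y) * w * (m : Y)⁻¹) * (m : Y)⁻¹ := by group
        _ = w := by rw [hmw, hmw]
    have key : (m : Y) * m * a * ((m : Y) * m)⁻¹ = a := by
      rcases exhaust hA4 hAsq z.2 hw ha hz1' hw1 hzw with e | e | e | e
      · rw [e]; group
      · rw [e]; exact hfz
      · rw [e]; exact hfw
      · rw [e]
        calc (m : Y) * m * (z * w) * ((m : Y) * m)⁻¹ =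
            ((m : Y) * m * z * ((m : Y) * m)⁻¹) * ((m : Y) * m * w * ((m : Y) * m)⁻¹) := by group
          _ = z * w := by rw [hfz, hfw]
    calc a * ((m : Y) * m) = ((m : Y) * m * a * ((m : Y) * m)⁻¹) * ((m : Y) * m) := by rw [key]
      _ = (m : Y) * m * a := by group
  have h1 : (m : Y) ∈ centralizer (A : Set Y) ⊓ K := by
    apply mem_of_sq_mem (C := centralizer (A : Set Y) ⊓ K) (N := normalizer (A : Set Y) ⊓ K)
    · intro n hn c hc
      obtain ⟨hn1, hn2⟩ := mem_inf.1 hn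
      obtain ⟨hc1, hc2⟩ := mem_inf.1 hc
      refine mem_inf.2 ⟨?_, mul_mem (mul_mem hn2 hc2) (inv_mem hn2)⟩
      rw [mem_centralizer_iff]
      intro a ha
      have ha' : n⁻¹ * a * n ∈ A := by
        have := (mem_normalizer_iff.1 (inv_mem hn1) a).1 ha
        simpa using this
      have h2 := (mem_centralizer_iff.1 hc1) _ ha'
      calc a * (n * c * n⁻¹) = n * ((n⁻¹ * a * n) * c) * n⁻¹ := by group
        _ = n * c * n⁻¹ * a := by rw [h2]; group
    · refine odd_relIndex hAi inf_le_right (C := centralizer (A : Set Y) ⊓ K) ?_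
        (inf_le_inf_right _ (centralizer_le_normalizer _))
      intro a ha
      refine mem_inf.2 ⟨?_, hAK ha⟩
      rw [mem_centralizer_iff]
      intro b hb
      exact comm_of_sq hAsq hb ha
    · exact ⟨hmN, m.2⟩
    · exact ⟨hcent, mul_mem m.2 m.2⟩
  have h2 := (mem_centralizer_iff.1 h1.1) z z.2
  apply hmz
  rw [← h2]; group

/-- A fixed-point-free automorphism of a finite abelian group: the commutator map is onto. -/
theorem exists_of_fpf {A : Subgroup Y} (hcomm : ∀ x ∈ A, ∀ y ∈ A, x * y = y * x) {n : Y}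
    (hn : n ∈ normalizer (A : Set Y)) (hfix : ∀ a ∈ A, n * a * n⁻¹ = a → a = 1) {b : Y} (hb : b ∈ A) :
    ∃ a ∈ A, b * (n * a * n⁻¹) = a := by
  have hconj : ∀ a ∈ A, n * a * n⁻¹ ∈ A := fun a ha => (mem_normalizer_iff.1 hn a).1 ha
  let φ : A → A := fun a => a * ⟨n * a * n⁻¹, hconj a a.2⟩⁻¹
  have hinj : Function.Injective φ := by
    intro a c hac
    have h1 : (a : Y) * (n * a * n⁻¹)⁻¹ = c * (n * c * n⁻¹)⁻¹ := congrArg Subtype.val hac
    have h2 : (c : Y)⁻¹ * a ∈ A := mul_mem (inv_mem c.2) a.2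
    have h3 : n * ((c : Y)⁻¹ * a) * n⁻¹ = (c : Y)⁻¹ * a := by
      have e1 : n * ((c : Y)⁻¹ * a) * n⁻¹ = (n * c * n⁻¹)⁻¹ * (n * a * n⁻¹) := by group
      have h4 := hcomm _ (inv_mem c.2) _ a.2
      have h5 := hcomm _ (inv_mem (hconj c c.2)) _ (hconj a a.2)
      rw [e1]
      calc (n * (c : Y) * n⁻¹)⁻¹ * (n * a * n⁻¹) =
          (c : Y)⁻¹ * (c * (n * c * n⁻¹)⁻¹) * (n * a * n⁻¹) := by group
        _ = (c : Y)⁻¹ * (a * (n * a * n⁻¹)⁻¹) * (n * a * n⁻¹) := by rw [h1]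
        _ = (c : Y)⁻¹ * a := by group
    have h4 := hfix _ h2 h3
    exact Subtype.ext (inv_mul_eq_one.1 h4).symm
  obtain ⟨a, ha⟩ := (Finite.injective_iff_surjective.1 hinj) ⟨b, hb⟩
  have h1 : (a : Y) * (n * a * n⁻¹)⁻¹ = b := congrArg Subtype.val ha
  exact ⟨a, a.2, by rw [← h1]; group⟩

omit [Finite Y] in
/-- The group `K⟨p⟩ = K ∪ K p` when `p² ∈ K` and `p` normalises `K`. -/
def adj (K : Subgroup Y) (p : Y) (hn : ∀ k ∈ K, p * k * p⁻¹ ∈ K) (hn' : ∀ k ∈ K, p⁻¹ * k * p ∈ K)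
    (hpp : p * p ∈ K) : Subgroup Y where
  carrier := {x | x ∈ K ∨ x * p⁻¹ ∈ K}
  one_mem' := Or.inl K.one_mem
  mul_mem' := by
    rintro x y (hx | hx) (hy | hy)
    · exact Or.inl (mul_mem hx hy)
    · refine Or.inr ?_
      rw [mul_assoc]
      exact mul_mem hx hy
    · refine Or.inr ?_
      have e : x * y * p⁻¹ = (x * p⁻¹) * (p * y * p⁻¹) := by group
      rw [e]
      exact mul_mem hx (hn y hy)
    · refine Or.inl ?_
      have e : x * y = (x * p⁻¹) * (p * (y * p⁻¹) * p⁻¹) * (p * p) := by group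
      rw [e]
      exact mul_mem (mul_mem hx (hn _ hy)) hpp
  inv_mem' := by
    rintro x (hx | hx)
    · exact Or.inl (inv_mem hx)
    · refine Or.inr ?_
      have e : x⁻¹ * p⁻¹ = (p⁻¹ * (x * p⁻¹)⁻¹ * p) * (p * p)⁻¹ := by group
      rw [e]
      exact mul_mem (hn' _ (inv_mem hx)) (inv_mem hpp)

section Adj

variable {K : Subgroup Y} {p : Y} {hn : ∀ k ∈ K, p * k * p⁻¹ ∈ K} {hn' : ∀ k ∈ K, p⁻¹ * k * p ∈ K}
  {hpp : p * p ∈ K}

omit [Finite Y] in
theorem mem_adj {x : Y} : x ∈ adj K p hn hn' hpp ↔ x ∈ K ∨ x * p⁻¹ ∈ K := Iff.rfl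

omit [Finite Y] in
theorem le_adj : K ≤ adj K p hn hn' hpp := fun _ hx => Or.inl hx

omit [Finite Y] in
theorem self_mem_adj : p ∈ adj K p hn hn' hpp := Or.inr (by rw [mul_inv_cancel]; exact K.one_mem)

omit [Finite Y] in
theorem relIndex_adj (hp : p ∉ K) : K.relIndex (adj K p hn hn' hpp) = 2 := by
  rw [relIndex, Subgroup.index_eq_two_iff]
  refine ⟨⟨p, self_mem_adj⟩, fun b => ?_⟩
  rw [mem_subgroupOf, mem_subgroupOf]
  change Xor ((b : Y) * p ∈ K) ((b : Y) ∈ K)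
  by_cases hb : (b : Y) ∈ K
  · exact Or.inr ⟨hb, fun h1 => hp (by simpa using mul_mem (inv_mem hb) h1)⟩
  · refine Or.inl ⟨?_, hb⟩
    have h1 := (mem_adj.1 b.2).resolve_left hb
    have e : (b : Y) * p = b * p⁻¹ * (p * p) := by group
    rw [e]
    exact mul_mem h1 hpp

end Adj

/-- The main step. -/
theorem mem_of_comm_of_sq {K A : Subgroup Y} (hKn : K.Normal) (hK : IsSimpleGroup K)
    (hna : ∃ x ∈ K, ∃ y ∈ K, x * y ≠ y * x)
    (hAK : A ≤ K) (hA4 : Nat.card A = 4) (hAsq : ∀ a ∈ A, a * a = 1) (hAi : ¬ 2 ∣ A.relIndex K)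
    (hC : centralizer (K : Set Y) = ⊥) {p : Y} (hpA : ∀ a ∈ A, p * a = a * p) (hpp : p * p ∈ A) : p ∈ A := by
  classical
  haveI : Fact (Nat.Prime 2) := ⟨Nat.prime_two⟩
  haveI := hK
  by_contra hp
  have hAc : ∀ x ∈ A, ∀ y ∈ A, x * y = y * x := fun x hx y hy => comm_of_sq hAsq hx hy
  have hAp : IsPGroup 2 A := isPGroup_of_sq hAsq
  obtain ⟨n, hnK, hnA, hfix⟩ := exists_fpf hK hna hAK hA4 hAsq hAi
  have hpA' : ∀ a ∈ A, p * a * p⁻¹ = a := fun a ha => by rw [hpA a ha]; group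
  have hpA'' : ∀ a ∈ A, p⁻¹ * a * p = a := fun a ha => by
    rw [mul_assoc, ← hpA a ha]; group
  -- the group `P₁ = A⟨p⟩`
  set P₁ : Subgroup Y := adj A p (fun a ha => by rw [hpA' a ha]; exact ha)
    (fun a ha => by rw [hpA'' a ha]; exact ha) hpp with hP₁
  have hAP₁ : A ≤ P₁ := le_adj
  have hpP₁ : p ∈ P₁ := self_mem_adj
  have hrelP₁ : A.relIndex P₁ = 2 := relIndex_adj hp
  have hP₁c : ∀ x ∈ P₁, ∀ y ∈ P₁, x * y = y * x := by
    have h1 : ∀ x ∈ P₁, ∃ a ∈ A, x = a ∨ x = a * p := by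
      intro x hx
      rcases mem_adj.1 hx with h | h
      · exact ⟨x, h, Or.inl rfl⟩
      · exact ⟨_, h, Or.inr (by group)⟩
    intro x hx y hy
    obtain ⟨a, ha, hxa⟩ := h1 x hx
    obtain ⟨b, hb, hyb⟩ := h1 y hy
    have hab := hAc a ha b hb
    have hpa := hpA a ha
    have hpb := hpA b hb
    rcases hxa with rfl | rfl <;> rcases hyb with rfl | rfl
    · exact hab
    · rw [← mul_assoc, hab, mul_assoc, ← hpa, mul_assoc]
    · rw [mul_assoc, hpb, ← mul_assoc, hab, mul_assoc]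
    · calc a * p * (b * p) = a * (p * b) * p := by group
        _ = (a * b) * (p * p) := by rw [hpb]; group
        _ = b * (a * p) * p := by rw [hab]; group
        _ = b * (p * a) * p := by rw [hpa]
        _ = b * p * (a * p) := by group
  have hP₁p : IsPGroup 2 P₁ := by
    rintro ⟨x, hx⟩
    refine ⟨2, Subtype.ext ?_⟩
    change x ^ 2 ^ 2 = 1
    have hxx : x * x ∈ A := by
      rcases mem_adj.1 hx with h | h
      · exact mul_mem h h
      · have h2 := hpA _ h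
        have e : x * x = (x * p⁻¹) * (x * p⁻¹) * (p * p) := by
          calc x * x = (x * p⁻¹) * (p * (x * p⁻¹)) * p := by group
            _ = (x * p⁻¹) * (x * p⁻¹) * (p * p) := by rw [h2]; group
        rw [e]
        exact mul_mem (mul_mem h h) hpp
    have e : x ^ 2 ^ 2 = (x * x) * (x * x) := by
      simp only [pow_succ, pow_zero, one_mul, mul_assoc]
      norm_num [pow_succ, mul_assoc]
    rw [e]; exact hAsq _ hxx
  -- `p ∉ K`
  have hpK : p ∉ K := by
    intro hpK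
    have h1 : P₁ ≤ K := by
      intro x hx
      rcases mem_adj.1 hx with h | h
      · exact hAK h
      · have : x = (x * p⁻¹) * p := by group
        rw [this]; exact mul_mem (hAK h) hpK
    apply hAi
    rw [← relIndex_mul_relIndex A P₁ K hAP₁ h1, hrelP₁]
    exact dvd_mul_right 2 _
  have hppK : p * p ∈ K := hAK hpp
  -- the group `W = K⟨p⟩`
  set W : Subgroup Y := adj K p (fun k hk => hKn.conj_mem k hk p)
    (fun k hk => by have := hKn.conj_mem k hk p⁻¹; rwa [inv_inv] at this) hppK with hW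
  have hKW : K ≤ W := le_adj
  have hpW : p ∈ W := self_mem_adj
  have hP₁W : P₁ ≤ W := by
    intro x hx
    rcases mem_adj.1 hx with h | h
    · exact hKW (hAK h)
    · exact Or.inr (hAK h)
  have hrelW : K.relIndex W = 2 := relIndex_adj hpK
  have hP₁i : ¬ 2 ∣ P₁.relIndex W := by
    have h1 : A.relIndex W = A.relIndex K * 2 := by
      rw [← relIndex_mul_relIndex A K W hAK hKW, hrelW]
    have h2 : A.relIndex W = 2 * P₁.relIndex W := by
      rw [← relIndex_mul_relIndex A P₁ W hAP₁ hP₁W, hrelP₁]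
    have h3 : P₁.relIndex W = A.relIndex K := by omega
    rw [h3]; exact hAi
  have hP₁K : ∀ x ∈ P₁, x ∈ K → x ∈ A := by
    intro x hx hxK
    rcases mem_adj.1 hx with h | h
    · exact h
    · exfalso
      apply hpK
      have e : p = (x * p⁻¹)⁻¹ * x := by group
      rw [e]
      exact mul_mem (inv_mem (hAK h)) hxK
  -- Frattini: `x` normalises `P₁` and acts on `A` like `n`
  set CW : Subgroup Y := centralizer (A : Set Y) ⊓ W with hCW
  have hP₁CW : P₁ ≤ CW := by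
    intro x hx
    refine mem_inf.2 ⟨?_, hP₁W hx⟩
    rw [mem_centralizer_iff]
    intro a ha
    exact hP₁c a (hAP₁ ha) x hx
  have hD : P₁.map (MulAut.conj n).toMonoidHom ≤ CW := by
    rintro _ ⟨x, hx, rfl⟩
    change n * x * n⁻¹ ∈ CW
    refine mem_inf.2 ⟨?_, mul_mem (mul_mem (hKW hnK) (hP₁W hx)) (inv_mem (hKW hnK))⟩
    rw [mem_centralizer_iff]
    intro a ha
    have ha' : n⁻¹ * a * n ∈ A := by
      have := (mem_normalizer_iff.1 (inv_mem hnA) a).1 ha
      rwa [inv_inv] at this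
    have h1 := hP₁c _ (hAP₁ ha') x hx
    calc a * (n * x * n⁻¹) = n * ((n⁻¹ * a * n) * x) * n⁻¹ := by group
      _ = n * x * n⁻¹ * a := by rw [h1]; group
  obtain ⟨c, hc, hcle⟩ := exists_conj_le_in (p := 2) hP₁p (N := CW)
    (fun h => hP₁i (by
      rw [← relIndex_mul_relIndex P₁ CW W hP₁CW inf_le_right]
      exact h.mul_right _)) hD (hP₁p.map _)
  obtain ⟨hcA, hcW⟩ := mem_inf.1 hc
  rw [map_conj_map_conj] at hcle
  set x := c * n with hx
  have hxW : x ∈ W := mul_mem hcW (hKW hnK)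
  have hxP₁ : x ∈ normalizer (P₁ : Set Y) :=
    mem_normalizer_iff_map_conj.2 (map_conj_le_of_le_normalizer hcle)
  have hxconj : ∀ y ∈ P₁, x * y * x⁻¹ ∈ P₁ := fun y hy => (mem_normalizer_iff.1 hxP₁ y).1 hy
  have hxA' : ∀ a ∈ A, x * a * x⁻¹ = n * a * n⁻¹ := by
    intro a ha
    have h1 : n * a * n⁻¹ ∈ A := (mem_normalizer_iff.1 hnA a).1 ha
    have h2 := (mem_centralizer_iff.1 hcA) _ h1
    calc x * a * x⁻¹ = c * (n * a * n⁻¹) * c⁻¹ := by rw [hx]; group
      _ = n * a * n⁻¹ := by rw [← h2]; group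
  have hxA : ∀ a ∈ A, x * a * x⁻¹ ∈ A := fun a ha => by
    rw [hxA' a ha]; exact (mem_normalizer_iff.1 hnA a).1 ha
  have hxnA : x ∈ normalizer (A : Set Y) := by
    rw [mem_normalizer_iff_map_conj]
    apply map_conj_le_of_le_normalizer
    rintro _ ⟨a, ha, rfl⟩
    exact hxA a ha
  have hxfix : ∀ a ∈ A, x * a * x⁻¹ = a → a = 1 := fun a ha h => hfix a ha (by rw [← hxA' a ha]; exact h)
  -- the fixed element `s ∈ p A`
  have hxp : (x * p * x⁻¹) * p⁻¹ ∈ A := by
    rcases mem_adj.1 (hxconj p hpP₁) with h | h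
    · exfalso
      apply hp
      have h1 := (mem_normalizer_iff.1 (inv_mem hxnA) _).1 h
      have e : x⁻¹ * (x * p * x⁻¹) * x⁻¹⁻¹ = p := by group
      rwa [e] at h1
    · exact h
  obtain ⟨a, ha, hae⟩ := exists_of_fpf hAc hxnA hxfix hxp
  set s := a * p with hs
  have hxs : x * s * x⁻¹ = s := by
    have h1 := hAc _ (hxA a ha) _ hxp
    calc x * s * x⁻¹ = (x * a * x⁻¹) * ((x * p * x⁻¹) * p⁻¹) * p := by rw [hs]; group
      _ = s := by rw [h1, hae]
  have hsP₁ : s ∈ P₁ := mul_mem (hAP₁ ha) hpP₁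
  have hsK : s ∉ K := by
    intro h
    apply hpK
    have e : p = a⁻¹ * s := by rw [hs]; group
    rw [e]; exact mul_mem (inv_mem (hAK ha)) h
  have hssA : s * s ∈ A := by
    have e : s * s = a * a * (p * p) := by
      rw [hs]
      calc a * p * (a * p) = a * (p * a) * p := by group
        _ = a * a * (p * p) := by rw [hpA a ha]; group
    rw [e]; exact mul_mem (mul_mem ha ha) hpp
  have hss : s * s = 1 := by
    apply hxfix _ hssA
    calc x * (s * s) * x⁻¹ = (x * s * x⁻¹) * (x * s * x⁻¹) := by group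
      _ = s * s := by rw [hxs]
  have hs1 : s ≠ 1 := fun e => hsK (by rw [e]; exact one_mem _)
  have hs2 : orderOf s = 2 := orderOf_eq_prime (by rw [pow_two]; exact hss) hs1
  -- elements of `N_W(P₁)` fixing an element of `A#` centralise `P₁`
  set NW : Subgroup Y := normalizer (P₁ : Set Y) ⊓ W with hNW
  have hNWconj : ∀ m ∈ NW, ∀ y ∈ P₁, m * y * m⁻¹ ∈ P₁ := fun m hm y hy =>
    (mem_normalizer_iff.1 (mem_inf.1 hm).1 y).1 hy
  have hNWA : ∀ m ∈ NW, ∀ b ∈ A, m * b * m⁻¹ ∈ A := fun m hm b hb =>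
    hP₁K _ (hNWconj m hm b (hAP₁ hb)) (hKn.conj_mem b (hAK hb) m)
  have hNWs : ∀ m ∈ NW, (m * s * m⁻¹) * s⁻¹ ∈ A := by
    intro m hm
    apply hP₁K _ (mul_mem (hNWconj m hm s hsP₁) (inv_mem hsP₁))
    -- `W/K` has order two
    have hmW := (mem_inf.1 hm).2
    have hWK : ∀ u ∈ W, ∀ v ∈ W, u * v * u⁻¹ * v⁻¹ ∈ K := by
      intro u hu v hv
      have hidx : (K.subgroupOf W).index = 2 := hrelW
      have hu2 := Subgroup.mul_self_mem_of_index_two hidx ⟨u, hu⟩
      have hv2 := Subgroup.mul_self_mem_of_index_two hidx ⟨v, hv⟩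
      have huv2 := Subgroup.mul_self_mem_of_index_two hidx (⟨u, hu⟩ * ⟨v, hv⟩)
      rw [mem_subgroupOf] at hu2 hv2 huv2
      change u * u ∈ K at hu2
      change v * v ∈ K at hv2
      change u * v * (u * v) ∈ K at huv2
      have e : u * v * u⁻¹ * v⁻¹ = (u * v * (u * v)) * (v⁻¹ * (u * u)⁻¹ * v⁻¹⁻¹) * (v * v)⁻¹ := by group
      rw [e]
      exact mul_mem (mul_mem huv2 (hKn.conj_mem _ (inv_mem hu2) v⁻¹)) (inv_mem hv2)
    exact hWK m hmW s (hP₁W hsP₁)
  set CP : Subgroup Y := centralizer (P₁ : Set Y) ⊓ W with hCP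
  have hCPodd : ¬ 2 ∣ CP.relIndex NW := by
    refine odd_relIndex hP₁i inf_le_right ?_ (inf_le_inf_right _ (centralizer_le_normalizer _))
    intro y hy
    refine mem_inf.2 ⟨?_, hP₁W hy⟩
    rw [mem_centralizer_iff]
    intro z hz
    exact hP₁c z hz y hy
  have hCPn : ∀ n ∈ NW, ∀ c ∈ CP, n * c * n⁻¹ ∈ CP := by
    intro n hn c hc
    obtain ⟨hn1, hn2⟩ := mem_inf.1 hn
    obtain ⟨hc1, hc2⟩ := mem_inf.1 hc
    refine mem_inf.2 ⟨?_, mul_mem (mul_mem hn2 hc2) (inv_mem hn2)⟩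
    rw [mem_centralizer_iff]
    intro a ha
    have ha' : n⁻¹ * a * n ∈ P₁ := by
      have := (mem_normalizer_iff.1 (inv_mem hn1) a).1 ha
      simpa using this
    have h2 := (mem_centralizer_iff.1 hc1) _ ha'
    calc a * (n * c * n⁻¹) = n * ((n⁻¹ * a * n) * c) * n⁻¹ := by group
      _ = n * c * n⁻¹ * a := by rw [h2]; group
  have hCPfix : ∀ m ∈ CP, ∀ y ∈ P₁, m * y * m⁻¹ = y := by
    intro m hm y hy
    have h2 := (mem_centralizer_iff.1 (mem_inf.1 hm).1) y hy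
    rw [← h2]; group
  -- elements of `NW` acting trivially on `A` centralise `P₁`
  have hcent0 : ∀ m ∈ NW, (∀ b ∈ A, m * b * m⁻¹ = b) → m ∈ CP := by
    intro m hm hmA
    apply mem_of_sq_mem hCPn hCPodd hm
    have h1 := hNWs m hm
    have hmm : m * m * s * (m * m)⁻¹ = s := by
      have h2 := hmA _ h1
      have h3 := hAsq _ h1
      calc m * m * s * (m * m)⁻¹ = (m * ((m * s * m⁻¹) * s⁻¹) * m⁻¹) * ((m * s * m⁻¹) * s⁻¹) * s := by group
        _ = s := by rw [h2, h3, one_mul]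
    refine mem_inf.2 ⟨?_, (mem_inf.1 (mul_mem hm hm)).2⟩
    rw [mem_centralizer_iff]
    have h4 : ∀ b ∈ A, m * m * b * (m * m)⁻¹ = b := by
      intro b hb
      calc m * m * b * (m * m)⁻¹ = m * (m * b * m⁻¹) * m⁻¹ := by group
        _ = b := by rw [hmA b hb, hmA b hb]
    intro y hy
    have h5 : m * m * y * (m * m)⁻¹ = y := by
      -- `y = b` or `y = b s`
      rcases mem_adj.1 hy with h | h
      · exact h4 y h
      · have h6 : y * s⁻¹ ∈ A := by
          have e' : y * s⁻¹ = (y * p⁻¹) * a⁻¹ := by rw [hs]; group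
          rw [e']
          exact mul_mem h (inv_mem ha)
        calc m * m * y * (m * m)⁻¹ = (m * m * (y * s⁻¹) * (m * m)⁻¹) * (m * m * s * (m * m)⁻¹) := by group
          _ = y := by rw [h4 _ h6, hmm]; group
    calc y * (m * m) = (m * m * y * (m * m)⁻¹) * (m * m) := by rw [h5]
      _ = m * m * y := by group
  have hcent : ∀ m ∈ NW, ∀ b ∈ A, b ≠ 1 → m * b * m⁻¹ = b → m ∈ CP := by
    intro m hm b hb hb1 hmb
    apply mem_of_sq_mem hCPn hCPodd hm
    apply hcent0 _ (mul_mem hm hm)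
    intro c hc
    have hmc := hNWA m hm c hc
    by_cases hbc : b = c
    · rw [← hbc]
      calc m * m * b * (m * m)⁻¹ = m * (m * b * m⁻¹) * m⁻¹ := by group
        _ = b := by rw [hmb, hmb]
    by_cases hc1 : c = 1
    · rw [hc1]; group
    rcases exhaust hA4 hAsq hb hc hmc hb1 hc1 hbc with e | e | e | e
    · exfalso
      apply hc1
      have : c = m⁻¹ * (m * c * m⁻¹) * m := by group
      rw [this, e]; group
    · exfalso
      exact hbc (mul_left_cancel (mul_right_cancel (e.trans hmb.symm))).symm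
    · calc m * m * c * (m * m)⁻¹ = m * (m * c * m⁻¹) * m⁻¹ := by group
        _ = c := by rw [e, e]
    · calc m * m * c * (m * m)⁻¹ = m * (m * c * m⁻¹) * m⁻¹ := by group
        _ = m * (b * c) * m⁻¹ := by rw [e]
        _ = (m * b * m⁻¹) * (m * c * m⁻¹) := by group
        _ = (b * b) * c := by rw [hmb, e]; group
        _ = c := by rw [hAsq b hb, one_mul]
  have hxNW : x ∈ NW := mem_inf.2 ⟨hxP₁, hxW⟩
  -- `s` is isolated in `W`
  have hiso : ∀ g ∈ W, g * s * g⁻¹ ∈ P₁ → g * s * g⁻¹ = s := by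
    intro g hg hgs
    obtain ⟨m, hmW, hmP, hms⟩ := exists_normalizer_conj hP₁W hP₁p hP₁i hP₁c hsP₁ hg hgs
    rw [← hms]
    have hm : m ∈ NW := mem_inf.2 ⟨hmP, hmW⟩
    by_contra hne
    set b := (m * s * m⁻¹) * s⁻¹ with hb
    have hbA : b ∈ A := hNWs m hm
    have hb1 : b ≠ 1 := fun e => hne (mul_inv_eq_one.1 e)
    have hb2A := hxA b hbA
    have hb2 : x * b * x⁻¹ ≠ b := fun e => hb1 (hxfix b hbA e)
    have hb2' : x * b * x⁻¹ ≠ 1 := by
      intro e
      apply hb1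
      have : b = x⁻¹ * (x * b * x⁻¹) * x := by group
      rw [this, e]; group
    have hb3A : x⁻¹ * b * x ∈ A := by
      have := (mem_normalizer_iff.1 (inv_mem hxnA) b).1 hbA
      rwa [inv_inv] at this
    have hb3 : x⁻¹ * b * x = b * (x * b * x⁻¹) := by
      rcases exhaust hA4 hAsq hbA hb2A hb3A hb1 hb2' (Ne.symm hb2) with e | e | e | e
      · exfalso
        apply hb1
        have : b = x * (x⁻¹ * b * x) * x⁻¹ := by group
        rw [this, e]; group
      · exfalso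
        apply hb2
        calc x * b * x⁻¹ = x * (x⁻¹ * b * x) * x⁻¹ := by rw [e]
          _ = b := by group
      · exfalso
        have h1 : (x * x) * b * (x * x)⁻¹ = b := by
          calc (x * x) * b * (x * x)⁻¹ = x * (x * b * x⁻¹) * x⁻¹ := by group
            _ = x * (x⁻¹ * b * x) * x⁻¹ := by rw [e]
            _ = b := by group
        have h2 := hcent _ (mul_mem hxNW hxNW) b hbA hb1 h1
        have h3 := mem_of_sq_mem hCPn hCPodd hxNW h2
        exact hb2 (hCPfix x h3 b (hAP₁ hbA))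
      · exact e
    have hmb := hNWA m hm b hbA
    have key : ∀ y ∈ NW, y * s * y⁻¹ = s → y⁻¹ * (m * b * m⁻¹) * y = b → m * s * m⁻¹ = s := by
      intro y hy hys hyb
      have h1 : (y⁻¹ * m) * b * (y⁻¹ * m)⁻¹ = b := by
        calc (y⁻¹ * m) * b * (y⁻¹ * m)⁻¹ = y⁻¹ * (m * b * m⁻¹) * y := by group
          _ = b := hyb
      have h2 := hcent _ (mul_mem (inv_mem hy) hm) b hbA hb1 h1
      have h3 := hCPfix _ h2 s hsP₁
      calc m * s * m⁻¹ = y * ((y⁻¹ * m) * s * (y⁻¹ * m)⁻¹) * y⁻¹ := by group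
        _ = s := by rw [h3, hys]
    apply hne
    rcases exhaust hA4 hAsq hbA hb2A hmb hb1 hb2' (Ne.symm hb2) with e | e | e | e
    · exfalso
      apply hb1
      have : b = m⁻¹ * (m * b * m⁻¹) * m := by group
      rw [this, e]; group
    · exact key 1 (one_mem _) (by group) (by rw [e]; group)
    · exact key x hxNW hxs (by rw [e]; group)
    · refine key x⁻¹ (inv_mem hxNW) ?_ ?_
      · calc x⁻¹ * s * x⁻¹⁻¹ = x⁻¹ * (x * s * x⁻¹) * x := by rw [hxs, inv_inv]
          _ = s := by group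
      · rw [e, ← hb3]; group
  -- Z*
  have hz := zstar_local hP₁p hP₁W hsP₁ hs2 (by
    intro Q hQ hPQ hQW g hg hgQ
    have hQP : Q = P₁ := by
      have h1 : P₁.relIndex Q ∣ P₁.relIndex W := by
        rw [← relIndex_mul_relIndex P₁ Q W hPQ hQW]
        exact dvd_mul_right _ _
      obtain ⟨k, hk⟩ := IsPGroup.iff_card.1 hQ
      have h2 : P₁.relIndex Q ∣ 2 ^ k := by rw [← hk]; exact relIndex_dvd_card _ _
      obtain ⟨j, _, hj⟩ := (Nat.dvd_prime_pow Nat.prime_two).1 h2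
      have h3 : P₁.relIndex Q = 1 := by
        cases j with
        | zero => simpa using hj
        | succ j =>
          exfalso
          apply hP₁i
          refine dvd_trans ?_ h1
          rw [hj, pow_succ]
          exact dvd_mul_left 2 _
      exact le_antisymm (relIndex_eq_one.1 h3) hPQ
    rw [hQP] at hgQ
    exact hiso g hg hgQ)
  have hcoreK : core W ⊓ K = ⊥ := by
    have hn1 : ((core W ⊓ K).subgroupOf K).Normal := by
      refine ⟨fun y hy g => ?_⟩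
      rw [mem_subgroupOf] at hy ⊢
      exact mem_inf.2 ⟨conj_mem_core (hKW g.2) (mem_inf.1 hy).1, (g * y * g⁻¹).2⟩
    rcases IsSimpleGroup.eq_bot_or_eq_top_of_normal _ hn1 with h | h
    · rw [eq_bot_iff]
      intro y hy
      have h1 : (⟨y, (mem_inf.1 hy).2⟩ : K) ∈ (core W ⊓ K).subgroupOf K := mem_subgroupOf.2 hy
      rw [h, mem_bot] at h1
      exact congrArg Subtype.val h1
    · exfalso
      have h1 : K ≤ core W := fun y hy => (mem_inf.1 (subgroupOf_eq_top.1 h hy)).1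
      have h2 := odd_core W
      have h3 : Nat.card A ∣ Nat.card (core W) := Subgroup.card_dvd_of_le (hAK.trans h1)
      rw [hA4] at h3
      exact (Nat.not_even_iff_odd.2 h2) (even_iff_two_dvd.2 ((by norm_num : 2 ∣ 4).trans h3))
  apply hs1
  rw [← mem_bot, ← hC, mem_centralizer_iff]
  intro k hk
  have h1 : s * k * s⁻¹ * k⁻¹ ∈ core W ⊓ K := by
    refine mem_inf.2 ⟨hz k (hKW hk), ?_⟩
    exact mul_mem (hKn.conj_mem k hk s) (inv_mem hk)
  rw [hcoreK, mem_bot] at h1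
  have h2 : s * k * s⁻¹ = k := mul_inv_eq_one.1 h1
  calc k * s = (s * k * s⁻¹) * s := by rw [h2]
    _ = s * k := by group

/-- **A 2-element centralizing the Sylow four-group `A` of the simple group `K` acts on `K` as an element of
`A`.** -/
theorem mem_of_comm {K A : Subgroup Y} (hKn : K.Normal) (hK : IsSimpleGroup K)
    (hna : ∃ x ∈ K, ∃ y ∈ K, x * y ≠ y * x)
    (hAK : A ≤ K) (hA4 : Nat.card A = 4) (hAsq : ∀ a ∈ A, a * a = 1) (hAi : ¬ 2 ∣ A.relIndex K)
    (hC : centralizer (K : Set Y) = ⊥) {p : Y} (hpA : ∀ a ∈ A, p * a = a * p) (hp : ∃ k : ℕ, p ^ 2 ^ k = 1) :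
    p ∈ A := by
  obtain ⟨k, hk⟩ := hp
  induction k generalizing p with
  | zero =>
    simp only [pow_zero, pow_one] at hk
    rw [hk]; exact one_mem _
  | succ k ih =>
    apply mem_of_comm_of_sq hKn hK hna hAK hA4 hAsq hAi hC hpA
    apply ih
    · intro a ha
      rw [mul_assoc, hpA a ha, ← mul_assoc, hpA a ha, mul_assoc]
    · rw [← pow_two, ← pow_mul, ← pow_succ']
      exact hk

end Cfsg.Agent.TwoFusion.GoldFourAct
end

-- part: TwoFusion/GoldCen
section
/-!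
# Goldschmidt's theorem, `|A| = 4`: the centralizer of the bad component

`cen 𝒜 e`: the elements of `C(e)` which centralize `⟨𝒜 ∩ C(e)⟩` modulo `O(C(e))`.
-/

set_option autoImplicit false
set_option linter.style.haveILetI false

namespace Cfsg.Agent.TwoFusion.GoldCen

open Subgroup
open Cfsg.Agent.TwoFusion.ClosedFam Cfsg.Agent.TwoFusion.Gold
open Cfsg.Agent.TwoFusion.ClosedLocal

variable {G : Type*} [Group G]

/-- The elements of `C(e)` centralizing the family modulo the core of `C(e)`. -/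
def cen (𝒜 : Set G) (e : G) : Subgroup G where
  carrier := {g | g ∈ centralizer ({e} : Set G) ∧ ∀ k ∈ 𝒜, k ∈ centralizer ({e} : Set G) →
    g * k * g⁻¹ * k⁻¹ ∈ core (centralizer ({e} : Set G))}
  one_mem' := ⟨one_mem _, fun k _ _ => by simp [Subgroup.one_mem]⟩
  mul_mem' := by
    rintro g h ⟨hg1, hg2⟩ ⟨hh1, hh2⟩
    refine ⟨mul_mem hg1 hh1, fun k hk hkC => ?_⟩
    have e1 : g * h * k * (g * h)⁻¹ * k⁻¹ =
        g * (h * k * h⁻¹ * k⁻¹) * g⁻¹ * (g * k * g⁻¹ * k⁻¹) := by group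
    rw [e1]
    exact mul_mem (conj_mem_core hg1 (hh2 k hk hkC)) (hg2 k hk hkC)
  inv_mem' := by
    rintro g ⟨hg1, hg2⟩
    refine ⟨inv_mem hg1, fun k hk hkC => ?_⟩
    have e1 : g⁻¹ * k * g⁻¹⁻¹ * k⁻¹ = g⁻¹ * (g * k * g⁻¹ * k⁻¹)⁻¹ * g⁻¹⁻¹ := by group
    rw [e1]
    exact conj_mem_core (inv_mem hg1) (inv_mem (hg2 k hk hkC))

theorem mem_cen {𝒜 : Set G} {e g : G} : g ∈ cen 𝒜 e ↔ g * e = e * g ∧ ∀ k ∈ 𝒜, k * e = e * k →
    g * k * g⁻¹ * k⁻¹ ∈ core (centralizer ({e} : Set G)) := by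
  constructor
  · rintro ⟨h1, h2⟩
    exact ⟨mem_cent.1 h1, fun k hk hke => h2 k hk (mem_cent.2 hke)⟩
  · rintro ⟨h1, h2⟩
    exact ⟨mem_cent.2 h1, fun k hk hke => h2 k hk (mem_cent.1 hke)⟩

end Cfsg.Agent.TwoFusion.GoldCen
end

-- part: TwoFusion/GoldActFour
section
/-!
# Goldschmidt's theorem: active components if the family has order four on a Sylow subgroup

Let `O(X) = 1` and let `𝒜` be an elementary closed family with `|𝒜 ∩ T| ≤ 4` for a Sylow 2-subgroup `T`, `L` a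
component with `Act 𝒜 L`. Then `|𝒜 ∩ T| = 4`, `𝒜 ∩ T ≤ L`, `𝒜 ∩ T ∩ C(L) = 1`, `L` is the only active component,
normal and contains the whole family.
-/

set_option autoImplicit false
set_option linter.style.haveILetI false

namespace Cfsg.Agent.TwoFusion.GoldActFour

open Subgroup
open Cfsg.Agent.TwoFusion.ClosedFam Cfsg.Agent.TwoFusion.Gold Cfsg.Agent.TwoFusion.GoldSetup
open Cfsg.Agent.TwoFusion.ClosedLocal
open scoped commutatorElement Pointwise

universe u

variable {X : Type u} [Group X] [Finite X] {𝒜 : Set X}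

/-- The image of the family in the simple quotient of `L`. -/
def famQ (𝒜 : Set X) (L : Subgroup X) : Set (↥L ⧸ center ↥L) :=
  (QuotientGroup.mk' (center ↥L)) '' {l : L | (l : X) ∈ 𝒜}

theorem isElemFam_famQ (h : IsElemFam 𝒜) (L : Subgroup X) : IsElemFam (famQ 𝒜 L) :=
  (h.restrict L).image (QuotientGroup.mk'_surjective _)

omit [Finite X] in
theorem exists_ne_one (L : Subgroup X) (ha : Act 𝒜 L) : ∃ b ∈ famQ 𝒜 L, b ≠ 1 := by
  obtain ⟨x₀, hx₀, hx₀L, y₀, hy₀, hxy₀⟩ := ha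
  refine ⟨QuotientGroup.mk' (center ↥L) ⟨x₀, hx₀L⟩, ⟨⟨x₀, hx₀L⟩, hx₀, rfl⟩, ?_⟩
  intro e
  have h1 : (⟨x₀, hx₀L⟩ : L) ∈ center ↥L := by
    rw [← QuotientGroup.ker_mk' (center ↥L)]; exact e
  have h2 := mem_center_iff.1 h1 ⟨y₀, hy₀⟩
  exact hxy₀ (congrArg Subtype.val h2).symm

/-- The trace of the family of the simple quotient has order at least four. -/
theorem four_le_card_famQ (h : IsElemFam 𝒜) {L : Subgroup X} (hL : Cfsg.IsComponent L) (ha : Act 𝒜 L)
    (T' : Sylow 2 (↥L ⧸ center ↥L)) : 4 ≤ Nat.card (fam (famQ 𝒜 L) (T' : Subgroup (↥L ⧸ center ↥L))) := by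
  haveI : Fact (Nat.Prime 2) := ⟨Nat.prime_two⟩
  have hB := isElemFam_famQ h L
  have h1 := GoldSolid.fam_ne_bot_of hB (exists_ne_one L ha) T'
  have h2 := GoldSolid.card_ne_two_of hL.2.2 (GoldSolid.quasisimple_nonab hL.2) hB T'
  obtain ⟨k, hk⟩ := IsPGroup.iff_card.1 (isPGroup_fam (famQ 𝒜 L) T'.2)
  rw [hk] at h2 ⊢
  match k, h2, hk with
  | 0, _, hk => exact absurd (Subgroup.card_eq_one.1 (by rw [hk]; norm_num)) h1
  | 1, h2, _ => exact absurd rfl h2
  | k + 2, _, _ =>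
    rw [pow_add]
    have := Nat.one_le_two_pow (n := k)
    omega

/-- The Sylow 2-subgroup of the quotient covered by `T`. -/
theorem exists_sylow_quot (T : Sylow 2 X) {L : Subgroup X} (hL : Cfsg.IsComponent L) :
    ∃ T' : Sylow 2 (↥L ⧸ center ↥L), (T' : Subgroup (↥L ⧸ center ↥L)) =
      ((T : Subgroup X).subgroupOf L).map (QuotientGroup.mk' (center ↥L)) := by
  haveI : Fact (Nat.Prime 2) := ⟨Nat.prime_two⟩
  obtain ⟨P, hP⟩ := Cfsg.Agent.TwoFusion.Gold.exists_sylow_subgroupOf T hL.1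
  refine ⟨P.mapSurjective (QuotientGroup.mk'_surjective _), ?_⟩
  rw [Sylow.coe_mapSurjective, hP]

/-- The elements of the trace upstairs cover those downstairs. -/
theorem exists_of_mem_fam (h : IsElemFam 𝒜) (T : Sylow 2 X) {L : Subgroup X} (hL : Cfsg.IsComponent L)
    {T' : Sylow 2 (↥L ⧸ center ↥L)} (hT' : (T' : Subgroup (↥L ⧸ center ↥L)) =
      ((T : Subgroup X).subgroupOf L).map (QuotientGroup.mk' (center ↥L)))
    {b : ↥L ⧸ center ↥L} (hb : b ∈ fam (famQ 𝒜 L) (T' : Subgroup (↥L ⧸ center ↥L))) :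
    ∃ l : L, (l : X) ∈ fam 𝒜 (T : Subgroup X) ∧ QuotientGroup.mk' (center ↥L) l = b := by
  haveI : Fact (Nat.Prime 2) := ⟨Nat.prime_two⟩
  have hB := isElemFam_famQ h L
  obtain ⟨P, hP⟩ := Cfsg.Agent.TwoFusion.Gold.exists_sylow_subgroupOf T hL.1
  obtain ⟨⟨l, hl, hlb⟩, hbT⟩ := (hB.toIsClosedFam.mem_fam_iff T'.2).1 hb
  rw [hT'] at hbT
  obtain ⟨t, ht, htb⟩ := hbT
  refine ⟨l, mem_fam hl ?_, hlb⟩
  -- `l` normalizes the Sylow subgroup `P`
  have hz : t⁻¹ * l ∈ center ↥L := by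
    rw [← QuotientGroup.ker_mk' (center ↥L), MonoidHom.mem_ker, map_mul, map_inv, htb, hlb]
    group
  have htP : t ∈ (P : Subgroup L) := by rw [hP]; exact ht
  have hln : l ∈ normalizer ((P : Subgroup L) : Set L) := by
    have e : l = t * (t⁻¹ * l) := by group
    rw [e]
    refine mul_mem (le_normalizer htP) ?_
    rw [mem_normalizer_iff]
    intro x
    have e2 : t⁻¹ * l * x * (t⁻¹ * l)⁻¹ = x := by
      rw [← mem_center_iff.1 hz x]; group
    rw [e2]
  have hlp : IsPGroup 2 (zpowers l) := (h.restrict L).toIsClosedFam.isPGroup_zpowers hl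
  have h5 := P.is_maximal' (IsPGroup.to_sup_of_normal_right' hlp P.2 (by rw [zpowers_le]; exact hln)) le_sup_right
  have h6 : l ∈ (P : Subgroup L) := by
    rw [← h5]
    exact mem_sup_left (mem_zpowers l)
  rw [hP] at h6
  exact h6

section Four

variable (h : IsElemFam 𝒜) (T : Sylow 2 X) (hcard : Nat.card (fam 𝒜 (T : Subgroup X)) ≤ 4)
  {L : Subgroup X} (hL : Cfsg.IsComponent L) (ha : Act 𝒜 L)

include h hcard hL ha

/-- The main counting argument. -/
theorem main_aux : Nat.card (fam 𝒜 (T : Subgroup X)) = 4 ∧ fam 𝒜 (T : Subgroup X) ≤ L ∧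
    (∀ b ∈ fam 𝒜 (T : Subgroup X), (∀ l ∈ L, b * l = l * b) → b = 1) ∧
    ∀ T' : Sylow 2 (↥L ⧸ center ↥L), Nat.card (fam (famQ 𝒜 L) (T' : Subgroup (↥L ⧸ center ↥L))) = 4 := by
  classical
  obtain ⟨T', hT'⟩ := exists_sylow_quot T hL
  have h4 := four_le_card_famQ h hL ha T'
  -- the surjection
  let φ : ↥((fam 𝒜 (T : Subgroup X)).subgroupOf L) →* ↥L ⧸ center ↥L :=
    (QuotientGroup.mk' (center ↥L)).comp (Subgroup.subtype _)
  have hle : fam (famQ 𝒜 L) (T' : Subgroup (↥L ⧸ center ↥L)) ≤ φ.range := by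
    intro b hb
    obtain ⟨l, hl, hlb⟩ := exists_of_mem_fam h T hL hT' hb
    exact ⟨⟨l, hl⟩, hlb⟩
  have h5 : Nat.card φ.range ≤ Nat.card ↥((fam 𝒜 (T : Subgroup X)).subgroupOf L) :=
    Nat.card_le_card_of_surjective φ.rangeRestrict φ.rangeRestrict_surjective
  have h6 : Nat.card ↥((fam 𝒜 (T : Subgroup X)).subgroupOf L) =
      Nat.card ↥(fam 𝒜 (T : Subgroup X) ⊓ L) := by
    rw [← inf_subgroupOf_right, Nat.card_congr (subgroupOfEquivOfLe (inf_le_right :
      fam 𝒜 (T : Subgroup X) ⊓ L ≤ L)).toEquiv]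
  have h7 : Nat.card ↥(fam 𝒜 (T : Subgroup X) ⊓ L) ≤ Nat.card (fam 𝒜 (T : Subgroup X)) :=
    card_le_of_le inf_le_left
  have h8 := card_le_of_le hle
  have h9 : fam 𝒜 (T : Subgroup X) ⊓ L = fam 𝒜 (T : Subgroup X) :=
    eq_of_le_of_card_ge inf_le_left (by omega)
  have h10 : Nat.card φ.range = Nat.card ↥((fam 𝒜 (T : Subgroup X)).subgroupOf L) := by omega
  have hinj : Function.Injective φ := by
    have h11 : Function.Bijective φ.rangeRestrict :=
      (Nat.bijective_iff_surjective_and_card _).2 ⟨φ.rangeRestrict_surjective, h10.symm⟩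
    intro x y hxy
    exact h11.1 (Subtype.ext hxy)
  refine ⟨by omega, inf_eq_left.1 h9, ?_, ?_⟩
  · intro b hb hbc
    have hbL : b ∈ L := (inf_eq_left.1 h9) hb
    have h12 : φ ⟨⟨b, hbL⟩, hb⟩ = φ 1 := by
      rw [map_one]
      change QuotientGroup.mk' (center ↥L) ⟨b, hbL⟩ = 1
      rw [← MonoidHom.mem_ker, QuotientGroup.ker_mk', mem_center_iff]
      intro g
      exact Subtype.ext (hbc g g.2).symm
    have h13 := hinj h12
    exact congrArg (fun z : ↥((fam 𝒜 (T : Subgroup X)).subgroupOf L) => ((z : L) : X)) h13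
  · intro T''
    rw [card_fam_sylow (isElemFam_famQ h L).toIsClosedFam T'' T']
    omega

theorem card_eq : Nat.card (fam 𝒜 (T : Subgroup X)) = 4 := (main_aux h T hcard hL ha).1

theorem fam_le : fam 𝒜 (T : Subgroup X) ≤ L := (main_aux h T hcard hL ha).2.1

theorem eq_one_of_comm {b : X} (hb : b ∈ fam 𝒜 (T : Subgroup X)) (hc : ∀ l ∈ L, b * l = l * b) : b = 1 :=
  (main_aux h T hcard hL ha).2.2.1 b hb hc

theorem card_famQ (T' : Sylow 2 (↥L ⧸ center ↥L)) :
    Nat.card (fam (famQ 𝒜 L) (T' : Subgroup (↥L ⧸ center ↥L))) = 4 := (main_aux h T hcard hL ha).2.2.2 T'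

theorem exists_ne : ∃ b ∈ fam 𝒜 (T : Subgroup X), b ≠ 1 := by
  by_contra hcon
  push Not at hcon
  have h1 : fam 𝒜 (T : Subgroup X) = ⊥ := by
    rw [eq_bot_iff]; intro x hx; rw [mem_bot]; exact hcon x hx
  have h2 := card_eq h T hcard hL ha
  rw [h1, card_bot] at h2
  omega

/-- There is only one active component. -/
theorem unique {M : Subgroup X} (hM : Cfsg.IsComponent M) (ha' : Act 𝒜 M) : M = L := by
  by_contra hne
  have hcom := Cfsg.Agent.S1270.component_comm_of_ne hM hL hne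
  obtain ⟨b, hb, hb1⟩ := exists_ne h T hcard hL ha
  apply hb1
  refine eq_one_of_comm h T hcard hL ha hb ?_
  intro l hl
  have h1 : b ∈ M := fam_le h T hcard hM ha' hb
  exact mem_centralizer_iff.1 (commutator_eq_bot_iff_le_centralizer.1 hcom h1) l hl |>.symm

theorem normal : L.Normal := by
  refine ⟨fun x hx g => ?_⟩
  have h1 := Cfsg.Agent.S1270.component_conj hL g
  have h2 := unique h T hcard hL ha h1 (GoldLayer.act_conj h ha g)
  rw [← h2]
  exact ⟨x, hx, rfl⟩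

theorem mem_of_mem {x : X} (hx : x ∈ 𝒜) : x ∈ L := by
  obtain ⟨g, hg⟩ := GoldLayer.exists_conj_mem h T hx
  have h1 := (normal h T hcard hL ha).conj_mem _ (fam_le h T hcard hL ha hg) g⁻¹
  have e : g⁻¹ * (g * x * g⁻¹) * g⁻¹⁻¹ = x := by group
  rwa [e] at h1

/-- The Sylow 2-subgroup of `L` centralizes the family if the involutions of the simple quotient are
2-central. -/
theorem comm_of_mem (hcen : ∀ S : Sylow 2 (↥L ⧸ center ↥L), ∀ x ∈ S, x * x = 1 → ∀ s ∈ S, s * x = x * s)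
    {b : X} (hb : b ∈ fam 𝒜 (T : Subgroup X)) {t : X} (ht : t ∈ T) (htL : t ∈ L) : b * t = t * b := by
  obtain ⟨T', hT'⟩ := exists_sylow_quot T hL
  have hbL := fam_le h T hcard hL ha hb
  have hb' := (h.toIsClosedFam.mem_fam_iff T.2).1 hb
  have h1 : QuotientGroup.mk' (center ↥L) ⟨b, hbL⟩ ∈ T' := by
    change _ ∈ (T' : Subgroup (↥L ⧸ center ↥L))
    rw [hT']
    exact ⟨⟨b, hbL⟩, hb'.2, rfl⟩
  have h2 : QuotientGroup.mk' (center ↥L) ⟨t, htL⟩ ∈ T' := by
    change _ ∈ (T' : Subgroup (↥L ⧸ center ↥L))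
    rw [hT']
    exact ⟨⟨t, htL⟩, ht, rfl⟩
  have h3 := hcen T' _ h1 (by
    rw [← map_mul]
    have : (⟨b, hbL⟩ : L) * ⟨b, hbL⟩ = 1 := Subtype.ext (h.sq b hb'.1)
    rw [this, map_one]) _ h2
  -- the commutator lies in the centre and in the family
  have h4 : (⟨t, htL⟩ * ⟨b, hbL⟩ * ⟨t, htL⟩⁻¹ * ⟨b, hbL⟩⁻¹ : L) ∈ center ↥L := by
    rw [← QuotientGroup.ker_mk' (center ↥L), MonoidHom.mem_ker, map_mul, map_mul, map_mul, map_inv, map_inv, h3]
    group
  have h5 : t * b * t⁻¹ * b⁻¹ ∈ fam 𝒜 (T : Subgroup X) := by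
    refine mul_mem (h.toIsClosedFam.conj_mem_fam (fun x hx => ?_) hb) (inv_mem hb)
    exact mul_mem (mul_mem ht hx) (inv_mem ht)
  have h6 := eq_one_of_comm h T hcard hL ha h5 (fun l hl => by
    have := mem_center_iff.1 h4 ⟨l, hl⟩
    exact (congrArg Subtype.val this).symm)
  rw [mul_inv_eq_one, mul_inv_eq_iff_eq_mul] at h6
  exact h6.symm

end Four

end Cfsg.Agent.TwoFusion.GoldActFour
end

-- part: TwoFusion/GoldW
section
/-!
# Strongly closed abelian subgroups: case (W)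

`A = ∏ B i` (at least three factors, each of order at least 4) is a weakly closed elementary abelian 2-subgroup of the
simple group `G`, and for each `w ∈ A#` every 2-component of `C(w)` is centralised modulo the core by all of the
`B j` but one; the 2-component "of type `j`" exists for each `w` in a factor `B i`, `i ≠ j`. Then the centralisers of
the involutions of `A` lie in a common proper subgroup.
-/

set_option autoImplicit false
set_option linter.style.haveILetI false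
set_option maxHeartbeats 400000

namespace Cfsg.Agent.TwoFusion.GoldW

open Subgroup
open scoped commutatorElement
open Cfsg.Agent.TwoFusion.ClosedFam Cfsg.Agent.TwoFusion.ClosedSimple
open Cfsg.Agent.TwoFusion.ClosedFour Cfsg.Agent.TwoFusion.ClosedFunctor Cfsg.Agent.TwoFusion.GoldWFunctor
open Cfsg.Agent.SignalizersComponents.Components

variable {G : Type*} [Group G]

/-! ### Components of subgroups -/

/-- `L` is a component of the subgroup `H` -/
structure CompIn (H L : Subgroup G) : Prop where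
  le : L ≤ H
  comp : Cfsg.IsComponent (L.subgroupOf H)

namespace CompIn

variable {H K L : Subgroup G}

theorem quasisimple (h : CompIn H L) : Cfsg.IsQuasisimple L :=
  isQuasisimple_of_mulEquiv (Subgroup.subgroupOfEquivOfLe h.le) h.comp.2

theorem mono (h : CompIn H L) (hKH : K ≤ H) (hLK : L ≤ K) : CompIn K L where
  le := hLK
  comp := by
    refine ⟨?_, isQuasisimple_of_mulEquiv (Subgroup.subgroupOfEquivOfLe hLK).symm h.quasisimple⟩
    have e : L.subgroupOf K = (L.subgroupOf H).comap (inclusion hKH) := by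
      ext x
      simp [mem_subgroupOf]
    rw [e]
    exact h.comp.1.comap _

theorem commute (h : CompIn H L) (h' : CompIn H K) (hne : L ≠ K) : ∀ a ∈ L, ∀ b ∈ K, a * b = b * a := by
  intro a ha b hb
  have hne' : L.subgroupOf H ≠ K.subgroupOf H := by
    intro e
    apply hne
    have := congrArg (Subgroup.map H.subtype) e
    rwa [subgroupOf_map_subtype, subgroupOf_map_subtype, inf_of_le_left h.le, inf_of_le_left h'.le] at this
  have h1 := component_le_centralizer_of_ne h'.comp h.comp (Ne.symm hne')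
  have h2 : (⟨b, h'.le hb⟩ : H) ∈ centralizer ((L.subgroupOf H : Subgroup H) : Set H) := h1 hb
  have h3 := mem_centralizer_iff.1 h2 ⟨a, h.le ha⟩ ha
  exact congrArg Subtype.val h3

theorem eq_of_mem (h : CompIn H L) (h' : CompIn H K) {a : G} (ha : a ∈ K)
    (hne : ∃ l ∈ L, a * l ≠ l * a) : K = L := by
  by_contra hcon
  obtain ⟨l, hl, hal⟩ := hne
  exact hal (h'.commute h hcon a ha l hl)

theorem map_subgroupOf_conj (H L : Subgroup G) (g : G) (hLH : L ≤ H) :
    (L.map (MulAut.conj g).toMonoidHom).subgroupOf (H.map (MulAut.conj g).toMonoidHom) =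
      (L.subgroupOf H).map (H.equivMapOfInjective (MulAut.conj g).toMonoidHom
        (MulAut.conj g).injective).toMonoidHom := by
  ext ⟨x, hx⟩
  rw [mem_subgroupOf]
  constructor
  · rintro ⟨y, hy, hyx⟩
    refine ⟨⟨y, hLH hy⟩, hy, ?_⟩
    apply Subtype.ext
    exact hyx
  · rintro ⟨⟨y, hyH⟩, hy, hyx⟩
    exact ⟨y, hy, congrArg Subtype.val hyx⟩

theorem conj (h : CompIn H L) (g : G) :
    CompIn (H.map (MulAut.conj g).toMonoidHom) (L.map (MulAut.conj g).toMonoidHom) where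
  le := map_mono h.le
  comp := by
    rw [map_subgroupOf_conj H L g h.le]
    exact isComponent_map_equiv _ h.comp

/-- a component of `H` normalised... : conjugation by an element of `H` -/
theorem conj_mem (h : CompIn H L) {g : G} (hg : g ∈ H) : CompIn H (L.map (MulAut.conj g).toMonoidHom) := by
  have h1 := h.conj g
  have h2 : H.map (MulAut.conj g).toMonoidHom = H := by
    ext x
    constructor
    · rintro ⟨y, hy, rfl⟩
      exact mul_mem (mul_mem hg hy) (inv_mem hg)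
    · intro hx
      refine ⟨g⁻¹ * x * g, mul_mem (mul_mem (inv_mem hg) hx) hg, ?_⟩
      change g * (g⁻¹ * x * g) * g⁻¹ = x
      group
  rwa [h2] at h1

end CompIn

/-! ### Coprime action -/

/-- An element commuting with the 2-subgroup `P` modulo the odd subgroup `V` is, up to an element of `V`, in the
centraliser of `P`. -/
theorem exists_mul_mem_centralizer [Finite G] {V P : Subgroup G} (hV : Odd (Nat.card V)) (hP : IsPGroup 2 P)
    (hn : P ≤ normalizer (V : Set G)) {l : G} (hl : ∀ p ∈ P, l * p * l⁻¹ * p⁻¹ ∈ V) :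
    ∃ v ∈ V, v * l ∈ centralizer (P : Set G) := by
  have hR : IsPGroup 2 (P.map (MulAut.conj l).toMonoidHom) := hP.map _
  have hRle : P.map (MulAut.conj l).toMonoidHom ≤ V ⊔ P := by
    rintro _ ⟨p, hp, rfl⟩
    change l * p * l⁻¹ ∈ V ⊔ P
    have : l * p * l⁻¹ = (l * p * l⁻¹ * p⁻¹) * p := by group
    rw [this]
    exact mul_mem (mem_sup_left (hl p hp)) (mem_sup_right hp)
  obtain ⟨v, hv, hvr⟩ := ClosedLocal.exists_conj_of_le_sup hV hP hn hR hRle
  refine ⟨v, hv, ?_⟩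
  rw [mem_centralizer_iff]
  intro p hp
  have h1 : v * (l * p * l⁻¹) * v⁻¹ ∈ P := hvr _ ⟨p, hp, rfl⟩
  have h2 : v * (l * p * l⁻¹) * v⁻¹ * p⁻¹ ∈ V := by
    have e : v * (l * p * l⁻¹) * v⁻¹ * p⁻¹ = v * (l * p * l⁻¹ * p⁻¹) * (p * v⁻¹ * p⁻¹) := by group
    rw [e]
    exact mul_mem (mul_mem hv (hl p hp)) ((mem_normalizer_iff.1 (hn hp) v⁻¹).1 (inv_mem hv))
  have h3 : v * (l * p * l⁻¹) * v⁻¹ * p⁻¹ = 1 :=
    ClosedLocal.eq_one_of_odd_of_isPGroup hV hP h2 (mul_mem h1 (inv_mem hp))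
  have h4 : v * (l * p * l⁻¹) * v⁻¹ = p := mul_inv_eq_one.1 h3
  calc p * (v * l) = (v * (l * p * l⁻¹) * v⁻¹) * (v * l) := by rw [h4]
    _ = v * l * p := by group

/-! ### The situation -/

/-- Case (W). -/
structure CaseW (A : Subgroup G) {ι : Type*} (B : ι → Subgroup G) : Prop where
  sq : ∀ a ∈ A, a * a = 1
  comm : ∀ a ∈ A, ∀ b ∈ A, a * b = b * a
  sup : ⨆ i, B i = A
  indep : ∀ i, B i ⊓ (⨆ j : {j // j ≠ i}, B j) = ⊥
  card : ∀ i, 4 ≤ Nat.card (B i)
  three : ∀ i j : ι, ∃ k, k ≠ i ∧ k ≠ j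
  norm : ∀ g ∈ normalizer (A : Set G), ∀ i, ∃ j, (B i).map (MulAut.conj g).toMonoidHom = B j
  weak : ∀ g : G, (∀ a ∈ A, ∀ b ∈ A, g * a * g⁻¹ * b = b * (g * a * g⁻¹)) → g ∈ normalizer (A : Set G)
  type : ∀ w ∈ A, w ≠ 1 → ∀ M : Subgroup (centralizer ({w} : Set G)), Cfsg.IsPComponent 2 M →
    ∃ i, ∀ j, j ≠ i → ⁅M.map (centralizer ({w} : Set G)).subtype, B j⁆ ≤ Oc w
  gen : ∀ w ∈ A, w ≠ 1 → centralizer ({w} : Set G) ≤
    Oc w ⊔ (Cfsg.pLayer 2 (centralizer ({w} : Set G))).map (centralizer ({w} : Set G)).subtype ⊔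
      normalizer (A : Set G)
  comp : ∀ i j, i ≠ j → ∀ x ∈ B i, x ≠ 1 → ∃ L : Subgroup (centralizer ({x} : Set G)), Cfsg.IsPComponent 2 L ∧
    B j ≤ L.map (centralizer ({x} : Set G)).subtype ⊔ Oc x ∧
    (∀ k, k ≠ j → ⁅L.map (centralizer ({x} : Set G)).subtype, B k⁆ ≤ Oc x) ∧
    ∀ a ∈ B j, a ≠ 1 → ¬ ⁅L.map (centralizer ({x} : Set G)).subtype, zpowers a⁆ ≤ Oc x

namespace CaseW

variable {A : Subgroup G} {ι : Type*} {B : ι → Subgroup G} (h : CaseW A B)
include h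

theorem le (i : ι) : B i ≤ A := by
  rw [← h.sup]; exact le_iSup B i

theorem isPGroup : IsPGroup 2 A := by
  rintro ⟨x, hx⟩
  exact ⟨1, Subtype.ext (by simpa only [pow_two, _root_.pow_one, _root_.MulMemClass.mk_mul_mk, _root_.OneMemClass.coe_one] using h.sq x hx)⟩

theorem exists_ne (i : ι) : ∃ x ∈ B i, x ≠ 1 := by
  by_contra hcon
  push Not at hcon
  have h1 : B i = ⊥ := by rw [eq_bot_iff]; intro x hx; exact mem_bot.2 (hcon x hx)
  have h2 := h.card i
  rw [h1, card_bot] at h2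
  omega

theorem three' (i : ι) : ∃ k, k ≠ i := by
  obtain ⟨k, hk, -⟩ := h.three i i
  exact ⟨k, hk⟩

theorem le_centralizer {w : G} (hw : w ∈ A) : A ≤ centralizer ({w} : Set G) := fun a ha =>
  mem_centralizer_singleton.2 (h.comm a ha w hw)

theorem le_normalizer_Oc_A {w : G} (hw : w ∈ A) : A ≤ normalizer (Oc w : Set G) :=
  (h.le_centralizer hw).trans (ClosedFour.le_normalizer_Oc w)

omit h in
theorem le_iSup_ne {i j : ι} (hij : j ≠ i) : B j ≤ ⨆ j : {j // j ≠ i}, B j :=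
  le_iSup_of_le (⟨j, hij⟩ : {j // j ≠ i}) le_rfl

theorem iSup_ne_le (i : ι) : (⨆ j : {j // j ≠ i}, B j) ≤ A := iSup_le fun j => h.le (j : ι)

theorem inf_eq_bot {i j : ι} (hij : i ≠ j) : B i ⊓ B j = ⊥ := by
  rw [eq_bot_iff, ← h.indep i]
  exact inf_le_inf le_rfl (le_iSup_ne (Ne.symm hij))

theorem four_of [Finite G] (i : ι) : ∃ E : Subgroup G, E ≤ B i ∧ Four Set.univ E := by
  obtain ⟨x, hx, hx1⟩ := h.exists_ne i
  obtain ⟨E, hE, hF, -, -⟩ := exists_four_le (fun a ha => h.sq a (h.le i ha))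
    (fun a ha b hb => h.comm a (h.le i ha) b (h.le i hb)) (h.card i) hx hx hx1 hx1
  exact ⟨E, hE, hF⟩

/-! ### Generation -/

theorem finite [Finite G] : Finite ι := by
  choose x hx hx1 using h.exists_ne
  refine Finite.of_injective x fun i j e => ?_
  by_contra hij
  apply hx1 i
  have h1 : x i ∈ B i ⊓ B j := ⟨hx i, by rw [e]; exact hx j⟩
  rw [h.inf_eq_bot hij] at h1
  exact mem_bot.1 h1

/-- generation of an odd order group by centralisers of transversals of the factors -/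
theorem odd_le [Finite G] {M : Subgroup G} (s : Finset ι) : ∀ V : Subgroup G, Odd (Nat.card V) → A ≤ normalizer (V : Set G) →
      (∀ y : ι → G, (∀ i, y i ∈ B i ∧ y i ≠ 1) →
        (∀ g ∈ V, (∀ i ∈ s, g * y i = y i * g) → g ∈ M)) → V ≤ M := by
  classical
  induction s using Finset.induction_on with
  | empty =>
    intro V _ _ hy g hg
    choose x hx using h.exists_ne
    exact hy x hx g hg (by simp)
  | insert j s hj ih =>
    intro V hV hn hy
    obtain ⟨E, hEB, hE⟩ := h.four_of j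
    have hEA : E ≤ A := hEB.trans (h.le j)
    refine hE.le_of_forall hV (hEA.trans hn) fun a ha ha1 => ?_
    refine ih _ (Odd.of_dvd_nat hV (card_dvd_of_le inf_le_left)) ?_ ?_
    · exact le_normalizer_inf hn ((h.le_centralizer (hEA ha)).trans le_normalizer)
    · intro y hyB g hg hgs
      refine hy (fun i => if i = j then a else y i) ?_ g hg.1 ?_
      · intro i
        by_cases hij : i = j
        · subst hij; simp only [if_true]; exact ⟨hEB ha, ha1⟩
        · simp only [if_neg hij]; exact hyB i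
      · intro i hi
        by_cases hij : i = j
        · subst hij; simp only [if_true]; exact mem_centralizer_singleton.1 hg.2
        · simp only [if_neg hij]
          exact hgs i ((Finset.mem_insert.1 hi).resolve_left hij)


theorem Oc_le_of [Finite G] {M : Subgroup G}
    (m2 : ∀ x : ι → G, (∀ i, x i ∈ B i ∧ x i ≠ 1) → ∀ g : G, (∀ i, g * x i = x i * g) → g ∈ M)
    {w : G} (hw : w ∈ A) : Oc w ≤ M := by
  haveI := h.finite
  haveI := Fintype.ofFinite ι
  exact h.odd_le Finset.univ _ (ClosedFour.Oc_odd w) (h.le_normalizer_Oc_A hw) fun y hy g _ hg =>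
    m2 y hy g fun i => hg i (Finset.mem_univ i)

theorem commutator_iSup_mem [Finite G] {w : G} (hw : w ∈ A) {L : Subgroup G} {i : ι}
    (hL : ∀ j, j ≠ i → ⁅L, B j⁆ ≤ Oc w) {p : G} (hp : p ∈ ⨆ j : {j // j ≠ i}, B j) :
    p ∈ A ∧ ∀ l ∈ L, l * p * l⁻¹ * p⁻¹ ∈ Oc w := by
  refine Subgroup.iSup_induction (fun j : {j // j ≠ i} => B j)
    (C := fun p => p ∈ A ∧ ∀ l ∈ L, l * p * l⁻¹ * p⁻¹ ∈ Oc w) hp ?_ ?_ ?_
  · intro j x hx
    refine ⟨h.le j hx, fun l hl => ?_⟩
    exact hL j j.2 (commutator_mem_commutator hl hx)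
  · exact ⟨one_mem A, fun l _ => by simp⟩
  · intro x y hx hy
    refine ⟨mul_mem hx.1 hy.1, fun l hl => ?_⟩
    have e : l * (x * y) * l⁻¹ * (x * y)⁻¹ =
        (l * x * l⁻¹ * x⁻¹) * (x * (l * y * l⁻¹ * y⁻¹) * x⁻¹) := by group
    rw [e]
    exact mul_mem (hx.2 l hl) (conj_mem_of_le_normalizer (h.le_normalizer_Oc_A hw) hx.1 (hy.2 l hl))

/-- **Generation**: a subgroup containing `N(A)`, the centralisers of the transversals and the `C(D_i)` contains all
`C(w)`, `w ∈ A#`. -/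
theorem centralizer_le_of [Finite G] {M : Subgroup G} (m1 : normalizer (A : Set G) ≤ M)
    (m2 : ∀ x : ι → G, (∀ i, x i ∈ B i ∧ x i ≠ 1) → ∀ g : G, (∀ i, g * x i = x i * g) → g ∈ M)
    (m3 : ∀ (i : ι) (g : G), (∀ j, j ≠ i → ∀ b ∈ B j, g * b = b * g) → g ∈ M) {w : G} (hw : w ∈ A)
    (hw1 : w ≠ 1) : centralizer ({w} : Set G) ≤ M := by
  have hO := h.Oc_le_of m2 hw
  refine (h.gen w hw hw1).trans (sup_le (sup_le hO ?_) m1)
  rw [map_le_iff_le_comap]
  refine sSup_le ?_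
  intro L hL
  rw [← map_le_iff_le_comap]
  obtain ⟨i, hi⟩ := h.type w hw hw1 L hL
  intro l hl
  obtain ⟨v, hv, hvl⟩ := exists_mul_mem_centralizer (V := Oc w) (P := ⨆ j : {j // j ≠ i}, B j)
    (ClosedFour.Oc_odd w) (h.isPGroup.to_le (h.iSup_ne_le i))
    ((h.iSup_ne_le i).trans (h.le_normalizer_Oc_A hw))
    (fun p hp => (h.commutator_iSup_mem hw hi hp).2 l hl)
  have h1 : v * l ∈ M := by
    refine m3 i _ fun j hj b hb => ?_
    exact (mem_centralizer_iff.1 hvl b (mem_iSup_of_mem (⟨j, hj⟩ : {j // j ≠ i}) hb)).symm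
  have h2 : l = v⁻¹ * (v * l) := by group
  rw [h2]
  exact mul_mem (inv_mem (hO hv)) h1

/-! ### The case of a nontrivial functor -/

/-- each factor and the product of the others are separated -/
theorem sep [Finite G] (i : ι) : SepPair (B i) (⨆ j : {j // j ≠ i}, B j) where
  sqL a ha := h.sq a (h.le i ha)
  sqR a ha := h.sq a (h.iSup_ne_le i ha)
  commL a ha b hb := h.comm a (h.le i ha) b (h.le i hb)
  commR a ha b hb := h.comm a (h.iSup_ne_le i ha) b (h.iSup_ne_le i hb)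
  comm a ha b hb := h.comm a (h.le i ha) b (h.iSup_ne_le i hb)
  disj := h.indep i
  cardL := h.card i
  cardR := by
    obtain ⟨k, hk⟩ := h.three' i
    exact (h.card k).trans (Nat.le_of_dvd Nat.card_pos (card_dvd_of_le (le_iSup_ne hk)))
  cs E F hE hF hE4 hF4 := by
    have hinf : E ⊓ F = ⊥ := by
      rw [eq_bot_iff, ← h.indep i]
      exact inf_le_inf hE hF
    have hel : ∀ K : Subgroup G, K ≤ A → Cfsg.IsElementaryAbelian 2 K := fun K hK =>
      ⟨⟨⟨fun a b => Subtype.ext (h.comm a (hK a.2) b (hK b.2))⟩⟩, fun a ha => by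
        rw [pow_two]; exact h.sq a (hK ha)⟩
    refine ⟨hel E (hE.trans (h.le i)), hel F (hF.trans (h.iSup_ne_le i)), hE4, hF4, ?_, hinf,
      fun x hx y hy => h.comm x (h.le i (hE hx)) y (h.iSup_ne_le i (hF hy)), ?_⟩
    · intro e
      rw [e, inf_idem] at hinf
      rw [hinf, card_bot] at hF4
      omega
    · intro a ha ha1 L hL
      have haA : a ∈ A := (sup_le (hE.trans (h.le i)) (hF.trans (h.iSup_ne_le i))) ha
      obtain ⟨k, hk⟩ := h.type a haA ha1 L hL
      by_cases hki : i = k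
      · right
        subst hki
        refine (commutator_mono le_rfl hF).trans ?_
        rw [Subgroup.commutator_le]
        intro l hl p hp
        exact (h.commutator_iSup_mem haA hk hp).2 l hl
      · left
        exact (commutator_mono le_rfl hE).trans (hk i hki)

/-- the closure of the functor does not depend on anything -/
theorem wab_eq [Finite G] (hC : Complete G) {i j i' j' : ι} (hij : i ≠ j) (hij' : i' ≠ j') {x y x' y' : G}
    (hx : x ∈ B i) (hy : y ∈ B j) (hx' : x' ∈ B i') (hy' : y' ∈ B j') (hx1 : x ≠ 1) (hy1 : y ≠ 1)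
    (hx'1 : x' ≠ 1) (hy'1 : y' ≠ 1) : Wab x y = Wab x' y' := by
  have key1 : ∀ {i j k : ι} {x y x' y' : G}, j ≠ i → k ≠ i → x ∈ B i → y ∈ B j → x' ∈ B i → y' ∈ B k →
      x ≠ 1 → y ≠ 1 → x' ≠ 1 → y' ≠ 1 → Wab x y = Wab x' y' := by
    intro i j k x y x' y' hj hk hx hy hx' hy' hx1 hy1 hx'1 hy'1
    exact (h.sep i).wab_eq hC hx hx' (le_iSup_ne hj hy) (le_iSup_ne hk hy') hx1 hx'1 hy1 hy'1
  have key2 : ∀ {i j : ι} {x y : G}, j ≠ i → x ∈ B i → y ∈ B j → x ≠ 1 → y ≠ 1 → Wab x y = Wab y x := by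
    intro i j x y hj hx hy hx1 hy1
    exact (h.sep i).wab_comm hC hx (le_iSup_ne hj hy) hx1 hy1
  by_cases hji : j' = i
  · subst hji
    rw [key2 (Ne.symm hij') hx' hy' hx'1 hy'1]
    exact key1 (Ne.symm hij) hij' hx hy hy' hx' hx1 hy1 hy'1 hx'1
  · rw [key1 (Ne.symm hij) hji hx hy hx hy' hx1 hy1 hx1 hy'1, key2 hji hx hy' hx1 hy'1,
      key2 (Ne.symm hij') hx' hy' hx'1 hy'1]
    exact key1 (Ne.symm hji) hij' hy' hx hy' hx' hy'1 hx1 hy'1 hx'1

/-- case `W ≠ 1` -/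
theorem proper_of_ne_bot [Finite G] [IsSimpleGroup G] (hC : Complete G) {i j : ι} (hij : i ≠ j) {x y : G}
    (hx : x ∈ B i) (hy : y ∈ B j) (hx1 : x ≠ 1) (hy1 : y ≠ 1) (hW : Wab x y ≠ ⊥) :
    ∃ M : Subgroup G, M ≠ ⊤ ∧ ∀ w ∈ A, w ≠ 1 → centralizer ({w} : Set G) ≤ M := by
  set W := Wab x y with hWdef
  have hWeq : ∀ {i' j' : ι} {x' y' : G}, i' ≠ j' → x' ∈ B i' → y' ∈ B j' → x' ≠ 1 → y' ≠ 1 →
      Wab x' y' = W := fun hij' hx' hy' hx'1 hy'1 => h.wab_eq hC hij' hij hx' hy' hx hy hx'1 hy'1 hx1 hy1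
  have hmap : ∀ g : G, W.map (MulAut.conj g).toMonoidHom = W → g ∈ normalizer (W : Set G) := fun g hg =>
    Cfsg.Agent.SignalizersComponents.PCompCore.mem_normalizer_of_map_conj_eq hg
  -- `C(x', y') ≤ N(W)`
  have hcent : ∀ {i' j' : ι} {x' y' g : G}, i' ≠ j' → x' ∈ B i' → y' ∈ B j' → x' ≠ 1 → y' ≠ 1 →
      g * x' = x' * g → g * y' = y' * g → g ∈ normalizer (W : Set G) := by
    intro i' j' x' y' g hij' hx' hy' hx'1 hy'1 hgx hgy
    apply hmap
    rw [← hWeq hij' hx' hy' hx'1 hy'1, map_Wab, hgx, hgy]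
    simp
  refine ⟨normalizer (W : Set G), ?_, fun w hw hw1 => h.centralizer_le_of ?_ ?_ ?_ hw hw1⟩
  · intro htop
    have hn : W.Normal := normalizer_eq_top_iff.1 htop
    rcases hn.eq_bot_or_eq_top with h1 | h1
    · exact hW h1
    · have hodd : Odd (Nat.card W) := (h.sep i).wab_odd hC hx (le_iSup_ne (Ne.symm hij) hy) hx1 hy1
      rw [h1, card_top] at hodd
      have h2 : orderOf x = 2 := ClosedLocal.orderOf_eq_two (h.sq x (h.le i hx)) hx1
      have h3 : 2 ∣ Nat.card G := by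
        rw [← h2]; exact orderOf_dvd_natCard x
      exact absurd (even_iff_two_dvd.2 h3) (Nat.not_even_iff_odd.2 hodd)
  · intro g hg
    obtain ⟨i', hi'⟩ := h.norm g hg i
    obtain ⟨j', hj'⟩ := h.norm g hg j
    have hx' : g * x * g⁻¹ ∈ B i' := by rw [← hi']; exact ⟨x, hx, rfl⟩
    have hy' : g * y * g⁻¹ ∈ B j' := by rw [← hj']; exact ⟨y, hy, rfl⟩
    have hne : ∀ z : G, z ≠ 1 → g * z * g⁻¹ ≠ 1 := by
      intro z hz e
      apply hz
      have : z = g⁻¹ * (g * z * g⁻¹) * g := by group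
      rw [this, e]; group
    have hij' : i' ≠ j' := by
      intro e
      rw [e] at hi'
      have h1 : B i = B j := map_injective (MulAut.conj g).injective (hi'.trans hj'.symm)
      apply hx1
      have h2 : x ∈ B i ⊓ B j := ⟨hx, by rw [← h1]; exact hx⟩
      rw [h.inf_eq_bot hij] at h2
      exact mem_bot.1 h2
    apply hmap
    rw [hWdef, map_Wab]
    exact hWeq hij' hx' hy' (hne x hx1) (hne y hy1)
  · intro z hz g hg
    exact hcent hij (hz i).1 (hz j).1 (hz i).2 (hz j).2 (hg i) (hg j)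
  · intro k g hg
    obtain ⟨k₁, hk₁⟩ := h.three' k
    obtain ⟨k₂, hk₂, hk₂'⟩ := h.three k k₁
    obtain ⟨u, hu, hu1⟩ := h.exists_ne k₁
    obtain ⟨v, hv, hv1⟩ := h.exists_ne k₂
    exact hcent (Ne.symm hk₂') hu hv hu1 hv1 (hg k₁ hk₁ u hu) (hg k₂ hk₂ v hv)

/-! ### The case of a trivial functor -/

/-- In the situation of a trivial functor: `L` is the component of type `j` for `x`. -/
structure IsL (B : ι → Subgroup G) (j : ι) (x : G) (L : Subgroup G) : Prop where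
  comp : CompIn (centralizer ({x} : Set G)) L
  le : B j ≤ L
  cent : ∀ k, k ≠ j → ∀ b ∈ B k, ∀ l ∈ L, b * l = l * b
  faithful : ∀ a ∈ B j, a ≠ 1 → ∃ l ∈ L, a * l ≠ l * a

theorem exists_isL [Finite G] {i j : ι} (hij : i ≠ j) {x : G} (hx : x ∈ B i) (hx1 : x ≠ 1)
    (hW : ∀ y ∈ B j, y ≠ 1 → ⁅Oc x, zpowers y⁆ = ⊥) : ∃ L, IsL B j x L := by
  classical
  have hcomp := h.comp i j hij x hx hx1
  set C : Subgroup G := centralizer ({x} : Set G) with hC
  obtain ⟨L₀, hL₀, hle, hcent, hfaith⟩ := hcomp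
  have hxA := h.le i hx
  have hAC : A ≤ C := h.le_centralizer hxA
  -- `B j` centralises `O_x`
  have hBO : ∀ b ∈ B j, ∀ v ∈ Oc x, v * b = b * v := by
    intro b hb v hv
    by_cases hb1 : b = 1
    · subst hb1; simp
    have h1 : ⁅v, b⁆ ∈ ⁅Oc x, zpowers b⁆ := commutator_mem_commutator hv (mem_zpowers b)
    rw [hW b hb hb1, mem_bot, commutatorElement_eq_one_iff_mul_comm] at h1
    exact h1
  have hOC : ∀ v : C, v ∈ Cfsg.pPrimeCore 2 C ↔ (v : G) ∈ Oc x := by
    intro v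
    constructor
    · intro hv; exact ⟨v, hv, rfl⟩
    · rintro ⟨u, hu, e⟩
      rwa [← Subtype.ext e]
  -- `L₀` centralises the core
  have hZn : (centralizer ((Cfsg.pPrimeCore 2 C : Subgroup C) : Set C)).Normal := by
    haveI : (Cfsg.pPrimeCore 2 C).Normal := Cfsg.Agent.Lib.Cores.pPrimeCore_normal 2
    infer_instance
  have hLO : L₀ ≤ centralizer ((Cfsg.pPrimeCore 2 C : Subgroup C) : Set C) := by
    rcases Cfsg.Agent.SignalizersComponents.LBalanceCore.pcomp_le_or_commutator_le hL₀ hZn with h1 | h1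
    · exact h1
    · exfalso
      obtain ⟨a, ha, ha1⟩ := h.exists_ne j
      refine hfaith a ha ha1 ?_
      rw [Subgroup.commutator_le]
      rintro _ ⟨l, hl, rfl⟩ p hp
      obtain ⟨n, rfl⟩ := mem_zpowers_iff.1 hp
      have hpB : a ^ n ∈ B j := zpow_mem ha n
      have hpC : a ^ n ∈ C := hAC (h.le j hpB)
      have h2 : (⟨a ^ n, hpC⟩ : C) ∈ centralizer ((Cfsg.pPrimeCore 2 C : Subgroup C) : Set C) := by
        rw [mem_centralizer_iff]
        intro v hv
        exact Subtype.ext (hBO _ hpB v ((hOC v).1 hv))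
      have h3 := h1 (commutator_mem_commutator hl h2)
      exact (hOC _).1 h3
  have hperf : Group.IsPerfect L₀ := Cfsg.Agent.SignalizersComponents.PCompQuot.perfect_of_pComponent hL₀
  -- `L₀` is quasisimple
  have hq : Cfsg.IsQuasisimple L₀ := by
    rw [Cfsg.Agent.SignalizersComponents.PCompQuot.quasisimple_iff_commutator hL₀,
      Cfsg.Agent.SignalizersComponents.CompBasic.map_subtype_pPrimeCore_of_subnormal 2 hL₀.1,
      commutator_comm, commutator_eq_bot_iff_le_centralizer]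
    intro v hv
    rw [mem_centralizer_iff]
    intro l hl
    exact (mem_centralizer_iff.1 (hLO hl) v hv.2).symm
  set L : Subgroup G := L₀.map C.subtype with hL
  have hLC : L ≤ C := map_subtype_le _
  have hLO' : ∀ l ∈ L, ∀ v ∈ Oc x, v * l = l * v := by
    rintro _ ⟨l, hl, rfl⟩ v ⟨v, hv, rfl⟩
    exact congrArg Subtype.val (mem_centralizer_iff.1 (hLO hl) v hv)
  have hperfL : Group.IsPerfect L := by
    have e : L₀ ≃* L := L₀.equivMapOfInjective C.subtype C.subtype_injective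
    exact Group.IsPerfect.ofSurjective (f := e.toMonoidHom) e.surjective
  refine ⟨L, ⟨⟨hLC, ?_⟩, ?_, ?_, ?_⟩⟩
  · have e : L.subgroupOf C = L₀ := by
      rw [hL, subgroupOf, comap_map_eq_self_of_injective C.subtype_injective]
    rw [e]
    exact ⟨hL₀.1, hq⟩
  · -- `B j ≤ L`
    intro b hb
    have h1 : b ∈ Oc x ⊔ L := by rw [sup_comm]; exact hle hb
    have hn : L ≤ normalizer (Oc x : Set G) := hLC.trans (ClosedFour.le_normalizer_Oc x)
    obtain ⟨l, hl, v, hv, e⟩ := ClosedLocal.exists_mul_of_mem_sup hn h1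
    -- `b = l v`
    have hvl := hLO' l hl v hv
    have hbb : b * b = 1 := h.sq b (h.le j hb)
    have h2 : l * l * (v * v) = 1 := by
      rw [← hbb, e]
      calc l * l * (v * v) = l * (l * v) * v := by group
        _ = l * (v * l) * v := by rw [hvl]
        _ = l * v * (l * v) := by group
    have h3 : v * v ∈ L := by
      have : v * v = (l * l)⁻¹ := (inv_eq_of_mul_eq_one_right h2).symm
      rw [this]
      exact inv_mem (mul_mem hl hl)
    have h4 : v ∈ L := by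
      obtain ⟨n, hn⟩ := Cfsg.Agent.Lib.KleinGen.exists_sqrt_exponent (Oc x) (ClosedFour.Oc_odd x)
      rw [← (hn v hv).2]
      exact pow_mem h3 n
    rw [e]
    exact mul_mem hl h4
  · intro k hk b hb l hl
    have h1 : ⁅⁅B k, L⁆, L⁆ = ⊥ := by
      rw [eq_bot_iff, Subgroup.commutator_le]
      intro v hv l' hl'
      have hv' : v ∈ Oc x := by
        rw [commutator_comm] at hv
        exact hcent k hk hv
      rw [mem_bot, commutatorElement_eq_one_iff_mul_comm]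
      exact hLO' l' hl' v hv'
    have h2 : ⁅B k, L⁆ = ⊥ := commutator_eq_bot_of_commutator_commutator_eq_bot hperfL h1
    have h3 : ⁅b, l⁆ ∈ ⁅B k, L⁆ := commutator_mem_commutator hb hl
    rw [h2, mem_bot, commutatorElement_eq_one_iff_mul_comm] at h3
    exact h3
  · intro a ha ha1
    by_contra hcon
    push Not at hcon
    refine hfaith a ha ha1 ?_
    rw [Subgroup.commutator_le]
    intro l hl p hp
    obtain ⟨n, rfl⟩ := mem_zpowers_iff.1 hp
    have h3 : ⁅l, a ^ n⁆ = 1 := by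
      rw [commutatorElement_eq_one_iff_mul_comm]
      exact ((show Commute l a from (hcon l hl).symm).zpow_right n).eq
    rw [h3]
    exact one_mem _


/-- the component of type `j` does not depend on the involution -/
theorem IsL.trans [Finite G] (hT : ∀ i j : ι, i ≠ j → ∀ x ∈ B i, x ≠ 1 → ∃ L, IsL B j x L) {j : ι} {x : G}
    {L : Subgroup G} (hL : IsL B j x L) {i : ι} (hij : i ≠ j) {x' : G} (hx' : x' ∈ B i) (hx'1 : x' ≠ 1)
    {k : ι} (hkj : k ≠ j) (hx : x ∈ B k) : IsL B j x' L := by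
  obtain ⟨L', hL'⟩ := hT i j hij x' hx' hx'1
  have h1 : L ≤ centralizer ({x} : Set G) ⊓ centralizer ({x'} : Set G) := by
    refine le_inf hL.comp.le fun l hl => ?_
    exact mem_centralizer_singleton.2 (hL.cent i hij x' hx' l hl).symm
  have h2 : L' ≤ centralizer ({x} : Set G) ⊓ centralizer ({x'} : Set G) := by
    refine le_inf (fun l hl => ?_) hL'.comp.le
    exact mem_centralizer_singleton.2 (hL'.cent k hkj x hx l hl).symm
  have c1 := hL.comp.mono inf_le_left h1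
  have c2 := hL'.comp.mono inf_le_right h2
  obtain ⟨a, ha, ha1⟩ := h.exists_ne j
  have e : L' = L := c1.eq_of_mem c2 (hL'.le ha) (hL.faithful a ha ha1)
  rw [← e]
  exact hL'

/-- case `W = 1` -/
theorem proper_of_eq_bot [Finite G] [IsSimpleGroup G]
    (hW : ∀ i j : ι, i ≠ j → ∀ x ∈ B i, x ≠ 1 → ∀ y ∈ B j, y ≠ 1 → ⁅Oc x, zpowers y⁆ = ⊥) (i₀ : ι) :
    ∃ M : Subgroup G, M ≠ ⊤ ∧ ∀ w ∈ A, w ≠ 1 → centralizer ({w} : Set G) ≤ M := by
  have hT : ∀ i j : ι, i ≠ j → ∀ x ∈ B i, x ≠ 1 → ∃ L, IsL B j x L := fun i j hij x hx hx1 =>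
    h.exists_isL hij hx hx1 (fun y hy hy1 => hW i j hij x hx hx1 y hy hy1)
  -- choose the components
  have hex : ∀ j, ∃ L : Subgroup G, ∀ i, i ≠ j → ∀ x ∈ B i, x ≠ 1 → IsL B j x L := by
    intro j
    obtain ⟨k, hk⟩ := h.three' j
    obtain ⟨y, hy, hy1⟩ := h.exists_ne k
    obtain ⟨L, hL⟩ := hT k j hk y hy hy1
    exact ⟨L, fun i hij x hx hx1 => IsL.trans h hT hL hij hx hx1 hk hy⟩
  choose L hL using hex
  -- facts not mentioning the involution
  have hle : ∀ j, B j ≤ L j := by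
    intro j
    obtain ⟨k, hk⟩ := h.three' j
    obtain ⟨y, hy, hy1⟩ := h.exists_ne k
    exact (hL j k hk y hy hy1).le
  have hcent : ∀ j k, k ≠ j → ∀ b ∈ B k, ∀ l ∈ L j, b * l = l * b := by
    intro j k hk b hb l hl
    obtain ⟨y, hy, hy1⟩ := h.exists_ne k
    exact (hL j k hk y hy hy1).cent k hk b hb l hl
  have hfaith : ∀ j, ∀ a ∈ B j, a ≠ 1 → ∃ l ∈ L j, a * l ≠ l * a := by
    intro j
    obtain ⟨k, hk⟩ := h.three' j
    obtain ⟨y, hy, hy1⟩ := h.exists_ne k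
    exact (hL j k hk y hy hy1).faithful
  have hLne : ∀ i j, i ≠ j → L i ≠ L j := by
    intro i j hij e
    obtain ⟨a, ha, ha1⟩ := h.exists_ne j
    obtain ⟨l, hl, hal⟩ := hfaith j a ha ha1
    exact hal (hcent i j (Ne.symm hij) a ha l (by rw [e]; exact hl))
  have hcomm : ∀ i j, i ≠ j → ∀ a ∈ L i, ∀ b ∈ L j, a * b = b * a := by
    intro i j hij
    obtain ⟨k, hki, hkj⟩ := h.three i j
    obtain ⟨y, hy, hy1⟩ := h.exists_ne k
    exact (hL i k hki y hy hy1).comp.commute (hL j k hkj y hy hy1).comp (hLne i j hij)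
  set M : Subgroup G := ⨆ j, L j with hM
  -- an element permuting the components normalises `M`
  have hnorm : ∀ g : G, (∀ j, ∃ k, (L j).map (MulAut.conj g).toMonoidHom = L k) →
      (∀ j, ∃ k, (L j).map (MulAut.conj g⁻¹).toMonoidHom = L k) → g ∈ normalizer (M : Set G) := by
    have key : ∀ g : G, (∀ j, ∃ k, (L j).map (MulAut.conj g).toMonoidHom = L k) → ∀ m ∈ M,
        g * m * g⁻¹ ∈ M := by
      intro g hg m hm
      have h1 : M.map (MulAut.conj g).toMonoidHom ≤ M := by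
        rw [hM, Subgroup.map_iSup]
        refine iSup_le fun j => ?_
        obtain ⟨k, hk⟩ := hg j
        rw [hk]
        exact le_iSup L k
      exact h1 ⟨m, hm, rfl⟩
    intro g hg hg'
    rw [mem_normalizer_iff]
    intro m
    refine ⟨key g hg m, fun hm => ?_⟩
    have := key g⁻¹ hg' _ hm
    have e : g⁻¹ * (g * m * g⁻¹) * g⁻¹⁻¹ = m := by group
    rwa [e] at this
  -- conjugation by elements of `N(A)`
  have hN : ∀ g ∈ normalizer (A : Set G), ∀ j k, (B j).map (MulAut.conj g).toMonoidHom = B k →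
      (L j).map (MulAut.conj g).toMonoidHom = L k := by
    intro g hg j k hjk
    obtain ⟨i, hij⟩ := h.three' j
    obtain ⟨x, hx, hx1⟩ := h.exists_ne i
    obtain ⟨i', hi'⟩ := h.norm g hg i
    have hi'k : i' ≠ k := by
      intro e
      rw [e] at hi'
      have h1 : B i = B j := map_injective (MulAut.conj g).injective (hi'.trans hjk.symm)
      apply hx1
      have h2 : x ∈ B i ⊓ B j := ⟨hx, by rw [← h1]; exact hx⟩
      rw [h.inf_eq_bot hij] at h2
      exact mem_bot.1 h2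
    have hne : ∀ z : G, z ≠ 1 → g * z * g⁻¹ ≠ 1 := by
      intro z hz e
      apply hz
      have : z = g⁻¹ * (g * z * g⁻¹) * g := by group
      rw [this, e]; group
    have hx' : g * x * g⁻¹ ∈ B i' := by rw [← hi']; exact ⟨x, hx, rfl⟩
    have c1 := (hL j i hij x hx hx1).comp.conj g
    rw [map_centralizer_singleton] at c1
    have c2 := (hL k i' hi'k _ hx' (hne x hx1)).comp
    obtain ⟨a, ha, ha1⟩ := h.exists_ne j
    have ha' : g * a * g⁻¹ ∈ B k := by rw [← hjk]; exact ⟨a, ha, rfl⟩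
    exact c2.eq_of_mem c1 ⟨a, hle j ha, rfl⟩ (hfaith k _ ha' (hne a ha1))
  have hNA : ∀ g ∈ normalizer (A : Set G), ∀ j, ∃ k, (L j).map (MulAut.conj g).toMonoidHom = L k := by
    intro g hg j
    obtain ⟨k, hk⟩ := h.norm g hg j
    exact ⟨k, hN g hg j k hk⟩
  -- the basic criterion
  have hfix : ∀ {i j : ι} {x a g : G}, i ≠ j → x ∈ B i → x ≠ 1 → a ∈ B j → a ≠ 1 → g * x = x * g →
      g * a = a * g → (L j).map (MulAut.conj g).toMonoidHom = L j := by
    intro i j x a g hij hx hx1 ha ha1 hgx hga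
    have c1 := (hL j i hij x hx hx1).comp
    have c2 := c1.conj_mem (mem_centralizer_singleton.2 hgx)
    have ha' : a ∈ (L j).map (MulAut.conj g).toMonoidHom := by
      refine ⟨a, hle j ha, ?_⟩
      change g * a * g⁻¹ = a
      rw [hga]; group
    exact c1.eq_of_mem c2 ha' (hfaith j a ha ha1)
  have hinv : ∀ {g z : G}, g * z = z * g → g⁻¹ * z = z * g⁻¹ := fun {g z} e =>
    ((show Commute g z from e).inv_left).eq
  refine ⟨normalizer (M : Set G), ?_, fun w hw hw1 => h.centralizer_le_of ?_ ?_ ?_ hw hw1⟩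
  · intro htop
    have hn : M.Normal := normalizer_eq_top_iff.1 htop
    obtain ⟨a, ha, ha1⟩ := h.exists_ne i₀
    rcases hn.eq_bot_or_eq_top with h1 | h1
    · apply ha1
      have : a ∈ M := (le_iSup L i₀) (hle i₀ ha)
      rw [h1] at this
      exact mem_bot.1 this
    · -- every `L j` is normal
      have hLn : ∀ j, (L j).Normal := by
        intro j
        rw [← normalizer_eq_top_iff, eq_top_iff, ← h1, hM]
        refine iSup_le fun i => ?_
        by_cases hij : i = j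
        · rw [hij]; exact le_normalizer
        · intro a ha
          rw [mem_normalizer_iff]
          intro b
          constructor
          · intro hb
            have := hcomm i j hij a ha b hb
            rw [this]
            simpa using hb
          · intro hb
            have := hcomm i j hij a ha _ hb
            have e : b = a * b * a⁻¹ := by
              calc b = a⁻¹ * (a * (a * b * a⁻¹)) * a * a⁻¹ := by rw [this]; group
                _ = a * b * a⁻¹ := by group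
            rw [e]; exact hb
      have hLtop : ∀ j, L j = ⊤ := by
        intro j
        rcases (hLn j).eq_bot_or_eq_top with h2 | h2
        · exfalso
          obtain ⟨b, hb, hb1⟩ := h.exists_ne j
          have := hle j hb
          rw [h2] at this
          exact hb1 (mem_bot.1 this)
        · exact h2
      obtain ⟨k, hk⟩ := h.three' i₀
      exact hLne k i₀ hk ((hLtop k).trans (hLtop i₀).symm)
  · intro g hg
    exact hnorm g (hNA g hg) (hNA g⁻¹ (inv_mem hg))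
  · intro z hz g hg
    have key : ∀ g : G, (∀ i, g * z i = z i * g) → ∀ j, ∃ k, (L j).map (MulAut.conj g).toMonoidHom = L k := by
      intro g hg j
      obtain ⟨i, hij⟩ := h.three' j
      exact ⟨j, hfix hij (hz i).1 (hz i).2 (hz j).1 (hz j).2 (hg i) (hg j)⟩
    exact hnorm g (key g hg) (key g⁻¹ fun i => hinv (hg i))
  · intro i g hg
    have key : ∀ g : G, (∀ j, j ≠ i → ∀ b ∈ B j, g * b = b * g) →
        ∀ j, ∃ k, (L j).map (MulAut.conj g).toMonoidHom = L k := by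
      intro g hg j
      by_cases hji : j = i
      · subst hji
        by_cases hfx : (L j).map (MulAut.conj g).toMonoidHom = L j
        · exact ⟨j, hfx⟩
        · -- `A^g` commutes with `A`
          obtain ⟨k, hk⟩ := h.three' j
          obtain ⟨x, hx, hx1⟩ := h.exists_ne k
          have c1 := (hL j k hk x hx hx1).comp
          have c2 := c1.conj_mem (mem_centralizer_singleton.2 (hg k hk x hx))
          have hco := c2.commute c1 hfx
          have hgA : g ∈ normalizer (A : Set G) := by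
            refine h.weak g ?_
            -- generators
            have hcase : ∀ k₁, ∀ a ∈ B k₁, ∀ k₂, ∀ b ∈ B k₂, g * a * g⁻¹ * b = b * (g * a * g⁻¹) := by
              intro k₁ a ha k₂ b hb
              by_cases h1 : k₁ = j
              · subst h1
                by_cases h2 : k₂ = k₁
                · subst h2
                  exact hco _ ⟨a, hle _ ha, rfl⟩ b (hle _ hb)
                · have e1 := hg k₂ h2 b hb
                  have e2 : a * b = b * a := h.comm a (h.le _ ha) b (h.le _ hb)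
                  have e3 : g⁻¹ * b = b * g⁻¹ := hinv e1
                  calc g * a * g⁻¹ * b = g * a * (g⁻¹ * b) := by group
                    _ = g * (a * b) * g⁻¹ := by rw [e3]; group
                    _ = (g * b) * a * g⁻¹ := by rw [e2]; group
                    _ = b * (g * a * g⁻¹) := by rw [e1]; group
              · have e1 := hg k₁ h1 a ha
                have e3 : g * a * g⁻¹ = a := by rw [e1]; group
                rw [e3]
                exact h.comm a (h.le _ ha) b (h.le _ hb)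
            have hstep : ∀ a ∈ A, ∀ k₂, ∀ b ∈ B k₂, g * a * g⁻¹ * b = b * (g * a * g⁻¹) := by
              intro a ha k₂ b hb
              rw [← h.sup] at ha
              refine Subgroup.iSup_induction B (C := fun a => g * a * g⁻¹ * b = b * (g * a * g⁻¹)) ha ?_ ?_ ?_
              · exact fun k₁ a ha => hcase k₁ a ha k₂ b hb
              · simp
              · intro u v hu hv
                calc g * (u * v) * g⁻¹ * b = (g * u * g⁻¹) * (g * v * g⁻¹ * b) := by group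
                  _ = (g * u * g⁻¹ * b) * (g * v * g⁻¹) := by rw [hv]; group
                  _ = b * (g * (u * v) * g⁻¹) := by rw [hu]; group
            intro a ha b hb
            rw [← h.sup] at hb
            refine Subgroup.iSup_induction B (C := fun b => g * a * g⁻¹ * b = b * (g * a * g⁻¹)) hb ?_ ?_ ?_
            · exact fun k₂ b hb => hstep a ha k₂ b hb
            · simp
            · intro u v hu hv
              calc g * a * g⁻¹ * (u * v) = (g * a * g⁻¹ * u) * v := by group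
                _ = u * (g * a * g⁻¹ * v) := by rw [hu]; group
                _ = u * v * (g * a * g⁻¹) := by rw [hv]; group
          exact hNA g hgA j
      · obtain ⟨k, hki, hkj⟩ := h.three i j
        obtain ⟨x, hx, hx1⟩ := h.exists_ne k
        obtain ⟨a, ha, ha1⟩ := h.exists_ne j
        exact ⟨j, hfix hkj hx hx1 ha ha1 (hg k hki x hx) (hg j hji a ha)⟩
    exact hnorm g (key g hg) (key g⁻¹ fun j hj b hb => hinv (hg j hj b hb))

/-- **Case (W)** -/
theorem exists_proper [Finite G] [IsSimpleGroup G] (hC : Complete G) (i₀ : ι) :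
    ∃ M : Subgroup G, M ≠ ⊤ ∧ ∀ w ∈ A, w ≠ 1 → centralizer ({w} : Set G) ≤ M := by
  obtain ⟨j₀, hj₀⟩ := h.three' i₀
  obtain ⟨x, hx, hx1⟩ := h.exists_ne i₀
  obtain ⟨y, hy, hy1⟩ := h.exists_ne j₀
  by_cases hW : Wab x y = ⊥
  · refine h.proper_of_eq_bot (fun i j hij u hu hu1 v hv hv1 => ?_) i₀
    apply GoldWFunctor.commutator_eq_bot
    rw [h.wab_eq hC hij (Ne.symm hj₀) hu hv hx hy hu1 hv1 hx1 hy1, hW]
  · exact h.proper_of_ne_bot hC (Ne.symm hj₀) hx hy hx1 hy1 hW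

end CaseW

end Cfsg.Agent.TwoFusion.GoldW
end

-- part: TwoFusion/GoldLambda
section
/-!
# Goldschmidt's theorem: balance modulo components without strongly embedded subgroups

Let `|A| = 4`, `e` an element commuting with `A`, `X = C(e)/O(C(e))`. If all the active components of `X` have
simple quotients with a strongly embedded subgroup, then `O(C(a)) ∩ C(e) ≤ O(C(e))` for all `a ∈ A#`.
-/

set_option autoImplicit false
set_option linter.style.haveILetI false

namespace Cfsg.Agent.TwoFusion.GoldLambda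

open Subgroup
open Cfsg.Agent.TwoFusion.ClosedFam Cfsg.Agent.TwoFusion.Gold Cfsg.Agent.TwoFusion.GoldSetup
open Cfsg.Agent.TwoFusion.ClosedLocal Cfsg.Agent.TwoFusion.GoldFour Cfsg.Agent.TwoFusion.ClosedSimple
open scoped commutatorElement Pointwise

universe u

/-- The facts on a simple group with a strongly embedded subgroup which are used for the balance. -/
structure SEPack (L : Type*) [Group L] : Prop where
  ti : ∀ S S' : Sylow 2 L, S ≠ S' → (S : Subgroup L) ⊓ S' = ⊥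
  card : ∀ S : Sylow 2 L, Nat.card (Sylow 2 L) = 1 + Nat.card S

section Aut

variable {Q : Type*} [Group Q] [Finite Q]

omit [Finite Q] in
theorem smul_smul_sylow (σ : MulAut Q) (t : Q) (R : Sylow 2 Q) : σ • (t • R) = (σ t) • (σ • R) := by
  apply Sylow.ext
  rw [Sylow.coe_subgroup_smul, Sylow.pointwise_smul_def, Sylow.pointwise_smul_def, Sylow.coe_subgroup_smul]
  ext x
  simp only [Subgroup.mem_smul_pointwise_iff_exists, MulAut.smul_def, MulAut.conj_apply]
  constructor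
  · rintro ⟨_, ⟨r, hr, rfl⟩, rfl⟩
    exact ⟨σ r, ⟨r, hr, rfl⟩, by simp only [_root_.map_mul, _root_.map_inv]⟩
  · rintro ⟨_, ⟨r, hr, rfl⟩, rfl⟩
    exact ⟨t * r * t⁻¹, ⟨r, hr, rfl⟩, by simp only [_root_.map_mul, _root_.map_inv]⟩

/-- A Sylow 2-subgroup is transitive on the other Sylow 2-subgroups. -/
theorem exists_smul_eq (hp : SEPack Q) (P : Sylow 2 Q) {R R' : Sylow 2 Q} (hR : R ≠ P) (hR' : R' ≠ P) :
    ∃ t ∈ P, t • R = R' := by
  classical
  haveI : Fact (Nat.Prime 2) := ⟨Nat.prime_two⟩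
  have hne : ∀ t : P, (t : Q) • R ≠ P := by
    intro t h
    apply hR
    have h1 : (t : Q)⁻¹ • (t : Q) • R = (t : Q)⁻¹ • P := by rw [h]
    rw [inv_smul_smul] at h1
    rw [h1, Sylow.smul_eq_iff_mem_normalizer]
    exact inv_mem (le_normalizer t.2)
  let φ : P → {S : Sylow 2 Q // S ≠ P} := fun t => ⟨(t : Q) • R, hne t⟩
  have hinj : Function.Injective φ := by
    intro s t hst
    have h1 : (s : Q) • R = (t : Q) • R := congrArg Subtype.val hst
    have h2 : ((t : Q)⁻¹ * s) • R = R := by rw [mul_smul, h1, inv_smul_smul]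
    rw [Sylow.smul_eq_iff_mem_normalizer] at h2
    have h3 : (t : Q)⁻¹ * s ∈ P := mul_mem (inv_mem t.2) s.2
    have h4 : (t : Q)⁻¹ * s ∈ R := by
      have hz : IsPGroup 2 (zpowers ((t : Q)⁻¹ * s)) := P.2.to_le (by rw [zpowers_le]; exact h3)
      have hzn : zpowers ((t : Q)⁻¹ * s) ≤ normalizer ((R : Subgroup Q) : Set Q) := by rw [zpowers_le]; exact h2
      have h5 := R.is_maximal' (IsPGroup.to_sup_of_normal_right' hz R.2 hzn) le_sup_right
      change (t : Q)⁻¹ * s ∈ (R : Subgroup Q)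
      rw [← h5]
      exact mem_sup_left (mem_zpowers _)
    have h5 : (t : Q)⁻¹ * s ∈ (P : Subgroup Q) ⊓ R := ⟨h3, h4⟩
    rw [hp.ti P R (Ne.symm hR), mem_bot] at h5
    exact Subtype.ext (by rw [inv_mul_eq_one] at h5; exact h5.symm)
  have hcard : Nat.card P = Nat.card {S : Sylow 2 Q // S ≠ P} := by
    have h1 := hp.card P
    have h2 : Nat.card {S : Sylow 2 Q // S ≠ P} = Nat.card (Sylow 2 Q) - 1 := by
      haveI : Fintype (Sylow 2 Q) := Fintype.ofFinite _
      rw [Nat.card_eq_fintype_card, Nat.card_eq_fintype_card]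
      have := Fintype.card_subtype_compl (fun S : Sylow 2 Q => S = P)
      rw [this, Fintype.card_subtype_eq]
    rw [h2, h1]
    change Nat.card P = 1 + Nat.card P - 1
    omega
  have hsurj : Function.Surjective φ := by
    have := (Nat.bijective_iff_injective_and_card φ).2 ⟨hinj, hcard⟩
    exact this.2
  obtain ⟨t, ht⟩ := hsurj ⟨R', hR'⟩
  exact ⟨t, t.2, congrArg Subtype.val ht⟩

/-- An automorphism of odd order which centralizes a Sylow 2-subgroup of a group with `SEPack` fixes all the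
Sylow 2-subgroups. -/
theorem smul_eq_of_fix (hp : SEPack Q) (P : Sylow 2 Q) (σ : MulAut Q) (hσ : Odd (orderOf σ))
    (hfix : ∀ t ∈ P, σ t = t) (R : Sylow 2 Q) : σ • R = R := by
  classical
  haveI : Fact (Nat.Prime 2) := ⟨Nat.prime_two⟩
  have hP : σ • P = P := by
    apply Sylow.ext
    rw [Sylow.pointwise_smul_def]
    ext x
    rw [Subgroup.mem_smul_pointwise_iff_exists]
    constructor
    · rintro ⟨y, hy, rfl⟩
      rw [MulAut.smul_def, hfix y hy]; exact hy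
    · intro hx
      exact ⟨x, hx, by rw [MulAut.smul_def, hfix x hx]⟩
  by_cases hR : R = P
  · rw [hR, hP]
  have hR' : σ • R ≠ P := by
    intro h
    apply hR
    rw [← hP] at h
    exact smul_left_cancel σ h
  obtain ⟨t, ht, htR⟩ := exists_smul_eq hp P hR hR'
  have key : ∀ k : ℕ, (σ ^ k) • R = (t ^ k) • R := by
    intro k
    induction k with
    | zero => simp
    | succ k ih =>
      rw [pow_succ', mul_smul, ih, smul_smul_sylow, map_pow, hfix t ht, ← htR, ← mul_smul, ← pow_succ]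
  have h1 := key (orderOf t)
  rw [pow_orderOf_eq_one, one_smul] at h1
  have hcop : (orderOf t).Coprime (orderOf σ) := by
    obtain ⟨k, hk⟩ := P.2 ⟨t, ht⟩
    have hk' : t ^ 2 ^ k = 1 := by simpa only [_root_.SubmonoidClass.mk_pow, _root_.OneMemClass.coe_one] using congrArg Subtype.val hk
    exact Nat.Coprime.coprime_dvd_left (orderOf_dvd_of_pow_eq_one hk')
      (Nat.Coprime.pow_left k (Nat.coprime_two_left.2 hσ))
  obtain ⟨m, hm⟩ := exists_pow_eq_self_of_coprime hcop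
  have h2 : ∀ m : ℕ, ((σ ^ orderOf t) ^ m) • R = R := by
    intro m
    induction m with
    | zero => simp
    | succ m ih => rw [pow_succ', mul_smul, ih, h1]
  have h3 := h2 m
  rwa [hm] at h3

/-- The main lemma on automorphisms: an odd group of automorphisms which is normalized by a Sylow 2-subgroup and
centralizes one of its nontrivial elements is trivial. -/
theorem eq_one_of_fix (hs : IsSimpleGroup Q) (hnc : ∃ a b : Q, a * b ≠ b * a) (hp : SEPack Q) (P : Sylow 2 Q)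
    {b : Q} (hb : b ∈ P) (hb1 : b ≠ 1) (Y : Subgroup (MulAut Q)) (hY : Odd (Nat.card Y))
    (hYb : ∀ y ∈ Y, y b = b) (hPY : ∀ t ∈ P, ∀ y ∈ Y, MulAut.conj t * y * (MulAut.conj t)⁻¹ ∈ Y) :
    ∀ y ∈ Y, y = 1 := by
  classical
  haveI : Fact (Nat.Prime 2) := ⟨Nat.prime_two⟩
  have hcen : center Q = ⊥ := by
    rcases IsSimpleGroup.eq_bot_or_eq_top_of_normal (center Q) inferInstance with hc | hc
    · exact hc
    · obtain ⟨a, b, hab⟩ := hnc
      exact absurd (mem_center_iff.1 (by rw [hc]; exact mem_top b) a) hab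
  intro y hy
  -- `y` normalizes `P`
  have hyP : y • P = P := by
    by_contra hne
    have h1 := hp.ti (y • P) P hne
    have h2 : b ∈ ((y • P : Sylow 2 Q) : Subgroup Q) ⊓ P := by
      refine ⟨?_, hb⟩
      change b ∈ ((y • P : Sylow 2 Q) : Subgroup Q)
      rw [Sylow.pointwise_smul_def, Subgroup.mem_smul_pointwise_iff_exists]
      exact ⟨b, hb, by rw [MulAut.smul_def, hYb y hy]⟩
    rw [h1, mem_bot] at h2
    exact hb1 h2
  have hyt : ∀ t ∈ P, y t ∈ P := by
    intro t ht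
    have h1 : y • t ∈ (y • P : Sylow 2 Q) := by
      change y • t ∈ ((y • P : Sylow 2 Q) : Subgroup Q)
      rw [Sylow.pointwise_smul_def, Subgroup.mem_smul_pointwise_iff_exists]
      exact ⟨t, ht, rfl⟩
    rwa [hyP] at h1
  -- `y` centralizes `P`
  have hodd : ∀ z ∈ Y, Odd (orderOf z) := by
    intro z hz
    have h1 := orderOf_dvd_natCard (⟨z, hz⟩ : Y)
    rw [Subgroup.orderOf_mk] at h1
    exact Odd.of_dvd_nat hY h1
  have hfix : ∀ t ∈ P, y t = t := by
    intro t ht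
    have h1 : MulAut.conj (y t * t⁻¹) ∈ Y := by
      have e : MulAut.conj (y t * t⁻¹) = y * (MulAut.conj t * y⁻¹ * (MulAut.conj t)⁻¹) := by
        ext x
        simp only [MulAut.conj_apply, mul_assoc, _root_.map_mul, _root_.map_inv, _root_.MulAut.mul_apply, _root_.MulAut.inv_apply, _root_.MulAut.conj_symm_apply, _root_.mul_assoc, _root_.MulAut.conj_apply, _root_.MulEquiv.apply_symm_apply]
      rw [e]
      exact mul_mem hy (hPY t ht _ (inv_mem hy))
    have h2 : y t * t⁻¹ ∈ P := mul_mem (hyt t ht) (inv_mem ht)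
    obtain ⟨k, hk⟩ := P.2 ⟨_, h2⟩
    have hk' : (y t * t⁻¹) ^ 2 ^ k = 1 := by simpa only [_root_.SubmonoidClass.mk_pow, _root_.OneMemClass.coe_one] using congrArg Subtype.val hk
    have h3 : orderOf (MulAut.conj (y t * t⁻¹)) ∣ 2 ^ k := by
      apply orderOf_dvd_of_pow_eq_one
      rw [← map_pow, hk', map_one]
    have h4 : (2 ^ k).Coprime (orderOf (MulAut.conj (y t * t⁻¹))) :=
      Nat.Coprime.pow_left k (Nat.coprime_two_left.2 (hodd _ h1))
    have h5 := Nat.eq_one_of_dvd_coprimes h4 h3 dvd_rfl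
    rw [orderOf_eq_one_iff] at h5
    have h6 : y t * t⁻¹ ∈ center Q := by
      rw [mem_center_iff]
      intro g
      have := congrArg (fun φ : MulAut Q => φ g) h5
      simp only [MulAut.conj_apply, MulAut.one_apply] at this
      calc g * (y t * t⁻¹) = (y t * t⁻¹ * g * (y t * t⁻¹)⁻¹) * (y t * t⁻¹) := by rw [this]
        _ = y t * t⁻¹ * g := by group
    rw [hcen, mem_bot, mul_inv_eq_one] at h6
    exact h6
  have hall := smul_eq_of_fix hp P y (hodd y hy) hfix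
  -- the kernel of the action on the Sylow subgroups
  have hker : (MulAction.toPermHom Q (Sylow 2 Q)).ker = ⊥ := by
    rcases IsSimpleGroup.eq_bot_or_eq_top_of_normal (MulAction.toPermHom Q (Sylow 2 Q)).ker inferInstance with
      hk | hk
    · exact hk
    · exfalso
      have h1 : ∀ q : Q, q • P = P := by
        intro q
        have h2 : q ∈ (MulAction.toPermHom Q (Sylow 2 Q)).ker := by rw [hk]; exact mem_top q
        rw [MonoidHom.mem_ker] at h2
        have := congrArg (fun φ : Equiv.Perm (Sylow 2 Q) => φ P) h2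
        simpa using this
      have h2 : ∀ R : Sylow 2 Q, R = P := by
        intro R
        obtain ⟨q, hq⟩ := MulAction.exists_smul_eq Q P R
        rw [← hq, h1]
      haveI : Subsingleton (Sylow 2 Q) := ⟨fun R R' => (h2 R).trans (h2 R').symm⟩
      have h3 := hp.card P
      have h4 : Nat.card (Sylow 2 Q) = 1 := Nat.card_of_subsingleton P
      have h5 : 0 < Nat.card P := Nat.card_pos
      change Nat.card (Sylow 2 Q) = 1 + Nat.card P at h3
      omega
  ext q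
  rw [MulAut.one_apply]
  have h1 : q⁻¹ * y q ∈ (MulAction.toPermHom Q (Sylow 2 Q)).ker := by
    rw [MonoidHom.mem_ker]
    ext1 R
    simp only [MulAction.toPermHom_apply, MulAction.toPerm_apply, Equiv.Perm.coe_one, id_eq]
    have e : y q • R = q • R := by
      calc y q • R = y q • (y • R) := by rw [hall R]
        _ = y • (q • R) := (smul_smul_sylow y q R).symm
        _ = q • R := hall _
    rw [mul_smul, e, inv_smul_smul]
  rw [hker, mem_bot, inv_mul_eq_one] at h1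
  exact h1.symm

end Aut

/-! ### The action on the simple quotient of a normal component -/

/-- Automorphisms induce automorphisms of the quotient by the centre. -/
def autQ (K : Type*) [Group K] : MulAut K →* MulAut (K ⧸ center K) where
  toFun e := QuotientGroup.congr (center K) (center K) e
    (Subgroup.characteristic_iff_map_eq.1 (inferInstance : (center K).Characteristic) e)
  map_one' := by
    ext x
    obtain ⟨x, rfl⟩ := QuotientGroup.mk_surjective x
    rfl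
  map_mul' e₁ e₂ := by
    ext x
    obtain ⟨x, rfl⟩ := QuotientGroup.mk_surjective x
    rfl

section X

variable {X : Type u} [Group X] [Finite X] {𝒜 : Set X}

/-- An odd subgroup normalized by `C(b)` and centralizing `b` centralizes the active component if the simple
quotient has `SEPack`. -/
theorem comm_of_se (h : Ctx 𝒜) (T : Sylow 2 X) (hcard : Nat.card (fam 𝒜 (T : Subgroup X)) ≤ 4)
    {L : Subgroup X} (hL : Cfsg.IsComponent L) (ha : Act 𝒜 L) (hp : SEPack (↥L ⧸ center ↥L)) {b : X}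
    (hb : b ∈ fam 𝒜 (T : Subgroup X)) (hb1 : b ≠ 1) {Y : Subgroup X} (hY : Odd (Nat.card Y))
    (hYb : ∀ y ∈ Y, y * b = b * y) (hn : ∀ c : X, c * b = b * c → ∀ y ∈ Y, c * y * c⁻¹ ∈ Y) :
    ∀ y ∈ Y, ∀ l ∈ L, y * l = l * y := by
  classical
  haveI := GoldActFour.normal h.fam T hcard hL ha
  have hT := h.T L hL (GoldActFour.famQ 𝒜 L) (GoldActFour.isElemFam_famQ h.fam L)
    (GoldActFour.exists_ne_one L ha)
  obtain ⟨T', hT'⟩ := GoldActFour.exists_sylow_quot T hL
  set φ : X →* MulAut (↥L ⧸ center ↥L) := (autQ ↥L).comp MulAut.conjNormal with hφ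
  have hφa : ∀ (x : X) (l : L), φ x (QuotientGroup.mk' (center ↥L) l) =
      QuotientGroup.mk' (center ↥L) (MulAut.conjNormal x l) := fun x l => rfl
  have hbL := GoldActFour.fam_le h.fam T hcard hL ha hb
  have hb' := (h.fam.toIsClosedFam.mem_fam_iff T.2).1 hb
  have hmemT : ∀ (t : X) (htL : t ∈ L), t ∈ T → QuotientGroup.mk' (center ↥L) ⟨t, htL⟩ ∈ T' := by
    intro t htL ht
    change _ ∈ (T' : Subgroup (↥L ⧸ center ↥L))
    rw [hT']
    exact ⟨⟨t, htL⟩, ht, rfl⟩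
  have key := eq_one_of_fix (Q := ↥L ⧸ center ↥L) hL.2.2 (GoldSolid.quasisimple_nonab hL.2) hp T'
    (b := QuotientGroup.mk' (center ↥L) ⟨b, hbL⟩) (hmemT b hbL hb'.2) (by
      intro e
      apply hb1
      refine GoldActFour.eq_one_of_comm h.fam T hcard hL ha hb (fun l hl => ?_)
      have h1 : (⟨b, hbL⟩ : L) ∈ center ↥L := by
        rw [← QuotientGroup.ker_mk' (center ↥L)]; exact e
      exact (congrArg Subtype.val (mem_center_iff.1 h1 ⟨l, hl⟩)).symm)
    (Y.map φ) (Odd.of_dvd_nat hY (Subgroup.card_map_dvd _ _)) (by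
      rintro _ ⟨y, hy, rfl⟩
      rw [hφa]
      congr 1
      apply Subtype.ext
      rw [MulAut.conjNormal_apply, hYb y hy]
      group) (by
      rintro t ht _ ⟨y, hy, rfl⟩
      have ht' : t ∈ (T' : Subgroup (↥L ⧸ center ↥L)) := ht
      rw [hT'] at ht'
      obtain ⟨⟨t, htL⟩, htT, rfl⟩ := ht'
      have hconj : MulAut.conj (QuotientGroup.mk' (center ↥L) ⟨t, htL⟩) = φ t := by
        ext x
        obtain ⟨x, rfl⟩ := QuotientGroup.mk'_surjective (center ↥L) x
        rw [hφa, MulAut.conj_apply, ← map_inv, ← map_mul, ← map_mul]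
        congr 1
      refine ⟨t * y * t⁻¹, hn t ?_ y hy, ?_⟩
      · exact (GoldActFour.comm_of_mem h.fam T hcard hL ha hT.central hb htT htL).symm
      · rw [hconj, map_mul, map_mul, map_inv])
  -- `[Y, L] ≤ Z(L)`
  have h1 : ⁅Y, L⁆ ≤ (center ↥L).map L.subtype := by
    rw [commutator_le]
    intro y hy l hl
    have h2 := key (φ y) ⟨y, hy, rfl⟩
    have h3 : QuotientGroup.mk' (center ↥L) (MulAut.conjNormal y ⟨l, hl⟩) =
        QuotientGroup.mk' (center ↥L) ⟨l, hl⟩ := by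
      rw [← hφa, h2]; rfl
    have h4 : (MulAut.conjNormal y ⟨l, hl⟩ : L) * (⟨l, hl⟩ : L)⁻¹ ∈ center ↥L := by
      rw [← QuotientGroup.ker_mk' (center ↥L), MonoidHom.mem_ker, map_mul, map_inv, h3, mul_inv_cancel]
    refine ⟨_, h4, ?_⟩
    change ((MulAut.conjNormal y ⟨l, hl⟩ : L) : X) * l⁻¹ = ⁅y, l⁆
    rw [MulAut.conjNormal_apply, commutatorElement_def]
  have h2 : ⁅⁅Y, L⁆, L⁆ = ⊥ := by
    rw [commutator_eq_bot_iff_le_centralizer]
    refine h1.trans ?_
    rintro _ ⟨z, hz, rfl⟩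
    rw [mem_centralizer_iff]
    intro l hl
    exact congrArg Subtype.val (mem_center_iff.1 hz ⟨l, hl⟩)
  have h3 := Cfsg.Agent.SignalizersComponents.Components.commutator_eq_bot_of_commutator_commutator_eq_bot
    hL.2.1 h2
  rw [commutator_eq_bot_iff_le_centralizer] at h3
  intro y hy l hl
  exact (mem_centralizer_iff.1 (h3 hy) l hl).symm

/-- The balance in `X`. -/
theorem eq_bot (h : Ctx 𝒜) (T : Sylow 2 X) (hcard : Nat.card (fam 𝒜 (T : Subgroup X)) ≤ 4)
    (hse : ∀ L : Subgroup X, Cfsg.IsComponent L → Act 𝒜 L → SEPack (↥L ⧸ center ↥L)) {b : X}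
    (hb : b ∈ fam 𝒜 (T : Subgroup X)) (hb1 : b ≠ 1) {Y : Subgroup X} (hY : Odd (Nat.card Y))
    (hYb : ∀ y ∈ Y, y * b = b * y) (hn : ∀ c : X, c * b = b * c → ∀ y ∈ Y, c * y * c⁻¹ ∈ Y) : Y = ⊥ := by
  classical
  haveI : Fact (Nat.Prime 2) := ⟨Nat.prime_two⟩
  have hb' := (h.fam.toIsClosedFam.mem_fam_iff T.2).1 hb
  haveI hpn := Cfsg.Agent.Lib.Cores.pCore_normal (G := X) 2
  have hpp : IsPGroup 2 (Cfsg.pCore 2 X) := Cfsg.Agent.Lib.Cores.pCore_isPGroup (G := X) 2
  refine Cfsg.Agent.SignalizersComponents.OddFixed.eq_bot_of_centralizes h.core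
    (Nat.coprime_two_right.2 hY) ?_ ?_
  · -- `O_2(X)`
    have h1 : Y ≤ centralizer ((Cfsg.pCore 2 X : Subgroup X) : Set X) := by
      refine Cfsg.Agent.Lib.ThompsonPQ.thompson_p_times_q 2 (zpowers b) Y (Cfsg.pCore 2 X)
        (h.fam.toIsClosedFam.isPGroup_zpowers hb'.1) (Nat.coprime_two_right.2 hY) hpp ?_ ?_ ?_ ?_
      · rw [zpowers_le, mem_centralizer_iff]
        exact fun y hy => hYb y hy
      · rw [normalizer_eq_top]; exact le_top
      · rw [normalizer_eq_top]; exact le_top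
      · rintro u ⟨hu, hub⟩
        rw [mem_centralizer_iff]
        intro y hy
        have h2 : u * y * u⁻¹ ∈ Y := by
          refine hn u ?_ y hy
          exact (mem_centralizer_iff.1 hub b (mem_zpowers b)).symm
        have h3 : u * y * u⁻¹ * y⁻¹ = 1 := by
          refine ClosedLocal.eq_one_of_odd_of_isPGroup hY hpp (mul_mem h2 (inv_mem hy)) ?_
          have e : u * y * u⁻¹ * y⁻¹ = u * (y * u⁻¹ * y⁻¹) := by group
          rw [e]
          exact mul_mem hu (hpn.conj_mem _ (inv_mem hu) y)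
        rw [mul_inv_eq_one, mul_inv_eq_iff_eq_mul] at h3
        exact h3.symm
    intro y hy u hu
    exact (mem_centralizer_iff.1 (h1 hy) u hu).symm
  · -- components
    intro L hL y hy l hl
    by_cases ha : Act 𝒜 L
    · exact comm_of_se h T hcard hL ha (hse L hL ha) hb hb1 hY hYb hn y hy l hl
    · have h1 := comm_of_not_act h.fam h.core hL ha b hb'.1
      have h2 : L ≤ normalizer (Y : Set X) :=
        ClosedFour.le_normalizer_of_conj fun l hl y hy => hn l (h1 l hl).symm y hy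
      have h3 : ¬ L ≤ Y := by
        intro hle
        have h4 := Cfsg.Agent.S1270.component_not_coprime h.core hL
        apply h4
        exact Nat.Coprime.coprime_dvd_left (Subgroup.card_dvd_of_le hle) (Nat.coprime_two_right.2 hY)
      have h4 := Cfsg.Agent.S1270.component_comm_of_normalizes hL h2 h3
      rw [commutator_eq_bot_iff_le_centralizer] at h4
      exact mem_centralizer_iff.1 (h4 hl) y hy

end X

/-- Simple groups with strongly embedded subgroups have `SEPack` (a consequence of Bender's theorem). -/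
def SEHyp : Prop :=
  ∀ (L : Type u) [Group L] [Finite L], IsSimpleGroup L → (∃ a b : L, a * b ≠ b * a) →
    (∃ H : Subgroup L, Cfsg.IsStronglyEmbedded H) → SEPack L

section G

variable {G : Type u} [Group G] [Finite G] {𝒜 : Set G} (h : Setup 𝒜) (S : Sylow 2 G)

include h

/-- Balance: `O(C(a)) ∩ C(e) ≤ O(C(e))`. -/
theorem bal (h4 : Nat.card (fam 𝒜 (S : Subgroup G)) ≤ 4) {e : G} (he1 : e ≠ 1)
    (heA : ∀ a ∈ fam 𝒜 (S : Subgroup G), a * e = e * a)
    (hse : ∀ L : Subgroup (↥(centralizer ({e} : Set G)) ⧸ Cfsg.oddCore ↥(centralizer ({e} : Set G))),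
      Cfsg.IsComponent L → Act (push 𝒜 (centralizer ({e} : Set G))) L → SEPack (↥L ⧸ center ↥L))
    {a : G} (ha : a ∈ fam 𝒜 (S : Subgroup G)) (ha1 : a ≠ 1) :
    Oc a ⊓ centralizer ({e} : Set G) ≤ Oc e := by
  classical
  set H := centralizer ({e} : Set G) with hH
  set π := QuotientGroup.mk' (Cfsg.oddCore ↥H) with hπ
  have hAH : fam 𝒜 (S : Subgroup G) ≤ H := fun a ha => mem_cent.2 (heA a ha)
  obtain ⟨P, hP⟩ := GoldSolid.exists_sylow_push h.fam S hAH
  have haA := (h.mem_iff S).1 ha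
  have hcard : Nat.card (fam (push 𝒜 H) (P : Subgroup (↥H ⧸ Cfsg.oddCore ↥H))) ≤ 4 := by
    rw [hP]
    refine (Nat.card_image_le (Set.toFinite _)).trans ?_
    change Nat.card ((fam 𝒜 (S : Subgroup G)).subgroupOf H) ≤ 4
    rw [Nat.card_congr (subgroupOfEquivOfLe hAH).toEquiv]
    exact h4
  have hWodd : Odd (Nat.card ((Oc a ⊓ H).subgroupOf H)) := by
    rw [Nat.card_congr (subgroupOfEquivOfLe (inf_le_right : Oc a ⊓ H ≤ H)).toEquiv]
    exact Odd.of_dvd_nat (odd_Oc a) (card_dvd_of_le inf_le_left)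
  have hbP : π ⟨a, hAH ha⟩ ∈ fam (push 𝒜 H) (P : Subgroup (↥H ⧸ Cfsg.oddCore ↥H)) := by
    rw [hP]
    exact ⟨⟨a, hAH ha⟩, ha, rfl⟩
  have hb1 : π ⟨a, hAH ha⟩ ≠ 1 := by
    intro e1
    have h1 : (⟨a, hAH ha⟩ : H) ∈ Cfsg.oddCore ↥H := by
      rw [← QuotientGroup.ker_mk' (Cfsg.oddCore ↥H)]; exact e1
    have h2 : a ∈ core H := ⟨⟨a, hAH ha⟩, h1, rfl⟩
    apply ha1
    exact eq_one_of_odd_of_isPGroup (odd_core H) (h.fam.toIsClosedFam.isPGroup_zpowers haA.1) h2 (mem_zpowers a)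
  have key := eq_bot (h.ctxCent he1) P hcard hse hbP hb1 (Y := ((Oc a ⊓ H).subgroupOf H).map π)
    (Odd.of_dvd_nat hWodd (Subgroup.card_map_dvd _ _)) (by
      rintro _ ⟨w, hw, rfl⟩
      rw [← map_mul, ← map_mul]
      congr 1
      apply Subtype.ext
      exact Oc_comm hw.1) (by
      rintro c hc _ ⟨w, hw, rfl⟩
      obtain ⟨c, rfl⟩ := QuotientGroup.mk'_surjective (Cfsg.oddCore ↥H) c
      -- lift `c` to an element commuting with `a`
      have h1 : (c : G) * a * (c : G)⁻¹ * a⁻¹ ∈ core H := by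
        refine ⟨c * ⟨a, hAH ha⟩ * c⁻¹ * ⟨a, hAH ha⟩⁻¹, ?_, rfl⟩
        rw [← QuotientGroup.ker_mk' (Cfsg.oddCore ↥H)]
        change π (c * ⟨a, hAH ha⟩ * c⁻¹ * ⟨a, hAH ha⟩⁻¹) = 1
        rw [map_mul, map_mul, map_mul, map_inv, map_inv]
        change π c * π ⟨a, hAH ha⟩ = π ⟨a, hAH ha⟩ * π c at hc
        rw [hc]
        group
      have haa : a * a = 1 := h.fam.sq a haA.1
      have hzp : ∀ p ∈ zpowers a, p = 1 ∨ p = a := by
        intro p hp
        obtain ⟨k, rfl⟩ := hp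
        rcases Int.even_or_odd' k with ⟨m, rfl | rfl⟩
        · left
          change a ^ (2 * m) = 1
          rw [zpow_mul]
          have : a ^ (2 : ℤ) = 1 := by rw [zpow_ofNat, pow_two, haa]
          rw [this, one_zpow]
        · right
          change a ^ (2 * m + 1) = a
          rw [zpow_add, zpow_mul]
          have : a ^ (2 : ℤ) = 1 := by rw [zpow_ofNat, pow_two, haa]
          rw [this, one_zpow, one_mul, zpow_one]
      obtain ⟨v, hv, hvc⟩ := GoldW.exists_mul_mem_centralizer (odd_core H)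
        (h.fam.toIsClosedFam.isPGroup_zpowers haA.1) (V := core H) (P := zpowers a)
        (by
          rw [zpowers_le]
          exact ClosedFour.le_normalizer_core H (hAH ha)) (l := (c : G)) (by
          intro p hp
          rcases hzp p hp with rfl | rfl
          · simp
          · exact h1)
      have hva : v * c * a = a * (v * c) := (mem_centralizer_iff.1 hvc a (mem_zpowers a)).symm
      have hvH : v ∈ H := core_le H hv
      have hvcH : v * c ∈ H := mul_mem hvH c.2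
      have hπv : π ⟨v * c, hvcH⟩ = π c := by
        have e1 : (⟨v * c, hvcH⟩ : H) = ⟨v, hvH⟩ * c := rfl
        rw [e1, map_mul]
        have h3 : π ⟨v, hvH⟩ = 1 := by
          rw [← MonoidHom.mem_ker, hπ, QuotientGroup.ker_mk']
          obtain ⟨v', hv', rfl⟩ := hv
          exact hv'
        rw [h3, one_mul]
      refine ⟨⟨v * c, hvcH⟩ * w * ⟨v * c, hvcH⟩⁻¹, ?_, ?_⟩
      · change (v * c) * (w : G) * (v * c)⁻¹ ∈ Oc a ⊓ H
        exact ⟨conj_mem_Oc hva hw.1, H.mul_mem (H.mul_mem hvcH w.2) (H.inv_mem hvcH)⟩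
      · rw [map_mul, map_mul, map_inv, hπv])
  intro w hw
  have h1 : π ⟨w, hw.2⟩ ∈ ((Oc a ⊓ H).subgroupOf H).map π := ⟨⟨w, hw.2⟩, hw, rfl⟩
  rw [key, mem_bot] at h1
  have h2 : (⟨w, hw.2⟩ : H) ∈ Cfsg.oddCore ↥H := by
    rw [← QuotientGroup.ker_mk' (Cfsg.oddCore ↥H)]; exact h1
  exact ⟨⟨w, hw.2⟩, h2, rfl⟩

/-- Balance or a component without strongly embedded subgroups. -/
theorem bal_or (hSE : SEHyp.{u}) (h4 : Nat.card (fam 𝒜 (S : Subgroup G)) ≤ 4) {e : G} (he1 : e ≠ 1)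
    (heA : ∀ a ∈ fam 𝒜 (S : Subgroup G), a * e = e * a) :
    (∀ a ∈ fam 𝒜 (S : Subgroup G), a ≠ 1 → Oc a ⊓ centralizer ({e} : Set G) ≤ Oc e) ∨
    ∃ L : Subgroup (↥(centralizer ({e} : Set G)) ⧸ Cfsg.oddCore ↥(centralizer ({e} : Set G))),
      Cfsg.IsComponent L ∧ Act (push 𝒜 (centralizer ({e} : Set G))) L ∧
        ¬ ∃ H : Subgroup (↥L ⧸ center ↥L), Cfsg.IsStronglyEmbedded H := by
  by_contra hcon
  push Not at hcon
  obtain ⟨⟨a, ha, ha1, hle⟩, hall⟩ := hcon
  exact hle (bal h S h4 he1 heA (fun L hL hact =>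
    hSE _ hL.2.2 (GoldSolid.quasisimple_nonab hL.2) (hall L hL hact)) ha ha1)

end G


end Cfsg.Agent.TwoFusion.GoldLambda
end

-- part: TwoFusion/GoldAt
section
/-!
# Goldschmidt's theorem, `|A| = 4`: the signalizer functor on `A⟨t⟩`

`AtData A t`: `A` is a four-group, `C(a) = O(C(a)) C(A)` and `O(C(a)) ∩ C(A) = O(C(A))` for `a ∈ A#`, and `t` is an
involution of `C(A)` outside `A` such that `O(C(a)) ∩ C(e) ≤ O(C(e))` for all `e ∈ tA`, `a ∈ A#`.
Then `θ(a) = O(C(a))` (`a ∈ A#`), `θ(e) = [O(C(e)), A] (O(C(e)) ∩ O(C(A)))` (`e ∈ tA`) is a solvable signalizer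
functor on `A⟨t⟩`. So `⟨O(C(a)) : a ∈ A#⟩` has odd order and is normalised by all `C(a)`, `a ∈ A#`.

`false_of_balanced` : this gives a contradiction in a minimal counterexample to Goldschmidt's theorem.
-/

set_option autoImplicit false
set_option linter.style.haveILetI false

namespace Cfsg.Agent.TwoFusion.GoldAt

open Subgroup
open scoped commutatorElement
open Cfsg.Agent.TwoFusion.ClosedFam Cfsg.Agent.TwoFusion.ClosedSimple
open Cfsg.Agent.Lib.CoprimeCommutator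
open Cfsg.Agent.TwoFusion.ClosedFour (le_commutator_sup coprime_of_isPGroup Oc_le Oc_odd le_normalizer_Oc
  conj_mem_of_le_normalizer le_normalizer_of_conj le_normalizer_inf mem_centralizer_singleton)

universe u

variable {G : Type u} [Group G]

/-- The data for the signalizer functor on `A⟨t⟩`. -/
structure AtData (A : Subgroup G) (t : G) : Prop where
  comm : ∀ a ∈ A, ∀ b ∈ A, a * b = b * a
  sq : ∀ a ∈ A, a * a = 1
  card : Nat.card A = 4
  tt : t * t = 1
  ta : ∀ a ∈ A, t * a = a * t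
  tA : t ∉ A
  inf : ∀ a ∈ A, a ≠ 1 → Oc a ⊓ centralizer (A : Set G) = core (centralizer (A : Set G))
  dec : ∀ a ∈ A, a ≠ 1 → ∀ c, c * a = a * c → ∃ o ∈ Oc a, ∃ n ∈ centralizer (A : Set G), c = o * n
  bal : ∀ e, t * e ∈ A → ∀ a ∈ A, a ≠ 1 → Oc a ⊓ centralizer ({e} : Set G) ≤ Oc e

/-- The group `A⟨t⟩`. -/
def ext (A : Subgroup G) (t : G) (tt : t * t = 1) (ta : ∀ a ∈ A, t * a = a * t) : Subgroup G where
  carrier := {x | x ∈ A ∨ t * x ∈ A}
  one_mem' := Or.inl (one_mem A)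
  mul_mem' := by
    rintro x y (hx | hx) (hy | hy)
    · exact Or.inl (mul_mem hx hy)
    · refine Or.inr ?_
      have e : t * (x * y) = x * (t * y) := by rw [← mul_assoc, ta x hx, mul_assoc]
      rw [e]; exact mul_mem hx hy
    · refine Or.inr ?_
      rw [← mul_assoc]; exact mul_mem hx hy
    · refine Or.inl ?_
      have e : x * y = (t * x) * (t * y) := by
        have e1 : (t * x) * t = t * (t * x) := (ta _ hx).symm
        calc x * y = (t * t) * x * y := by rw [tt, one_mul]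
          _ = (t * (t * x)) * y := by group
          _ = (t * x) * t * y := by rw [e1]
          _ = (t * x) * (t * y) := by group
      rw [e]; exact mul_mem hx hy
  inv_mem' := by
    rintro x (hx | hx)
    · exact Or.inl (inv_mem hx)
    · refine Or.inr ?_
      have ti : t⁻¹ = t := inv_eq_of_mul_eq_one_left tt
      have h1 : (t * x)⁻¹ ∈ A := inv_mem hx
      rw [mul_inv_rev, ti] at h1
      have h2 : t * (x⁻¹ * t) = (x⁻¹ * t) * t := ta _ h1
      have h3 : t * x⁻¹ = x⁻¹ * t := by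
        have h4 := congrArg (fun z => z * t) h2
        simp only [mul_assoc, tt, mul_one] at h4
        exact h4
      rw [h3]; exact h1

open Classical in
/-- The functor. -/
noncomputable def th (A : Subgroup G) (e : G) : Subgroup G :=
  if e ∈ A then Oc e else ⁅Oc e, A⁆ ⊔ (Oc e ⊓ core (centralizer (A : Set G)))

theorem th_of_mem {A : Subgroup G} {e : G} (he : e ∈ A) : th A e = Oc e := if_pos he

theorem th_of_not_mem {A : Subgroup G} {e : G} (he : e ∉ A) :
    th A e = ⁅Oc e, A⁆ ⊔ (Oc e ⊓ core (centralizer (A : Set G))) := if_neg he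

namespace AtData

variable {A : Subgroup G} {t : G} (h : AtData A t)

include h

theorem isPGroup : IsPGroup 2 A := fun ⟨a, ha⟩ => ⟨1, Subtype.ext (by simpa only [pow_two, _root_.pow_one, _root_.MulMemClass.mk_mul_mk, _root_.OneMemClass.coe_one] using h.sq a ha)⟩

theorem comm_of_mem {x : G} (hx : t * x ∈ A) {a : G} (ha : a ∈ A) : x * a = a * x := by
  have h1 : (t * x) * a = a * (t * x) := h.comm _ hx a ha
  have h2 : t * (x * a) = t * (a * x) := by
    calc t * (x * a) = (t * x) * a := by group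
      _ = a * t * x := by rw [h1]; group
      _ = t * a * x := by rw [h.ta a ha]
      _ = t * (a * x) := by group
  exact mul_left_cancel h2

/-- `A⟨t⟩` centralises `A`. -/
theorem ext_comm {x a : G} (hx : x ∈ ext A t h.tt h.ta) (ha : a ∈ A) : x * a = a * x := by
  rcases hx with hx | hx
  · exact h.comm x hx a ha
  · exact h.comm_of_mem hx ha

theorem t_comm {x : G} (hx : x ∈ ext A t h.tt h.ta) : t * x = x * t := by
  rcases hx with hx | hx
  · exact h.ta x hx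
  · have h1 := h.ta _ hx
    have h2 : t * (t * x) = t * (x * t) := by rw [h1]; group
    exact mul_left_cancel h2

/-- `A⟨t⟩` is abelian. -/
theorem ext_abel {x y : G} (hx : x ∈ ext A t h.tt h.ta) (hy : y ∈ ext A t h.tt h.ta) : x * y = y * x := by
  rcases hy with hy' | hy'
  · exact h.ext_comm hx hy'
  · have h1 : x * (t * y) = (t * y) * x := h.ext_comm hx hy'
    have h2 : t * (x * y) = t * (y * x) := by
      calc t * (x * y) = (t * x) * y := by group
        _ = x * (t * y) := by rw [h.t_comm hx]; group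
        _ = t * (y * x) := by rw [h1]; group
    exact mul_left_cancel h2

theorem ext_sq {x : G} (hx : x ∈ ext A t h.tt h.ta) : x * x = 1 := by
  have htx := h.t_comm hx
  rcases hx with hx' | hx'
  · exact h.sq x hx'
  · have h1 := h.sq _ hx'
    calc x * x = (t * t) * (x * x) := by rw [h.tt, one_mul]
      _ = t * (t * x) * x := by group
      _ = t * (x * t) * x := by rw [htx]
      _ = (t * x) * (t * x) := by group
      _ = 1 := h1

theorem le_ext : A ≤ ext A t h.tt h.ta := fun _ ha => Or.inl ha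

theorem card_ext [Finite G] : 2 ^ 3 ≤ Nat.card (ext A t h.tt h.ta) := by
  let f : A × Bool → ext A t h.tt h.ta := fun p =>
    match p.2 with
    | true => ⟨p.1, Or.inl p.1.2⟩
    | false => ⟨t * p.1, Or.inr (by rw [← mul_assoc, h.tt, one_mul]; exact p.1.2)⟩
  have hf : Function.Injective f := by
    rintro ⟨⟨x, hx⟩, b⟩ ⟨⟨y, hy⟩, c⟩ hxy
    have h1 : ((f (⟨x, hx⟩, b) : ext A t h.tt h.ta) : G) = (f (⟨y, hy⟩, c) : ext A t h.tt h.ta) :=
      congrArg Subtype.val hxy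
    rcases b with _ | _ <;> rcases c with _ | _
    · have h2 : t * x = t * y := h1
      have h3 : x = y := mul_left_cancel h2
      subst h3; rfl
    · exfalso
      have h2 : t * x = y := h1
      exact h.tA (by
        have e : t = y * x⁻¹ := by rw [← h2]; group
        rw [e]; exact mul_mem hy (inv_mem hx))
    · exfalso
      have h2 : x = t * y := h1
      exact h.tA (by
        have e : t = x * y⁻¹ := by rw [h2]; group
        rw [e]; exact mul_mem hx (inv_mem hy))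
    · have h2 : x = y := h1
      subst h2; rfl
  have h1 := Nat.card_le_card_of_injective f hf
  rw [Nat.card_prod, h.card, Nat.card_eq_fintype_card, Fintype.card_bool] at h1
  omega

/-- `A⟨t⟩` centralises each of its elements. -/
theorem ext_le_cent {e : G} (he : e ∈ ext A t h.tt h.ta) :
    ext A t h.tt h.ta ≤ centralizer ({e} : Set G) := fun _ hx =>
  mem_centralizer_singleton.2 (h.ext_abel hx he)

theorem ext_le_centralizer : ext A t h.tt h.ta ≤ centralizer (A : Set G) := fun _ hx =>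
  mem_centralizer_iff.2 fun _ ha => (h.ext_comm hx ha).symm

omit h in
theorem le_cent {a : G} (ha : a ∈ A) : centralizer (A : Set G) ≤ centralizer ({a} : Set G) :=
  centralizer_le (by simpa using ha)

theorem ext_le_normalizer_Oc {e : G} (he : e ∈ ext A t h.tt h.ta) :
    ext A t h.tt h.ta ≤ normalizer (Oc e : Set G) :=
  (h.ext_le_cent he).trans (le_normalizer_Oc e)

theorem le_normalizer_Oc' {e : G} (he : e ∈ ext A t h.tt h.ta) : A ≤ normalizer (Oc e : Set G) :=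
  h.le_ext.trans (h.ext_le_normalizer_Oc he)

/-- `θ(e) ≤ O(C(e))` -/
theorem th_le {e : G} (he : e ∈ ext A t h.tt h.ta) : th A e ≤ Oc e := by
  by_cases heA : e ∈ A
  · rw [th_of_mem heA]
  · rw [th_of_not_mem heA]
    exact sup_le (commutator_le_left (h.le_normalizer_Oc' he)) inf_le_left

theorem th_odd [Finite G] {e : G} (he : e ∈ ext A t h.tt h.ta) : Odd (Nat.card (th A e)) :=
  (Oc_odd e).of_dvd_nat (card_dvd_of_le (h.th_le he))

/-- two involutions of `A` -/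
theorem exists_pair [Finite G] : ∃ x ∈ A, ∃ y ∈ A, x ≠ 1 ∧ y ≠ 1 ∧ x ≠ y := by
  classical
  by_contra hcon
  push Not at hcon
  have h1 : ∃ x : A, x ≠ 1 := by
    by_contra hc
    push Not at hc
    have : Nat.card A = 1 := by
      rw [Nat.card_eq_one_iff_unique]
      exact ⟨⟨fun x y => (hc x).trans (hc y).symm⟩, ⟨1⟩⟩
    rw [h.card] at this
    omega
  obtain ⟨⟨x, hx⟩, hx1⟩ := h1
  have hx1' : x ≠ 1 := fun e => hx1 (Subtype.ext e)
  have h2 : (A : Set G) ⊆ {1, x} := by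
    intro y hy
    by_cases hy1 : y = 1
    · exact Or.inl hy1
    · exact Or.inr (hcon x hx y hy hx1' hy1).symm
  have h3 : Nat.card A ≤ Nat.card ({1, x} : Set G) := Nat.card_mono (Set.toFinite _) h2
  have h4 : Nat.card ({1, x} : Set G) ≤ 2 := by
    rw [Nat.card_coe_set_eq]
    exact (Set.ncard_insert_le 1 {x}).trans (by rw [Set.ncard_singleton])
  rw [h.card] at h3
  omega

/-- `[C(a), A] ≤ O(C(a))`. -/
theorem commutator_cent_le {a : G} (ha : a ∈ A) (ha1 : a ≠ 1) :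
    ⁅centralizer ({a} : Set G), A⁆ ≤ Oc a := by
  rw [commutator_le]
  intro c hc b hb
  obtain ⟨o, ho, n, hn, rfl⟩ := h.dec a ha ha1 c (mem_centralizer_singleton.1 hc)
  have hnb : b * n = n * b := mem_centralizer_iff.1 hn b hb
  have hbN : A ≤ normalizer (Oc a : Set G) := h.le_normalizer_Oc' (h.le_ext ha)
  have e : ⁅o * n, b⁆ = o * (b * o⁻¹ * b⁻¹) := by
    rw [commutatorElement_def]
    calc o * n * b * (o * n)⁻¹ * b⁻¹ = o * (n * b) * n⁻¹ * o⁻¹ * b⁻¹ := by group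
      _ = o * (b * n) * n⁻¹ * o⁻¹ * b⁻¹ := by rw [hnb]
      _ = o * (b * o⁻¹ * b⁻¹) := by group
  rw [e]
  exact mul_mem ho (conj_mem_of_le_normalizer hbN hb (inv_mem ho))

theorem V_le {a : G} (ha : a ∈ A) (ha1 : a ≠ 1) : core (centralizer (A : Set G)) ≤ Oc a := by
  rw [← h.inf a ha ha1]; exact inf_le_left

/-- An `A`-invariant subgroup of `C(a)` of odd order lies in `O(C(a))` if its `A`-fixed points do. -/
theorem le_Oc_of [Finite G] {a : G} (ha : a ∈ A) (ha1 : a ≠ 1) {X : Subgroup G}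
    (hX : X ≤ centralizer ({a} : Set G)) (hodd : Odd (Nat.card X)) (hn : A ≤ normalizer (X : Set G))
    (hf : X ⊓ centralizer (A : Set G) ≤ Oc a) : X ≤ Oc a :=
  (le_commutator_sup h.isPGroup hodd hn).trans
    (sup_le ((commutator_mono hX le_rfl).trans (h.commutator_cent_le ha ha1)) hf)

/-- `A` is not cyclic: a subgroup with cyclic quotient is not trivial. -/
theorem ne_bot_of_cyclic [Finite G] {B₀ : Subgroup G}
    (hc : ∀ [(B₀.subgroupOf A).Normal], IsCyclic (↥A ⧸ B₀.subgroupOf A)) : B₀ ≠ ⊥ := by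
  rintro rfl
  have hn : ((⊥ : Subgroup G).subgroupOf A).Normal := by
    rw [bot_subgroupOf]; infer_instance
  have h1 : IsCyclic (↥A ⧸ (⊥ : Subgroup G).subgroupOf A) := hc
  obtain ⟨g, hg⟩ := h1.exists_generator
  obtain ⟨a, rfl⟩ := QuotientGroup.mk_surjective g
  obtain ⟨x, hx, y, hy, hx1, hy1, hxy⟩ := h.exists_pair
  have key : ∀ z ∈ A, z = 1 ∨ z = a := by
    intro z hz
    obtain ⟨k, hk⟩ := mem_zpowers_iff.1 (hg (QuotientGroup.mk ⟨z, hz⟩))
    rw [← QuotientGroup.mk_zpow, QuotientGroup.eq] at hk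
    have h2 : ((a ^ k)⁻¹ * ⟨z, hz⟩ : A) = 1 := by
      rw [mem_subgroupOf, mem_bot] at hk
      exact Subtype.ext hk
    have h3 : (⟨z, hz⟩ : A) = a ^ k := (inv_mul_eq_one.1 h2).symm
    have haa : a * a = 1 := Subtype.ext (h.sq a a.2)
    rcases Int.even_or_odd' k with ⟨m, rfl | rfl⟩
    · left
      rw [zpow_mul, zpow_two, haa, one_zpow] at h3
      exact congrArg Subtype.val h3
    · right
      rw [zpow_add, zpow_mul, zpow_two, haa, one_zpow, one_mul, zpow_one] at h3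
      exact congrArg Subtype.val h3
  rcases key x hx with e | e
  · exact hx1 e
  rcases key y hy with e' | e'
  · exact hy1 e'
  exact hxy (e.trans e'.symm)

/-- `θ(e) ∩ C(A) ≤ O(C(A))` for `e ∈ tA`. -/
theorem th_inf_centralizer_le [Finite G] (hsol : ∀ H : Subgroup G, Odd (Nat.card H) → Group.IsSolvable H)
    {e : G} (he : e ∈ ext A t h.tt h.ta) (heA : e ∉ A) :
    th A e ⊓ centralizer (A : Set G) ≤ core (centralizer (A : Set G)) := by
  haveI : Fact (Nat.Prime 2) := ⟨Nat.prime_two⟩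
  set N : Subgroup G := ⁅Oc e, A⁆ with hN
  set V : Subgroup G := core (centralizer (A : Set G)) with hV
  have hAO : A ≤ normalizer (Oc e : Set G) := h.le_normalizer_Oc' he
  have hNO : N ≤ Oc e := commutator_le_left hAO
  have hVC : V ≤ centralizer (A : Set G) := ClosedFour.core_le _
  have hNodd : Odd (Nat.card N) := (Oc_odd e).of_dvd_nat (card_dvd_of_le hNO)
  have hNN : ⁅N, A⁆ = N :=
    commutator_commutator_eq A (Oc e) hAO (coprime_of_isPGroup h.isPGroup (Oc_odd e))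
  have hAN : A ≤ normalizer (N : Set G) := right_le_normalizer_commutator (Oc e) A
  -- the fixed points of `A` on `N`
  have h1 : N ⊓ centralizer (A : Set G) ≤ V := by
    rw [SignalizersComponents.GoldschmidtGen.inf_centralizer_eq (p := 2) h.isPGroup h.comm le_rfl
      (hsol N hNodd) (by rw [← even_iff_two_dvd, Nat.not_even_iff_odd]; exact hNodd) hAN hNN]
    refine iSup_le ?_
    rintro ⟨B₀, hB₀, hcyc⟩
    obtain ⟨b, hbB, hb1⟩ := B₀.bot_or_exists_ne_one.resolve_left (h.ne_bot_of_cyclic hcyc)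
    have hbA : b ∈ A := hB₀ hbB
    have h2 : ⁅N ⊓ centralizer ((B₀ : Subgroup G) : Set G), A⁆ ≤ Oc b := by
      refine le_trans (commutator_mono ?_ le_rfl) (h.commutator_cent_le hbA hb1)
      exact inf_le_right.trans (centralizer_le (by simpa using hbB))
    rintro g ⟨⟨-, hg2⟩, hg3⟩
    rw [hV, ← h.inf b hbA hb1]
    exact ⟨h2 hg3, hg2⟩
  rw [th_of_not_mem heA]
  rintro g ⟨hg1, hg2⟩
  have hVN : (Oc e ⊓ V : Subgroup G) ≤ normalizer (N : Set G) :=
    inf_le_left.trans (left_le_normalizer_commutator (Oc e) A)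
  obtain ⟨n, hn, v, hv, rfl⟩ :=
    (Cfsg.Agent.SignalizersComponents.CoprimeBasic.mem_sup_iff hVN g).mp hg1
  have hvC : v ∈ centralizer (A : Set G) := hVC hv.2
  have hnC : n ∈ centralizer (A : Set G) := by
    have := (centralizer (A : Set G)).mul_mem hg2 ((centralizer (A : Set G)).inv_mem hvC)
    simpa using this
  exact mul_mem (h1 ⟨hn, hnC⟩) hv.2

theorem le_normalizer_th {e : G} (he : e ∈ ext A t h.tt h.ta) :
    ext A t h.tt h.ta ≤ normalizer (th A e : Set G) := by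
  by_cases heA : e ∈ A
  · rw [th_of_mem heA]; exact h.ext_le_normalizer_Oc he
  · rw [th_of_not_mem heA]
    have h1 : ext A t h.tt h.ta ≤ normalizer ((⁅Oc e, A⁆ : Subgroup G) : Set G) :=
      SignalizersComponents.GoldschmidtGen.le_normalizer_commutator (h.ext_le_normalizer_Oc he)
        fun x hx a ha => h.ext_comm hx ha
    have h2 : ext A t h.tt h.ta ≤
        normalizer ((Oc e ⊓ core (centralizer (A : Set G)) : Subgroup G) : Set G) :=
      le_normalizer_inf (h.ext_le_normalizer_Oc he)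
        (h.ext_le_centralizer.trans (ClosedFour.le_normalizer_core _))
    exact SignalizersComponents.GoldschmidtGen.le_normalizer_sup h1 h2

/-- `O(C(a)) ∩ C(f) ≤ θ(f)`, `a ∈ A#`, `f ∈ tA`. -/
theorem Oc_inf_le_th [Finite G] {a f : G} (ha : a ∈ A) (ha1 : a ≠ 1) (hf : f ∈ ext A t h.tt h.ta)
    (hfA : f ∉ A) : Oc a ⊓ centralizer ({f} : Set G) ≤ th A f := by
  have htf : t * f ∈ A := hf.resolve_left hfA
  have hb := h.bal f htf a ha ha1
  have hn : A ≤ normalizer ((Oc a ⊓ centralizer ({f} : Set G) : Subgroup G) : Set G) :=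
    le_normalizer_inf (h.le_normalizer_Oc' (h.le_ext ha))
      ((h.le_ext.trans (h.ext_le_cent hf)).trans le_normalizer)
  refine (le_commutator_sup h.isPGroup ((Oc_odd a).of_dvd_nat (card_dvd_of_le inf_le_left)) hn).trans ?_
  rw [th_of_not_mem hfA]
  refine sup_le_sup (commutator_mono hb le_rfl) ?_
  rintro g ⟨hg1, hg2⟩
  refine ⟨hb hg1, ?_⟩
  rw [← h.inf a ha ha1]
  exact ⟨hg1.1, hg2⟩

/-- `θ(e) ∩ C(a) ≤ O(C(a))`, `a ∈ A#`. -/
theorem th_inf_le_Oc [Finite G] (hsol : ∀ H : Subgroup G, Odd (Nat.card H) → Group.IsSolvable H)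
    {a e : G} (ha : a ∈ A) (ha1 : a ≠ 1) (he : e ∈ ext A t h.tt h.ta) (he1 : e ≠ 1) :
    th A e ⊓ centralizer ({a} : Set G) ≤ Oc a := by
  have hn : A ≤ normalizer ((th A e ⊓ centralizer ({a} : Set G) : Subgroup G) : Set G) :=
    le_normalizer_inf (h.le_ext.trans (h.le_normalizer_th he))
      ((h.le_ext.trans (h.ext_le_cent (h.le_ext ha))).trans le_normalizer)
  refine h.le_Oc_of ha ha1 inf_le_right ((h.th_odd he).of_dvd_nat (card_dvd_of_le inf_le_left)) hn ?_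
  refine le_trans ?_ (h.V_le ha ha1)
  by_cases heA : e ∈ A
  · rw [th_of_mem heA, ← h.inf e heA he1]
    exact inf_le_inf inf_le_left le_rfl
  · exact (inf_le_inf inf_le_left le_rfl).trans (h.th_inf_centralizer_le hsol he heA)

/-- Balance. -/
theorem balance [Finite G] (hsol : ∀ H : Subgroup G, Odd (Nat.card H) → Group.IsSolvable H)
    {e f : G} (he : e ∈ ext A t h.tt h.ta) (he1 : e ≠ 1) (hf : f ∈ ext A t h.tt h.ta) (hf1 : f ≠ 1) :
    th A e ⊓ centralizer ({f} : Set G) ≤ th A f := by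
  by_cases hfA : f ∈ A
  · rw [th_of_mem hfA]
    exact h.th_inf_le_Oc hsol hfA hf1 he he1
  · by_cases heA : e ∈ A
    · rw [th_of_mem heA]
      exact h.Oc_inf_le_th heA he1 hf hfA
    · by_cases hef : e = f
      · rw [hef]; exact inf_le_left
      · have htf : t * f ∈ A := hf.resolve_left hfA
        have hte : t * e ∈ A := he.resolve_left heA
        have hmem : e * f ∈ A := by
          have e1 : e * f = (t * e) * (t * f) := by
            calc e * f = (t * t) * (e * f) := by rw [h.tt, one_mul]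
              _ = t * (t * e) * f := by group
              _ = t * (e * t) * f := by rw [h.t_comm he]
              _ = (t * e) * (t * f) := by group
          rw [e1]; exact mul_mem hte htf
        have hef1 : e * f ≠ 1 := by
          intro e1
          apply hef
          have : e = f⁻¹ := eq_inv_of_mul_eq_one_left e1
          rw [this]; exact inv_eq_of_mul_eq_one_left (h.ext_sq hf)
        have h1 : th A e ⊓ centralizer ({f} : Set G) ≤ centralizer ({e * f} : Set G) := by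
          rintro g ⟨hg1, hg2⟩
          have h2 : g * e = e * g := mem_centralizer_singleton.1 (Oc_le e (h.th_le he hg1))
          have h3 : g * f = f * g := mem_centralizer_singleton.1 hg2
          rw [mem_centralizer_singleton]
          calc g * (e * f) = (g * e) * f := by group
            _ = e * (g * f) := by rw [h2]; group
            _ = e * f * g := by rw [h3]; group
        refine le_trans ?_ (h.Oc_inf_le_th hmem hef1 hf hfA)
        exact le_inf ((le_inf inf_le_left h1).trans (h.th_inf_le_Oc hsol hmem hef1 he he1)) inf_le_right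

/-- The subgroup generated by the cores. -/
theorem exists_closure [Finite G] (hsol : ∀ H : Subgroup G, Odd (Nat.card H) → Group.IsSolvable H) :
    ∃ W : Subgroup G, Odd (Nat.card W) ∧ (∀ a ∈ A, a ≠ 1 → W ⊓ centralizer ({a} : Set G) = Oc a) ∧
      ∀ a ∈ A, a ≠ 1 → centralizer ({a} : Set G) ≤ normalizer (W : Set G) := by
  set E := ext A t h.tt h.ta with hE
  obtain ⟨h1, h2, -⟩ := SignalizersComponents.SolFunctorTwo.solvable_signalizer_functor_two E
    (fun a ha b hb => h.ext_abel ha hb) (fun a ha => by rw [pow_two]; exact h.ext_sq ha) h.card_ext (th A)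
    (fun a ha _ => (h.th_le ha).trans (Oc_le a))
    (fun a ha _ => by rw [← even_iff_two_dvd, Nat.not_even_iff_odd]; exact h.th_odd ha)
    (fun a ha _ b hb x hx => conj_mem_of_le_normalizer (h.le_normalizer_th ha) hb hx)
    (fun a ha _ => hsol _ (h.th_odd ha))
    (fun a ha ha1 b hb hb1 => h.balance hsol ha ha1 hb hb1)
  set W : Subgroup G := ⨆ a : {a : G // a ∈ E ∧ a ≠ 1}, th A (a : G) with hW
  have hodd : Odd (Nat.card W) := by rwa [← even_iff_two_dvd, Nat.not_even_iff_odd] at h1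
  have hWa : ∀ a ∈ A, a ≠ 1 → W ⊓ centralizer ({a} : Set G) = Oc a := fun a ha ha1 => by
    rw [h2 a (h.le_ext ha) ha1, th_of_mem ha]
  have hOW : ∀ a ∈ A, a ≠ 1 → Oc a ≤ W := fun a ha ha1 => by
    rw [← hWa a ha ha1]; exact inf_le_left
  refine ⟨W, hodd, hWa, ?_⟩
  -- `W` is generated by the `Oc a`
  set W' : Subgroup G := ⨆ a : {a : G // a ∈ A ∧ a ≠ 1}, Oc (a : G) with hW'
  have hEW : E ≤ normalizer (W : Set G) := by
    refine le_normalizer_of_conj fun g hg x hx => ?_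
    rw [hW] at hx ⊢
    induction hx using Subgroup.iSup_induction' with
    | hp i x hx =>
      exact (le_iSup (fun a : {a : G // a ∈ E ∧ a ≠ 1} => th A (a : G)) i)
        (conj_mem_of_le_normalizer (h.le_normalizer_th i.2.1) hg hx)
    | h1 => simp
    | hmul x y _ _ hx hy =>
      have e : g * (x * y) * g⁻¹ = (g * x * g⁻¹) * (g * y * g⁻¹) := by group
      rw [e]; exact mul_mem hx hy
  have hWW' : W = W' := by
    apply le_antisymm
    · obtain ⟨x, hx, y, hy, hx1, hy1, hxy⟩ := h.exists_pair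
      have hxy1 : x * y ≠ 1 := by
        intro e
        apply hxy
        have : x = y⁻¹ := eq_inv_of_mul_eq_one_left e
        rw [this]; exact inv_eq_of_mul_eq_one_left (h.sq y hy)
      have hle : ∀ a ∈ A, a ≠ 1 → W ⊓ centralizer ({a} : Set G) ≤ W' := fun a ha ha1 => by
        rw [hWa a ha ha1]
        exact le_iSup (fun a : {a : G // a ∈ A ∧ a ≠ 1} => Oc (a : G)) ⟨a, ha, ha1⟩
      refine Cfsg.Agent.Lib.KleinGen.le_of_klein W W' hodd x y (h.sq x hx) (h.sq y hy)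
        (h.comm x hx y hy) (fun g hg => conj_mem_of_le_normalizer hEW (h.le_ext hx) hg)
        (fun g hg => conj_mem_of_le_normalizer hEW (h.le_ext hy) hg) (hle x hx hx1) (hle y hy hy1)
        (hle (x * y) (mul_mem hx hy) hxy1)
    · refine iSup_le ?_
      rintro ⟨a, ha, ha1⟩
      exact hOW a ha ha1
  have hCW : centralizer (A : Set G) ≤ normalizer (W : Set G) := by
    rw [hWW']
    refine le_normalizer_of_conj fun g hg x hx => ?_
    rw [hW'] at hx ⊢
    induction hx using Subgroup.iSup_induction' with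
    | hp i x hx =>
      exact (le_iSup (fun a : {a : G // a ∈ A ∧ a ≠ 1} => Oc (a : G)) i)
        (conj_mem_of_le_normalizer (le_normalizer_Oc (i : G)) (le_cent i.2.1 hg) hx)
    | h1 => simp
    | hmul x y _ _ hx hy =>
      have e : g * (x * y) * g⁻¹ = (g * x * g⁻¹) * (g * y * g⁻¹) := by group
      rw [e]; exact mul_mem hx hy
  intro a ha ha1 c hc
  obtain ⟨o, ho, n, hn, rfl⟩ := h.dec a ha ha1 c (mem_centralizer_singleton.1 hc)
  exact mul_mem (le_normalizer (hOW a ha ha1 ho)) (hCW hn)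

end AtData

/-! ### The contradiction -/

section setup

open Cfsg.Agent.TwoFusion.Gold Cfsg.Agent.TwoFusion.GoldSetup Cfsg.Agent.TwoFusion.GoldFour

variable [Finite G] {𝒜 : Set G} (h : Setup 𝒜) (S : Sylow 2 G)
  (h4 : Nat.card (fam 𝒜 (S : Subgroup G)) = 4)

include h h4

/-- The data of a minimal counterexample. -/
theorem atData (hs : Solid 𝒜 S) {t : G} (ht : t ∈ (S : Subgroup G)) (htt : t * t = 1)
    (htA : t ∉ fam 𝒜 (S : Subgroup G))
    (hbal : ∀ e, t * e ∈ fam 𝒜 (S : Subgroup G) → ∀ a ∈ fam 𝒜 (S : Subgroup G), a ≠ 1 →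
      Oc a ⊓ centralizer ({e} : Set G) ≤ Oc e) :
    AtData (fam 𝒜 (S : Subgroup G)) t where
  comm := h.comm S
  sq := h.sq S
  card := h4
  tt := htt
  ta a ha := GoldFour.central h S h4 a ha t ht
  tA := htA
  inf a ha ha1 := GoldFour.core_inf_centralizer h S h4 hs ha ha1
  dec a ha ha1 c hc := GoldFour.cent_decomp h S h4 hs ha ha1 hc
  bal := hbal

/-- If `O(C(a)) ∩ C(e) ≤ O(C(e))` for all `e ∈ tA`, `a ∈ A#`, then we get a contradiction. -/
theorem false_of_balanced (hsol : ∀ H : Subgroup G, Odd (Nat.card H) → Group.IsSolvable H) (h1174 : SE1174 G)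
    (hs : Solid 𝒜 S) {t : G} (ht : t ∈ (S : Subgroup G)) (htt : t * t = 1)
    (htA : t ∉ fam 𝒜 (S : Subgroup G))
    (hbal : ∀ e, t * e ∈ fam 𝒜 (S : Subgroup G) → ∀ a ∈ fam 𝒜 (S : Subgroup G), a ≠ 1 →
      Oc a ⊓ centralizer ({e} : Set G) ≤ Oc e) : False := by
  haveI := h.simple
  have hd := atData h S h4 hs ht htt htA hbal
  obtain ⟨W, hodd, hWa, hn⟩ := hd.exists_closure hsol
  by_cases htop : normalizer (W : Set G) = ⊤
  · have hnor : W.Normal := normalizer_eq_top_iff.1 htop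
    rcases IsSimpleGroup.eq_bot_or_eq_top_of_normal W hnor with hb | hb
    · apply GoldFour.false_of_core_le h S h4 h1174 hs
      intro w hw hw1
      have h1 := hWa w hw hw1
      rw [hb, bot_inf_eq] at h1
      have h2 : core (centralizer ({w} : Set G)) = ⊥ := h1.symm
      rw [h2]; exact bot_le
    · rw [hb, card_top] at hodd
      obtain ⟨x, hx, hx1⟩ : ∃ x ∈ fam 𝒜 (S : Subgroup G), x ≠ 1 := by
        obtain ⟨x, hx, y, hy, hx1, -⟩ := hd.exists_pair
        exact ⟨x, hx, hx1⟩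
      have h2 : orderOf x = 2 := h.fam.orderOf_eq ((h.mem_iff S).1 hx).1 hx1
      have h3 : 2 ∣ Nat.card G := h2 ▸ orderOf_dvd_natCard x
      exact (Nat.not_even_iff_odd.2 hodd) (even_iff_two_dvd.2 h3)
  · exact h.false_of_cent_le S h1174 htop hn

end setup

end Cfsg.Agent.TwoFusion.GoldAt
end

-- part: TwoFusion/GoldBad
section
/-!
# Goldschmidt's theorem, `|A| = 4`: every involution coset `tA` outside `A` contains a bad element
-/

set_option autoImplicit false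
set_option linter.style.haveILetI false

namespace Cfsg.Agent.TwoFusion.GoldBad

open Subgroup
open Cfsg.Agent.TwoFusion.ClosedFam Cfsg.Agent.TwoFusion.Gold Cfsg.Agent.TwoFusion.GoldSetup
open Cfsg.Agent.TwoFusion.ClosedLocal Cfsg.Agent.TwoFusion.GoldFour Cfsg.Agent.TwoFusion.ClosedSimple
open Cfsg.Agent.TwoFusion.GoldLambda

universe u

/-- Bad involutions: the family generates in `C(e)/O(C(e))` a simple group with Sylow 2-subgroups of order 4 which
are not disjoint. -/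
def Bad {G : Type u} [Group G] (𝒜 : Set G) (e : G) : Prop :=
  e * e = 1 ∧ e ≠ 1 ∧ IsSimpleGroup ↥(fam (push 𝒜 (centralizer ({e} : Set G))) ⊤) ∧
    (∀ Q : Sylow 2 ↥(fam (push 𝒜 (centralizer ({e} : Set G))) ⊤), Nat.card Q = 4) ∧
    ∃ Q R : Sylow 2 ↥(fam (push 𝒜 (centralizer ({e} : Set G))) ⊤), Q ≠ R ∧
      (Q : Subgroup ↥(fam (push 𝒜 (centralizer ({e} : Set G))) ⊤)) ⊓ R ≠ ⊥

/-- The statement on components without strongly embedded subgroups. -/
def OfNoSE : Prop :=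
  ∀ {X : Type u} [Group X] [Finite X] {𝒜 : Set X}, Ctx 𝒜 → ∀ T : Sylow 2 X,
    Nat.card (fam 𝒜 (T : Subgroup X)) = 4 → ∀ {L : Subgroup X}, Cfsg.IsComponent L → Act 𝒜 L →
    (¬ ∃ H : Subgroup (↥L ⧸ center ↥L), Cfsg.IsStronglyEmbedded H) →
    IsSimpleGroup ↥(fam 𝒜 (⊤ : Subgroup X)) ∧ (∀ Q : Sylow 2 ↥(fam 𝒜 (⊤ : Subgroup X)), Nat.card Q = 4) ∧
    ∃ Q R : Sylow 2 ↥(fam 𝒜 (⊤ : Subgroup X)), Q ≠ R ∧ (Q : Subgroup ↥(fam 𝒜 (⊤ : Subgroup X))) ⊓ R ≠ ⊥

section G

variable {G : Type u} [Group G] [Finite G] {𝒜 : Set G} (h : Setup 𝒜) (S : Sylow 2 G)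

include h

theorem exists_bad_of (hno : OfNoSE.{u}) (h4 : Nat.card (fam 𝒜 (S : Subgroup G)) = 4)
    (hsol : ∀ H : Subgroup G, Odd (Nat.card H) → Group.IsSolvable H) (h1174 : SE1174 G) (hSE : SEHyp.{u})
    {t : G} (ht : t ∈ (S : Subgroup G)) (htt : t * t = 1) (htA : t ∉ fam 𝒜 (S : Subgroup G)) :
    ∃ a ∈ fam 𝒜 (S : Subgroup G), Bad 𝒜 (t * a) := by
  classical
  by_contra hcon
  push Not at hcon
  refine GoldAt.false_of_balanced h S h4 hsol h1174 (GoldSolid.solid h S h4) ht htt htA ?_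
  intro e he
  have hcen := GoldFour.central h S h4
  have hte : t * (t * e) = e := by rw [← mul_assoc, htt, one_mul]
  have heS : e ∈ (S : Subgroup G) := by
    rw [← hte]
    exact mul_mem ht (fam_le _ _ he)
  have he1 : e ≠ 1 := by
    rintro rfl
    rw [mul_one] at he
    exact htA he
  have hee : e * e = 1 := by
    have h1 : (t * e) * (t * e) = 1 := h.sq S _ he
    have h2 : (t * e) * t = t * (t * e) := (hcen _ he t ht).symm
    have h3 : e * t = t * e := by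
      have h5 : t * (e * t) = t * (t * e) := by rw [← mul_assoc]; exact h2
      exact mul_left_cancel h5
    calc e * e = (t * t) * (e * e) := by rw [htt, one_mul]
      _ = t * (t * e) * e := by group
      _ = t * (e * t) * e := by rw [h3]
      _ = (t * e) * (t * e) := by group
      _ = 1 := h1
  have heA : ∀ a ∈ fam 𝒜 (S : Subgroup G), a * e = e * a := fun a ha => (hcen a ha e heS).symm
  rcases bal_or h S hSE h4.le he1 heA with h1 | ⟨L, hL, ha, hn⟩
  · exact h1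
  · exfalso
    apply hcon (t * e) he
    rw [hte]
    have hAH : fam 𝒜 (S : Subgroup G) ≤ centralizer ({e} : Set G) := fun a ha => mem_cent.2 (heA a ha)
    obtain ⟨P, hP⟩ := GoldSolid.exists_sylow_push h.fam S hAH
    have hcard : Nat.card (fam (push 𝒜 (centralizer ({e} : Set G)))
        (P : Subgroup (↥(centralizer ({e} : Set G)) ⧸ Cfsg.oddCore ↥(centralizer ({e} : Set G))))) ≤ 4 := by
      rw [hP]
      refine (Nat.card_image_le (Set.toFinite _)).trans ?_
      change Nat.card ((fam 𝒜 (S : Subgroup G)).subgroupOf (centralizer ({e} : Set G))) ≤ 4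
      rw [Nat.card_congr (subgroupOfEquivOfLe hAH).toEquiv, h4]
    have hc := h.ctxCent he1
    exact ⟨hee, he1, hno hc P (GoldActFour.card_eq hc.fam P hcard hL ha) hL ha hn⟩

end G

end Cfsg.Agent.TwoFusion.GoldBad
end

-- part: TwoFusion/GoldCenAct
section
/-!
# Goldschmidt's theorem, `|A| = 4`: the action of 2-elements on the bad component
-/

set_option autoImplicit false
set_option linter.style.haveILetI false

namespace Cfsg.Agent.TwoFusion.GoldCenAct

open Subgroup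
open Cfsg.Agent.TwoFusion.ClosedFam Cfsg.Agent.TwoFusion.Gold Cfsg.Agent.TwoFusion.GoldSetup
open Cfsg.Agent.TwoFusion.ClosedLocal Cfsg.Agent.TwoFusion.GoldCen Cfsg.Agent.TwoFusion.GoldBad

universe u

section Abstract

variable {X : Type*} [Group X] [Finite X]

/-- A 2-element centralizing the Sylow four-group `A` of the simple normal subgroup `K` acts on `K` as an element
of `A`. -/
theorem exists_mul_mem_centralizer {K A : Subgroup X} (hKn : K.Normal) (hK : IsSimpleGroup K)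
    (hna : ∃ x ∈ K, ∃ y ∈ K, x * y ≠ y * x)
    (hAK : A ≤ K) (hA4 : Nat.card A = 4) (hAsq : ∀ a ∈ A, a * a = 1) (hAi : ¬ 2 ∣ A.relIndex K)
    {p : X} (hpA : ∀ a ∈ A, p * a = a * p) (hp : ∃ k : ℕ, p ^ 2 ^ k = 1) :
    ∃ a ∈ A, a * p ∈ centralizer (K : Set X) := by
  classical
  haveI := hK
  haveI := hKn
  set C : Subgroup X := centralizer (K : Set X) with hC
  haveI hCn : C.Normal := by
    rw [hC]; infer_instance
  set f := QuotientGroup.mk' C with hf
  have hfs : Function.Surjective f := QuotientGroup.mk'_surjective _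
  have hf1 : ∀ x, f x = 1 ↔ x ∈ C := fun x => by
    rw [hf, QuotientGroup.mk'_apply, QuotientGroup.eq_one_iff]
  -- `f` is injective on `K`
  have hKC : ∀ x ∈ K, x ∈ C → x = 1 := by
    intro x hx hxC
    have hxc : (⟨x, hx⟩ : K) ∈ center K := by
      rw [mem_center_iff]
      intro g
      exact Subtype.ext ((mem_centralizer_iff.1 hxC) g g.2)
    rcases IsSimpleGroup.eq_bot_or_eq_top_of_normal (center K) inferInstance with hc | hc
    · rw [hc, mem_bot] at hxc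
      exact congrArg Subtype.val hxc
    · exfalso
      obtain ⟨u, hu, v, hv, huv⟩ := hna
      apply huv
      have : (⟨v, hv⟩ : K) ∈ center K := by rw [hc]; exact mem_top _
      exact congrArg Subtype.val (mem_center_iff.1 this ⟨u, hu⟩)
  have hinj : ∀ x ∈ K, ∀ y ∈ K, f x = f y → x = y := by
    intro x hx y hy hxy
    have h1 : x * y⁻¹ = 1 := hKC _ (mul_mem hx (inv_mem hy)) ((hf1 _).1 (by rw [map_mul, map_inv, hxy]; group))
    exact mul_inv_eq_one.1 h1
  have hcard : ∀ B : Subgroup X, B ≤ K → Nat.card (B.map f) = Nat.card B := by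
    intro B hB
    have hio : Set.InjOn f (B : Set X) := fun x hx y hy => hinj x (hB hx) y (hB hy)
    have := Nat.card_image_of_injOn hio
    exact this
  have hsimple : IsSimpleGroup (K.map f) := by
    haveI : Nontrivial (K.map f) := by
      rw [← Finite.one_lt_card_iff_nontrivial, hcard K le_rfl]
      have := Subgroup.card_le_of_le hAK
      omega
    exact IsSimpleGroup.isSimpleGroup_of_surjective (f.subgroupMap K) (f.subgroupMap_surjective K)
  have hmem := GoldFourAct.mem_of_comm (Y := X ⧸ C) (K := K.map f) (A := A.map f) (p := f p) (hKn.map f hfs) hsimple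
    (by
      obtain ⟨u, hu, v, hv, huv⟩ := hna
      refine ⟨f u, ⟨u, hu, rfl⟩, f v, ⟨v, hv, rfl⟩, fun h1 => huv ?_⟩
      rw [← map_mul, ← map_mul] at h1
      exact hinj _ (mul_mem hu hv) _ (mul_mem hv hu) h1)
    (Subgroup.map_mono hAK) (by rw [hcard A hAK, hA4])
    (by
      rintro _ ⟨a, ha, rfl⟩
      rw [← map_mul, hAsq a ha, map_one])
    (by
      have h1 := relIndex_mul_relIndex ⊥ (A.map f) (K.map f) bot_le (Subgroup.map_mono hAK)
      have h2 := relIndex_mul_relIndex ⊥ A K bot_le hAK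
      rw [relIndex_bot_left, relIndex_bot_left] at h1 h2
      rw [hcard A hAK, hcard K le_rfl, ← h2, hA4] at h1
      have h3 : (A.map f).relIndex (K.map f) = A.relIndex K := by omega
      rw [h3]; exact hAi)
    (by
      rw [eq_bot_iff]
      intro y hy
      obtain ⟨x, rfl⟩ := hfs y
      rw [mem_bot, hf1, hC, mem_centralizer_iff]
      intro k hk
      have h1 := (mem_centralizer_iff.1 hy) (f k) ⟨k, hk, rfl⟩
      rw [← map_mul, ← map_mul] at h1
      have h2 : k * x * (x * k)⁻¹ ∈ C := by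
        rw [← hf1, map_mul, map_inv, h1]; group
      have h3 : k * x * (x * k)⁻¹ ∈ K := by
        have e : k * x * (x * k)⁻¹ = k * (x * k⁻¹ * x⁻¹) := by group
        rw [e]
        exact mul_mem hk (hKn.conj_mem _ (inv_mem hk) x)
      exact mul_inv_eq_one.1 (hKC _ h3 h2))
    (by
      rintro _ ⟨a, ha, rfl⟩
      rw [← map_mul, ← map_mul, hpA a ha])
    (by
      obtain ⟨k, hk⟩ := hp
      exact ⟨k, by rw [← map_pow, hk, map_one]⟩)
  obtain ⟨a, ha, hap⟩ := hmem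
  refine ⟨a, ha, ?_⟩
  rw [← hf1, map_mul, ← hap, ← map_mul, hAsq a ha, map_one]

end Abstract

section G

variable {G : Type u} [Group G] {𝒜 : Set G}

/-- `g ∈ cen 𝒜 e` means that the image of `g` in `C(e)/O(C(e))` centralizes the group generated by the family. -/
theorem mem_cen_iff {e g : G} (hg : g ∈ centralizer ({e} : Set G)) : g ∈ cen 𝒜 e ↔
    QuotientGroup.mk' (Cfsg.oddCore ↥(centralizer ({e} : Set G))) ⟨g, hg⟩ ∈
      centralizer ((fam (push 𝒜 (centralizer ({e} : Set G))) ⊤ :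
        Subgroup (↥(centralizer ({e} : Set G)) ⧸ Cfsg.oddCore ↥(centralizer ({e} : Set G)))) :
          Set (↥(centralizer ({e} : Set G)) ⧸ Cfsg.oddCore ↥(centralizer ({e} : Set G)))) := by
  set f := QuotientGroup.mk' (Cfsg.oddCore ↥(centralizer ({e} : Set G))) with hf
  have hcore : ∀ x : ↥(centralizer ({e} : Set G)), (x : G) ∈ core (centralizer ({e} : Set G)) ↔ f x = 1 := by
    intro x
    rw [hf, QuotientGroup.mk'_apply, QuotientGroup.eq_one_iff]
    constructor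
    · rintro ⟨y, hy, hyx⟩
      have : y = x := Subtype.ext hyx
      rwa [← this]
    · intro hx
      exact ⟨x, hx, rfl⟩
  constructor
  · intro h1
    rw [mem_cen] at h1
    have hle : fam (push 𝒜 (centralizer ({e} : Set G))) ⊤ ≤ centralizer ({f ⟨g, hg⟩} : Set _) := by
      rw [fam_le_iff]
      rintro _ ⟨k, hk, rfl⟩ -
      rw [mem_centralizer_singleton_iff]
      have h2 := h1.2 k hk (mem_cent.1 k.2)
      have h3 : f (⟨g, hg⟩ * k * ⟨g, hg⟩⁻¹ * k⁻¹) = 1 := (hcore _).1 h2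
      rw [map_mul, map_mul, map_mul, map_inv, map_inv] at h3
      have h4 : f ⟨g, hg⟩ * f k * (f ⟨g, hg⟩)⁻¹ = f k := mul_inv_eq_one.1 h3
      change f k * f ⟨g, hg⟩ = f ⟨g, hg⟩ * f k
      calc f k * f ⟨g, hg⟩ = (f ⟨g, hg⟩ * f k * (f ⟨g, hg⟩)⁻¹) * f ⟨g, hg⟩ := by rw [h4]
        _ = f ⟨g, hg⟩ * f k := by group
    rw [mem_centralizer_iff]
    intro k hk
    exact mem_centralizer_singleton_iff.1 (hle hk)
  · intro h1
    rw [mem_centralizer_iff] at h1
    rw [mem_cen]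
    refine ⟨mem_cent.1 hg, fun k hk hke => ?_⟩
    have hkH : k ∈ centralizer ({e} : Set G) := mem_cent.2 hke
    have h2 := h1 (f ⟨k, hkH⟩) (mem_fam ⟨⟨k, hkH⟩, hk, rfl⟩ (mem_top _))
    refine (hcore (@HMul.hMul _ _ _ instHMul (@HMul.hMul _ _ _ instHMul (@HMul.hMul _ _ _ instHMul ⟨g, hg⟩ ⟨k, hkH⟩) ⟨g, hg⟩⁻¹) ⟨k, hkH⟩⁻¹)).2 ?_
    rw [map_mul, map_mul, map_mul, map_inv, map_inv, ← h2]; group

/-- `cen 𝒜 e` is normal in `C(e)`. -/
theorem conj_mem_cen (hA : IsElemFam 𝒜) {e g x : G} (hg : g * e = e * g) (hx : x ∈ cen 𝒜 e) :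
    g * x * g⁻¹ ∈ cen 𝒜 e := by
  rw [mem_cen] at hx ⊢
  have hxe : x * e = e * x := hx.1
  refine ⟨?_, fun k hk hke => ?_⟩
  · calc g * x * g⁻¹ * e = g * x * (g⁻¹ * (e * g)) * g⁻¹ := by group
      _ = g * (x * e) * g⁻¹ := by rw [← hg]; group
      _ = (g * e) * x * g⁻¹ := by rw [hxe]; group
      _ = e * (g * x * g⁻¹) := by rw [hg]; group
  · have hge' : g⁻¹ * e = e * g⁻¹ := by
      calc g⁻¹ * e = g⁻¹ * (e * g) * g⁻¹ := by group
        _ = e * g⁻¹ := by rw [← hg]; group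
    have hk' : g⁻¹ * k * g ∈ 𝒜 := by
      have := hA.conj_mem k hk g⁻¹
      rwa [inv_inv] at this
    have h1 := hx.2 (g⁻¹ * k * g) hk' (by
      calc g⁻¹ * k * g * e = g⁻¹ * k * (g * e) := by group
        _ = g⁻¹ * (k * e) * g := by rw [hg]; group
        _ = (g⁻¹ * e) * k * g := by rw [hke]; group
        _ = e * (g⁻¹ * k * g) := by rw [hge']; group)
    have h2 := conj_mem_core (mem_cent.2 hg) h1
    have e1 : g * x * g⁻¹ * k * (g * x * g⁻¹)⁻¹ * k⁻¹ =
        g * (x * (g⁻¹ * k * g) * x⁻¹ * (g⁻¹ * k * g)⁻¹) * g⁻¹ := by group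
    rw [e1]; exact h2

theorem self_mem_cen {e : G} : e ∈ cen 𝒜 e := by
  rw [mem_cen]
  refine ⟨rfl, fun k _ hke => ?_⟩
  have : e * k * e⁻¹ * k⁻¹ = 1 := by rw [← hke]; group
  rw [this]; exact one_mem _

variable [Finite G]

/-- The group generated by the family in `C(e)/O(C(e))` is not commutative. -/
theorem Bad_nonab {e : G} (he : Bad 𝒜 e) :
    ∃ x ∈ fam (push 𝒜 (centralizer ({e} : Set G))) ⊤, ∃ y ∈ fam (push 𝒜 (centralizer ({e} : Set G))) ⊤,
      x * y ≠ y * x := by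
  obtain ⟨-, -, -, -, Q, R, hQR, -⟩ := he
  by_contra hcon
  push Not at hcon
  haveI : Fact (Nat.Prime 2) := ⟨Nat.prime_two⟩
  apply hQR
  obtain ⟨g, hg⟩ := MulAction.exists_smul_eq (fam (push 𝒜 (centralizer ({e} : Set G))) ⊤) Q R
  rw [← hg]
  apply Sylow.ext
  ext x
  rw [Sylow.coe_subgroup_smul, Subgroup.mem_pointwise_smul_iff_inv_smul_mem]
  have e1 : (MulAut.conj g)⁻¹ • x = x := by
    rw [← map_inv, MulAut.smul_def, MulAut.conj_apply]
    apply Subtype.ext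
    have := hcon _ (g⁻¹).2 x x.2
    simp only [inv_inv, Subgroup.coe_mul]
    rw [this]
    simp only [_root_.InvMemClass.coe_inv, _root_.inv_mul_cancel_right]
  rw [e1]

/-- The image of `A` in `C(e)/O(C(e))`. -/
theorem image_facts (hA : IsElemFam 𝒜) (S : Sylow 2 G) (h4 : Nat.card (fam 𝒜 (S : Subgroup G)) = 4) {e : G}
    (he : Bad 𝒜 e) (hAe : fam 𝒜 (S : Subgroup G) ≤ centralizer ({e} : Set G)) :
    (∀ a : ↥(centralizer ({e} : Set G)), (a : G) ∈ fam 𝒜 (S : Subgroup G) →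
      QuotientGroup.mk' (Cfsg.oddCore ↥(centralizer ({e} : Set G))) a = 1 → a = 1) ∧
    ((fam 𝒜 (S : Subgroup G)).subgroupOf (centralizer ({e} : Set G))).map
      (QuotientGroup.mk' (Cfsg.oddCore ↥(centralizer ({e} : Set G)))) ≤
        fam (push 𝒜 (centralizer ({e} : Set G))) ⊤ ∧
    Nat.card (((fam 𝒜 (S : Subgroup G)).subgroupOf (centralizer ({e} : Set G))).map
      (QuotientGroup.mk' (Cfsg.oddCore ↥(centralizer ({e} : Set G))))) = 4 ∧
    (∀ a ∈ ((fam 𝒜 (S : Subgroup G)).subgroupOf (centralizer ({e} : Set G))).map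
      (QuotientGroup.mk' (Cfsg.oddCore ↥(centralizer ({e} : Set G)))), a * a = 1) ∧
    ¬ 2 ∣ (((fam 𝒜 (S : Subgroup G)).subgroupOf (centralizer ({e} : Set G))).map
      (QuotientGroup.mk' (Cfsg.oddCore ↥(centralizer ({e} : Set G))))).relIndex
        (fam (push 𝒜 (centralizer ({e} : Set G))) ⊤) := by
  classical
  haveI : Fact (Nat.Prime 2) := ⟨Nat.prime_two⟩
  set H := centralizer ({e} : Set G) with hH
  set A := fam 𝒜 (S : Subgroup G) with hAdef
  set f := QuotientGroup.mk' (Cfsg.oddCore ↥H) with hf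
  have hAp : IsPGroup 2 A := isPGroup_fam 𝒜 S.2
  have hA𝒜 : ∀ a ∈ A, a ∈ 𝒜 := fun a ha => ((hA.toIsClosedFam.mem_fam_iff S.2).1 ha).1
  have h1 : ∀ a : ↥H, (a : G) ∈ A → f a = 1 → a = 1 := by
    intro a ha hfa
    have h2 : a ∈ Cfsg.oddCore ↥H := by
      rw [← QuotientGroup.ker_mk' (Cfsg.oddCore ↥H)]; exact hfa
    have h3 : (a : G) = 1 := eq_one_of_odd_of_isPGroup (odd_core H) hAp ⟨a, h2, rfl⟩ ha
    exact Subtype.ext h3
  have hcard : Nat.card ((A.subgroupOf H).map f) = 4 := by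
    have hio : Set.InjOn f (A.subgroupOf H : Set H) := by
      intro x hx y hy hxy
      have h2 : x * y⁻¹ = 1 := h1 _ (mul_mem hx (inv_mem hy)) (by rw [map_mul, map_inv, hxy]; group)
      exact mul_inv_eq_one.1 h2
    have h2 : Nat.card ((A.subgroupOf H).map f) = Nat.card (A.subgroupOf H) := Nat.card_image_of_injOn hio
    rw [h2, Nat.card_congr (subgroupOfEquivOfLe hAe).toEquiv, h4]
  have hle : (A.subgroupOf H).map f ≤ fam (push 𝒜 H) ⊤ := by
    rintro _ ⟨a, ha, rfl⟩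
    exact mem_fam ⟨a, hA𝒜 a ha, rfl⟩ (mem_top _)
  have hsq : ∀ a ∈ (A.subgroupOf H).map f, a * a = 1 := by
    rintro _ ⟨a, ha, rfl⟩
    have h2 : a * a = 1 := Subtype.ext (hA.sq a (hA𝒜 a ha))
    rw [← map_mul, h2, map_one]
  refine ⟨h1, hle, hcard, hsq, ?_⟩
  have hp : IsPGroup 2 ((A.subgroupOf H).map f) := (hAp.comap_of_injective H.subtype H.subtype_injective).map f
  have hp' : IsPGroup 2 (((A.subgroupOf H).map f).subgroupOf (fam (push 𝒜 H) ⊤)) :=
    hp.comap_of_injective (fam (push 𝒜 H) ⊤).subtype (subtype_injective _)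
  obtain ⟨Q, hQ⟩ := hp'.exists_le_sylow
  have hQ4 := he.2.2.2.1 Q
  have h5 : ((A.subgroupOf H).map f).subgroupOf (fam (push 𝒜 H) ⊤) = Q := by
    apply Subgroup.eq_of_le_of_card_ge hQ
    rw [Nat.card_congr (subgroupOfEquivOfLe hle).toEquiv, hcard]
    exact hQ4.le
  rw [relIndex, h5]
  exact Q.not_dvd_index

/-- (B2) A 2-element of `C(e)` centralizing `A` is the product of an element of `A` and an element of `cen 𝒜 e`. -/
theorem exists_mul_mem_cen (hA : IsElemFam 𝒜) (S : Sylow 2 G) (h4 : Nat.card (fam 𝒜 (S : Subgroup G)) = 4) {e : G}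
    (he : Bad 𝒜 e) (hAe : ∀ a ∈ fam 𝒜 (S : Subgroup G), a * e = e * a) {p : G} (hpe : p * e = e * p)
    (hpA : ∀ a ∈ fam 𝒜 (S : Subgroup G), p * a = a * p) (hp : ∃ k : ℕ, p ^ 2 ^ k = 1) :
    ∃ a ∈ fam 𝒜 (S : Subgroup G), a * p ∈ cen 𝒜 e := by
  have hAe' : fam 𝒜 (S : Subgroup G) ≤ centralizer ({e} : Set G) := fun a ha => mem_cent.2 (hAe a ha)
  obtain ⟨h1, h2, h3, h5, h6⟩ := image_facts hA S h4 he hAe'
  have hpH : p ∈ centralizer ({e} : Set G) := mem_cent.2 hpe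
  obtain ⟨_, ⟨a, ha, rfl⟩, hap⟩ := exists_mul_mem_centralizer
    (p := QuotientGroup.mk' (Cfsg.oddCore ↥(centralizer ({e} : Set G))) ⟨p, hpH⟩)
    ((hA.push (centralizer ({e} : Set G))).toIsClosedFam.fam_normal ⊤) he.2.2.1 (Bad_nonab he) h2 h3 h5 h6 (by
      rintro _ ⟨a, ha, rfl⟩
      rw [← map_mul, ← map_mul]
      congr 1
      exact Subtype.ext (hpA a ha)) (by
      obtain ⟨k, hk⟩ := hp
      refine ⟨k, ?_⟩
      rw [← map_pow]
      have : (⟨p, hpH⟩ : ↥(centralizer ({e} : Set G))) ^ 2 ^ k = 1 := Subtype.ext hk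
      rw [this, map_one])
  refine ⟨a, ha, ?_⟩
  rw [← map_mul] at hap
  exact (mem_cen_iff (mul_mem a.2 hpH)).2 hap

/-- (B2, uniqueness) -/
theorem eq_one_of_mem_cen (hA : IsElemFam 𝒜) (S : Sylow 2 G) (h4 : Nat.card (fam 𝒜 (S : Subgroup G)) = 4) {e : G}
    (he : Bad 𝒜 e) (hAe : ∀ a ∈ fam 𝒜 (S : Subgroup G), a * e = e * a) {a : G}
    (ha : a ∈ fam 𝒜 (S : Subgroup G)) (hac : a ∈ cen 𝒜 e) : a = 1 := by
  have hAe' : fam 𝒜 (S : Subgroup G) ≤ centralizer ({e} : Set G) := fun a ha => mem_cent.2 (hAe a ha)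
  obtain ⟨h1, h2, h3, h5, h6⟩ := image_facts hA S h4 he hAe'
  have haH := hAe' ha
  have h7 := (mem_cen_iff haH).1 hac
  haveI := he.2.2.1
  set K := fam (push 𝒜 (centralizer ({e} : Set G))) ⊤ with hK
  set f := QuotientGroup.mk' (Cfsg.oddCore ↥(centralizer ({e} : Set G))) with hf
  have haK : f ⟨a, haH⟩ ∈ K := h2 ⟨⟨a, haH⟩, ha, rfl⟩
  have hac : (⟨f ⟨a, haH⟩, haK⟩ : K) ∈ center K := by
    rw [mem_center_iff]
    intro g
    exact Subtype.ext ((mem_centralizer_iff.1 h7) g g.2)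
  have h8 : f ⟨a, haH⟩ = 1 := by
    rcases IsSimpleGroup.eq_bot_or_eq_top_of_normal (center K) inferInstance with hc | hc
    · rw [hc, mem_bot] at hac
      exact congrArg Subtype.val hac
    · exfalso
      obtain ⟨u, hu, v, hv, huv⟩ := Bad_nonab he
      apply huv
      have : (⟨v, hv⟩ : K) ∈ center K := by rw [hc]; exact mem_top _
      exact congrArg Subtype.val (mem_center_iff.1 this ⟨u, hu⟩)
  exact congrArg Subtype.val (h1 ⟨a, haH⟩ ha h8)

/-- The normalizer of `A` in `C(e)` contains an element acting without fixed points on `A`. -/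
theorem exists_fpf (hA : IsElemFam 𝒜) (S : Sylow 2 G) (h4 : Nat.card (fam 𝒜 (S : Subgroup G)) = 4) {e : G}
    (he : Bad 𝒜 e) (hAe : ∀ a ∈ fam 𝒜 (S : Subgroup G), a * e = e * a) :
    ∃ n : G, n * e = e * n ∧ n ∈ normalizer (fam 𝒜 (S : Subgroup G) : Set G) ∧
      ∀ a ∈ fam 𝒜 (S : Subgroup G), n * a * n⁻¹ = a → a = 1 := by
  have hAe' : fam 𝒜 (S : Subgroup G) ≤ centralizer ({e} : Set G) := fun a ha => mem_cent.2 (hAe a ha)
  obtain ⟨h1, h2, h3, h5, h6⟩ := image_facts hA S h4 he hAe'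
  obtain ⟨m, hmK, hmA, hfix⟩ := GoldFourAct.exists_fpf he.2.2.1 (Bad_nonab he) h2 h3 h5 h6
  set f := QuotientGroup.mk' (Cfsg.oddCore ↥(centralizer ({e} : Set G))) with hf
  obtain ⟨c, rfl⟩ : ∃ c, f c = m := QuotientGroup.mk'_surjective _ m
  obtain ⟨o, ho, n, hn, hnH, hco⟩ := GoldSolid.exists_mul_of_mem_normalizer hA S hAe' c.2 hmA
  refine ⟨n, mem_cent.1 hnH, hn, fun a ha hna => ?_⟩
  have haH := hAe' ha
  have hoH : o ∈ centralizer ({e} : Set G) := core_le _ ho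
  have hfo : f ⟨o, hoH⟩ = 1 := by
    obtain ⟨y, hy, hyo⟩ := ho
    have e1 : y = ⟨o, hoH⟩ := Subtype.ext hyo
    rw [← e1]
    exact (QuotientGroup.eq_one_iff _).2 hy
  have hfc : f c = f ⟨n, hnH⟩ := by
    have e1 : c = ⟨o, hoH⟩ * ⟨n, hnH⟩ := Subtype.ext hco
    rw [e1, map_mul, hfo, one_mul]
  have h7 : f ⟨a, haH⟩ = 1 := by
    apply hfix _ ⟨⟨a, haH⟩, ha, rfl⟩
    rw [hfc, ← map_inv, ← map_mul, ← map_mul]
    congr 1
    exact Subtype.ext hna
  exact congrArg Subtype.val (h1 ⟨a, haH⟩ ha h7)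

end G

end Cfsg.Agent.TwoFusion.GoldCenAct
end

-- part: TwoFusion/GoldLFourCount
section
/-!
# The counting argument for Sylow 2-subgroups of type `PSL(3,4)` in Goldschmidt's theorem

Three classes of involutions `D`, `E`, `F`.  Two double counts contradict each other.
-/

set_option autoImplicit false

namespace Cfsg.Agent.TwoFusion.GoldLFour

open Subgroup

variable {G : Type*} [Group G]

open Classical in
/-- The elements of the finite set `D` which commute with `x`. -/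
noncomputable def cent (D : Finset G) (x : G) : Finset G := D.filter (fun d => d * x = x * d)

theorem mem_cent {D : Finset G} {x d : G} : d ∈ cent D x ↔ d ∈ D ∧ d * x = x * d := by
  classical
  unfold cent
  simp only [_root_.Finset.mem_filter]

/-- Counting the commuting pairs in two ways. -/
theorem double_count (D E : Finset G) {I k : ℕ} (hI : ∀ e ∈ E, (cent D e).card = I)
    (hk : ∀ d ∈ D, (cent E d).card = k) : E.card * I = D.card * k := by
  classical
  have h1 : ∑ e ∈ E, (cent D e).card = ∑ d ∈ D, (cent E d).card := by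
    have h2 := Finset.sum_card_bipartiteAbove_eq_sum_card_bipartiteBelow (s := E) (t := D)
      (fun e d => d * e = e * d)
    have e1 : ∀ e ∈ E, (cent D e).card = (Finset.bipartiteAbove (fun e d => d * e = e * d) D e).card := by
      intro e _
      congr 1
    have e2 : ∀ d ∈ D, (cent E d).card = (Finset.bipartiteBelow (fun e d => d * e = e * d) E d).card := by
      intro d _
      congr 1
      ext x
      rw [mem_cent, Finset.mem_bipartiteBelow]
      exact and_congr Iff.rfl eq_comm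
    rw [Finset.sum_congr rfl e1, Finset.sum_congr rfl e2]
    exact h2
  rw [Finset.sum_congr rfl hI, Finset.sum_congr rfl hk] at h1
  simpa using h1

/-- First count: `I_e I_f = 3 |D|`. -/
theorem count_three (D E F : Finset G) {Ie If ke kf : ℕ} (hE : E.Nonempty) (hF : F.Nonempty)
    (hIe : ∀ e ∈ E, (cent D e).card = Ie) (hIf : ∀ f ∈ F, (cent D f).card = If)
    (hke : ∀ d ∈ D, (cent E d).card = ke) (hkf : ∀ d ∈ D, (cent F d).card = kf)
    (P : G → Finset (G × G))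
    (hP : ∀ z ∈ D, 3 * (P z).card = ke * kf)
    (hz : ∀ e ∈ E, ∀ f ∈ F, ∃ z ∈ D, (e, f) ∈ P z)
    (hPE : ∀ z ∈ D, ∀ p ∈ P z, p.1 ∈ E ∧ p.2 ∈ F)
    (huniq : ∀ z ∈ D, ∀ z' ∈ D, ∀ p, p ∈ P z → p ∈ P z' → z = z') :
    Ie * If = 3 * D.card := by
  classical
  have h1 : E.card * Ie = D.card * ke := double_count D E hIe hke
  have h2 : F.card * If = D.card * kf := double_count D F hIf hkf
  have h3 : (E ×ˢ F) = D.biUnion P := by
    ext ⟨e, f⟩
    simp only [Finset.mem_product, Finset.mem_biUnion]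
    constructor
    · rintro ⟨he, hf⟩
      obtain ⟨z, hz1, hz2⟩ := hz e he f hf
      exact ⟨z, hz1, hz2⟩
    · rintro ⟨z, hz1, hz2⟩
      exact hPE z hz1 _ hz2
  have h4 : (D.biUnion P).card = ∑ z ∈ D, (P z).card := by
    apply Finset.card_biUnion
    intro z hz1 z' hz2 hne
    show Disjoint (P z) (P z')
    rw [Finset.disjoint_left]
    intro p hp hp'
    exact hne (huniq z hz1 z' hz2 p hp hp')
  have h5 : 3 * (E.card * F.card) = D.card * (ke * kf) := by
    rw [← Finset.card_product, h3, h4, Finset.mul_sum, Finset.sum_congr rfl hP]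
    simp
  have h6 : (E.card * F.card) * (Ie * If) = (E.card * F.card) * (3 * D.card) := by
    calc (E.card * F.card) * (Ie * If) = (E.card * Ie) * (F.card * If) := by ring
      _ = D.card * (D.card * (ke * kf)) := by rw [h1, h2]; ring
      _ = (E.card * F.card) * (3 * D.card) := by rw [← h5]; ring
  exact Nat.eq_of_mul_eq_mul_left (Nat.mul_pos hE.card_pos hF.card_pos) h6

open Classical in
/-- The elements `d` of `D` commuting with `x` such that `a d` has odd order. -/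
noncomputable def oddSet (D : Finset G) (x a : G) : Finset G :=
  (cent D x).filter (fun d => Odd (orderOf (a * d)))

theorem mem_oddSet {D : Finset G} {x a d : G} :
    d ∈ oddSet D x a ↔ (d ∈ D ∧ d * x = x * d) ∧ Odd (orderOf (a * d)) := by
  classical
  unfold oddSet
  rw [Finset.mem_filter, mem_cent]

/-- If `x` is an involution commuting with `a` and `d`, and `a d` has odd order, then `x` is a power of
`(x a) d`. -/
theorem pow_eq {x a d : G} (hx : x * x = 1) (hxa : x * a = a * x) (hxd : d * x = x * d) {m : ℕ} (hm : Odd m)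
    (had : (a * d) ^ m = 1) : (x * a * d) ^ m = x := by
  have hc : Commute x (a * d) := by
    show x * (a * d) = a * d * x
    calc x * (a * d) = x * a * d := by group
      _ = a * (x * d) := by rw [hxa]; group
      _ = a * d * x := by rw [← hxd]; group
  rw [show x * a * d = x * (a * d) by group, hc.mul_pow, had, mul_one]
  obtain ⟨k, rfl⟩ := hm
  rw [pow_succ, pow_mul, pow_two, hx, one_pow, one_mul]

/-- Second count: `I_e² < 3 |D|`. -/
theorem count_odd (D E : Finset G) {Ie : ℕ} (hIe : ∀ e ∈ E, (cent D e).card = Ie)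
    (hDsq : ∀ d ∈ D, d * d = 1) (hEsq : ∀ e ∈ E, e * e = 1) {e : G} (he : e ∈ E)
    (hmul : ∀ a ∈ D, a * e = e * a → e * a ∈ E) (hpos : 0 < Ie)
    (hodd : ∀ x ∈ E, ∀ a ∈ D, a * x = x * a → Ie < 3 * (oddSet D x a).card) :
    Ie * Ie < 3 * D.card := by
  classical
  have h1 : ((cent D e).biUnion (fun a => oddSet D (e * a) a)) ⊆ D := by
    intro d hd
    obtain ⟨a, _, hd⟩ := Finset.mem_biUnion.1 hd
    exact (mem_oddSet.1 hd).1.1
  have h2 : ((cent D e).biUnion (fun a => oddSet D (e * a) a)).card =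
      ∑ a ∈ cent D e, (oddSet D (e * a) a).card := by
    apply Finset.card_biUnion
    intro a ha b hb hne
    change a ∈ cent D e at ha
    change b ∈ cent D e at hb
    show Disjoint (oddSet D (e * a) a) (oddSet D (e * b) b)
    rw [Finset.disjoint_left]
    intro d hda hdb
    apply hne
    have ha1 := mem_cent.1 ha
    have hb1 := mem_cent.1 hb
    have hda1 := mem_oddSet.1 hda
    have hdb1 := mem_oddSet.1 hdb
    have key : ∀ c : G, c ∈ cent D e → d ∈ oddSet D (e * c) c →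
        (e * d) ^ orderOf (c * d) = e * c ∧ Odd (orderOf (c * d)) ∧ (e * c) * (e * c) = 1 := by
      intro c hc hd
      have hc1 := mem_cent.1 hc
      have hd1 := mem_oddSet.1 hd
      have hcc : c * c = 1 := hDsq c hc1.1
      have hx : (e * c) * (e * c) = 1 := hEsq _ (hmul c hc1.1 hc1.2)
      refine ⟨?_, hd1.2, hx⟩
      have h3 := pow_eq (x := e * c) (a := c) (d := d) hx
        (by rw [mul_assoc, ← mul_assoc c e c, hc1.2, mul_assoc e c c]) hd1.1.2 hd1.2 (pow_orderOf_eq_one _)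
      rwa [mul_assoc e c c, hcc, mul_one] at h3
    obtain ⟨p1, p2, p3⟩ := key a ha hda
    obtain ⟨q1, q2, q3⟩ := key b hb hdb
    have hp : ∀ {x : G} {m : ℕ}, x * x = 1 → Odd m → x ^ m = x := by
      rintro x m hx ⟨k, rfl⟩
      rw [pow_succ, pow_mul, pow_two, hx, one_pow, one_mul]
    have h4 : e * a = e * b := by
      calc e * a = (e * a) ^ orderOf (b * d) := (hp p3 q2).symm
        _ = (e * d) ^ (orderOf (a * d) * orderOf (b * d)) := by rw [pow_mul, p1]
        _ = (e * b) ^ orderOf (a * d) := by rw [mul_comm, pow_mul, q1]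
        _ = e * b := hp q3 p2
    exact mul_left_cancel h4
  have h3 : ∑ a ∈ cent D e, Ie < ∑ a ∈ cent D e, 3 * (oddSet D (e * a) a).card := by
    apply Finset.sum_lt_sum_of_nonempty
    · rw [← Finset.card_pos, hIe e he]; exact hpos
    · intro a ha
      have ha1 := mem_cent.1 ha
      refine hodd _ (hmul a ha1.1 ha1.2) a ha1.1 ?_
      rw [← mul_assoc, ha1.2]
  rw [Finset.sum_const, hIe e he, smul_eq_mul, ← Finset.mul_sum, ← h2] at h3
  exact lt_of_lt_of_le h3 (Nat.mul_le_mul_left 3 (Finset.card_le_card h1))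

/-- The two counts contradict each other. -/
theorem contra {d Ie If : ℕ} (h1 : Ie * If = 3 * d) (h2 : Ie * Ie < 3 * d) (h3 : If * If < 3 * d) : False := by
  have h4 : (Ie * If) * (Ie * If) = (Ie * Ie) * (If * If) := by ring
  have h5 : (Ie * Ie) * (If * If) < (3 * d) * (3 * d) := Nat.mul_lt_mul'' h2 h3
  rw [← h4, h1] at h5
  exact lt_irrefl _ h5

end Cfsg.Agent.TwoFusion.GoldLFour
end

-- part: TwoFusion/GoldLFourEqui
section
/-!
# Equidistribution of the central involution of `⟨e, f⟩` (Goldschmidt's theorem, type `PSL(3,4)`)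
-/

set_option autoImplicit false

namespace Cfsg.Agent.TwoFusion.GoldLFour

open Subgroup

variable {G : Type*} [Group G]

/-! ### Pairs of involutions -/

section Dihedral

variable {a b : G}

theorem inv_pow' (ha : a * a = 1) (hb : b * b = 1) (k : ℕ) : a * (a * b) ^ k * a = ((a * b) ^ k)⁻¹ := by
  have ha' : a⁻¹ = a := inv_eq_of_mul_eq_one_right ha
  have hb' : b⁻¹ = b := inv_eq_of_mul_eq_one_right hb
  have h : a * (a * b) ^ k * a⁻¹ = (a * (a * b) * a⁻¹) ^ k := by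
    rw [conj_pow]
  rw [ha'] at h
  rw [h, ← inv_pow]
  congr 1
  rw [mul_inv_rev, hb', ha']
  calc a * (a * b) * a = (a * a) * (b * a) := by group
    _ = b * a := by rw [ha, one_mul]

/-- Two involutions whose product has odd order are conjugate by a power of the product. -/
theorem conj_of_odd (ha : a * a = 1) (hb : b * b = 1) (h : Odd (orderOf (a * b))) :
    ∃ j : ℕ, ((a * b) ^ j) * a * ((a * b) ^ j)⁻¹ = b := by
  obtain ⟨k, hk⟩ := h
  have ha' : a⁻¹ = a := inv_eq_of_mul_eq_one_right ha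
  have hb' : b⁻¹ = b := inv_eq_of_mul_eq_one_right hb
  refine ⟨k, ?_⟩
  have h0 : ((a * b) ^ k) * a * ((a * b) ^ k)⁻¹ = (a * b) ^ (2 * k) * a := by
    rw [← inv_pow' ha hb k]
    calc (a * b) ^ k * a * (a * (a * b) ^ k * a) = (a * b) ^ k * (a * a) * (a * b) ^ k * a := by group
      _ = (a * b) ^ (2 * k) * a := by rw [ha, mul_one, two_mul, pow_add]
  rw [h0]
  have h1 : (a * b) ^ (2 * k) * (a * b) = 1 := by
    rw [← pow_succ, ← hk, pow_orderOf_eq_one]
  have h2 : (a * b) ^ (2 * k) = b⁻¹ * a⁻¹ := by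
    rw [← mul_inv_rev]
    exact eq_inv_of_mul_eq_one_left h1
  rw [h2, ha', hb', mul_assoc, ha, mul_one]

/-- The involution generated by the product of two involutions commutes with both. -/
theorem exists_of_even [Finite G] (ha : a * a = 1) (hb : b * b = 1) (h : Even (orderOf (a * b))) :
    ∃ u : G, u ∈ zpowers (a * b) ∧ orderOf u = 2 ∧ u * a = a * u ∧ u * b = b * u := by
  obtain ⟨m, hm⟩ := h
  have hpos : 0 < orderOf (a * b) := orderOf_pos _
  have hm0 : 0 < m := by omega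
  have hu2 : (a * b) ^ m * (a * b) ^ m = 1 := by
    rw [← pow_add, ← hm, pow_orderOf_eq_one]
  have hu1 : (a * b) ^ m ≠ 1 := by
    intro h1
    have := Nat.le_of_dvd hm0 (orderOf_dvd_of_pow_eq_one h1)
    omega
  have huinv : ((a * b) ^ m)⁻¹ = (a * b) ^ m := inv_eq_of_mul_eq_one_right hu2
  have hca : (a * b) ^ m * a = a * (a * b) ^ m := by
    have h := inv_pow' ha hb m
    rw [huinv] at h
    calc (a * b) ^ m * a = (a * a) * ((a * b) ^ m * a) := by rw [ha, one_mul]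
      _ = a * (a * (a * b) ^ m * a) := by group
      _ = a * (a * b) ^ m := by rw [h]
  have hcab : (a * b) ^ m * (a * b) = (a * b) * (a * b) ^ m := by
    rw [← pow_succ, ← pow_succ']
  have hb2 : b = a * (a * b) := by rw [← mul_assoc, ha, one_mul]
  have hcb : (a * b) ^ m * b = b * (a * b) ^ m := by
    calc (a * b) ^ m * b = (a * b) ^ m * (a * (a * b)) := by rw [← hb2]
      _ = ((a * b) ^ m * a) * (a * b) := by group
      _ = a * ((a * b) ^ m * (a * b)) := by rw [hca]; group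
      _ = a * ((a * b) * (a * b) ^ m) := by rw [hcab]
      _ = (a * (a * b)) * (a * b) ^ m := by simp only [mul_assoc]
      _ = b * (a * b) ^ m := by rw [← hb2]
  exact ⟨(a * b) ^ m, ⟨m, by simp⟩, orderOf_eq_prime (by rw [pow_two, hu2]) hu1, hca, hcb⟩

end Dihedral

/-- An element of order dividing two of a subgroup of odd order is trivial. -/
theorem eq_one_of_odd {O : Subgroup G} (hO : Odd (Nat.card O)) {x : G} (hx : x ∈ O) (hxx : x * x = 1) :
    x = 1 := by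
  have h1 : (⟨x, hx⟩ : O) ^ Nat.card O = 1 := pow_card_eq_one'
  have h2 : x ^ Nat.card O = 1 := by
    have := congrArg (Subtype.val) h1
    simpa only [SubmonoidClass.coe_pow, OneMemClass.coe_one] using this
  obtain ⟨k, hk⟩ := hO
  rw [hk, pow_succ, pow_mul, pow_two, hxx, one_pow, one_mul] at h2
  exact h2

/-! ### The frame -/

/-- The subgroups `A` (a four-group), `C = C(A)`, `V = O(C)`, `O z = O(C(z))`. -/
structure Frame (A C V : Subgroup G) (O : G → Subgroup G) : Prop where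
  A_le : A ≤ C
  A_sq : ∀ a ∈ A, a * a = 1
  CA : ∀ c ∈ C, ∀ a ∈ A, c * a = a * c
  Ocent : ∀ z ∈ A, z ≠ 1 → ∀ u ∈ O z, u * z = z * u
  Onorm : ∀ z ∈ A, z ≠ 1 → ∀ x, x * z = z * x → ∀ u ∈ O z, x * u * x⁻¹ ∈ O z
  Oodd : ∀ z ∈ A, z ≠ 1 → Odd (Nat.card (O z))
  Oinf : ∀ z ∈ A, z ≠ 1 → ∀ c ∈ C, c ∈ O z ↔ c ∈ V
  V_le : V ≤ C
  split : ∀ z ∈ A, z ≠ 1 → ∀ x, x * z = z * x → ∃ w ∈ C, w⁻¹ * x ∈ O z
  Oconj : ∀ z ∈ A, z ≠ 1 → ∀ n ∈ normalizer (A : Set G), ∀ u ∈ O z, n * u * n⁻¹ ∈ O (n * z * n⁻¹)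
  Cconj : ∀ n ∈ normalizer (A : Set G), ∀ c ∈ C, n * c * n⁻¹ ∈ C

theorem conj_mem_of_normalizer {A : Subgroup G} {n a : G} (hn : n ∈ normalizer (A : Set G)) (ha : a ∈ A) :
    n * a * n⁻¹ ∈ A :=
  (mem_normalizer_iff.1 hn a).1 ha

theorem conj_ne_one {n a : G} (ha : a ≠ 1) : n * a * n⁻¹ ≠ 1 := by
  intro h1
  apply ha
  have : a = n⁻¹ * (n * a * n⁻¹) * n := by group
  rw [this, h1]; group

/-- If `g ^ k` and `g ^ l` are involutions modulo `O`, they agree modulo `O`. -/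
theorem zpow_unique {O : Subgroup G} {g : G} {k l : ℤ} (hk : g ^ k ∉ O) (hk2 : g ^ (2 * k) ∈ O) (hl : g ^ l ∉ O)
    (hl2 : g ^ (2 * l) ∈ O) : g ^ (k - l) ∈ O := by
  let H : AddSubgroup ℤ :=
    { carrier := {j | g ^ j ∈ O}
      zero_mem' := by simp [O.one_mem]
      add_mem' := by
        intro a b ha hb
        change g ^ (a + b) ∈ O
        rw [zpow_add]
        exact mul_mem ha hb
      neg_mem' := by
        intro a ha
        change g ^ (-a) ∈ O
        rw [zpow_neg]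
        exact inv_mem ha }
  have hH : ∀ j, j ∈ H ↔ g ^ j ∈ O := fun j => Iff.rfl
  obtain ⟨m, hm⟩ := Int.subgroup_cyclic H
  have hdvd : ∀ j, g ^ j ∈ O ↔ m ∣ j := by
    intro j
    rw [← hH, hm, AddSubgroup.mem_closure_singleton]
    constructor
    · rintro ⟨n, hn⟩
      exact ⟨n, by rw [← hn, smul_eq_mul, mul_comm]⟩
    · rintro ⟨n, hn⟩
      exact ⟨n, by rw [hn, smul_eq_mul, mul_comm]⟩
  rw [hdvd] at hk hk2 hl hl2 ⊢
  obtain ⟨α, hα⟩ := hk2
  obtain ⟨β, hβ⟩ := hl2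
  have hodd : ∀ {k α : ℤ}, ¬ m ∣ k → 2 * k = m * α → Odd α := by
    intro k α hk hα
    rw [← Int.not_even_iff_odd]
    rintro ⟨γ, hγ⟩
    apply hk
    refine ⟨γ, ?_⟩
    rw [hγ] at hα
    have : 2 * k = 2 * (m * γ) := by rw [hα]; ring
    linarith
  obtain ⟨γ, hγ⟩ := (hodd hk hα).sub_odd (hodd hl hβ)
  refine ⟨γ, ?_⟩
  have : 2 * (k - l) = 2 * (m * γ) := by
    calc 2 * (k - l) = 2 * k - 2 * l := by ring
      _ = m * (α - β) := by rw [hα, hβ]; ring
      _ = 2 * (m * γ) := by rw [hγ]; ring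
  linarith

/-- The number of elements of `E` in the coset `c O(z)`. -/
noncomputable def mu (E : Finset G) (O : G → Subgroup G) (z c : G) : ℕ := by
  classical
  exact (E.filter (fun e => c⁻¹ * e ∈ O z)).card

theorem mu_def [DecidableEq G] (E : Finset G) (O : G → Subgroup G) (z c : G)
    [DecidablePred fun e => c⁻¹ * e ∈ O z] : mu E O z c = (E.filter (fun e => c⁻¹ * e ∈ O z)).card := by
  unfold mu
  congr

namespace Frame

variable {A C V : Subgroup G} {O : G → Subgroup G} (h : Frame A C V O)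

include h

theorem Oconj_iff {z : G} (hz : z ∈ A) (hz1 : z ≠ 1) {n : G} (hn : n ∈ normalizer (A : Set G)) {u : G} :
    n * u * n⁻¹ ∈ O (n * z * n⁻¹) ↔ u ∈ O z := by
  refine ⟨fun hu => ?_, fun hu => h.Oconj z hz hz1 n hn u hu⟩
  have h1 := h.Oconj _ (conj_mem_of_normalizer hn hz) (conj_ne_one hz1) n⁻¹ (inv_mem hn) _ hu
  have e1 : n⁻¹ * (n * u * n⁻¹) * n⁻¹⁻¹ = u := by group
  have e2 : n⁻¹ * (n * z * n⁻¹) * n⁻¹⁻¹ = z := by group
  rwa [e1, e2] at h1

theorem comm_of_coset {z : G} (hz : z ∈ A) (hz1 : z ≠ 1) {c e : G} (hc : c ∈ C) (he : c⁻¹ * e ∈ O z) :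
    e * z = z * e := by
  have h1 := h.Ocent z hz hz1 _ he
  have h2 := h.CA c hc z hz
  calc e * z = c * (c⁻¹ * e * z) := by group
    _ = (c * z) * (c⁻¹ * e) := by rw [h1]; group
    _ = z * e := by rw [h2]; group

/-- Congruence modulo `O z` is compatible with products. -/
theorem mul_coset {z : G} (hz : z ∈ A) (hz1 : z ≠ 1) {x y x' y' : G} (hy' : y' * z = z * y')
    (h1 : x'⁻¹ * x ∈ O z) (h2 : y'⁻¹ * y ∈ O z) : (x' * y')⁻¹ * (x * y) ∈ O z := by
  have e : (x' * y')⁻¹ * (x * y) = (y'⁻¹ * (x'⁻¹ * x) * y'⁻¹⁻¹) * (y'⁻¹ * y) := by group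
  rw [e]
  refine mul_mem (h.Onorm z hz hz1 _ ?_ _ h1) h2
  calc y'⁻¹ * z = y'⁻¹ * (z * y') * y'⁻¹ := by group
    _ = z * y'⁻¹ := by rw [← hy']; group

theorem pow_coset {z : G} (hz : z ∈ A) (hz1 : z ≠ 1) {x x' : G} (hx' : x' * z = z * x')
    (h1 : x'⁻¹ * x ∈ O z) (k : ℕ) : (x' ^ k)⁻¹ * x ^ k ∈ O z := by
  induction k with
  | zero => simp
  | succ k ih =>
    rw [pow_succ, pow_succ]
    exact h.mul_coset hz hz1 hx' ih h1

theorem not_mem_O {z : G} (hz : z ∈ A) (hz1 : z ≠ 1) {a : G} (ha : a * a = 1) (ha1 : a ≠ 1) : a ∉ O z :=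
  fun h1 => ha1 (eq_one_of_odd (h.Oodd z hz hz1) h1 ha)

theorem V_le_O {z : G} (hz : z ∈ A) (hz1 : z ≠ 1) : V ≤ O z := fun v hv =>
  (h.Oinf z hz hz1 v (h.V_le hv)).2 hv

theorem mu_conj {E : Finset G} (hE : ∀ e ∈ E, ∀ g : G, g * e * g⁻¹ ∈ E) {z : G} (hz : z ∈ A) (hz1 : z ≠ 1)
    {n : G} (hn : n ∈ normalizer (A : Set G)) (c : G) : mu E O (n * z * n⁻¹) (n * c * n⁻¹) = mu E O z c := by
  classical
  rw [mu_def, mu_def]
  symm
  refine Finset.card_bij (fun e _ => n * e * n⁻¹) ?_ ?_ ?_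
  · intro e he
    rw [Finset.mem_filter] at he ⊢
    refine ⟨hE e he.1 n, ?_⟩
    have e1 : (n * c * n⁻¹)⁻¹ * (n * e * n⁻¹) = n * (c⁻¹ * e) * n⁻¹ := by group
    rw [e1]
    exact h.Oconj z hz hz1 n hn _ he.2
  · intro e _ e' _ hee
    exact mul_left_cancel (mul_right_cancel hee)
  · intro e he
    rw [Finset.mem_filter] at he
    refine ⟨n⁻¹ * e * n, ?_, by group⟩
    rw [Finset.mem_filter]
    refine ⟨by simpa using hE e he.1 n⁻¹, ?_⟩
    rw [← h.Oconj_iff hz hz1 hn]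
    have e1 : n * (c⁻¹ * (n⁻¹ * e * n)) * n⁻¹ = (n * c * n⁻¹)⁻¹ * e := by group
    rw [e1]
    exact he.2

theorem mu_coset {E : Finset G} {z : G} (hz : z ∈ A) (hz1 : z ≠ 1) {c c' : G} (hcc : c⁻¹ * c' ∈ V) :
    mu E O z c = mu E O z c' := by
  classical
  rw [mu_def, mu_def]
  congr 1
  ext e
  rw [Finset.mem_filter, Finset.mem_filter]
  have h1 : c⁻¹ * c' ∈ O z := h.V_le_O hz hz1 hcc
  refine and_congr Iff.rfl ?_
  have e1 : c⁻¹ * e = (c⁻¹ * c') * (c'⁻¹ * e) := by group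
  rw [e1]
  exact (O z).mul_mem_cancel_left h1

/-- A coset of `O z` containing an element of `E` contains one in `C`. -/
theorem exists_rep {E : Finset G} (hE : ∀ e ∈ E, ∀ g : G, g * e * g⁻¹ ∈ E) (hE2 : ∀ e ∈ E, e * e = 1)
    {z : G} (hz : z ∈ A) (hz1 : z ≠ 1) {c e : G} (hc : c ∈ C) (he : e ∈ E)
    (hce : c⁻¹ * e ∈ O z) : ∃ e₀ ∈ E, e₀ ∈ C ∧ c⁻¹ * e₀ ∈ V := by
  have hcz : c * z = z * c := h.CA c hc z hz
  -- `c ^ 2 ∈ V`
  have h1 : c * c ∈ O z := by
    have h2 := h.mul_coset hz hz1 hcz hce hce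
    rw [hE2 e he, mul_one] at h2
    exact (inv_mem_iff).1 h2
  have h2 : c * c ∈ V := (h.Oinf z hz hz1 _ (mul_mem hc hc)).1 h1
  have hVodd : Odd (Nat.card V) := by
    have h3 : Nat.card V ∣ Nat.card (O z) := card_dvd_of_le (h.V_le_O hz hz1)
    exact Odd.of_dvd_nat (h.Oodd z hz hz1) h3
  obtain ⟨k, hk⟩ := hVodd
  have h3 : (c * c) ^ (2 * k + 1) = 1 := by
    have h4 : (⟨c * c, h2⟩ : V) ^ Nat.card V = 1 := pow_card_eq_one'
    rw [← hk]
    have := congrArg (Subtype.val) h4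
    simpa only [SubmonoidClass.coe_pow, OneMemClass.coe_one] using this
  set e₀ := c ^ (2 * k + 1) with he₀
  have h5 : e₀ * e₀ = 1 := by
    rw [he₀, ← (Commute.refl c).mul_pow, h3]
  have h6 : c⁻¹ * e₀ ∈ V := by
    rw [he₀, pow_succ', inv_mul_cancel_left, pow_mul, pow_two]
    exact pow_mem h2 k
  have h7 : e₀ ∈ C := pow_mem hc _
  have h8 : e₀⁻¹ * e ∈ O z := by
    have e1 : e₀⁻¹ * e = (c⁻¹ * e₀)⁻¹ * (c⁻¹ * e) := by group
    rw [e1]
    exact mul_mem (inv_mem (h.V_le_O hz hz1 h6)) hce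
  have h9 : e₀⁻¹ = e₀ := inv_eq_of_mul_eq_one_left h5
  rw [h9] at h8
  -- `e₀` and `e` are conjugate
  have h10 : Odd (orderOf (e * e₀)) := by
    have h11 : e * e₀ ∈ O z := by
      have := inv_mem h8
      rwa [mul_inv_rev, h9, inv_eq_of_mul_eq_one_left (hE2 e he)] at this
    have h12 : orderOf (e * e₀) ∣ Nat.card (O z) := by
      rw [show e * e₀ = ((⟨e * e₀, h11⟩ : O z) : G) from rfl, orderOf_coe]
      exact orderOf_dvd_natCard _
    exact Odd.of_dvd_nat (h.Oodd z hz hz1) h12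
  obtain ⟨j, hj⟩ := conj_of_odd (hE2 e he) h5 h10
  exact ⟨e₀, hj ▸ hE e he _, h7, h6⟩

/-- The weight `mu E O z c` does not depend on `z`. -/
theorem mu_indep {E : Finset G} (hE : ∀ e ∈ E, ∀ g : G, g * e * g⁻¹ ∈ E) (hE2 : ∀ e ∈ E, e * e = 1)
    (hh : ∀ e ∈ E, e ∈ C → ∀ z ∈ A, z ≠ 1 → ∀ z' ∈ A, z' ≠ 1 → ∃ n ∈ normalizer (A : Set G),
      n * e = e * n ∧ n * z * n⁻¹ = z')
    {z z' : G} (hz : z ∈ A) (hz1 : z ≠ 1) (hz' : z' ∈ A) (hz1' : z' ≠ 1) {c : G} (hc : c ∈ C) :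
    mu E O z c = mu E O z' c := by
  classical
  by_cases hex : ∃ e₀ ∈ E, e₀ ∈ C ∧ c⁻¹ * e₀ ∈ V
  · obtain ⟨e₀, he₀, he₀C, hce⟩ := hex
    obtain ⟨n, hn, hne, hnz⟩ := hh e₀ he₀ he₀C z hz hz1 z' hz' hz1'
    rw [h.mu_coset hz hz1 hce, h.mu_coset hz' hz1' hce, ← h.mu_conj hE hz hz1 hn e₀, hnz]
    congr 1
    rw [hne]; group
  · have h0 : ∀ y ∈ A, y ≠ 1 → mu E O y c = 0 := by
      intro y hy hy1
      rw [mu_def, Finset.card_eq_zero, Finset.filter_eq_empty_iff]
      intro e he hce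
      exact hex (h.exists_rep hE hE2 hy hy1 hc he hce)
    rw [h0 z hz hz1, h0 z' hz' hz1']

/-- For `e` commuting with `z` there are `|V|` elements `c ∈ C` with `c⁻¹ e ∈ O z`. -/
theorem card_fibre [DecidableEq G] {z : G} (hz : z ∈ A) (hz1 : z ≠ 1) {e : G} (he : e * z = z * e) (CC : Finset G)
    (hCC : ∀ c, c ∈ CC ↔ c ∈ C) [DecidablePred fun c => c⁻¹ * e ∈ O z] :
    (CC.filter (fun c => c⁻¹ * e ∈ O z)).card = Nat.card V := by
  obtain ⟨w, hw, hwe⟩ := h.split z hz hz1 e he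
  have h1 : ∀ c, c ∈ CC.filter (fun c => c⁻¹ * e ∈ O z) ↔ w⁻¹ * c ∈ V := by
    intro c
    rw [Finset.mem_filter, hCC]
    constructor
    · rintro ⟨hc, hce⟩
      have h2 : w⁻¹ * c ∈ O z := by
        have e1 : w⁻¹ * c = (w⁻¹ * e) * (c⁻¹ * e)⁻¹ := by group
        rw [e1]
        exact mul_mem hwe (inv_mem hce)
      exact (h.Oinf z hz hz1 _ (mul_mem (inv_mem hw) hc)).1 h2
    · intro hv
      have hc : c ∈ C := by
        have := mul_mem hw (h.V_le hv)
        rwa [mul_inv_cancel_left] at this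
      refine ⟨hc, ?_⟩
      have e1 : c⁻¹ * e = (w⁻¹ * c)⁻¹ * (w⁻¹ * e) := by group
      rw [e1]
      exact mul_mem (inv_mem (h.V_le_O hz hz1 hv)) hwe
  rw [← Nat.subtype_card _ h1]
  refine Nat.card_congr ⟨fun c => ⟨w⁻¹ * c.1, c.2⟩, fun v => ⟨w * v.1, by rw [inv_mul_cancel_left]; exact v.2⟩, ?_, ?_⟩
  · intro c; simp
  · intro v; simp

/-- The relation `R a c c'`: some power of `c c'` is congruent to `a` modulo `V`. -/
theorem rel_iff {z : G} (hz : z ∈ A) (hz1 : z ≠ 1) {a c c' e f : G} (ha : a ∈ A) (hc : c ∈ C) (hc' : c' ∈ C)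
    (hce : c⁻¹ * e ∈ O z) (hcf : c'⁻¹ * f ∈ O z) (k : ℕ) :
    a⁻¹ * (c * c') ^ k ∈ V ↔ a⁻¹ * (e * f) ^ k ∈ O z := by
  have hcc : (c * c') * z = z * (c * c') := h.CA _ (mul_mem hc hc') z hz
  have h1 : ((c * c') ^ k)⁻¹ * (e * f) ^ k ∈ O z :=
    h.pow_coset hz hz1 hcc (h.mul_coset hz hz1 (h.CA c' hc' z hz) hce hcf) k
  rw [← h.Oinf z hz hz1 _ (mul_mem (inv_mem (h.A_le ha)) (pow_mem (mul_mem hc hc') k))]
  have e1 : a⁻¹ * (e * f) ^ k = (a⁻¹ * (c * c') ^ k) * (((c * c') ^ k)⁻¹ * (e * f) ^ k) := by group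
  rw [e1]
  exact ((O z).mul_mem_cancel_right h1).symm

/-- Uniqueness of the class of the involution modulo `O z`. -/
theorem class_unique {z : G} (hz : z ∈ A) (hz1 : z ≠ 1) {a b g : G} (ha : a ∈ A) (ha1 : a ≠ 1) (hb : b ∈ A)
    (hb1 : b ≠ 1) {k l : ℕ} (hk : a⁻¹ * g ^ k ∈ O z) (hl : b⁻¹ * g ^ l ∈ O z) : a = b := by
  have hzA : ∀ x ∈ A, x * z = z * x := fun x hx => h.CA x (h.A_le hx) z hz
  have key : ∀ {x : G} {m : ℕ}, x ∈ A → x ≠ 1 → x⁻¹ * g ^ m ∈ O z →
      g ^ (m : ℤ) ∉ O z ∧ g ^ (2 * (m : ℤ)) ∈ O z := by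
    intro x m hx hx1 hm
    constructor
    · intro h1
      rw [zpow_natCast] at h1
      have h2 : x⁻¹ ∈ O z := by
        have := mul_mem hm (inv_mem h1)
        rwa [mul_inv_cancel_right] at this
      exact h.not_mem_O hz hz1 (h.A_sq x hx) hx1 ((inv_mem_iff).1 h2)
    · have h1 := h.mul_coset hz hz1 (hzA x hx) hm hm
      rw [h.A_sq x hx, inv_one, one_mul, ← pow_add, ← two_mul] at h1
      have e1 : (2 * (m : ℤ)) = ((2 * m : ℕ) : ℤ) := by push_cast; ring
      rw [e1, zpow_natCast]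
      exact h1
  obtain ⟨hk1, hk2⟩ := key ha ha1 hk
  obtain ⟨hl1, hl2⟩ := key hb hb1 hl
  have h1 := zpow_unique hk1 hk2 hl1 hl2
  rw [zpow_sub, zpow_natCast, zpow_natCast] at h1
  -- `a⁻¹ b ∈ O z`
  have h2 : a⁻¹ * b ∈ O z := by
    have h3 : (g ^ k * (g ^ l)⁻¹) ∈ O z := h1
    have e1 : a⁻¹ * b = (a⁻¹ * g ^ k) * ((g ^ k)⁻¹ * g ^ l) * (b⁻¹ * g ^ l)⁻¹ := by group
    rw [e1]
    refine mul_mem (mul_mem hk ?_) (inv_mem hl)
    have h4 := inv_mem h3
    have e2 : (g ^ k)⁻¹ * g ^ l = (g ^ k * (g ^ l)⁻¹)⁻¹ := by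
      rw [mul_inv_rev, inv_inv, ← zpow_natCast, ← zpow_natCast, ← zpow_neg, ← zpow_add, ← zpow_add, add_comm]
    rw [e2]
    exact h4
  have h3 : (a⁻¹ * b) * (a⁻¹ * b) = 1 := h.A_sq _ (mul_mem (inv_mem ha) hb)
  have h4 := eq_one_of_odd (h.Oodd z hz hz1) h2 h3
  exact (inv_mul_eq_one.1 h4)

end Frame

open Classical in
/-- The pairs `(e, f)` in `C(z)` such that a power of `e f` is congruent to `a` modulo `O z`. -/
noncomputable def pairs (E F : Finset G) (O : G → Subgroup G) (z a : G) : Finset (G × G) :=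
  ((cent E z) ×ˢ (cent F z)).filter (fun p => ∃ k : ℕ, a⁻¹ * (p.1 * p.2) ^ k ∈ O z)

theorem mem_pairs {E F : Finset G} {O : G → Subgroup G} {z a : G} {p : G × G} :
    p ∈ pairs E F O z a ↔ (p.1 ∈ cent E z ∧ p.2 ∈ cent F z) ∧ ∃ k : ℕ, a⁻¹ * (p.1 * p.2) ^ k ∈ O z := by
  classical
  unfold pairs
  rw [Finset.mem_filter, Finset.mem_product]

open Classical in
/-- The weighted count over `C × C`. -/
noncomputable def weight (E F CC : Finset G) (O : G → Subgroup G) (V : Subgroup G) (z a : G) : ℕ :=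
  ∑ c ∈ (CC ×ˢ CC).filter (fun c => ∃ k : ℕ, a⁻¹ * (c.1 * c.2) ^ k ∈ V), mu E O z c.1 * mu F O z c.2

namespace Frame

variable {A C V : Subgroup G} {O : G → Subgroup G} (h : Frame A C V O)

include h

theorem weight_eq {E F CC : Finset G} (hCC : ∀ c, c ∈ CC ↔ c ∈ C) {z a : G} (hz : z ∈ A) (hz1 : z ≠ 1)
    (ha : a ∈ A) : weight E F CC O V z a = (pairs E F O z a).card * (Nat.card V * Nat.card V) := by
  classical
  let r : G × G → G × G → Prop := fun c p => c.1⁻¹ * p.1 ∈ O z ∧ c.2⁻¹ * p.2 ∈ O z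
  have key := Finset.sum_card_bipartiteAbove_eq_sum_card_bipartiteBelow (r := r)
    (s := (CC ×ˢ CC).filter (fun c => ∃ k : ℕ, a⁻¹ * (c.1 * c.2) ^ k ∈ V)) (t := pairs E F O z a)
  have h1 : ∀ c ∈ (CC ×ˢ CC).filter (fun c => ∃ k : ℕ, a⁻¹ * (c.1 * c.2) ^ k ∈ V),
      (Finset.bipartiteAbove r (pairs E F O z a) c).card = mu E O z c.1 * mu F O z c.2 := by
    intro c hc
    rw [Finset.mem_filter, Finset.mem_product, hCC, hCC] at hc
    obtain ⟨⟨hc1, hc2⟩, k, hk⟩ := hc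
    rw [mu_def, mu_def, ← Finset.card_product]
    congr 1
    ext p
    rw [Finset.mem_bipartiteAbove, mem_pairs, Finset.mem_product, Finset.mem_filter, Finset.mem_filter, mem_cent,
      mem_cent]
    constructor
    · rintro ⟨⟨⟨hp1, hp2⟩, _⟩, hr1, hr2⟩
      exact ⟨⟨hp1.1, hr1⟩, hp2.1, hr2⟩
    · rintro ⟨⟨hp1, hr1⟩, hp2, hr2⟩
      exact ⟨⟨⟨⟨hp1, h.comm_of_coset hz hz1 hc1 hr1⟩, hp2, h.comm_of_coset hz hz1 hc2 hr2⟩, k,
        (h.rel_iff hz hz1 ha hc1 hc2 hr1 hr2 k).1 hk⟩, hr1, hr2⟩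
  have h2 : ∀ p ∈ pairs E F O z a, (Finset.bipartiteBelow r
      ((CC ×ˢ CC).filter (fun c => ∃ k : ℕ, a⁻¹ * (c.1 * c.2) ^ k ∈ V)) p).card = Nat.card V * Nat.card V := by
    intro p hp
    rw [mem_pairs, mem_cent, mem_cent] at hp
    obtain ⟨⟨⟨hp1, hp1z⟩, hp2, hp2z⟩, k, hk⟩ := hp
    rw [← h.card_fibre hz hz1 hp1z CC hCC]
    nth_rewrite 2 [h.card_fibre hz hz1 hp1z CC hCC]
    rw [← h.card_fibre hz hz1 hp2z CC hCC, ← Finset.card_product]
    congr 1
    ext c
    rw [Finset.mem_bipartiteBelow, Finset.mem_filter, Finset.mem_product, Finset.mem_product, Finset.mem_filter,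
      Finset.mem_filter, hCC, hCC]
    constructor
    · rintro ⟨⟨⟨hc1, hc2⟩, _⟩, hr1, hr2⟩
      exact ⟨⟨hc1, hr1⟩, hc2, hr2⟩
    · rintro ⟨⟨hc1, hr1⟩, hc2, hr2⟩
      exact ⟨⟨⟨hc1, hc2⟩, k, (h.rel_iff hz hz1 ha hc1 hc2 hr1 hr2 k).2 hk⟩, hr1, hr2⟩
  rw [Finset.sum_congr rfl h1, Finset.sum_congr rfl h2, Finset.sum_const, smul_eq_mul] at key
  exact key

theorem Vconj {z : G} (hz : z ∈ A) (hz1 : z ≠ 1) {n : G} (hn : n ∈ normalizer (A : Set G)) {v : G} (hv : v ∈ V) :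
    n * v * n⁻¹ ∈ V := by
  have h1 := h.Oconj z hz hz1 n hn v (h.V_le_O hz hz1 hv)
  exact (h.Oinf _ (conj_mem_of_normalizer hn hz) (conj_ne_one hz1) _ (h.Cconj n hn v (h.V_le hv))).1 h1

theorem weight_conj {E F CC : Finset G} (hE : ∀ e ∈ E, ∀ g : G, g * e * g⁻¹ ∈ E)
    (hF : ∀ e ∈ F, ∀ g : G, g * e * g⁻¹ ∈ F) (hCC : ∀ c, c ∈ CC ↔ c ∈ C) {z a : G} (hz : z ∈ A) (hz1 : z ≠ 1)
    {n : G} (hn : n ∈ normalizer (A : Set G)) :
    weight E F CC O V (n * z * n⁻¹) (n * a * n⁻¹) = weight E F CC O V z a := by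
  classical
  unfold weight
  symm
  refine Finset.sum_bij (fun c _ => (n * c.1 * n⁻¹, n * c.2 * n⁻¹)) ?_ ?_ ?_ ?_
  · intro c hc
    rw [Finset.mem_filter, Finset.mem_product, hCC, hCC] at hc ⊢
    obtain ⟨⟨hc1, hc2⟩, k, hk⟩ := hc
    refine ⟨⟨h.Cconj n hn _ hc1, h.Cconj n hn _ hc2⟩, k, ?_⟩
    have e1 : (n * a * n⁻¹)⁻¹ * (n * c.1 * n⁻¹ * (n * c.2 * n⁻¹)) ^ k = n * (a⁻¹ * (c.1 * c.2) ^ k) * n⁻¹ := by
      have e2 : n * c.1 * n⁻¹ * (n * c.2 * n⁻¹) = n * (c.1 * c.2) * n⁻¹ := by group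
      rw [e2, conj_pow]
      group
    change (n * a * n⁻¹)⁻¹ * (n * c.1 * n⁻¹ * (n * c.2 * n⁻¹)) ^ k ∈ V
    rw [e1]
    exact h.Vconj hz hz1 hn hk
  · intro c _ c' _ hcc
    have h1 := congrArg Prod.fst hcc
    have h2 := congrArg Prod.snd hcc
    exact Prod.ext (mul_left_cancel (mul_right_cancel h1)) (mul_left_cancel (mul_right_cancel h2))
  · intro c hc
    rw [Finset.mem_filter, Finset.mem_product, hCC, hCC] at hc
    obtain ⟨⟨hc1, hc2⟩, k, hk⟩ := hc
    have hn' := inv_mem hn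
    refine ⟨(n⁻¹ * c.1 * n, n⁻¹ * c.2 * n), ?_, ?_⟩
    · rw [Finset.mem_filter, Finset.mem_product, hCC, hCC]
      refine ⟨⟨by simpa using h.Cconj _ hn' _ hc1, by simpa using h.Cconj _ hn' _ hc2⟩, k, ?_⟩
      have e1 : a⁻¹ * (n⁻¹ * c.1 * n * (n⁻¹ * c.2 * n)) ^ k = n⁻¹ * ((n * a * n⁻¹)⁻¹ * (c.1 * c.2) ^ k) * n⁻¹⁻¹ := by
        have e2 : n⁻¹ * c.1 * n * (n⁻¹ * c.2 * n) = n⁻¹ * (c.1 * c.2) * n⁻¹⁻¹ := by group
        rw [e2, conj_pow]
        group
      change a⁻¹ * (n⁻¹ * c.1 * n * (n⁻¹ * c.2 * n)) ^ k ∈ V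
      rw [e1]
      exact h.Vconj hz hz1 hn' hk
    · ext <;> simp only [mul_assoc, _root_.mul_assoc, _root_.mul_inv_cancel_left, _root_.mul_inv_cancel, _root_.mul_one]
  · intro c _
    rw [h.mu_conj hE hz hz1 hn, h.mu_conj hF hz hz1 hn]

/-- Hypothesis on a class of involutions `E`. -/
structure _root_.Cfsg.Agent.TwoFusion.GoldLFour.IsGood (A C : Subgroup G) (E : Finset G) : Prop where
  conj : ∀ e ∈ E, ∀ g : G, g * e * g⁻¹ ∈ E
  sq : ∀ e ∈ E, e * e = 1
  rot : ∀ e ∈ E, e ∈ C → ∀ z ∈ A, z ≠ 1 → ∀ z' ∈ A, z' ≠ 1 → ∃ n ∈ normalizer (A : Set G),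
      n * e = e * n ∧ n * z * n⁻¹ = z'

theorem weight_indep {E F CC : Finset G} (hE : IsGood A C E) (hF : IsGood A C F) (hCC : ∀ c, c ∈ CC ↔ c ∈ C)
    {z z' a : G} (hz : z ∈ A) (hz1 : z ≠ 1) (hz' : z' ∈ A) (hz1' : z' ≠ 1) :
    weight E F CC O V z a = weight E F CC O V z' a := by
  classical
  unfold weight
  refine Finset.sum_congr rfl fun c hc => ?_
  rw [Finset.mem_filter, Finset.mem_product, hCC, hCC] at hc
  rw [h.mu_indep hE.conj hE.sq hE.rot hz hz1 hz' hz1' hc.1.1, h.mu_indep hF.conj hF.sq hF.rot hz hz1 hz' hz1' hc.1.2]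

theorem pairs_card_eq [Finite G] {E F : Finset G} (hE : IsGood A C E) (hF : IsGood A C F)
    (htr : ∀ a ∈ A, a ≠ 1 → ∀ b ∈ A, b ≠ 1 → ∃ n ∈ normalizer (A : Set G), n * a * n⁻¹ = b)
    {z a b : G} (hz : z ∈ A) (hz1 : z ≠ 1) (ha : a ∈ A) (ha1 : a ≠ 1) (hb : b ∈ A) (hb1 : b ≠ 1) :
    (pairs E F O z a).card = (pairs E F O z b).card := by
  classical
  let CC : Finset G := (Set.toFinite (C : Set G)).toFinset
  have hCC : ∀ c, c ∈ CC ↔ c ∈ C := fun c => by simp [CC]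
  obtain ⟨n, hn, hnab⟩ := htr a ha ha1 b hb hb1
  have h1 := h.weight_eq (E := E) (F := F) hCC hz hz1 ha
  have h2 := h.weight_eq (E := E) (F := F) hCC hz hz1 hb
  have h3 := h.weight_conj hE.conj hF.conj hCC (a := a) hz hz1 hn
  rw [hnab] at h3
  have h4 := h.weight_indep hE hF hCC (a := b) (conj_mem_of_normalizer hn hz) (conj_ne_one hz1) hz hz1
  have h5 : (pairs E F O z a).card * (Nat.card V * Nat.card V) =
      (pairs E F O z b).card * (Nat.card V * Nat.card V) := by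
    rw [← h1, ← h2, ← h3, h4]
  exact Nat.eq_of_mul_eq_mul_right (Nat.mul_pos Nat.card_pos Nat.card_pos) h5

/-- **Equidistribution.** -/
theorem equi [Finite G] (hA : Nat.card A = 4) {E F : Finset G} (hE : IsGood A C E) (hF : IsGood A C F)
    (htr : ∀ a ∈ A, a ≠ 1 → ∀ b ∈ A, b ≠ 1 → ∃ n ∈ normalizer (A : Set G), n * a * n⁻¹ = b)
    {z : G} (hz : z ∈ A) (hz1 : z ≠ 1)
    (hex : ∀ e ∈ E, e * z = z * e → ∀ f ∈ F, f * z = z * f →
      ∃ a ∈ A, a ≠ 1 ∧ ∃ k : ℕ, a⁻¹ * (e * f) ^ k ∈ O z) :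
    3 * (pairs E F O z z).card = (cent E z).card * (cent F z).card := by
  classical
  let A' : Finset G := (Set.toFinite ((A : Set G) \ {1})).toFinset
  have hA' : ∀ a, a ∈ A' ↔ a ∈ A ∧ a ≠ 1 := fun a => by simp [A']
  have hcard : A'.card = 3 := by
    have h1 : A'.card = ((A : Set G) \ {1}).ncard := (Set.ncard_eq_toFinset_card _ _).symm
    rw [h1, Set.ncard_sdiff_singleton_of_mem (one_mem A)]
    have : (A : Set G).ncard = 4 := by rw [← Nat.card_coe_set_eq]; exact hA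
    omega
  have h1 : (cent E z) ×ˢ (cent F z) = A'.biUnion (fun a => pairs E F O z a) := by
    ext p
    rw [Finset.mem_biUnion, Finset.mem_product]
    constructor
    · rintro ⟨h1, h2⟩
      obtain ⟨a, ha, ha1, hk⟩ := hex _ (mem_cent.1 h1).1 (mem_cent.1 h1).2 _ (mem_cent.1 h2).1 (mem_cent.1 h2).2
      exact ⟨a, (hA' a).2 ⟨ha, ha1⟩, mem_pairs.2 ⟨⟨h1, h2⟩, hk⟩⟩
    · rintro ⟨a, _, hp⟩
      exact (mem_pairs.1 hp).1
  have h2 : (A'.biUnion (fun a => pairs E F O z a)).card = ∑ a ∈ A', (pairs E F O z a).card := by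
    apply Finset.card_biUnion
    intro a ha b hb hab
    have ha := (hA' a).1 ha
    have hb := (hA' b).1 hb
    show Disjoint (pairs E F O z a) (pairs E F O z b)
    rw [Finset.disjoint_left]
    intro p hp hp'
    obtain ⟨_, k, hk⟩ := mem_pairs.1 hp
    obtain ⟨_, l, hl⟩ := mem_pairs.1 hp'
    exact hab (h.class_unique hz hz1 ha.1 ha.2 hb.1 hb.2 hk hl)
  rw [← Finset.card_product, h1, h2, Finset.sum_congr rfl (fun a ha =>
    h.pairs_card_eq hE hF htr hz hz1 ((hA' a).1 ha).1 ((hA' a).1 ha).2 hz hz1), Finset.sum_const, hcard,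
    smul_eq_mul]

end Frame

end Cfsg.Agent.TwoFusion.GoldLFour
end

-- part: TwoFusion/GoldLFour
section
/-!
# Goldschmidt's theorem, `|A| = 4`: no Sylow 2-subgroup of type `PSL(3,4)`
-/

set_option autoImplicit false

namespace Cfsg.Agent.TwoFusion.GoldLFour

open Subgroup
open Cfsg.Agent.TwoFusion.ClosedFam
open Cfsg.Agent.TypeL3

variable {G : Type*} [Group G] [Finite G]

/-- The nontrivial conjugates of elements of `A`. -/
noncomputable def Dset (A : Subgroup G) : Finset G :=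
  (Set.toFinite {d : G | d ≠ 1 ∧ ∃ g : G, g * d * g⁻¹ ∈ A}).toFinset

theorem mem_Dset {A : Subgroup G} {d : G} : d ∈ Dset A ↔ d ≠ 1 ∧ ∃ g : G, g * d * g⁻¹ ∈ A := by
  unfold Dset
  rw [Set.Finite.mem_toFinset]
  rfl

/-- The conjugacy class of `e`. -/
noncomputable def cls (e : G) : Finset G := (Set.toFinite {x : G | ∃ g : G, g * e * g⁻¹ = x}).toFinset

theorem mem_cls {e x : G} : x ∈ cls e ↔ ∃ g : G, g * e * g⁻¹ = x := by
  unfold cls
  rw [Set.Finite.mem_toFinset]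
  rfl

/-- A conjugation invariant finite set. -/
def Inv (X : Finset G) : Prop := ∀ x ∈ X, ∀ g : G, g * x * g⁻¹ ∈ X

omit [Finite G] in
theorem Inv.iff {X : Finset G} (h : Inv X) {x : G} (g : G) : g * x * g⁻¹ ∈ X ↔ x ∈ X := by
  refine ⟨fun hx => ?_, fun hx => h x hx g⟩
  have := h _ hx g⁻¹
  have e : g⁻¹ * (g * x * g⁻¹) * g⁻¹⁻¹ = x := by group
  rwa [e] at this

theorem inv_Dset (A : Subgroup G) : Inv (Dset A) := by
  intro d hd g
  rw [mem_Dset] at hd ⊢
  obtain ⟨h1, k, hk⟩ := hd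
  refine ⟨conj_ne_one h1, k * g⁻¹, ?_⟩
  have e : k * g⁻¹ * (g * d * g⁻¹) * (k * g⁻¹)⁻¹ = k * d * k⁻¹ := by group
  rw [e]
  exact hk

theorem inv_cls (e : G) : Inv (cls e) := by
  intro x hx g
  rw [mem_cls] at hx ⊢
  obtain ⟨k, rfl⟩ := hx
  exact ⟨g * k, by group⟩

omit [Finite G] in
theorem comm_conj {x y : G} (g : G) (hxy : x * y = y * x) : (g * x * g⁻¹) * (g * y * g⁻¹) = (g * y * g⁻¹) * (g * x * g⁻¹) := by
  have e1 : (g * x * g⁻¹) * (g * y * g⁻¹) = g * (x * y) * g⁻¹ := by group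
  have e2 : (g * y * g⁻¹) * (g * x * g⁻¹) = g * (y * x) * g⁻¹ := by group
  rw [e1, e2, hxy]

omit [Finite G] in
theorem comm_conj_iff {x y : G} (g : G) :
    (g * x * g⁻¹) * (g * y * g⁻¹) = (g * y * g⁻¹) * (g * x * g⁻¹) ↔ x * y = y * x := by
  refine ⟨fun h => ?_, comm_conj g⟩
  have e1 : (g * x * g⁻¹) * (g * y * g⁻¹) = g * (x * y) * g⁻¹ := by group
  have e2 : (g * y * g⁻¹) * (g * x * g⁻¹) = g * (y * x) * g⁻¹ := by group
  rw [e1, e2] at h
  exact mul_left_cancel (mul_right_cancel h)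

omit [Finite G] in
/-- Conjugation is a bijection between invariant sets. -/
theorem card_conj {X Y : Finset G} (g : G) (hXY : ∀ x, x ∈ X ↔ g * x * g⁻¹ ∈ Y) : X.card = Y.card := by
  refine Finset.card_bij (fun x _ => g * x * g⁻¹) (fun x hx => (hXY x).1 hx) ?_ ?_
  · intro x _ y _ hxy
    exact mul_left_cancel (mul_right_cancel hxy)
  · intro y hy
    refine ⟨g⁻¹ * y * g, (hXY _).2 ?_, by group⟩
    have e : g * (g⁻¹ * y * g) * g⁻¹ = y := by group
    rwa [e]

omit [Finite G] in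
theorem card_cent_conj {X : Finset G} (hX : Inv X) (x g : G) :
    (cent X (g * x * g⁻¹)).card = (cent X x).card := by
  symm
  refine card_conj g fun d => ?_
  rw [mem_cent, mem_cent, hX.iff, comm_conj_iff]

omit [Finite G] in
theorem orderOf_conj' (x g : G) : orderOf (g * x * g⁻¹) = orderOf x := by
  rw [← MulAut.conj_apply, MulEquiv.orderOf_eq]

omit [Finite G] in
theorem card_oddSet_conj {X : Finset G} (hX : Inv X) (x a g : G) :
    (oddSet X (g * x * g⁻¹) (g * a * g⁻¹)).card = (oddSet X x a).card := by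
  symm
  refine card_conj g fun d => ?_
  rw [mem_oddSet, mem_oddSet, hX.iff, comm_conj_iff]
  have e : g * a * g⁻¹ * (g * d * g⁻¹) = g * (a * d) * g⁻¹ := by group
  rw [e, orderOf_conj']

/-- Two commuting elements of order dividing 2 can be conjugated simultaneously into a Sylow 2-subgroup. -/
theorem conj_pair (S : Sylow 2 G) {x y : G} (hx : x * x = 1) (hy : y * y = 1) (hxy : x * y = y * x) :
    ∃ g : G, g * x * g⁻¹ ∈ (S : Subgroup G) ∧ g * y * g⁻¹ ∈ (S : Subgroup G) := by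
  have hfact : Fact (Nat.Prime 2) := ⟨Nat.prime_two⟩
  let P : Subgroup G := closure {x, y}
  have hcomm : ∀ u ∈ ({x, y} : Set G), ∀ v ∈ ({x, y} : Set G), u * v = v * u := by
    intro u hu v hv
    rcases hu with rfl | rfl <;> rcases hv with rfl | rfl
    · rfl
    · exact hxy
    · exact hxy.symm
    · rfl
  have hPc : ∀ u ∈ P, ∀ v ∈ P, u * v = v * u := by
    intro u hu v hv
    have hcP : IsMulCommutative P := Subgroup.isMulCommutative_closure hcomm
    have := hcP.is_comm.comm (⟨u, hu⟩ : P) ⟨v, hv⟩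
    exact congrArg Subtype.val this
  have hPsq : ∀ u ∈ P, u * u = 1 := by
    intro u hu
    refine closure_induction (p := fun u _ => u * u = 1) ?_ ?_ ?_ ?_ hu
    · intro u hu
      rcases hu with rfl | rfl
      · exact hx
      · exact hy
    · simp
    · intro u v hu hv h1 h2
      have h3 := hPc u hu v hv
      calc u * v * (u * v) = u * (v * u) * v := by group
        _ = (u * u) * (v * v) := by rw [← h3]; group
        _ = 1 := by rw [h1, h2, one_mul]
    · intro u _ h1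
      rw [← mul_inv_rev, h1, inv_one]
  have hP : IsPGroup 2 P := by
    rintro ⟨u, hu⟩
    refine ⟨1, Subtype.ext ?_⟩
    rw [pow_one, pow_two]
    exact hPsq u hu
  obtain ⟨Q, hQ⟩ := hP.exists_le_sylow
  obtain ⟨g, hg⟩ := MulAction.exists_smul_eq G Q S
  refine ⟨g, ?_, ?_⟩
  · rw [← hg]
    exact ⟨x, hQ (subset_closure (by simp)), rfl⟩
  · rw [← hg]
    exact ⟨y, hQ (subset_closure (by simp)), rfl⟩

/-! ### The frame -/

/-- The configuration: `S = R₁ R₂` of type `PSL(3,4)`, `A = R₁ ∩ R₂` strongly closed of order 4. -/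
structure LF (S : Sylow 2 G) (R₁ R₂ : Subgroup G) : Prop where
  ab : IsAB (S : Subgroup G) R₁ R₂
  card : Nat.card (R₁ ⊓ R₂ : Subgroup G) = 4
  card₁ : Nat.card R₁ = 16
  card₂ : Nat.card R₂ = 16
  sc : Cfsg.IsStronglyClosed (R₁ ⊓ R₂) (S : Subgroup G)
  split : ∀ z ∈ R₁ ⊓ R₂, z ≠ 1 → ∀ x, x * z = z * x →
    ∃ w ∈ centralizer ((R₁ ⊓ R₂ : Subgroup G) : Set G), w⁻¹ * x ∈ core (centralizer ({z} : Set G))
  rot : ∀ e ∈ (S : Subgroup G), e * e = 1 → e ∉ R₁ ⊓ R₂ → ∀ z ∈ R₁ ⊓ R₂, z ≠ 1 → ∀ z' ∈ R₁ ⊓ R₂, z' ≠ 1 →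
    ∃ n ∈ normalizer ((R₁ ⊓ R₂ : Subgroup G) : Set G), n * e = e * n ∧ n * z * n⁻¹ = z'
  odd : ∀ e ∈ (S : Subgroup G), e * e = 1 → e ∉ R₁ ⊓ R₂ → ∀ a ∈ R₁ ⊓ R₂, a ≠ 1 →
    (cent (Dset (R₁ ⊓ R₂)) e).card < 3 * (oddSet (Dset (R₁ ⊓ R₂)) e a).card

theorem conj_mem_core' {z u : G} (n : G) (hu : u ∈ core (centralizer ({z} : Set G))) :
    n * u * n⁻¹ ∈ core (centralizer ({n * z * n⁻¹} : Set G)) := by
  have h1 : (core (centralizer ({z} : Set G))).map (MulAut.conj n).toMonoidHom ≤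
      core (centralizer ({n * z * n⁻¹} : Set G)) := by
    apply ClosedLocal.le_core
    · rintro _ ⟨x, hx, rfl⟩
      rw [mem_centralizer_singleton_iff]
      have := mem_centralizer_singleton_iff.1 (ClosedLocal.core_le _ hx)
      exact comm_conj n this
    · rintro c hc _ ⟨x, hx, rfl⟩
      refine ⟨(n⁻¹ * c * n) * x * (n⁻¹ * c * n)⁻¹, ClosedLocal.conj_mem_core ?_ hx, ?_⟩
      · rw [mem_centralizer_singleton_iff] at hc ⊢
        have := comm_conj n⁻¹ hc
        have e : n⁻¹ * (n * z * n⁻¹) * n⁻¹⁻¹ = z := by group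
        rw [e, inv_inv] at this
        exact this
      · show n * ((n⁻¹ * c * n) * x * (n⁻¹ * c * n)⁻¹) * n⁻¹ = c * (n * x * n⁻¹) * c⁻¹
        group
    · rw [Cfsg.Agent.Lib.GoldschmidtFusion.card_map_conj]
      exact ClosedLocal.odd_core _
  exact h1 ⟨u, hu, rfl⟩

namespace LF

variable {S : Sylow 2 G} {R₁ R₂ : Subgroup G} (h : LF S R₁ R₂)

include h

theorem symm : LF S R₂ R₁ where
  ab := h.ab.symm
  card := by rw [inf_comm]; exact h.card
  card₁ := h.card₂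
  card₂ := h.card₁
  sc := by rw [inf_comm]; exact h.sc
  split := by rw [inf_comm]; exact h.split
  rot := by rw [inf_comm]; exact h.rot
  odd := by rw [inf_comm]; exact h.odd

theorem sq {a : G} (ha : a ∈ R₁ ⊓ R₂) : a * a = 1 := h.ab.A_sq a (mem_inf.1 ha).1

theorem comm {a b : G} (ha : a ∈ R₁ ⊓ R₂) (hb : b ∈ R₁ ⊓ R₂) : a * b = b * a :=
  h.ab.A_comm a (mem_inf.1 ha).1 b (mem_inf.1 hb).1

theorem frame : Frame (R₁ ⊓ R₂) (centralizer ((R₁ ⊓ R₂ : Subgroup G) : Set G))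
    (core (centralizer ((R₁ ⊓ R₂ : Subgroup G) : Set G))) (fun z => core (centralizer ({z} : Set G))) where
  A_le := by
    intro a ha
    rw [mem_centralizer_iff]
    intro b hb
    exact h.comm hb ha
  A_sq := fun a ha => h.sq ha
  CA := by
    intro c hc a ha
    exact (mem_centralizer_iff.1 hc a ha).symm
  Ocent := by
    intro z _ _ u hu
    exact mem_centralizer_singleton_iff.1 (ClosedLocal.core_le _ hu)
  Onorm := by
    intro z _ _ x hx u hu
    exact ClosedLocal.conj_mem_core (mem_centralizer_singleton_iff.2 hx) hu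
  Oodd := fun z _ _ => ClosedLocal.odd_core _
  Oinf := by
    intro z hz hz1 c hc
    have hle : centralizer ((R₁ ⊓ R₂ : Subgroup G) : Set G) ≤ centralizer ({z} : Set G) := by
      intro x hx
      rw [mem_centralizer_singleton_iff]
      exact (mem_centralizer_iff.1 hx z hz).symm
    constructor
    · intro hcO
      have h1 : core (centralizer ({z} : Set G)) ⊓ centralizer ((R₁ ⊓ R₂ : Subgroup G) : Set G) ≤
          core (centralizer ((R₁ ⊓ R₂ : Subgroup G) : Set G)) := by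
        apply ClosedLocal.le_core inf_le_right
        · intro x hx k hk
          obtain ⟨hk1, hk2⟩ := mem_inf.1 hk
          exact mem_inf.2 ⟨ClosedLocal.conj_mem_core (hle hx) hk1, mul_mem (mul_mem hx hk2) (inv_mem hx)⟩
        · exact Odd.of_dvd_nat (ClosedLocal.odd_core _) (card_dvd_of_le inf_le_left)
      exact h1 ⟨hcO, hc⟩
    · -- `O(C(A)) O(C(z))` is a normal subgroup of odd order of `C(z)`
      intro hcV
      set O := core (centralizer ({z} : Set G)) with hO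
      set V := core (centralizer ((R₁ ⊓ R₂ : Subgroup G) : Set G)) with hV
      have hVC : V ≤ centralizer ({z} : Set G) := (ClosedLocal.core_le _).trans hle
      have hVO : V ≤ normalizer (O : Set G) := by
        intro v hv
        rw [mem_normalizer_iff]
        intro x
        refine ⟨fun hx => ClosedLocal.conj_mem_core (hVC hv) hx, fun hx => ?_⟩
        have := ClosedLocal.conj_mem_core (inv_mem (hVC hv)) hx
        have e : v⁻¹ * (v * x * v⁻¹) * v⁻¹⁻¹ = x := by group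
        rwa [e] at this
      have hmem : ∀ x, x ∈ V ⊔ O ↔ ∃ v ∈ V, ∃ o ∈ O, v * o = x := by
        intro x
        rw [← SetLike.mem_coe, coe_mul_of_left_le_normalizer_right _ _ hVO, Set.mem_mul]
        rfl
      have hnorm : ∀ g ∈ centralizer ({z} : Set G), ∀ k ∈ V ⊔ O, g * k * g⁻¹ ∈ V ⊔ O := by
        intro g hg k hk
        obtain ⟨w, hw, hwg⟩ := h.split z hz hz1 g (mem_centralizer_singleton_iff.1 hg)
        obtain ⟨v, hv, o, ho, rfl⟩ := (hmem k).1 hk
        have e : g * (v * o) * g⁻¹ = (w * ((w⁻¹ * g) * v * (w⁻¹ * g)⁻¹) * w⁻¹) * (g * o * g⁻¹) := by group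
        rw [e]
        refine mul_mem ?_ (mem_sup_right (ClosedLocal.conj_mem_core hg ho))
        have e2 : w * ((w⁻¹ * g) * v * (w⁻¹ * g)⁻¹) * w⁻¹ =
            (w * (w⁻¹ * g) * w⁻¹) * (w * v * w⁻¹) * (w * (w⁻¹ * g) * w⁻¹)⁻¹ := by group
        rw [e2]
        have h3 : w * (w⁻¹ * g) * w⁻¹ ∈ O := ClosedLocal.conj_mem_core (hle hw) hwg
        exact mul_mem (mul_mem (mem_sup_right h3) (mem_sup_left (ClosedLocal.conj_mem_core hw hv)))
          (inv_mem (mem_sup_right h3))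
      have hodd : Odd (Nat.card (V ⊔ O : Subgroup G)) := by
        have h4 : Nat.card (V ⊔ O : Subgroup G) ∣ Nat.card V * Nat.card O := by
          set Z := centralizer ({z} : Set G) with hZ
          have e1 : Nat.card (V.subgroupOf Z) = Nat.card V :=
            Nat.card_congr (Subgroup.subgroupOfEquivOfLe hVC).toEquiv
          have e2 : (V.subgroupOf Z ⊔ Cfsg.oddCore Z).map Z.subtype = V ⊔ O := by
            rw [Subgroup.map_sup, subgroupOf_map_subtype, inf_eq_left.mpr hVC]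
            rfl
          have e3 : Nat.card (V ⊔ O : Subgroup G) = Nat.card (V.subgroupOf Z ⊔ Cfsg.oddCore Z : Subgroup Z) := by
            rw [← e2, card_map_of_injective Z.subtype_injective]
          have e4 : Nat.card O = Nat.card (Cfsg.oddCore Z) := by
            rw [hO]
            exact card_map_of_injective Z.subtype_injective
          rw [e3, e4, ← e1, mul_comm, sup_comm]
          exact Cfsg.Agent.Lib.Cores.card_sup_dvd _ _ (Cfsg.Agent.Lib.Cores.pPrimeCore_normal 2)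
        exact Odd.of_dvd_nat ((ClosedLocal.odd_core _).mul (ClosedLocal.odd_core _)) h4
      have h5 : V ⊔ O ≤ O := ClosedLocal.le_core (sup_le hVC (ClosedLocal.core_le _)) hnorm hodd
      exact h5 (mem_sup_left hcV)
  V_le := ClosedLocal.core_le _
  split := h.split
  Oconj := fun z _ _ n _ u hu => conj_mem_core' n hu
  Cconj := by
    intro n hn c hc
    rw [mem_centralizer_iff]
    intro a ha
    have h1 : n⁻¹ * a * n ∈ R₁ ⊓ R₂ := by
      have := conj_mem_of_normalizer (inv_mem hn) ha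
      simpa only [_root_.Subgroup.mem_inf, _root_.inv_inv] using this
    have h2 := mem_centralizer_iff.1 hc _ h1
    have h3 := comm_conj n h2
    have e : n * (n⁻¹ * a * n) * n⁻¹ = a := by group
    rwa [e] at h3

theorem control_elem {x g : G} (hx : x ∈ (S : Subgroup G)) (hg : g * x * g⁻¹ ∈ (S : Subgroup G)) :
    ∃ n ∈ normalizer ((S : Subgroup G) : Set G), g * x * g⁻¹ = n * x * n⁻¹ := by
  have hP : zpowers x ≤ (S : Subgroup G) := zpowers_le.2 hx
  have hPg : (zpowers x).map (MulAut.conj g).toMonoidHom ≤ (S : Subgroup G) := by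
    rw [MonoidHom.map_zpowers, zpowers_le]
    exact hg
  have hA : normalizer (R₁ : Set G) ≤ normalizer ((R₁ ⊓ R₂ : Subgroup G) : Set G) :=
    GoldControl.normalizer_le_normalizer_of_sc h.sc inf_le_left h.ab.A_le
  have hB : normalizer (R₂ : Set G) ≤ normalizer ((R₁ ⊓ R₂ : Subgroup G) : Set G) :=
    GoldControl.normalizer_le_normalizer_of_sc h.sc inf_le_right h.ab.B_le
  obtain ⟨n, hn, c, hc, e⟩ := h.ab.control hA hB hP hPg
  refine ⟨n, hn, ?_⟩
  have h1 := mem_centralizer_iff.1 hc x (mem_zpowers x)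
  rw [e]
  calc n * c * x * (n * c)⁻¹ = n * (c * x) * c⁻¹ * n⁻¹ := by group
    _ = n * x * n⁻¹ := by rw [← h1]; group

/-- `R₁` is strongly closed in `S`. -/
theorem mem_R₁ {x g : G} (hx : x ∈ R₁) (hg : g * x * g⁻¹ ∈ (S : Subgroup G)) : g * x * g⁻¹ ∈ R₁ := by
  obtain ⟨n, hn, e⟩ := h.control_elem (h.ab.A_le hx) hg
  rw [e]
  exact conj_mem_of_normalizer (h.ab.normalizer_le_A hn) hx

/-- The involutions of `S` of types 1 and 2 are not conjugate. -/
theorem not_conj {e f : G} (he : e ∈ R₁) (hf : f ∈ R₂) (hf' : f ∉ R₁) {g : G} (hg : g * e * g⁻¹ = f) : False := by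
  apply hf'
  rw [← hg]
  apply h.mem_R₁ he
  rw [hg]
  exact h.ab.B_le hf

/-- Conjugates of elements of type 1 and of type 2 do not commute. -/
theorem not_comm_types {e f x y a b : G} (he : e ∈ R₁) (he' : e ∉ R₂) (hf : f ∈ R₂) (hf' : f ∉ R₁)
    (hx : a * e * a⁻¹ = x) (hy : b * f * b⁻¹ = y) (hxy : x * y = y * x) : False := by
  have hxx : x * x = 1 := by
    rw [← hx]
    calc a * e * a⁻¹ * (a * e * a⁻¹) = a * (e * e) * a⁻¹ := by group
      _ = 1 := by rw [h.ab.A_sq e he]; group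
  have hyy : y * y = 1 := by
    rw [← hy]
    calc b * f * b⁻¹ * (b * f * b⁻¹) = b * (f * f) * b⁻¹ := by group
      _ = 1 := by rw [h.ab.B_sq f hf]; group
  obtain ⟨g, hgx, hgy⟩ := conj_pair S hxx hyy hxy
  have e1 : g * x * g⁻¹ = (g * a) * e * (g * a)⁻¹ := by rw [← hx]; group
  have e2 : g * y * g⁻¹ = (g * b) * f * (g * b)⁻¹ := by rw [← hy]; group
  have h1 : g * x * g⁻¹ ∈ R₁ := by
    rw [e1]
    apply h.mem_R₁ he
    rw [← e1]
    exact hgx
  have h1' : g * x * g⁻¹ ∉ R₂ := by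
    intro h2
    have h3 := h.symm.mem_R₁ (g := (g * a)⁻¹) h2 (by
      rw [e1]
      have e3 : (g * a)⁻¹ * (g * a * e * (g * a)⁻¹) * (g * a)⁻¹⁻¹ = e := by group
      rw [e3]
      exact h.ab.A_le he)
    rw [e1] at h3
    have e3 : (g * a)⁻¹ * (g * a * e * (g * a)⁻¹) * (g * a)⁻¹⁻¹ = e := by group
    rw [e3] at h3
    exact he' h3
  have h2 : g * y * g⁻¹ ∉ R₁ := by
    intro h2
    have h3 := h.mem_R₁ (g := (g * b)⁻¹) h2 (by
      rw [e2]
      have e3 : (g * b)⁻¹ * (g * b * f * (g * b)⁻¹) * (g * b)⁻¹⁻¹ = f := by group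
      rw [e3]
      exact h.ab.B_le hf)
    rw [e2] at h3
    have e3 : (g * b)⁻¹ * (g * b * f * (g * b)⁻¹) * (g * b)⁻¹⁻¹ = f := by group
    rw [e3] at h3
    exact hf' h3
  exact h2 (h.ab.centA _ h1 h1' _ hgy (comm_conj g hxy))

omit h in
theorem mem_Dset_of_mem {a : G} (ha : a ∈ R₁ ⊓ R₂) (ha1 : a ≠ 1) : a ∈ Dset (R₁ ⊓ R₂) :=
  mem_Dset.2 ⟨ha1, 1, by simpa only [_root_.one_mul, _root_.inv_one, _root_.mul_one, _root_.Subgroup.mem_inf] using ha⟩

theorem sq_Dset {d : G} (hd : d ∈ Dset (R₁ ⊓ R₂)) : d * d = 1 := by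
  obtain ⟨_, g, hg⟩ := mem_Dset.1 hd
  have h1 := h.sq hg
  have e : d * d = g⁻¹ * (g * d * g⁻¹ * (g * d * g⁻¹)) * g := by group
  rw [e, h1]; group

/-- `D ∩ S = A#`. -/
theorem mem_A_of_Dset {d : G} (hd : d ∈ Dset (R₁ ⊓ R₂)) (hS : d ∈ (S : Subgroup G)) : d ∈ R₁ ⊓ R₂ := by
  obtain ⟨_, g, hg⟩ := mem_Dset.1 hd
  have := h.sc.2 _ hg g⁻¹ (by
    have e : g⁻¹ * (g * d * g⁻¹) * g⁻¹⁻¹ = d := by group
    rw [e]; exact hS)
  have e : g⁻¹ * (g * d * g⁻¹) * g⁻¹⁻¹ = d := by group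
  rwa [e] at this

/-- For `e` of type 1 and `f` of type 2 the group `⟨e f⟩` contains an involution of `D`. -/
theorem exists_z {e f x y a b : G} (he : e ∈ R₁) (he' : e ∉ R₂) (hf : f ∈ R₂) (hf' : f ∉ R₁)
    (hx : a * e * a⁻¹ = x) (hy : b * f * b⁻¹ = y) :
    ∃ z ∈ Dset (R₁ ⊓ R₂), z ∈ zpowers (x * y) ∧ z * x = x * z ∧ z * y = y * z := by
  have hxx : x * x = 1 := by
    rw [← hx]
    calc a * e * a⁻¹ * (a * e * a⁻¹) = a * (e * e) * a⁻¹ := by group
      _ = 1 := by rw [h.ab.A_sq e he]; group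
  have hyy : y * y = 1 := by
    rw [← hy]
    calc b * f * b⁻¹ * (b * f * b⁻¹) = b * (f * f) * b⁻¹ := by group
      _ = 1 := by rw [h.ab.B_sq f hf]; group
  have heven : Even (orderOf (x * y)) := by
    by_contra hodd
    rw [Nat.not_even_iff_odd] at hodd
    obtain ⟨j, hj⟩ := GoldLFour.conj_of_odd hxx hyy hodd
    refine h.not_conj he hf hf' (g := b⁻¹ * ((x * y) ^ j) * a) ?_
    calc b⁻¹ * (x * y) ^ j * a * e * (b⁻¹ * (x * y) ^ j * a)⁻¹
        = b⁻¹ * ((x * y) ^ j * (a * e * a⁻¹) * ((x * y) ^ j)⁻¹) * b := by group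
      _ = b⁻¹ * y * b := by rw [hx, hj]
      _ = f := by rw [← hy]; group
  obtain ⟨z, hz, hz2, hzx, hzy⟩ := GoldLFour.exists_of_even hxx hyy heven
  refine ⟨z, ?_, hz, hzx, hzy⟩
  have hz1 : z ≠ 1 := by
    rintro rfl
    rw [orderOf_one] at hz2
    exact absurd hz2 (by norm_num)
  have hzz : z * z = 1 := by rw [← pow_two, ← hz2, pow_orderOf_eq_one]
  obtain ⟨g, hg, -⟩ := conj_pair S hzz hzz rfl
  rw [mem_Dset]
  refine ⟨hz1, g, ?_⟩
  have hgg : (g * z * g⁻¹) * (g * z * g⁻¹) = 1 := by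
    calc g * z * g⁻¹ * (g * z * g⁻¹) = g * (z * z) * g⁻¹ := by group
      _ = 1 := by rw [hzz]; group
  by_contra hcon
  rcases h.ab.inv _ hg hgg with h1 | h1
  · have h2 : g * z * g⁻¹ ∉ R₂ := fun h2 => hcon (mem_inf.2 ⟨h1, h2⟩)
    refine h.not_comm_types (x := z) (y := y) (a := g⁻¹) (b := b) h1 h2 hf hf' (by group) hy hzy
  · have h2 : g * z * g⁻¹ ∉ R₁ := fun h2 => hcon (mem_inf.2 ⟨h2, h1⟩)
    refine h.not_comm_types (x := x) (y := z) (a := a) (b := g⁻¹) he he' h1 h2 hx (by group) hzx.symm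

/-- Uniqueness of the involution. -/
theorem z_unique {z z' g : G} (hz : z ∈ Dset (R₁ ⊓ R₂)) (hz' : z' ∈ Dset (R₁ ⊓ R₂)) (h1 : z ∈ zpowers g)
    (h2 : z' ∈ zpowers g) : z = z' := by
  obtain ⟨k, rfl⟩ := mem_zpowers_iff.1 h1
  obtain ⟨l, rfl⟩ := mem_zpowers_iff.1 h2
  have key : ∀ {k : ℤ}, g ^ k ∈ Dset (R₁ ⊓ R₂) → g ^ k ∉ (⊥ : Subgroup G) ∧ g ^ (2 * k) ∈ (⊥ : Subgroup G) := by
    intro k hk
    rw [mem_bot, mem_bot]
    refine ⟨(mem_Dset.1 hk).1, ?_⟩
    rw [two_mul, zpow_add]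
    exact h.sq_Dset hk
  have h3 := zpow_unique (key hz).1 (key hz).2 (key hz').1 (key hz').2
  rw [mem_bot, zpow_sub] at h3
  exact mul_inv_eq_one.1 h3

/-- An involution centralizing `A` is conjugate into `S` under `N(A)`. -/
theorem exists_norm {x : G} (hx : x * x = 1) (hc : x ∈ centralizer ((R₁ ⊓ R₂ : Subgroup G) : Set G)) :
    ∃ g ∈ normalizer ((R₁ ⊓ R₂ : Subgroup G) : Set G), g * x * g⁻¹ ∈ (S : Subgroup G) := by
  have hfact : Fact (Nat.Prime 2) := ⟨Nat.prime_two⟩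
  let P : Subgroup G := closure (insert x ((R₁ ⊓ R₂ : Subgroup G) : Set G))
  have hcomm : ∀ u ∈ insert x ((R₁ ⊓ R₂ : Subgroup G) : Set G), ∀ v ∈ insert x ((R₁ ⊓ R₂ : Subgroup G) : Set G),
      u * v = v * u := by
    intro u hu v hv
    rcases hu with rfl | hu <;> rcases hv with rfl | hv
    · rfl
    · exact (mem_centralizer_iff.1 hc v hv).symm
    · exact mem_centralizer_iff.1 hc u hu
    · exact h.comm hu hv
  have hPc : ∀ u ∈ P, ∀ v ∈ P, u * v = v * u := by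
    intro u hu v hv
    have hcP : IsMulCommutative P := Subgroup.isMulCommutative_closure hcomm
    have := hcP.is_comm.comm (⟨u, hu⟩ : P) ⟨v, hv⟩
    exact congrArg Subtype.val this
  have hPsq : ∀ u ∈ P, u * u = 1 := by
    intro u hu
    refine closure_induction (p := fun u _ => u * u = 1) ?_ ?_ ?_ ?_ hu
    · intro u hu
      rcases hu with rfl | hu
      · exact hx
      · exact h.sq hu
    · simp
    · intro u v hu hv h1 h2
      have h3 := hPc u hu v hv
      calc u * v * (u * v) = u * (v * u) * v := by group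
        _ = (u * u) * (v * v) := by rw [← h3]; group
        _ = 1 := by rw [h1, h2, one_mul]
    · intro u _ h1
      rw [← mul_inv_rev, h1, inv_one]
  have hP : IsPGroup 2 P := by
    rintro ⟨u, hu⟩
    refine ⟨1, Subtype.ext ?_⟩
    rw [pow_one, pow_two]
    exact hPsq u hu
  obtain ⟨Q, hQ⟩ := hP.exists_le_sylow
  obtain ⟨g, hg⟩ := MulAction.exists_smul_eq G Q S
  have hmem : ∀ u ∈ P, g * u * g⁻¹ ∈ (S : Subgroup G) := by
    intro u hu
    rw [← hg]
    exact ⟨u, hQ hu, rfl⟩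
  refine ⟨g, ?_, hmem x (subset_closure (Set.mem_insert _ _))⟩
  rw [Cfsg.Agent.Lib.GoldschmidtFusion.mem_normalizer_iff_map_conj]
  apply GoldControl.map_conj_eq_of_sc h.sc
  rintro _ ⟨u, hu, rfl⟩
  exact hmem u (subset_closure (Set.mem_insert_of_mem _ hu))

/-- An element of `D` in `C(A)` lies in `A`. -/
theorem mem_A_of_cent {d : G} (hd : d ∈ Dset (R₁ ⊓ R₂)) (hc : d ∈ centralizer ((R₁ ⊓ R₂ : Subgroup G) : Set G)) :
    d ∈ R₁ ⊓ R₂ := by
  obtain ⟨g, hgN, hgS⟩ := h.exists_norm (h.sq_Dset hd) hc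
  have h1 : g * d * g⁻¹ ∈ R₁ ⊓ R₂ := h.mem_A_of_Dset (inv_Dset _ d hd g) hgS
  have := conj_mem_of_normalizer (inv_mem hgN) h1
  have e : g⁻¹ * (g * d * g⁻¹) * g⁻¹⁻¹ = d := by group
  rwa [e] at this

/-- `N(A)` is transitive on `A#`. -/
theorem trans {z z' : G} (hz : z ∈ R₁ ⊓ R₂) (hz1 : z ≠ 1) (hz' : z' ∈ R₁ ⊓ R₂) (hz1' : z' ≠ 1) :
    ∃ n ∈ normalizer ((R₁ ⊓ R₂ : Subgroup G) : Set G), n * z * n⁻¹ = z' := by
  obtain ⟨e, he, he'⟩ := h.ab.neA
  obtain ⟨n, hn, _, e1⟩ := h.rot e (h.ab.A_le he) (h.ab.A_sq e he) (fun h1 => he' (mem_inf.1 h1).2) z hz hz1 z' hz' hz1'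
  exact ⟨n, hn, e1⟩

theorem exists_A : ∃ z ∈ R₁ ⊓ R₂, z ≠ 1 := by
  by_contra hcon
  push Not at hcon
  have h1 : (R₁ ⊓ R₂ : Subgroup G) = ⊥ := by
    rw [eq_bot_iff]
    intro x hx
    exact mem_bot.2 (hcon x hx)
  have h2 := h.card
  rw [h1, card_bot] at h2
  exact absurd h2 (by norm_num)

/-- `D` is a conjugacy class. -/
theorem Dset_conj {d d' : G} (hd : d ∈ Dset (R₁ ⊓ R₂)) (hd' : d' ∈ Dset (R₁ ⊓ R₂)) : ∃ g : G, g * d * g⁻¹ = d' := by
  obtain ⟨h1, g, hg⟩ := mem_Dset.1 hd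
  obtain ⟨h1', g', hg'⟩ := mem_Dset.1 hd'
  obtain ⟨n, _, hn⟩ := h.trans hg (conj_ne_one h1) hg' (conj_ne_one h1')
  refine ⟨g'⁻¹ * n * g, ?_⟩
  calc g'⁻¹ * n * g * d * (g'⁻¹ * n * g)⁻¹ = g'⁻¹ * (n * (g * d * g⁻¹) * n⁻¹) * g' := by group
    _ = g'⁻¹ * (g' * d' * g'⁻¹) * g' := by rw [hn]
    _ = d' := by group

/-- The class of an involution of type 1 is good. -/
theorem isGood {e : G} (he : e ∈ R₁) (he' : e ∉ R₂) :
    IsGood (R₁ ⊓ R₂) (centralizer ((R₁ ⊓ R₂ : Subgroup G) : Set G)) (cls e) where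
  conj := inv_cls e
  sq := by
    intro x hx
    obtain ⟨g, rfl⟩ := mem_cls.1 hx
    calc g * e * g⁻¹ * (g * e * g⁻¹) = g * (e * e) * g⁻¹ := by group
      _ = 1 := by rw [h.ab.A_sq e he]; group
  rot := by
    intro x hx hxC z hz hz1 z' hz' hz1'
    obtain ⟨g, hg⟩ := mem_cls.1 hx
    have hxx : x * x = 1 := by
      rw [← hg]
      calc g * e * g⁻¹ * (g * e * g⁻¹) = g * (e * e) * g⁻¹ := by group
        _ = 1 := by rw [h.ab.A_sq e he]; group
    obtain ⟨k, hkN, hkS⟩ := h.exists_norm hxx hxC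
    have hkA : k * x * k⁻¹ ∉ R₁ ⊓ R₂ := by
      intro h1
      have h2 : e ∈ Dset (R₁ ⊓ R₂) := by
        rw [mem_Dset]
        refine ⟨fun h3 => he' (h3 ▸ one_mem _), k * g, ?_⟩
        have e1 : k * g * e * (k * g)⁻¹ = k * (g * e * g⁻¹) * k⁻¹ := by group
        rw [e1, hg]
        exact h1
      exact he' (mem_inf.1 (h.mem_A_of_Dset h2 (h.ab.A_le he))).2
    have hkk : (k * x * k⁻¹) * (k * x * k⁻¹) = 1 := by
      calc k * x * k⁻¹ * (k * x * k⁻¹) = k * (x * x) * k⁻¹ := by group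
        _ = 1 := by rw [hxx]; group
    obtain ⟨n, hn, hn1, hn2⟩ := h.rot _ hkS hkk hkA _ (conj_mem_of_normalizer hkN hz) (conj_ne_one hz1) _
      (conj_mem_of_normalizer hkN hz') (conj_ne_one hz1')
    refine ⟨k⁻¹ * n * k, mul_mem (mul_mem (inv_mem hkN) hn) hkN, ?_, ?_⟩
    · calc k⁻¹ * n * k * x = k⁻¹ * (n * (k * x * k⁻¹)) * k := by group
        _ = x * (k⁻¹ * n * k) := by rw [hn1]; group
    · calc k⁻¹ * n * k * z * (k⁻¹ * n * k)⁻¹ = k⁻¹ * (n * (k * z * k⁻¹) * n⁻¹) * k := by group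
        _ = z' := by rw [hn2]; group

/-- The classes of types 1 and 2. -/
theorem hex {e f : G} (he : e ∈ R₁) (he' : e ∉ R₂) (hf : f ∈ R₂) (hf' : f ∉ R₁) {z : G} (hz : z ∈ R₁ ⊓ R₂)
    (hz1 : z ≠ 1) {x y : G} (hx : x ∈ cls e) (hxz : x * z = z * x) (hy : y ∈ cls f) (hyz : y * z = z * y) :
    ∃ w ∈ Dset (R₁ ⊓ R₂), w ∈ zpowers (x * y) ∧ w * z = z * w ∧ ∃ a ∈ R₁ ⊓ R₂, a ≠ 1 ∧ ∃ k : ℕ, (x * y) ^ k = w ∧
      a⁻¹ * w ∈ core (centralizer ({z} : Set G)) := by
  obtain ⟨a, ha⟩ := mem_cls.1 hx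
  obtain ⟨b, hb⟩ := mem_cls.1 hy
  obtain ⟨w, hwD, hw, hwx, hwy⟩ := h.exists_z he he' hf hf' ha hb
  have hxyz : Commute (x * y) z := by
    show x * y * z = z * (x * y)
    rw [mul_assoc, hyz, ← mul_assoc, hxz, mul_assoc]
  obtain ⟨k, hk⟩ : ∃ k : ℕ, (x * y) ^ k = w := by
    have := (isOfFinOrder_of_finite (x * y)).mem_powers_iff_mem_zpowers.2 hw
    exact this
  have hwz : w * z = z * w := by
    rw [← hk]
    exact hxyz.pow_left k
  refine ⟨w, hwD, hw, hwz, ?_⟩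
  obtain ⟨c, hc, hcw⟩ := h.split z hz hz1 w hwz
  obtain ⟨d₀, hd₀, hd₀C, hcd⟩ := h.frame.exists_rep (inv_Dset _) (fun d hd => h.sq_Dset hd) hz hz1 hc hwD hcw
  have hd₀A := h.mem_A_of_cent hd₀ hd₀C
  refine ⟨d₀, hd₀A, (mem_Dset.1 hd₀).1, k, hk, ?_⟩
  have e1 : d₀⁻¹ * w = (c⁻¹ * d₀)⁻¹ * (c⁻¹ * w) := by group
  rw [e1]
  exact mul_mem (inv_mem (h.frame.V_le_O hz hz1 hcd)) hcw

open Classical in
/-- The pairs `(x, y)` in `C(z)` with `z ∈ ⟨x y⟩`. -/
noncomputable def _root_.Cfsg.Agent.TwoFusion.GoldLFour.PP (E F : Finset G) (z : G) : Finset (G × G) :=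
  ((cent E z) ×ˢ (cent F z)).filter (fun p => z ∈ zpowers (p.1 * p.2))

omit h [Finite G] in
theorem _root_.Cfsg.Agent.TwoFusion.GoldLFour.mem_PP {E F : Finset G} {z : G} {p : G × G} :
    p ∈ PP E F z ↔ (p.1 ∈ cent E z ∧ p.2 ∈ cent F z) ∧ z ∈ zpowers (p.1 * p.2) := by
  classical
  unfold PP
  rw [Finset.mem_filter, Finset.mem_product]

omit h [Finite G] in
theorem _root_.Cfsg.Agent.TwoFusion.GoldLFour.card_PP_conj {E F : Finset G} (hE : Inv E) (hF : Inv F) (z g : G) :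
    (PP E F (g * z * g⁻¹)).card = (PP E F z).card := by
  symm
  refine Finset.card_bij (fun p _ => (g * p.1 * g⁻¹, g * p.2 * g⁻¹)) ?_ ?_ ?_
  · intro p hp
    rw [mem_PP, mem_cent, mem_cent] at hp ⊢
    obtain ⟨⟨⟨h1, h2⟩, h3, h4⟩, h5⟩ := hp
    refine ⟨⟨⟨hE _ h1 g, comm_conj g h2⟩, hF _ h3 g, comm_conj g h4⟩, ?_⟩
    change g * z * g⁻¹ ∈ zpowers (g * p.1 * g⁻¹ * (g * p.2 * g⁻¹))
    have e : g * p.1 * g⁻¹ * (g * p.2 * g⁻¹) = g * (p.1 * p.2) * g⁻¹ := by group
    rw [e]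
    obtain ⟨k, hk⟩ := mem_zpowers_iff.1 h5
    exact mem_zpowers_iff.2 ⟨k, by rw [conj_zpow, hk]⟩
  · intro p _ q _ hpq
    exact Prod.ext (mul_left_cancel (mul_right_cancel (congrArg Prod.fst hpq)))
      (mul_left_cancel (mul_right_cancel (congrArg Prod.snd hpq)))
  · intro p hp
    rw [mem_PP, mem_cent, mem_cent] at hp
    obtain ⟨⟨⟨h1, h2⟩, h3, h4⟩, h5⟩ := hp
    refine ⟨(g⁻¹ * p.1 * g, g⁻¹ * p.2 * g), ?_, ?_⟩
    · rw [mem_PP, mem_cent, mem_cent]
      have e0 : g⁻¹ * (g * z * g⁻¹) * g⁻¹⁻¹ = z := by group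
      have h2' := comm_conj g⁻¹ h2
      have h4' := comm_conj g⁻¹ h4
      rw [e0] at h2' h4'
      simp only [inv_inv] at h2' h4'
      refine ⟨⟨⟨by simpa using hE _ h1 g⁻¹, h2'⟩, by simpa using hF _ h3 g⁻¹, h4'⟩, ?_⟩
      change z ∈ zpowers (g⁻¹ * p.1 * g * (g⁻¹ * p.2 * g))
      have e : g⁻¹ * p.1 * g * (g⁻¹ * p.2 * g) = g⁻¹ * (p.1 * p.2) * g⁻¹⁻¹ := by group
      rw [e]
      obtain ⟨k, hk⟩ := mem_zpowers_iff.1 h5
      exact mem_zpowers_iff.2 ⟨k, by rw [conj_zpow, hk]; group⟩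
    · ext <;> simp only [mul_assoc, _root_.mul_assoc, _root_.mul_inv_cancel_left, _root_.mul_inv_cancel, _root_.mul_one]

/-- The commutator map `R₂ → A`, `s ↦ [s, e]` is onto: `e` is conjugate to `e a` for `a ∈ A`. -/
theorem exists_conj_mul {e a : G} (he : e ∈ R₁) (he' : e ∉ R₂) (ha : a ∈ R₁ ⊓ R₂) : ∃ g : G, g * e * g⁻¹ = e * a := by
  have heS := h.ab.A_le he
  have hmem : ∀ s ∈ R₂, s * e * s⁻¹ * e⁻¹ ∈ R₁ ⊓ R₂ := fun s hs => h.ab.comm_mem (h.ab.B_le hs) heS
  let f : R₂ →* (R₁ ⊓ R₂ : Subgroup G) :=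
    { toFun := fun s => ⟨s * e * s⁻¹ * e⁻¹, hmem s s.2⟩
      map_one' := by
        apply Subtype.ext
        show (1 : G) * e * (1 : G)⁻¹ * e⁻¹ = 1
        group
      map_mul' := by
        intro s t
        apply Subtype.ext
        show (s * t : G) * e * (s * t : G)⁻¹ * e⁻¹ = (s * e * (s : G)⁻¹ * e⁻¹) * (t * e * (t : G)⁻¹ * e⁻¹)
        have h1 := h.ab.comm_Z (hmem t t.2) (h.ab.B_le s.2)
        have h2 := h.comm (hmem s s.2) (hmem t t.2)
        calc (s * t : G) * e * (s * t : G)⁻¹ * e⁻¹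
            = s * (t * e * (t : G)⁻¹ * e⁻¹) * e * (s : G)⁻¹ * e⁻¹ := by group
          _ = (t * e * (t : G)⁻¹ * e⁻¹) * (s * e * (s : G)⁻¹ * e⁻¹) := by rw [← h1]; group
          _ = _ := h2.symm }
  have hker : f.ker = (R₁ ⊓ R₂).subgroupOf R₂ := by
    ext s
    rw [MonoidHom.mem_ker, mem_subgroupOf]
    constructor
    · intro hs
      have h1 : (s : G) * e * (s : G)⁻¹ * e⁻¹ = 1 := congrArg Subtype.val hs
      have h2 : e * s = s * e := by
        calc e * s = ((s : G) * e * (s : G)⁻¹ * e⁻¹)⁻¹ * (s * e) := by group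
          _ = s * e := by rw [h1]; group
      exact mem_inf.2 ⟨h.ab.centA e he he' _ (h.ab.B_le s.2) h2, s.2⟩
    · intro hs
      apply Subtype.ext
      show (s : G) * e * (s : G)⁻¹ * e⁻¹ = 1
      rw [h.ab.comm_Z hs heS]; group
  have hcard : Nat.card f.range * Nat.card f.ker = Nat.card R₂ := by
    have := Subgroup.card_eq_card_quotient_mul_card_subgroup f.ker
    rw [this, Nat.card_congr (QuotientGroup.quotientKerEquivRange f).toEquiv]
  have hk4 : Nat.card f.ker = 4 := by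
    rw [hker, Nat.card_congr (Subgroup.subgroupOfEquivOfLe inf_le_right).toEquiv, h.card]
  rw [hk4, h.card₂] at hcard
  have hr : Nat.card f.range = 4 := by omega
  have hsurj : f.range = ⊤ := Subgroup.eq_top_of_card_eq _ (by rw [hr, h.card])
  obtain ⟨s, hs⟩ := MonoidHom.range_eq_top.1 hsurj ⟨a, ha⟩
  have h1 : (s : G) * e * (s : G)⁻¹ * e⁻¹ = a := congrArg Subtype.val hs
  refine ⟨s, ?_⟩
  rw [← h.ab.comm_Z ha heS, ← h1]; group

/-- The constants of the second count. -/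
theorem count {e : G} (he : e ∈ R₁) (he' : e ∉ R₂) :
    (cent (Dset (R₁ ⊓ R₂)) e).card * (cent (Dset (R₁ ⊓ R₂)) e).card < 3 * (Dset (R₁ ⊓ R₂)).card := by
  have hD := inv_Dset (R₁ ⊓ R₂)
  have hcent : ∀ x ∈ cls e, (cent (Dset (R₁ ⊓ R₂)) x).card = (cent (Dset (R₁ ⊓ R₂)) e).card := by
    intro x hx
    obtain ⟨g, rfl⟩ := mem_cls.1 hx
    exact card_cent_conj hD e g
  obtain ⟨z, hz, hz1⟩ := h.exists_A
  refine count_odd (e := e) _ (cls e) hcent (fun d hd => h.sq_Dset hd) (h.isGood he he').sq (mem_cls.2 ⟨1, by group⟩) ?_ ?_ ?_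
  · -- `e a ∈ E`
    intro a ha hae
    have haa := h.sq_Dset ha
    obtain ⟨g, hga, hge⟩ := conj_pair S haa (h.ab.A_sq e he) hae
    have h1 : g * e * g⁻¹ ∈ R₁ := h.mem_R₁ he hge
    have h1' : g * e * g⁻¹ ∉ R₂ := by
      intro h2
      have h3 := h.symm.mem_R₁ (g := g⁻¹) h2 (by
        have e3 : g⁻¹ * (g * e * g⁻¹) * g⁻¹⁻¹ = e := by group
        rw [e3]; exact h.ab.A_le he)
      have e3 : g⁻¹ * (g * e * g⁻¹) * g⁻¹⁻¹ = e := by group
      rw [e3] at h3
      exact he' h3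
    have h2 : g * a * g⁻¹ ∈ R₁ ⊓ R₂ := h.mem_A_of_Dset (hD a ha g) hga
    obtain ⟨k, hk⟩ := h.exists_conj_mul h1 h1' h2
    rw [mem_cls]
    refine ⟨g⁻¹ * k * g, ?_⟩
    calc g⁻¹ * k * g * e * (g⁻¹ * k * g)⁻¹ = g⁻¹ * (k * (g * e * g⁻¹) * k⁻¹) * g := by group
      _ = e * a := by rw [hk]; group
  · rw [Finset.card_pos]
    exact ⟨z, _root_.Cfsg.Agent.TwoFusion.GoldLFour.mem_cent.2 ⟨mem_Dset_of_mem hz hz1, h.ab.comm_Z hz (h.ab.A_le he)⟩⟩
  · intro x hx a ha hax
    obtain ⟨b, hb⟩ := mem_cls.1 hx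
    have haa := h.sq_Dset ha
    obtain ⟨g, hga, hgx⟩ := conj_pair S haa ((h.isGood he he').sq x hx) hax
    have e1 : g * x * g⁻¹ = (g * b) * e * (g * b)⁻¹ := by rw [← hb]; group
    have h1 : g * x * g⁻¹ ∉ R₁ ⊓ R₂ := by
      intro h2
      have h3 := (h.symm.mem_R₁ (g := (g * b)⁻¹) (mem_inf.1 h2).2 (by
        rw [e1]
        have e3 : (g * b)⁻¹ * (g * b * e * (g * b)⁻¹) * (g * b)⁻¹⁻¹ = e := by group
        rw [e3]; exact h.ab.A_le he))
      rw [e1] at h3
      have e3 : (g * b)⁻¹ * (g * b * e * (g * b)⁻¹) * (g * b)⁻¹⁻¹ = e := by group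
      rw [e3] at h3
      exact he' h3
    have h2 : g * a * g⁻¹ ∈ R₁ ⊓ R₂ := h.mem_A_of_Dset (hD a ha g) hga
    have h3 := h.odd _ hgx (by
      calc g * x * g⁻¹ * (g * x * g⁻¹) = g * (x * x) * g⁻¹ := by group
        _ = 1 := by rw [(h.isGood he he').sq x hx]; group) h1 _ h2 (conj_ne_one (mem_Dset.1 ha).1)
    rw [card_oddSet_conj hD, card_cent_conj hD, hcent x hx] at h3
    exact h3

/-- **No Sylow 2-subgroup of type `PSL(3,4)`.** -/
theorem false : False := by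
  obtain ⟨e, he, he'⟩ := h.ab.neA
  obtain ⟨f, hf, hf'⟩ := h.ab.neB
  have hD := inv_Dset (R₁ ⊓ R₂)
  have hsymm := h.symm
  have hI : (R₂ ⊓ R₁ : Subgroup G) = R₁ ⊓ R₂ := inf_comm _ _
  have hgE := h.isGood he he'
  have hgF : IsGood (R₁ ⊓ R₂) (centralizer ((R₁ ⊓ R₂ : Subgroup G) : Set G)) (cls f) := by
    have := hsymm.isGood hf hf'
    rwa [hI] at this
  have c1 := h.count he he'
  have c2 := hsymm.count hf hf'
  rw [hI] at c2
  obtain ⟨z, hz, hz1⟩ := h.exists_A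
  have hzD := mem_Dset_of_mem hz hz1
  refine contra (d := (Dset (R₁ ⊓ R₂)).card) ?_ c1 c2
  refine count_three (Dset (R₁ ⊓ R₂)) (cls e) (cls f) (ke := (cent (cls e) z).card) (kf := (cent (cls f) z).card)
    ⟨e, mem_cls.2 ⟨1, by group⟩⟩ ⟨f, mem_cls.2 ⟨1, by group⟩⟩ ?_ ?_ ?_ ?_ (PP (cls e) (cls f)) ?_ ?_ ?_ ?_
  · intro x hx
    obtain ⟨g, rfl⟩ := mem_cls.1 hx
    exact card_cent_conj hD e g
  · intro x hx
    obtain ⟨g, rfl⟩ := mem_cls.1 hx
    exact card_cent_conj hD f g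
  · intro d hd
    obtain ⟨g, rfl⟩ := h.Dset_conj hzD hd
    exact card_cent_conj (inv_cls e) z g
  · intro d hd
    obtain ⟨g, rfl⟩ := h.Dset_conj hzD hd
    exact card_cent_conj (inv_cls f) z g
  · intro d hd
    obtain ⟨g, rfl⟩ := h.Dset_conj hzD hd
    rw [card_PP_conj (inv_cls e) (inv_cls f), ← h.frame.equi h.card hgE hgF
      (fun a ha ha1 b hb hb1 => h.trans ha ha1 hb hb1) hz hz1 ?_]
    · congr 2
      ext p
      rw [mem_PP, mem_pairs]
      refine and_congr_right fun hp => ?_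
      obtain ⟨hp1, hp2⟩ := hp
      have hp1' := _root_.Cfsg.Agent.TwoFusion.GoldLFour.mem_cent.1 hp1
      have hp2' := _root_.Cfsg.Agent.TwoFusion.GoldLFour.mem_cent.1 hp2
      constructor
      · intro hzp
        have := (isOfFinOrder_of_finite (p.1 * p.2)).mem_powers_iff_mem_zpowers.2 hzp
        obtain ⟨k, hk⟩ := this
        refine ⟨k, ?_⟩
        change (p.1 * p.2) ^ k = z at hk
        rw [hk, inv_mul_cancel]
        exact one_mem _
      · rintro ⟨k, hk⟩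
        obtain ⟨w, hwD, hw, hwz, a, ha, ha1, l, hl, haw⟩ := h.hex he he' hf hf' hz hz1 hp1'.1 hp1'.2 hp2'.1 hp2'.2
        have h1 : a = z := by
          refine h.frame.class_unique hz hz1 (g := p.1 * p.2) (k := l) (l := k) ha ha1 hz hz1 ?_ hk
          rw [hl]; exact haw
        rw [h1] at haw
        have h2 : (z⁻¹ * w) * (z⁻¹ * w) = 1 := by
          have hww := h.sq_Dset hwD
          have hzz := h.sq hz
          have hzi : z⁻¹ = z := inv_eq_of_mul_eq_one_left hzz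
          rw [hzi]
          calc z * w * (z * w) = z * (w * z) * w := by group
            _ = (z * z) * (w * w) := by rw [hwz]; group
            _ = 1 := by rw [hzz, hww, one_mul]
        have h3 := eq_one_of_odd (h.frame.Oodd z hz hz1) haw h2
        rw [inv_mul_eq_one.1 h3]
        exact hw
    · intro x hx hxz y hy hyz
      obtain ⟨w, hwD, hw, hwz, a, ha, ha1, l, hl, haw⟩ := h.hex he he' hf hf' hz hz1 hx hxz hy hyz
      exact ⟨a, ha, ha1, l, by rw [hl]; exact haw⟩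
  · intro x hx y hy
    obtain ⟨a, ha⟩ := mem_cls.1 hx
    obtain ⟨b, hb⟩ := mem_cls.1 hy
    obtain ⟨w, hwD, hw, hwx, hwy⟩ := h.exists_z he he' hf hf' ha hb
    exact ⟨w, hwD, mem_PP.2 ⟨⟨_root_.Cfsg.Agent.TwoFusion.GoldLFour.mem_cent.2 ⟨hx, hwx.symm⟩,
      _root_.Cfsg.Agent.TwoFusion.GoldLFour.mem_cent.2 ⟨hy, hwy.symm⟩⟩, hw⟩⟩
  · intro d _ p hp
    obtain ⟨⟨h1, h2⟩, _⟩ := mem_PP.1 hp
    exact ⟨(_root_.Cfsg.Agent.TwoFusion.GoldLFour.mem_cent.1 h1).1, (_root_.Cfsg.Agent.TwoFusion.GoldLFour.mem_cent.1 h2).1⟩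
  · intro d hd d' hd' p hp hp'
    exact h.z_unique hd hd' (mem_PP.1 hp).2 (mem_PP.1 hp').2

end LF

end Cfsg.Agent.TwoFusion.GoldLFour
end

-- part: TwoFusion/GoldFourCount
section
/-!
# Counting involutions in groups with a Klein four Sylow 2-subgroup

`odd_count`: if `K/O(K)` is simple nonabelian and the Sylow 2-subgroups of `K` are four-groups, then for an
involution `a` more than a third of the involutions `d` have `|ad|` odd.  (Brauer's formula for the principal block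
gives `i > 3k²`, where `i` is the number of involutions and `2k` the number of involutions `≠ a` of `C(a)`; the
number of `d` with `|ad|` even is at most `2k²`.)
-/

set_option autoImplicit false
set_option linter.unusedSectionVars false

namespace Cfsg.Agent.TwoFusion.GoldFourCount

open DihedralGroup Cfsg Cfsg.Agent.Classification.BGDefs Cfsg.Agent.Classification.BGBasic
  Cfsg.Agent.Classification.BGOrder Cfsg.Agent.Classification.BGOvergroup Cfsg.Agent.Characters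
  Cfsg.Agent.Classification

/-! ### Arithmetic -/

theorem normal_form {f g h : ℤ} (hf : (4 : ℤ) ∣ f - 1) (hg : (4 : ℤ) ∣ g - 1)
    (hh : (4 : ℤ) ∣ h - 1) (hs : 1 + f + g + h = 0) (hf1 : f ≠ 1) (hg1 : g ≠ 1) (hh1 : h ≠ 1) :
    (∃ x y : ℤ, 5 ≤ x ∧ 5 ≤ y ∧ f * g * h = -(x * y * (x + y + 1)) ∧
      (f + 1) * (g + 1) * (h + 1) = -((x + 1) * (y + 1) * (x + y))) ∨
    (∃ u v : ℤ, 3 ≤ u ∧ 3 ≤ v ∧ f * g * h = u * v * (u + v - 1) ∧
      (f + 1) * (g + 1) * (h + 1) = (u - 1) * (v - 1) * (u + v)) := by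
  have hh' : h = -1 - f - g := by linarith
  have hg' : g = -1 - f - h := by linarith
  have hf' : f = -1 - g - h := by linarith
  rcases lt_trichotomy f 0 with h1 | h1 | h1
  · rcases lt_trichotomy g 0 with h2 | h2 | h2
    · right
      refine ⟨-f, -g, by omega, by omega, ?_, ?_⟩ <;> subst hh' <;> ring
    · omega
    · rcases lt_trichotomy h 0 with h3 | h3 | h3
      · right
        refine ⟨-f, -h, by omega, by omega, ?_, ?_⟩ <;> subst hg' <;> ring
      · omega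
      · left
        refine ⟨g, h, by omega, by omega, ?_, ?_⟩ <;> subst hf' <;> ring
  · omega
  · rcases lt_trichotomy g 0 with h2 | h2 | h2
    · rcases lt_trichotomy h 0 with h3 | h3 | h3
      · right
        refine ⟨-g, -h, by omega, by omega, ?_, ?_⟩ <;> subst hf' <;> ring
      · omega
      · left
        refine ⟨f, h, by (clear * - hg hh hs hf1 h1; omega), by omega, ?_, ?_⟩ <;> subst hg' <;> ring
    · omega
    · left
      refine ⟨f, g, by (clear * - hg hh hs hf1 h1; omega), by omega, ?_, ?_⟩ <;> subst hh' <;> ring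

theorem arith {a K f g h : ℤ} (hK : 0 < K) (hf : (4 : ℤ) ∣ f - 1) (hg : (4 : ℤ) ∣ g - 1)
    (hh : (4 : ℤ) ∣ h - 1) (hs : 1 + f + g + h = 0) (hf1 : f ≠ 1) (hg1 : g ≠ 1) (hh1 : h ≠ 1)
    (h1 : a * ((f + 1) * (g + 1) * (h + 1)) = (8 * K) * (f * g * h)) : 3 * K < a := by
  obtain ⟨P, Q, hQ, hPQ, e⟩ : ∃ P Q : ℤ, 0 < Q ∧ 3 * Q < 8 * P ∧ a * Q = (8 * K) * P := by
    rcases normal_form hf hg hh hs hf1 hg1 hh1 with ⟨x, y, hx, hy, e1, e2⟩ | ⟨u, v, hu, hv, e1, e2⟩
    · have hp : 0 < x * y * (x + y + 1) := mul_pos (mul_pos (by omega) (by omega)) (by omega)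
      have hl := BGFourArith.one_neg_lower_five hx hy
      refine ⟨x * y * (x + y + 1), (x + 1) * (y + 1) * (x + y),
        mul_pos (mul_pos (by omega) (by omega)) (by omega), by linarith, ?_⟩
      rw [e1, e2] at h1; linarith only [h1]
    · have hp : 0 < u * v * (u + v - 1) := mul_pos (mul_pos (by omega) (by omega)) (by omega)
      have hl := BGFourArith.two_neg_lower hu hv
      refine ⟨u * v * (u + v - 1), (u - 1) * (v - 1) * (u + v),
        mul_pos (mul_pos (by omega) (by omega)) (by omega), by linarith, ?_⟩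
      rw [e1, e2] at h1; exact h1
  by_contra hcon
  push Not at hcon
  have h2 : a * Q ≤ 3 * K * Q := mul_le_mul_of_nonneg_right hcon hQ.le
  have h3 : K * (3 * Q) < K * (8 * P) := mul_lt_mul_of_pos_left hPQ hK
  linarith

/-! ### The order formula -/

open BGFour in
/-- **Order formula for a Klein four Sylow 2-subgroup.** -/
theorem four_formula' {G : Type*} [Group G] [Finite G] {t : G}
    {π : (Subgroup.centralizer ({t} : Set G)) →* DihedralGroup 2} (h : BGHyp t 2 π)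
    (P : Sylow 2 G) (hP : IsKleinFour (P : Subgroup G))
    (hlin : ∀ M : Ideal AlgInt, IsPModular 2 M → ∀ ζ : IrrCharacter G, ζ ∈ principalBlock M G →
      charDegree (ζ : G → ℂ) = 1 → (ζ : G → ℂ) = fun _ => 1) :
    ∃ f₁ f₂ f₃ : ℤ, (4 : ℤ) ∣ f₁ - 1 ∧ (4 : ℤ) ∣ f₂ - 1 ∧ (4 : ℤ) ∣ f₃ - 1 ∧
      1 + f₁ + f₂ + f₃ = 0 ∧ f₁ ≠ 1 ∧ f₂ ≠ 1 ∧ f₃ ≠ 1 ∧
      ((Subgroup.centralizer ({t} : Set G)).index : ℤ) * ((f₁ + 1) * (f₂ + 1) * (f₃ + 1)) =
        (8 * (kcount (two_dvd h) π 0 : ℤ) * (kcount (two_dvd h) π 1 : ℤ)) * (f₁ * f₂ * f₃) := by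
  classical
  let _ : Fintype G := Fintype.ofFinite G
  have : Fact (Nat.Prime 2) := ⟨Nat.prime_two⟩
  obtain ⟨M, hM⟩ := Blocks.ExistsModular.exists_isPModular Nat.prime_two
  have hone : ∀ s u : G, orderOf s = 2 → orderOf u = 2 → IsConj s u := fun s u hs hu =>
    (h.one_class s hs).symm.trans (h.one_class u hu)
  obtain ⟨ζ₂, ζ₃, ζ₄, ε, hε, hne2, hne3, -, -, -, hB, hval, hd2, hd3, hd4, hreg⟩ :=
    S0948.result M hM P hP hone
  have hεε : (ε : ℂ) * ε = 1 := by rcases hε with rfl | rfl <;> norm_num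
  have hεε' : ε * ε = 1 := by rcases hε with rfl | rfl <;> norm_num
  have hB2 : ζ₂ ∈ Cfsg.principalBlock M G := by rw [hB]; exact Or.inr (Or.inl rfl)
  have hB3 : ζ₃ ∈ Cfsg.principalBlock M G := by rw [hB]; exact Or.inr (Or.inr (Or.inl rfl))
  have hB4 : ζ₄ ∈ Cfsg.principalBlock M G := by rw [hB]; exact Or.inr (Or.inr (Or.inr rfl))
  have htval := hval t h.orderOf_t
  -- the induced function
  have hind : indFun (Subgroup.centralizer ({t} : Set G)) (fun x => bmu (π x)) =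
      fun g => 1 + (ζ₂ : G → ℂ) g + (ε : ℂ) * (ζ₃ : G → ℂ) g - (ζ₄ : G → ℂ) g := by
    refine indFun_eq h.orderOf_t h.one_class _ ?_ (BGIsometry.supp_bmu h) _ ?_ hreg ?_
    · exact BGIsometry.isClassFunction_comp π
        (BGIsometry.isClassFunction_of_generalized (BGIsometry.isGeneralized_bmu (two_dvd h)))
    · intro g y
      have e2 := Core.isIrr_isClassFunction ζ₂.2 g y
      have e3 := Core.isIrr_isClassFunction ζ₃.2 g y
      have e4 := Core.isIrr_isClassFunction ζ₄.2 g y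
      simp only [e2, e3, e4]
    · intro x hx
      obtain ⟨j, hj, hxj⟩ := rot_of_mem_zpowers h hx
      have hj1 : j = 1 := eq_one_of_ne_zero j hj
      subst hj1
      obtain ⟨u, hu, hxu⟩ := exists_mul h hxj
      have hcore := mem_core h hu
      have hpow : ∃ k : ℕ, orderOf t = 2 ^ k := ⟨1, by rw [h.orderOf_t, pow_one]⟩
      have e2 := S0942.result 2 M hM t hpow u hcore ζ₂ hB2
      have e3 := S0942.result 2 M hM t hpow u hcore ζ₃ hB3
      have e4 := S0942.result 2 M hM t hpow u hcore ζ₄ hB4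
      rw [hxj, hxu, e2, e3, e4, htval.1, htval.2.1, htval.2.2, bmu_r]
      have e5 : e 2 (((2 / 2 : ℕ) : ZMod 2) * 1) = -1 := by
        rw [mul_one]; exact e_half (by norm_num)
      rw [e5]
      linear_combination hεε
  have key := pair_formula h bmu bmu_one bmu_sr (fun p => if p = 0 then 0 else 2 * ((2 : ℕ) : ℂ))
    (sum_bmu_parity (two_dvd h)) (Finset.univ : Finset (Fin 4)) ![1, 1, (ε : ℂ), -1]
    ![1, (ζ₂ : G → ℂ), (ζ₃ : G → ℂ), (ζ₄ : G → ℂ)]
    (by
      intro j _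
      fin_cases j
      · exact signedIrr_one
      · exact Or.inl ζ₂.2
      · exact Or.inl ζ₃.2
      · exact Or.inl ζ₄.2)
    (by
      rw [hind]
      funext g
      simp only [Fin.sum_univ_four, _root_.Matrix.cons_val', _root_.Pi.one_apply, _root_.Matrix.cons_val_fin_one, _root_.Fin.sum_univ_four, _root_.Fin.isValue, _root_.Matrix.cons_val_zero, _root_.mul_one, _root_.Matrix.cons_val_one, _root_.one_mul, _root_.Matrix.cons_val, _root_.neg_mul]
      ring)
  have hζ2 := Blocks.Basic.irr_one_eq_charDegree ζ₂.2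
  have hζ3 := Blocks.Basic.irr_one_eq_charDegree ζ₃.2
  have hζ4 := Blocks.Basic.irr_one_eq_charDegree ζ₄.2
  have hn2 : (Cfsg.charDegree (ζ₂ : G → ℂ) : ℂ) ≠ 0 := by
    rw [← hζ2]; exact Core.isIrr_apply_one_ne_zero ζ₂.2
  have hn3 : (Cfsg.charDegree (ζ₃ : G → ℂ) : ℂ) ≠ 0 := by
    rw [← hζ3]; exact Core.isIrr_apply_one_ne_zero ζ₃.2
  have hn4 : (Cfsg.charDegree (ζ₄ : G → ℂ) : ℂ) ≠ 0 := by
    rw [← hζ4]; exact Core.isIrr_apply_one_ne_zero ζ₄.2
  have hsum := hreg 1 (by rw [orderOf_one]; exact odd_one)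
  rw [hζ2, hζ3, hζ4] at hsum
  simp only [Fin.sum_univ_four, Matrix.cons_val_zero, Matrix.cons_val_one, Matrix.cons_val,
    Pi.one_apply, hζ2, hζ3, hζ4, htval.1, htval.2.1, htval.2.2] at key
  set a := Cfsg.charDegree (ζ₂ : G → ℂ) with ha
  set b := Cfsg.charDegree (ζ₃ : G → ℂ) with hb
  set c := Cfsg.charDegree (ζ₄ : G → ℂ) with hc
  refine ⟨a, ε * b, -c, hd2, ?_, ?_, ?_, ?_, ?_, ?_, ?_⟩
  · obtain ⟨k, hk⟩ := hd3
    exact ⟨ε * k, by linear_combination ε * hk + hεε'⟩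
  · obtain ⟨k, hk⟩ := hd4
    exact ⟨-k, by linear_combination -hk⟩
  · have : (1 : ℂ) + a + ε * b - c = 0 := hsum
    have h2 : (1 : ℤ) + a + ε * b + -(c : ℤ) = 0 := by
      have h3 : ((1 + a + ε * b + -(c : ℤ) : ℤ) : ℂ) = 0 := by
        push_cast; linear_combination this
      exact_mod_cast h3
    exact h2
  · intro h1
    exact hne2 (hlin M hM ζ₂ hB2 (by exact_mod_cast h1))
  · intro h1
    rcases hε with rfl | rfl
    · exact hne3 (hlin M hM ζ₃ hB3 (by rw [one_mul] at h1; exact_mod_cast h1))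
    · have h2 : (0 : ℤ) ≤ (b : ℤ) := Int.natCast_nonneg _
      omega
  · intro h1
    have h2 : (0 : ℤ) ≤ (c : ℤ) := Int.natCast_nonneg _
    omega
  · have h5 : ((Subgroup.centralizer ({t} : Set G)).index : ℂ) *
        (((a : ℂ) + 1) * (ε * b + 1) * (-(c : ℂ) + 1)) =
        (8 * (kcount (two_dvd h) π 0 : ℂ) * (kcount (two_dvd h) π 1 : ℂ)) *
          ((a : ℂ) * (ε * b) * (-(c : ℂ))) := by
      have hB0 : (ε : ℂ) * (b : ℂ) ≠ 0 :=
        mul_ne_zero (by rintro h0; rw [h0, zero_mul] at hεε; exact zero_ne_one hεε) hn3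
      have e1 : (ε : ℂ) * ((ε : ℂ) ^ 2 / (b : ℂ)) = 1 / ((ε : ℂ) * b) := by
        have e2 : (ε : ℂ) ^ 2 = 1 := by rw [sq]; exact hεε
        rw [e2, mul_one_div, div_eq_div_iff hn3 hB0]
        linear_combination (b : ℂ) * hεε
      rw [e1] at key
      have e3 : (c : ℂ) = 1 + a + ε * b := by linear_combination -hsum
      generalize (ε : ℂ) * (b : ℂ) = B at hB0 key e3 ⊢
      rw [if_pos trivial, if_neg one_ne_zero_two] at key
      have e4 : ((Subgroup.centralizer ({t} : Set G)).index : ℂ) *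
          (1 + 1 / (a : ℂ) + 1 / B - 1 / (c : ℂ)) =
          8 * (kcount (two_dvd h) π 0 : ℂ) * (kcount (two_dvd h) π 1 : ℂ) := by
        push_cast at key
        linear_combination key / 2
      rw [← e4]
      field_simp
      rw [e3]
      ring
    exact_mod_cast h5


/-- The characters of degree one in the principal block of a group `K` with `K/O(K)` simple nonabelian. -/
theorem eq_one_of_degree_one {K : Type*} [Group K] [Finite K] (hK : IsSimpleGroup (K ⧸ Cfsg.oddCore K))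
    (hna : ∃ x y : K ⧸ Cfsg.oddCore K, x * y ≠ y * x) (M : Ideal AlgInt) (hM : IsPModular 2 M)
    (ζ : IrrCharacter K) (hζ : ζ ∈ principalBlock M K) (h1 : charDegree (ζ : K → ℂ) = 1) :
    (ζ : K → ℂ) = fun _ => 1 := by
  have : Fact (Nat.Prime 2) := ⟨Nat.prime_two⟩
  obtain ⟨f, hf⟩ := Cfsg.Agent.Characters.Linear.exists_hom_of_isIrrCharacter ζ.2
    (by rw [Blocks.Basic.irr_one_eq_charDegree ζ.2, h1, Nat.cast_one])
  -- `O(K)` lies in the kernel
  have hker : Cfsg.oddCore K ≤ f.ker := by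
    intro u hu
    have hcore : u ∈ Cfsg.centralizerPPrimeCore 2 (1 : K) := by
      have h2 : (Cfsg.oddCore K) ≤ (Cfsg.pPrimeCore 2 ↥(Subgroup.centralizer ({1} : Set K))).map
          (Subgroup.centralizer ({1} : Set K)).subtype := by
        apply Cfsg.Agent.Lib.LocalCore.le_map_pPrimeCore
        · intro x _
          rw [Subgroup.mem_centralizer_singleton_iff]
          simp
        · exact Cfsg.Agent.Lib.Cores.pPrimeCore_coprime 2
        · intro x _
          have : (Cfsg.oddCore K).Normal := Cfsg.Agent.Lib.Cores.pPrimeCore_normal 2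
          rw [Subgroup.normalizer_eq_top_iff.2 this]
          exact Subgroup.mem_top x
      exact h2 hu
    have h3 := S0942.result 2 M hM (1 : K) ⟨0, by simp⟩ u hcore ζ hζ
    rw [one_mul, hf] at h3
    have h3' : ((f u : ℂˣ) : ℂ) = ((f 1 : ℂˣ) : ℂ) := h3
    rw [map_one] at h3'
    rw [MonoidHom.mem_ker]
    exact Units.ext h3'
  have hOn : (Cfsg.oddCore K).Normal := Cfsg.Agent.Lib.Cores.pPrimeCore_normal 2
  have hn : (f.ker.map (QuotientGroup.mk' (Cfsg.oddCore K))).Normal :=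
    Subgroup.Normal.map inferInstance _ (QuotientGroup.mk'_surjective _)
  have htop : f.ker = ⊤ := by
    rcases hK.eq_bot_or_eq_top_of_normal _ hn with hb | ht
    · exfalso
      obtain ⟨x, y, hxy⟩ := hna
      obtain ⟨x, rfl⟩ := QuotientGroup.mk'_surjective _ x
      obtain ⟨y, rfl⟩ := QuotientGroup.mk'_surjective _ y
      apply hxy
      rw [Subgroup.map_eq_bot_iff, QuotientGroup.ker_mk'] at hb
      have h4 : x * y * x⁻¹ * y⁻¹ ∈ f.ker := by
        rw [MonoidHom.mem_ker, map_mul, map_mul, map_mul, map_inv, map_inv, mul_comm (f x) (f y)]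
        group
      have h5 := hb h4
      have h6 : (QuotientGroup.mk' (Cfsg.oddCore K)) (x * y * x⁻¹ * y⁻¹) = 1 := by
        rw [← MonoidHom.mem_ker, QuotientGroup.ker_mk']; exact h5
      rw [map_mul, map_mul, map_mul, map_inv, map_inv, mul_inv_eq_one, mul_inv_eq_iff_eq_mul] at h6
      exact h6
    · rw [eq_top_iff]
      intro x _
      have h7 : (QuotientGroup.mk' (Cfsg.oddCore K)) x ∈ f.ker.map (QuotientGroup.mk' (Cfsg.oddCore K)) := by
        rw [ht]; exact Subgroup.mem_top _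
      obtain ⟨y, hy, hyx⟩ := h7
      have h8 : y⁻¹ * x ∈ Cfsg.oddCore K := by
        rw [← QuotientGroup.ker_mk' (Cfsg.oddCore K), MonoidHom.mem_ker, map_mul, map_inv, hyx]
        group
      have h9 := mul_mem hy (hker h8)
      rwa [mul_inv_cancel_left] at h9
  funext g
  rw [hf]
  have : g ∈ f.ker := by rw [htop]; exact Subgroup.mem_top g
  change ((f g : ℂˣ) : ℂ) = 1
  rw [MonoidHom.mem_ker.1 this]
  simp

/-- A group `K` with `K/O(K)` simple nonabelian has no subgroup of index two. -/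
theorem index_ne_two {K : Type*} [Group K] [Finite K] (hK : IsSimpleGroup (K ⧸ Cfsg.oddCore K))
    (hna : ∃ x y : K ⧸ Cfsg.oddCore K, x * y ≠ y * x) (H : Subgroup K) : H.index ≠ 2 := by
  intro h2
  have hHn : H.Normal := Subgroup.normal_of_index_eq_two h2
  have hO : Cfsg.oddCore K ≤ H := by
    intro u hu
    have h3 : Odd (orderOf u) := by
      have h4 : orderOf u ∣ Nat.card (Cfsg.oddCore K) := by
        have := orderOf_dvd_natCard (⟨u, hu⟩ : Cfsg.oddCore K)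
        rwa [Subgroup.orderOf_mk] at this
      exact Odd.of_dvd_nat (Nat.coprime_two_right.1 (Cfsg.Agent.Lib.Cores.pPrimeCore_coprime 2)) h4
    by_contra hcon
    obtain ⟨k, hk⟩ := h3
    have h5 : u ^ orderOf u = 1 := pow_orderOf_eq_one u
    rw [hk, pow_succ, pow_mul] at h5
    have h6 : (u ^ 2) ^ k ∈ H := H.pow_mem (H.sq_mem_of_index_two h2 u) k
    have h7 : u = ((u ^ 2) ^ k)⁻¹ := eq_inv_of_mul_eq_one_right h5
    exact hcon (by rw [h7]; exact inv_mem h6)
  have hOn : (Cfsg.oddCore K).Normal := Cfsg.Agent.Lib.Cores.pPrimeCore_normal 2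
  have hn : (H.map (QuotientGroup.mk' (Cfsg.oddCore K))).Normal :=
    Subgroup.Normal.map inferInstance _ (QuotientGroup.mk'_surjective _)
  rcases hK.eq_bot_or_eq_top_of_normal _ hn with hb | ht
  · rw [Subgroup.map_eq_bot_iff, QuotientGroup.ker_mk'] at hb
    have e : H = Cfsg.oddCore K := le_antisymm hb hO
    have h3 : Nat.card (K ⧸ Cfsg.oddCore K) = 2 := by rw [← e]; exact h2
    have : Fact (Nat.Prime 2) := ⟨Nat.prime_two⟩
    have hcyc : IsCyclic (K ⧸ Cfsg.oddCore K) := isCyclic_of_prime_card h3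
    obtain ⟨x, y, hxy⟩ := hna
    exact hxy ((IsCyclic.commGroup (α := K ⧸ Cfsg.oddCore K)).mul_comm x y)
  · have h3 : H = ⊤ := by
      rw [eq_top_iff]
      intro x _
      have h7 : (QuotientGroup.mk' (Cfsg.oddCore K)) x ∈ H.map (QuotientGroup.mk' (Cfsg.oddCore K)) := by
        rw [ht]; exact Subgroup.mem_top _
      obtain ⟨y, hy, hyx⟩ := h7
      have h8 : y⁻¹ * x ∈ Cfsg.oddCore K := by
        rw [← QuotientGroup.ker_mk' (Cfsg.oddCore K), MonoidHom.mem_ker, map_mul, map_inv, hyx]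
        group
      have h9 := mul_mem hy (hO h8)
      rwa [mul_inv_cancel_left] at h9
    rw [h3, Subgroup.index_top] at h2
    omega

/-! ### Counting -/

/-- The number of involutions is the index of the centralizer, if there is one class. -/
theorem card_involutions {K : Type*} [Group K] [Finite K] (a : K) (ha : orderOf a = 2)
    (hone : ∀ x : K, orderOf x = 2 → IsConj a x) :
    Nat.card {x : K // orderOf x = 2} = (Subgroup.centralizer ({a} : Set K)).index := by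
  classical
  have hconj : ∀ g : K, orderOf (g * a * g⁻¹) = 2 := fun g => by rw [orderOf_conj, ha]
  rw [Subgroup.index]
  symm
  refine Nat.card_congr (Equiv.ofBijective
    (Quotient.lift (s := QuotientGroup.leftRel (Subgroup.centralizer ({a} : Set K)))
      (fun g : K => (⟨g * a * g⁻¹, hconj g⟩ : {x : K // orderOf x = 2})) ?_) ⟨?_, ?_⟩)
  · intro g g' hg
    have hg' : g⁻¹ * g' ∈ Subgroup.centralizer ({a} : Set K) := QuotientGroup.leftRel_apply.1 hg
    rw [Subgroup.mem_centralizer_singleton_iff] at hg'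
    apply Subtype.ext
    change g * a * g⁻¹ = g' * a * g'⁻¹
    have : g' * a = g * a * (g⁻¹ * g') := by
      calc g' * a = g * ((g⁻¹ * g') * a) := by group
        _ = g * (a * (g⁻¹ * g')) := by rw [hg']
        _ = g * a * (g⁻¹ * g') := by group
    rw [this]; group
  · intro q q'
    refine Quotient.inductionOn₂ q q' fun g g' h => ?_
    have h' : g * a * g⁻¹ = g' * a * g'⁻¹ := congrArg Subtype.val h
    apply Quotient.sound
    refine QuotientGroup.leftRel_apply.2 ?_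
    rw [Subgroup.mem_centralizer_singleton_iff]
    calc g⁻¹ * g' * a = g⁻¹ * (g' * a * g'⁻¹) * g' := by group
      _ = g⁻¹ * (g * a * g⁻¹) * g' := by rw [h']
      _ = a * (g⁻¹ * g') := by group
  · rintro ⟨x, hx⟩
    obtain ⟨g, hg⟩ := isConj_iff.1 (hone x hx)
    exact ⟨Quotient.mk _ g, Subtype.ext hg⟩

theorem zmod_two : ∀ j : ZMod 2, j = 0 ∨ j = 1 := by decide

section Kcount

variable {K : Type*} [Group K] [Finite K] {t : K}
  {π : (Subgroup.centralizer ({t} : Set K)) →* DihedralGroup 2}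

/-- the involutions of `C(t)` mapping to `sr e` -/
def Ae (h : BGHyp t 2 π) (e : ZMod 2) : Set (Subgroup.centralizer ({t} : Set K)) :=
  {x | orderOf x = 2 ∧ ∃ j : ZMod 2, π x = sr j ∧ ZMod.castHom (two_dvd h) (ZMod 2) j = e}

theorem kcount_eq_ncard (h : BGHyp t 2 π) (e : ZMod 2) : kcount (two_dvd h) π e = (Ae h e).ncard := rfl

theorem castHom_eq (h : BGHyp t 2 π) (j : ZMod 2) : ZMod.castHom (two_dvd h) (ZMod 2) j = j := by
  rw [ZMod.castHom_apply, ZMod.cast_id]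

theorem mem_Ae (h : BGHyp t 2 π) {e : ZMod 2} {x : Subgroup.centralizer ({t} : Set K)} :
    x ∈ Ae h e ↔ orderOf x = 2 ∧ π x = sr e := by
  constructor
  · rintro ⟨h1, j, hj, hje⟩
    rw [castHom_eq h] at hje
    exact ⟨h1, by rw [hj, hje]⟩
  · rintro ⟨h1, h2⟩
    exact ⟨h1, e, h2, castHom_eq h e⟩

theorem map_tt' (h : BGHyp t 2 π) : π (tt t) = r 1 := map_tt h

theorem ncard_Ae_le (h : BGHyp t 2 π) (e : ZMod 2) : (Ae h e).ncard ≤ (Ae h (e - 1)).ncard := by
  refine Set.ncard_le_ncard_of_injOn (fun x => tt t * x) ?_ ?_ (Set.toFinite _)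
  · intro x hx
    rw [mem_Ae] at hx ⊢
    have h1 : π (tt t * x) = sr (e - 1) := by
      rw [map_mul, map_tt' h, hx.2, r_mul_sr]
    refine ⟨?_, h1⟩
    apply orderOf_eq_prime
    · have hx2 : x ^ 2 = 1 := by rw [← hx.1]; exact pow_orderOf_eq_one x
      rw [(tt_comm x).mul_pow, hx2, sq, tt_mul_tt h, one_mul]
    · intro h2
      rw [h2, map_one] at h1
      exact absurd h1 (by rw [one_def]; exact fun h => by cases h)
  · intro x _ y _ hxy
    exact mul_left_cancel hxy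

theorem ncard_Ae_eq (h : BGHyp t 2 π) (e f : ZMod 2) : (Ae h e).ncard = (Ae h f).ncard := by
  have h1 := ncard_Ae_le h 0
  have h2 := ncard_Ae_le h 1
  have e1 : (0 : ZMod 2) - 1 = 1 := by decide
  have e2 : (1 : ZMod 2) - 1 = 0 := by decide
  rw [e1] at h1
  rw [e2] at h2
  have h3 : ∀ e : ZMod 2, (Ae h e).ncard = (Ae h 0).ncard := by
    intro e
    fin_cases e
    · rfl
    · exact le_antisymm h2 h1
  rw [h3 e, h3 f]

/-- the involutions `≠ t` of `C(t)` -/
def Iv (t : K) : Set K := {x | orderOf x = 2 ∧ x * t = t * x ∧ x ≠ t}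

theorem ncard_Iv (h : BGHyp t 2 π) (e : ZMod 2) : (Iv t).ncard = 2 * (Ae h e).ncard := by
  have h1 : Iv t = (fun x : Subgroup.centralizer ({t} : Set K) => (x : K)) '' (Ae h 0 ∪ Ae h 1) := by
    ext x
    constructor
    · rintro ⟨h1, h2, h3⟩
      refine ⟨⟨x, Subgroup.mem_centralizer_singleton_iff.2 h2⟩, ?_, rfl⟩
      have ho : orderOf (⟨x, Subgroup.mem_centralizer_singleton_iff.2 h2⟩ :
          Subgroup.centralizer ({t} : Set K)) = 2 := by rw [Subgroup.orderOf_mk]; exact h1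
      rcases eq_tt_or_sr h ho with h4 | ⟨j, hj⟩
      · exact absurd (congrArg Subtype.val h4) h3
      · rcases zmod_two j with rfl | rfl
        · exact Or.inl ((mem_Ae h).2 ⟨ho, hj⟩)
        · exact Or.inr ((mem_Ae h).2 ⟨ho, hj⟩)
    · rintro ⟨x, hx, rfl⟩
      have h5 : ∃ e : ZMod 2, orderOf x = 2 ∧ π x = sr e := by
        rcases hx with hx | hx
        · exact ⟨0, (mem_Ae h).1 hx⟩
        · exact ⟨1, (mem_Ae h).1 hx⟩
      obtain ⟨e, h6, h7⟩ := h5
      refine ⟨by rw [Subgroup.orderOf_coe]; exact h6, Subgroup.mem_centralizer_singleton_iff.1 x.2, ?_⟩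
      intro h8
      have h9 : x = tt t := Subtype.ext h8
      rw [h9, map_tt' h] at h7
      cases h7
  rw [h1, Set.ncard_image_of_injective _ Subtype.val_injective, Set.ncard_union_eq ?_ (Set.toFinite _)
    (Set.toFinite _), ncard_Ae_eq h 0 e, ncard_Ae_eq h 1 e, two_mul]
  rw [Set.disjoint_left]
  intro x h2 h3
  have h4 := ((mem_Ae h).1 h2).2
  have h5 := ((mem_Ae h).1 h3).2
  rw [h4] at h5
  exact absurd (sr.inj h5) (by decide)

omit [Finite K] in
theorem ncard_Iv_conj (t g : K) : (Iv (g * t * g⁻¹)).ncard = (Iv t).ncard := by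
  have h1 : Iv (g * t * g⁻¹) = (MulAut.conj g) '' Iv t := by
    ext x
    constructor
    · rintro ⟨h1, h2, h3⟩
      refine ⟨g⁻¹ * x * g, ⟨?_, ?_, ?_⟩, ?_⟩
      · have := orderOf_conj x g⁻¹
        rw [inv_inv] at this
        rw [this, h1]
      · calc g⁻¹ * x * g * t = g⁻¹ * (x * (g * t * g⁻¹)) * g := by group
          _ = g⁻¹ * ((g * t * g⁻¹) * x) * g := by rw [h2]
          _ = t * (g⁻¹ * x * g) := by group
      · intro e
        apply h3
        rw [← e]; group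
      · rw [MulAut.conj_apply]; group
    · rintro ⟨x, ⟨h1, h2, h3⟩, rfl⟩
      rw [MulAut.conj_apply]
      refine ⟨by rw [orderOf_conj, h1], ?_, ?_⟩
      · calc g * x * g⁻¹ * (g * t * g⁻¹) = g * (x * t) * g⁻¹ := by group
          _ = g * (t * x) * g⁻¹ := by rw [h2]
          _ = g * t * g⁻¹ * (g * x * g⁻¹) := by group
      · intro e
        exact h3 (mul_left_cancel (mul_right_cancel e))
  rw [h1, Set.ncard_image_of_injective _ (MulAut.conj g).injective]

/-- the involutions `d` such that `t` is a power of `ad` -/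
theorem ncard_fibre (h : BGHyp t 2 π) (a : K) (ha : orderOf a = 2) (hat : a ≠ t) :
    {d : K | orderOf d = 2 ∧ t ∈ Subgroup.zpowers (a * d)}.ncard ≤ (Ae h 0).ncard := by
  have haa : a * a = 1 := by rw [← sq, ← ha]; exact pow_orderOf_eq_one a
  by_cases hc : a * t = t * a
  swap
  · have : {d : K | orderOf d = 2 ∧ t ∈ Subgroup.zpowers (a * d)} = ∅ := by
      ext d
      simp only [Set.mem_ofPred_eq, Set.mem_empty_iff_false, iff_false]
      rintro ⟨hd, hd2⟩
      have hdd : d * d = 1 := by rw [← sq, ← hd]; exact pow_orderOf_eq_one d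
      exact hc (commute_of_mem_zpowers (t_mul_t h) haa hdd hd2)
    rw [this, Set.ncard_empty]
    exact Nat.zero_le _
  have haC : a ∈ Subgroup.centralizer ({t} : Set K) := Subgroup.mem_centralizer_singleton_iff.2 hc
  have hao : orderOf (⟨a, haC⟩ : Subgroup.centralizer ({t} : Set K)) = 2 := by
    rw [Subgroup.orderOf_mk]; exact ha
  obtain ⟨i, hi⟩ : ∃ i : ZMod 2, π ⟨a, haC⟩ = sr i := by
    rcases eq_tt_or_sr h hao with h4 | h4
    · exact absurd (congrArg Subtype.val h4) hat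
    · exact h4
  rw [ncard_Ae_eq h 0 (i + 1)]
  -- all such `d` lie in `C(t)`
  have hd : ∀ d : K, orderOf d = 2 → t ∈ Subgroup.zpowers (a * d) →
      ∃ x ∈ Ae h (i + 1), (x : K) = d := by
    intro d hd hd2
    have hdd : d * d = 1 := by rw [← sq, ← hd]; exact pow_orderOf_eq_one d
    have h1 : t ∈ Subgroup.zpowers (d * a) := by
      have h2 : (a * d)⁻¹ = d * a := by
        rw [mul_inv_rev, inv_eq_of_mul_eq_one_left haa, inv_eq_of_mul_eq_one_left hdd]
      rw [← h2, Subgroup.zpowers_inv]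
      exact hd2
    have hdt : d * t = t * d := commute_of_mem_zpowers (t_mul_t h) hdd haa h1
    have hdC : d ∈ Subgroup.centralizer ({t} : Set K) := Subgroup.mem_centralizer_singleton_iff.2 hdt
    refine ⟨⟨d, hdC⟩, (mem_Ae h).2 ⟨by rw [Subgroup.orderOf_mk]; exact hd, ?_⟩, rfl⟩
    have h3 : t ∈ Subgroup.zpowers (((⟨a, haC⟩ * ⟨d, hdC⟩ : Subgroup.centralizer ({t} : Set K))) : K) := hd2
    obtain ⟨j, hj, hj2⟩ := rot_of_mem_zpowers h h3
    have hj1 : j = 1 := BGFour.eq_one_of_ne_zero j hj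
    subst hj1
    rw [map_mul, hi] at hj2
    have h4 : π ⟨d, hdC⟩ = sr i * r 1 := by
      rw [← hj2, ← mul_assoc, sr_mul_sr, sub_self]
      rw [← one_def, one_mul]
    rw [h4, sr_mul_r]
  have h5 : {d : K | orderOf d = 2 ∧ t ∈ Subgroup.zpowers (a * d)} ⊆
      (fun x : Subgroup.centralizer ({t} : Set K) => (x : K)) '' (Ae h (i + 1)) := by
    rintro d ⟨hd1, hd2⟩
    obtain ⟨x, hx, hxd⟩ := hd d hd1 hd2
    exact ⟨x, hx, hxd⟩
  refine (Set.ncard_le_ncard h5 (Set.toFinite _)).trans ?_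
  exact Set.ncard_image_le (Set.toFinite _)

end Kcount

/-- **Brauer's count**: more than a third of the involutions `d` of `K` have `|ad|` odd. -/
theorem odd_count {K : Type*} [Group K] [Finite K] (hK : IsSimpleGroup (K ⧸ Cfsg.oddCore K))
    (hna : ∃ x y : K ⧸ Cfsg.oddCore K, x * y ≠ y * x) (A : Sylow 2 K)
    (hA : Nat.card (A : Subgroup K) = 4) (hAsq : ∀ x ∈ (A : Subgroup K), x * x = 1) (a : K)
    (ha : orderOf a = 2) :
    Nat.card {d : K // orderOf d = 2} < 3 * Nat.card {d : K // orderOf d = 2 ∧ Odd (orderOf (a * d))} := by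
  classical
  have : Fact (Nat.Prime 2) := ⟨Nat.prime_two⟩
  have hAK : IsKleinFour (A : Subgroup K) := by
    refine ⟨hA, ?_⟩
    have h1 : Monoid.exponent (A : Subgroup K) ∣ 2 :=
      Monoid.exponent_dvd_of_forall_pow_eq_one fun x => Subtype.ext (by rw [sq]; exact hAsq x x.2)
    rcases (Nat.dvd_prime Nat.prime_two).1 h1 with h2 | h2
    · exfalso
      have h3 : Subsingleton (A : Subgroup K) := Monoid.exp_eq_one_iff.1 h2
      rw [Nat.card_of_subsingleton (1 : (A : Subgroup K))] at hA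
      omega
    · exact h2
  have e2 := BGMainFour.nonempty_equiv_of_four hAK
  -- one class of involutions
  have hone : ∀ x y : K, orderOf x = 2 → orderOf y = 2 → IsConj x y := by
    have e2' : Nonempty ((A : Subgroup K) ≃* DihedralGroup 2) := e2
    obtain ⟨m, r, z, hD⟩ := DihReduction.exists_dihData_sylow A 2 le_rfl e2'
    intro x y hx hy
    have h1 := TwoFusion.DihedralFusion.isConj_z_of_no_index_two A hD (fun H => index_ne_two hK hna H) x hx
    have h2 := TwoFusion.DihedralFusion.isConj_z_of_no_index_two A hD (fun H => index_ne_two hK hna H) y hy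
    exact h1.trans h2.symm
  have hhyp : ∀ y : K, orderOf y = 2 →
      ∃ π : (Subgroup.centralizer ({y} : Set K)) →* DihedralGroup 2, BGHyp y 2 π := fun y hy =>
    BGStructure.exists_hyp A 1 le_rfl e2 hone y hy
  obtain ⟨π, h⟩ := hhyp a ha
  set k := (Ae h 0).ncard with hk
  -- Brauer's formula
  have hik : 3 * (k * k) < (Subgroup.centralizer ({a} : Set K)).index := by
    obtain ⟨f₁, f₂, f₃, a1, a2, a3, a4, a5, a6, a7, a8⟩ := four_formula' h A hAK
      (fun M hM ζ hζ h1 => eq_one_of_degree_one hK hna M hM ζ hζ h1)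
    have hpos := (BGValues.kcount_pos h (two_dvd h)).1
    rw [kcount_eq_ncard h, ← hk] at hpos
    have h3 := arith (a := ((Subgroup.centralizer ({a} : Set K)).index : ℤ)) (K := (k : ℤ) * k)
      (by (clear * - hpos; positivity)) a1 a2 a3 a4 a5 a6 a7 (by
        rw [a8, kcount_eq_ncard h, kcount_eq_ncard h, ncard_Ae_eq h 1 0, ← hk]
        ring)
    exact_mod_cast h3
  have hi := card_involutions a ha (fun x hx => hone a x ha hx)
  -- the even ones
  have heven : {d : K | orderOf d = 2 ∧ ¬ Odd (orderOf (a * d))}.ncard ≤ 2 * k * k := by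
    have haa : a * a = 1 := by rw [← sq, ← ha]; exact pow_orderOf_eq_one a
    have hsub : (Set.toFinite {d : K | orderOf d = 2 ∧ ¬ Odd (orderOf (a * d))}).toFinset ⊆
        (Set.toFinite (Iv a)).toFinset.biUnion
          (fun y => (Set.toFinite {d : K | orderOf d = 2 ∧ y ∈ Subgroup.zpowers (a * d)}).toFinset) := by
      intro d hd
      rw [Set.Finite.mem_toFinset] at hd
      obtain ⟨hd1, hd2⟩ := hd
      rw [Nat.not_odd_iff_even] at hd2
      have hdd : d * d = 1 := by rw [← sq, ← hd1]; exact pow_orderOf_eq_one d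
      have hpos : 0 < orderOf (a * d) := orderOf_pos _
      obtain ⟨m, hm⟩ := hd2
      have hm0 : 0 < m := by omega
      have hy : orderOf ((a * d) ^ m) = 2 := by
        rw [orderOf_pow, hm, ← two_mul, Nat.gcd_eq_right (Dvd.intro_left 2 rfl),
          Nat.mul_div_cancel _ hm0]
      have hyz : (a * d) ^ m ∈ Subgroup.zpowers (a * d) := Subgroup.npow_mem_zpowers _ m
      have hyy : (a * d) ^ m * (a * d) ^ m = 1 := by rw [← sq, ← hy]; exact pow_orderOf_eq_one _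
      have hya : a * (a * d) ^ m = (a * d) ^ m * a := commute_of_mem_zpowers hyy haa hdd hyz
      rw [Finset.mem_biUnion]
      refine ⟨(a * d) ^ m, ?_, ?_⟩
      · rw [Set.Finite.mem_toFinset]
        refine ⟨hy, hya.symm, ?_⟩
        intro e
        rw [e] at hyz
        -- `a` commutes with `d`, so `ad` has order two
        have h1 : a * (a * d) = a * d * a := by
          have h0 := (Commute.pow_self (a * d) m).eq
          rw [e] at h0
          exact h0
        have h2 : a * d = d * a := by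
          have h3 := congrArg (a * ·) h1
          simp only [← mul_assoc, haa, one_mul] at h3
          exact h3
        have h4 : a * d * (a * d) = 1 := by
          calc a * d * (a * d) = a * (d * a) * d := by group
            _ = a * (a * d) * d := by rw [h2]
            _ = (a * a) * (d * d) := by group
            _ = 1 := by rw [haa, hdd, one_mul]
        have h5 : orderOf (a * d) ∣ 2 := orderOf_dvd_of_pow_eq_one (by rw [sq]; exact h4)
        have h6 : m = 1 := by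
          have := Nat.le_of_dvd (by norm_num) h5
          omega
        rw [h6, pow_one, mul_eq_left] at e
        rw [e, orderOf_one] at hd1
        omega
      · rw [Set.Finite.mem_toFinset]
        exact ⟨hd1, hyz⟩
    have h1 : ((Set.toFinite (Iv a)).toFinset.biUnion
          (fun y => (Set.toFinite {d : K | orderOf d = 2 ∧ y ∈ Subgroup.zpowers (a * d)}).toFinset)).card ≤
        (Set.toFinite (Iv a)).toFinset.card * k := by
      refine Finset.card_biUnion_le_card_mul _ _ _ fun y hy => ?_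
      rw [Set.Finite.mem_toFinset] at hy
      obtain ⟨πy, hπy⟩ := hhyp y hy.1
      rw [← Set.ncard_eq_toFinset_card]
      refine (ncard_fibre hπy a ha (fun e => hy.2.2 e.symm)).trans (le_of_eq ?_)
      -- the numbers are the same for conjugate involutions
      obtain ⟨g, hg⟩ := isConj_iff.1 (hone a y ha hy.1)
      have e1 := ncard_Iv hπy 0
      have e2 := ncard_Iv h 0
      have e3 := ncard_Iv_conj a g
      rw [hg] at e3
      omega
    have h2 := (Finset.card_le_card hsub).trans h1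
    rw [← Set.ncard_eq_toFinset_card, ← Set.ncard_eq_toFinset_card, ncard_Iv h 0, ← hk] at h2
    exact h2
  -- conclusion
  have hsum : Nat.card {d : K // orderOf d = 2} ≤
      Nat.card {d : K // orderOf d = 2 ∧ Odd (orderOf (a * d))} +
        {d : K | orderOf d = 2 ∧ ¬ Odd (orderOf (a * d))}.ncard := by
    have e1 : Nat.card {d : K // orderOf d = 2} = {d : K | orderOf d = 2}.ncard := rfl
    have e2 : Nat.card {d : K // orderOf d = 2 ∧ Odd (orderOf (a * d))} =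
      {d : K | orderOf d = 2 ∧ Odd (orderOf (a * d))}.ncard := rfl
    rw [e1, e2]
    refine (Set.ncard_le_ncard ?_ (Set.toFinite _)).trans (Set.ncard_union_le _ _)
    intro d hd
    by_cases ho : Odd (orderOf (a * d))
    · exact Or.inl ⟨hd, ho⟩
    · exact Or.inr ⟨hd, ho⟩
  have h3 : 2 * k * k = 2 * (k * k) := by ring
  rw [h3] at heven
  omega

end Cfsg.Agent.TwoFusion.GoldFourCount
end

-- part: TwoFusion/GoldLFourBad
section
/-!
# Goldschmidt's theorem, `|A| = 4`: consequences of a component with Sylow 2-subgroup `A` in `C(e)`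
-/

set_option autoImplicit false

namespace Cfsg.Agent.TwoFusion.GoldLFourBad

open Subgroup
open Cfsg.Agent.TwoFusion.ClosedFam
open Cfsg.Agent.TwoFusion.GoldLFour

variable {G : Type*} [Group G] [Finite G]

/-- `K ≤ G` contains the four-group `A` as a Sylow 2-subgroup, `K/O(K)` is simple and nonabelian. -/
structure Simp (A K : Subgroup G) : Prop where
  le : A ≤ K
  simple : IsSimpleGroup (↥K ⧸ Cfsg.oddCore ↥K)
  nonab : ∃ x y : ↥K ⧸ Cfsg.oddCore ↥K, x * y ≠ y * x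
  sylow : ∃ P : Sylow 2 ↥K, (P : Subgroup ↥K) = A.subgroupOf K

omit [Finite G] in
/-- A simple group which is a 2-group is commutative. -/
theorem comm_of_simple {Q : Type*} [Group Q] [Finite Q] [IsSimpleGroup Q] (hQ : IsPGroup 2 Q) (x y : Q) :
    x * y = y * x := by
  have : Fact (Nat.Prime 2) := ⟨Nat.prime_two⟩
  have hn : Nontrivial (center Q) := hQ.center_nontrivial
  rcases IsSimpleGroup.eq_bot_or_eq_top_of_normal (center Q) inferInstance with h1 | h1
  · rw [h1] at hn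
    exact absurd hn (not_nontrivial _)
  · have : y ∈ center Q := by rw [h1]; exact mem_top y
    exact mem_center_iff.1 this x

omit [Finite G] in
/-- If `K/O(K)` is simple nonabelian then `N_K(P)` does not centralize the Sylow 2-subgroup `P`. -/
theorem not_normalizer_le {K : Type*} [Group K] [Finite K] (hK : IsSimpleGroup (K ⧸ Cfsg.oddCore K))
    (hna : ∃ x y : K ⧸ Cfsg.oddCore K, x * y ≠ y * x) (P : Sylow 2 K) :
    ¬ normalizer ((P : Subgroup K) : Set K) ≤ centralizer ((P : Subgroup K) : Set K) := by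
  intro hle
  have hfact : Fact (Nat.Prime 2) := ⟨Nat.prime_two⟩
  have hcomp := MonoidHom.ker_transferSylow_isComplement' P hle
  set N := (MonoidHom.transferSylow P hle).ker with hN
  have hNodd : (Nat.card N).Coprime 2 :=
    ((Nat.Prime.coprime_iff_not_dvd Nat.prime_two).2 (MonoidHom.not_dvd_card_ker_transferSylow P hle)).symm
  have hNle : N ≤ Cfsg.oddCore K := Cfsg.Agent.Lib.Cores.le_pPrimeCore (MonoidHom.normal_ker _) hNodd
  have hQ : IsPGroup 2 (K ⧸ Cfsg.oddCore K) := by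
    have h1 : Nat.card (K ⧸ Cfsg.oddCore K) ∣ Nat.card (P : Subgroup K) := by
      have h2 : (Cfsg.oddCore K).index ∣ N.index := index_dvd_of_le hNle
      have h3 : N.index = Nat.card (P : Subgroup K) := hcomp.symm.index_eq_card
      rw [h3] at h2
      exact h2
    obtain ⟨n, hn⟩ := IsPGroup.iff_card.1 P.2
    rw [hn] at h1
    obtain ⟨k, _, hk⟩ := (Nat.dvd_prime_pow Nat.prime_two).1 h1
    exact IsPGroup.iff_card.2 ⟨k, hk⟩
  obtain ⟨x, y, hxy⟩ := hna
  exact hxy (comm_of_simple hQ x y)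

/-- Some element of odd order of `N_K(A)` does not centralize `A`. -/
theorem exists_odd {A K : Subgroup G} (h : Simp A K) (hAc : ∀ a ∈ A, ∀ b ∈ A, a * b = b * a) :
    ∃ n ∈ K, n ∈ normalizer (A : Set G) ∧ Odd (orderOf n) ∧ ∃ a ∈ A, n * a ≠ a * n := by
  have hfact : Fact (Nat.Prime 2) := ⟨Nat.prime_two⟩
  obtain ⟨P, hP⟩ := h.sylow
  have hmemP : ∀ x : K, x ∈ (P : Subgroup K) ↔ (x : G) ∈ A := fun x => by rw [hP, mem_subgroupOf]
  have h1 := not_normalizer_le h.simple h.nonab P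
  obtain ⟨g, hg, hgc⟩ := SetLike.not_le_iff_exists.1 h1
  -- the `2`-part of `g` lies in `P`
  obtain ⟨k, r, hr, hkr⟩ := Nat.exists_eq_two_pow_mul_odd (orderOf_pos g).ne'
  have hgN : ∀ m : ℕ, g ^ m ∈ normalizer ((P : Subgroup K) : Set K) := fun m => pow_mem hg m
  have hP2 : g ^ r ∈ (P : Subgroup K) := by
    -- `⟨g ^ r⟩ P` is a `2`-group
    have h2 : IsPGroup 2 (zpowers (g ^ r)) := by
      apply IsPGroup.of_card (n := k)
      rw [Nat.card_zpowers, orderOf_pow_of_dvd hr.pos.ne' (by rw [hkr]; exact Dvd.intro_left _ rfl), hkr,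
        Nat.mul_div_cancel _ hr.pos]
    have h3 : zpowers (g ^ r) ≤ normalizer ((P : Subgroup K) : Set K) := zpowers_le.2 (hgN r)
    have h4 : IsPGroup 2 (zpowers (g ^ r) ⊔ (P : Subgroup K) : Subgroup K) :=
      h2.to_sup_of_normal_right' P.2 h3
    have h5 : (zpowers (g ^ r) ⊔ (P : Subgroup K) : Subgroup K) = P := P.is_maximal' h4 le_sup_right
    rw [← h5]
    exact mem_sup_left (mem_zpowers _)
  -- so the `2'`-part does not centralize
  have hodd : Odd (orderOf (g ^ 2 ^ k)) := by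
    rw [orderOf_pow_of_dvd (by positivity) (by rw [hkr]; exact Dvd.intro _ rfl), hkr,
      Nat.mul_div_cancel_left _ (by positivity)]
    exact hr
  have hnc : g ^ 2 ^ k ∉ centralizer ((P : Subgroup K) : Set K) := by
    intro hc
    apply hgc
    have hrc : g ^ r ∈ centralizer ((P : Subgroup K) : Set K) := by
      rw [mem_centralizer_iff]
      intro x hx
      apply Subtype.ext
      exact hAc _ ((hmemP x).1 hx) _ ((hmemP _).1 hP2)
    have hcop : IsCoprime ((2 ^ k : ℕ) : ℤ) (r : ℤ) := by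
      rw [Nat.isCoprime_iff_coprime]
      exact Nat.Coprime.pow_left k ((Nat.coprime_two_left).2 hr)
    obtain ⟨u, v, huv⟩ := hcop
    have e : g = (g ^ 2 ^ k) ^ u * (g ^ r) ^ v := by
      rw [← zpow_natCast g (2 ^ k), ← zpow_natCast g r, ← zpow_mul, ← zpow_mul, ← zpow_add, mul_comm _ u,
        mul_comm _ v, huv, zpow_one]
    rw [e]
    exact mul_mem (zpow_mem hc u) (zpow_mem hrc v)
  refine ⟨(g ^ 2 ^ k : K), (g ^ 2 ^ k : K).2, ?_, ?_, ?_⟩
  · rw [mem_normalizer_iff]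
    intro x
    have hn := hgN (2 ^ k)
    rw [mem_normalizer_iff] at hn
    constructor
    · intro hx
      exact (hmemP _).1 ((hn ⟨x, h.le hx⟩).1 ((hmemP _).2 hx))
    · intro hx
      have hxK : x ∈ K := by
        have h6 := h.le hx
        have h7 := mul_mem (mul_mem (inv_mem (g ^ 2 ^ k : K).2) h6) (g ^ 2 ^ k : K).2
        have e : ((g ^ 2 ^ k : K) : G)⁻¹ * ((g ^ 2 ^ k : K) * x * ((g ^ 2 ^ k : K) : G)⁻¹) * (g ^ 2 ^ k : K) = x := by
          group
        rwa [e] at h7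
      exact (hmemP _).1 ((hn ⟨x, hxK⟩).2 ((hmemP _).2 hx))
  · rw [orderOf_coe]; exact hodd
  · by_contra hcon
    push Not at hcon
    apply hnc
    rw [mem_centralizer_iff]
    intro x hx
    apply Subtype.ext
    exact (hcon _ ((hmemP x).1 hx)).symm

/-- The elements of a four-group. -/
theorem exhaust {A : Subgroup G} (h4 : Nat.card A = 4) (hsq : ∀ a ∈ A, a * a = 1) {x y z : G} (hx : x ∈ A)
    (hy : y ∈ A) (hz : z ∈ A) (hx1 : x ≠ 1) (hy1 : y ≠ 1) (hxy : x ≠ y) :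
    z = 1 ∨ z = x ∨ z = y ∨ z = x * y := by
  classical
  by_contra hcon
  push Not at hcon
  obtain ⟨h1, h2, h3, h5⟩ := hcon
  have hxx := hsq x hx
  have hyy := hsq y hy
  have hxy1 : x * y ≠ 1 := by
    intro e
    apply hxy
    have : x = y⁻¹ := eq_inv_of_mul_eq_one_left e
    rw [this]; exact inv_eq_of_mul_eq_one_left hyy
  have hxyx : x * y ≠ x := fun e => hy1 (mul_eq_left.1 e)
  have hxyy : x * y ≠ y := fun e => hx1 (mul_eq_right.1 e)
  let s : Finset A := {⟨1, one_mem _⟩, ⟨x, hx⟩, ⟨y, hy⟩, ⟨x * y, mul_mem hx hy⟩, ⟨z, hz⟩}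
  have hs : s.card = 5 := by
    simp only [s]
    rw [Finset.card_insert_of_notMem, Finset.card_insert_of_notMem, Finset.card_insert_of_notMem,
      Finset.card_insert_of_notMem, Finset.card_singleton]
    · simp only [Finset.mem_singleton, Subtype.mk.injEq]; exact fun e => h5 e.symm
    · simp only [Finset.mem_insert, Finset.mem_singleton, Subtype.mk.injEq]
      rintro (e | e)
      · exact hxyy e.symm
      · exact h3 e.symm
    · simp only [Finset.mem_insert, Finset.mem_singleton, Subtype.mk.injEq]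
      rintro (e | e | e)
      · exact hxy e
      · exact hxyx e.symm
      · exact h2 e.symm
    · simp only [Finset.mem_insert, Finset.mem_singleton, Subtype.mk.injEq]
      rintro (e | e | e | e)
      · exact hx1 e.symm
      · exact hy1 e.symm
      · exact hxy1 e.symm
      · exact h1 e.symm
  have hfin : Fintype A := Fintype.ofFinite _
  have := Finset.card_le_univ s
  rw [hs, ← Nat.card_eq_fintype_card, h4] at this
  omega

omit [Finite G] in
theorem comm_of_sq {A : Subgroup G} (hsq : ∀ a ∈ A, a * a = 1) {x y : G} (hx : x ∈ A) (hy : y ∈ A) :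
    x * y = y * x := by
  have h1 := hsq _ (mul_mem hx hy)
  have h2 : (x * y)⁻¹ = x * y := inv_eq_of_mul_eq_one_left h1
  rw [mul_inv_rev, inv_eq_of_mul_eq_one_left (hsq x hx), inv_eq_of_mul_eq_one_left (hsq y hy)] at h2
  exact h2.symm

/-- In a group of order four and exponent two, an element of odd order acting nontrivially is transitive on the
three involutions. -/
theorem rot {A : Subgroup G} (hA : Nat.card A = 4) (hsq : ∀ a ∈ A, a * a = 1) {n : G}
    (hn : n ∈ normalizer (A : Set G)) (hodd : Odd (orderOf n)) (hna : ∃ a ∈ A, n * a ≠ a * n) {z z' : G}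
    (hz : z ∈ A) (hz1 : z ≠ 1) (hz' : z' ∈ A) (hz1' : z' ≠ 1) : ∃ k : ℕ, n ^ k * z * (n ^ k)⁻¹ = z' := by
  obtain ⟨a, ha, hna⟩ := hna
  set b := n * a * n⁻¹ with hb
  have hbA : b ∈ A := conj_mem_of_normalizer hn ha
  have ha1 : a ≠ 1 := by
    rintro rfl
    apply hna
    rw [mul_one, one_mul]
  have hb1 : b ≠ 1 := conj_ne_one ha1
  have hab : a ≠ b := by
    intro e
    apply hna
    have : n * a = b * n := by rw [hb]; group
    rw [this, ← e]
  have hcomm := comm_of_sq hsq ha hbA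
  have haa := hsq a ha
  have hbb := hsq b hbA
  have hnb : n * b * n⁻¹ ∈ A := conj_mem_of_normalizer hn hbA
  -- `n b n⁻¹ = a b`
  have h1 : n * b * n⁻¹ = a * b := by
    rcases exhaust hA hsq ha hbA hnb ha1 hb1 hab with e | e | e | e
    · exact absurd e (conj_ne_one hb1)
    · -- `n²` centralizes `a`
      exfalso
      have h2 : Commute (n ^ 2) a := by
        show n ^ 2 * a = a * n ^ 2
        calc n ^ 2 * a = (n * (n * a * n⁻¹) * n⁻¹) * n ^ 2 := by rw [pow_two]; group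
          _ = a * n ^ 2 := by rw [← hb, e]
      obtain ⟨k, hk⟩ := hodd
      have h3 : n = (n ^ 2) ^ (k + 1) := by
        have h4 : n ^ (2 * k + 1) = 1 := by rw [← hk]; exact pow_orderOf_eq_one n
        calc n = n ^ (2 * k + 1) * n := by rw [h4, one_mul]
          _ = (n ^ 2) ^ (k + 1) := by rw [← pow_succ, ← pow_mul]; congr 1
      apply hna
      have h5 : Commute ((n ^ 2) ^ (k + 1)) a := h2.pow_left _
      rw [← h3] at h5
      exact h5
    · exfalso
      apply hab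
      have : n * b * n⁻¹ = n * a * n⁻¹ := by rw [e, ← hb]
      exact (mul_left_cancel (mul_right_cancel this)).symm
    · exact e
  have h2 : n ^ 2 * a * (n ^ 2)⁻¹ = a * b := by
    rw [← h1, hb, pow_two]; group
  have h3 : n ^ 2 * b * (n ^ 2)⁻¹ = a := by
    have e1 : n ^ 2 * b * (n ^ 2)⁻¹ = n * (n * b * n⁻¹) * n⁻¹ := by rw [pow_two]; group
    have e2 : n * (a * b) * n⁻¹ = (n * a * n⁻¹) * (n * b * n⁻¹) := by group
    rw [e1, h1, e2, h1, ← hb, hcomm, ← mul_assoc, hbb, one_mul]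
  have h4 : n * (a * b) * n⁻¹ = a := by
    have e2 : n * (a * b) * n⁻¹ = (n * a * n⁻¹) * (n * b * n⁻¹) := by group
    rw [e2, h1, ← hb, hcomm, ← mul_assoc, hbb, one_mul]
  have h5 : n ^ 2 * (a * b) * (n ^ 2)⁻¹ = b := by
    have e1 : n ^ 2 * (a * b) * (n ^ 2)⁻¹ = n * (n * (a * b) * n⁻¹) * n⁻¹ := by rw [pow_two]; group
    rw [e1, h4]
  rcases exhaust hA hsq ha hbA hz ha1 hb1 hab with e | e | e | e
  · exact absurd e hz1
  · subst e
    rcases exhaust hA hsq ha hbA hz' ha1 hb1 hab with e' | e' | e' | e'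
    · exact absurd e' hz1'
    · exact ⟨0, by rw [e']; simp⟩
    · exact ⟨1, by rw [e', pow_one]⟩
    · exact ⟨2, by rw [e', h2]⟩
  · subst e
    rcases exhaust hA hsq ha hbA hz' ha1 hb1 hab with e' | e' | e' | e'
    · exact absurd e' hz1'
    · exact ⟨2, by rw [e', h3]⟩
    · exact ⟨0, by rw [e']; simp⟩
    · exact ⟨1, by rw [e', pow_one, h1]⟩
  · subst e
    rcases exhaust hA hsq ha hbA hz' ha1 hb1 hab with e' | e' | e' | e'
    · exact absurd e' hz1'
    · exact ⟨1, by rw [e', pow_one, h4]⟩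
    · exact ⟨2, by rw [e', h5]⟩
    · exact ⟨0, by rw [e']; simp⟩

/-- The rotation used in `LF.rot`. -/
theorem Simp.rot {A K : Subgroup G} (h : Simp A K) (hA : Nat.card A = 4) (hsq : ∀ a ∈ A, a * a = 1) {z z' : G}
    (hz : z ∈ A) (hz1 : z ≠ 1) (hz' : z' ∈ A) (hz1' : z' ≠ 1) :
    ∃ n ∈ K, n ∈ normalizer (A : Set G) ∧ n * z * n⁻¹ = z' := by
  obtain ⟨n, hnK, hn, hodd, hna⟩ := exists_odd h (fun a ha b hb => comm_of_sq hsq ha hb)
  obtain ⟨k, hk⟩ := GoldLFourBad.rot hA hsq hn hodd hna hz hz1 hz' hz1'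
  exact ⟨n ^ k, pow_mem hnK k, pow_mem hn k, hk⟩

/-- The count used in `LF.odd`: `K = ⟨𝒜 ∩ C(e)⟩`. -/
theorem Simp.odd {𝒜 : Set G} {A : Subgroup G} {e : G}
    (h : Simp A (fam 𝒜 (centralizer ({e} : Set G)))) (hA : Nat.card A = 4) (hsq : ∀ a ∈ A, a * a = 1)
    (hA𝒜 : ∀ x, x ∈ 𝒜 ↔ ∃ g : G, g * x * g⁻¹ ∈ A) {a : G} (ha : a ∈ A) (ha1 : a ≠ 1) :
    (cent (Dset A) e).card < 3 * (oddSet (Dset A) e a).card := by
  classical
  have hfact : Fact (Nat.Prime 2) := ⟨Nat.prime_two⟩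
  set K := fam 𝒜 (centralizer ({e} : Set G)) with hK
  obtain ⟨P, hP⟩ := h.sylow
  have hPcard : Nat.card (P : Subgroup K) = 4 := by
    rw [hP, Nat.card_congr (Subgroup.subgroupOfEquivOfLe h.le).toEquiv, hA]
  have hPsq : ∀ x ∈ (P : Subgroup K), x * x = 1 := by
    intro x hx
    rw [hP, mem_subgroupOf] at hx
    exact Subtype.ext (hsq _ hx)
  have haK : a ∈ K := h.le ha
  have hord : ∀ {x : G}, x * x = 1 → x ≠ 1 → orderOf x = 2 := fun h1 h2 =>
    orderOf_eq_prime (by rw [pow_two]; exact h1) h2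
  have key := GoldFourCount.odd_count h.simple h.nonab P hPcard hPsq ⟨a, haK⟩
    (by rw [← orderOf_coe]; exact hord (hsq a ha) ha1)
  -- the involutions of `K` are the elements of `𝒜#` in `C(e)`
  have hinv : ∀ d : K, orderOf d = 2 → (d : G) ∈ cent (Dset A) e := by
    intro d hd
    have hd1 : (d : G) ≠ 1 := by
      intro h1
      have : d = 1 := Subtype.ext h1
      rw [this, orderOf_one] at hd
      exact absurd hd (by norm_num)
    have hp : IsPGroup 2 (zpowers d) := by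
      apply IsPGroup.of_card (n := 1)
      rw [Nat.card_zpowers, hd, pow_one]
    obtain ⟨Q, hQ⟩ := hp.exists_le_sylow
    obtain ⟨g, hg⟩ := MulAction.exists_smul_eq K Q P
    have h1 : g * d * g⁻¹ ∈ (P : Subgroup K) := by
      rw [← hg]
      exact ⟨d, hQ (mem_zpowers d), rfl⟩
    rw [hP, mem_subgroupOf] at h1
    rw [GoldLFour.mem_cent, mem_Dset]
    refine ⟨⟨hd1, g, h1⟩, ?_⟩
    exact mem_centralizer_singleton_iff.1 (fam_le 𝒜 _ d.2)
  have hinv' : ∀ d : G, d ∈ cent (Dset A) e → ∃ hdK : d ∈ K, orderOf (⟨d, hdK⟩ : K) = 2 := by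
    intro d hd
    obtain ⟨hd1, hd2⟩ := GoldLFour.mem_cent.1 hd
    obtain ⟨hd3, g, hg⟩ := mem_Dset.1 hd1
    have hdK : d ∈ K := mem_fam ((hA𝒜 d).2 ⟨g, hg⟩) (mem_centralizer_singleton_iff.2 hd2)
    refine ⟨hdK, ?_⟩
    rw [← orderOf_coe]
    apply hord _ hd3
    have h1 := hsq _ hg
    have e1 : d * d = g⁻¹ * (g * d * g⁻¹ * (g * d * g⁻¹)) * g := by group
    show d * d = 1
    rw [e1, h1]; group
  have c1 : Nat.card {d : K // orderOf d = 2} = (cent (Dset A) e).card := by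
    rw [← Nat.subtype_card (cent (Dset A) e) (fun x => Iff.rfl)]
    refine Nat.card_congr ⟨fun d => ⟨(d.1 : G), hinv d.1 d.2⟩, fun d => ⟨⟨d.1, (hinv' d.1 d.2).1⟩, (hinv' d.1 d.2).2⟩,
      fun d => rfl, fun d => rfl⟩
  have c2 : Nat.card {d : K // orderOf d = 2 ∧ Odd (orderOf ((⟨a, haK⟩ : K) * d))} = (oddSet (Dset A) e a).card := by
    rw [← Nat.subtype_card (oddSet (Dset A) e a) (fun x => Iff.rfl)]
    refine Nat.card_congr ⟨fun d => ⟨(d.1 : G), ?_⟩, fun d => ⟨⟨d.1, ?_⟩, ?_⟩, fun d => rfl, fun d => rfl⟩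
    · rw [mem_oddSet]
      have h1 := GoldLFour.mem_cent.1 (hinv d.1 d.2.1)
      refine ⟨h1, ?_⟩
      have h2 := d.2.2
      rw [← orderOf_coe] at h2
      exact h2
    · have h1 := mem_oddSet.1 d.2
      exact (hinv' d.1 (GoldLFour.mem_cent.2 h1.1)).1
    · have h1 := mem_oddSet.1 d.2
      refine ⟨(hinv' d.1 (GoldLFour.mem_cent.2 h1.1)).2, ?_⟩
      rw [← orderOf_coe]
      exact h1.2
  rw [c1, c2] at key
  exact key

end Cfsg.Agent.TwoFusion.GoldLFourBad
end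

-- part: TwoFusion/GoldActNoSE
section
/-!
# Goldschmidt's theorem, `|A| = 4`: an active component whose simple quotient has no strongly embedded subgroup

Let `Ctx 𝒜`, `|𝒜 ∩ T| = 4`, `L` an active component such that `L/Z(L)` has no strongly embedded subgroup. Then the
subgroup generated by `𝒜` is `L`, it is simple, its Sylow 2-subgroups have order four and are not TI.
-/

set_option autoImplicit false
set_option linter.style.haveILetI false

namespace Cfsg.Agent.TwoFusion.GoldActNoSE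

open Subgroup
open Cfsg.Agent.TwoFusion.ClosedFam Cfsg.Agent.TwoFusion.Gold Cfsg.Agent.TwoFusion.GoldSetup
open Cfsg.Agent.TwoFusion.ClosedLocal

universe u

/-- A nonabelian simple group with abelian TI Sylow 2-subgroups has a strongly embedded subgroup. -/
theorem exists_se_of_ti {L : Type*} [Group L] [Finite L] (hsimple : IsSimpleGroup L)
    (hnonab : ∃ a b : L, a * b ≠ b * a) (P : Sylow 2 L) (heven : Even (Nat.card L))
    (hP : ∀ x ∈ (P : Subgroup L), ∀ y ∈ (P : Subgroup L), x * y = y * x)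
    (hti : ∀ Q R : Sylow 2 L, (Q : Subgroup L) ⊓ R ≠ ⊥ → Q = R) :
    ∃ H : Subgroup L, Cfsg.IsStronglyEmbedded H := by
  classical
  have h2 : Fact (Nat.Prime 2) := ⟨Nat.prime_two⟩
  refine ⟨normalizer ((P : Subgroup L) : Set L), Cfsg.Agent.Walter.Embed.isStronglyEmbedded_of_le P hP ?_ heven
    le_rfl ?_⟩
  · intro htop
    have hn : (P : Subgroup L).Normal := normalizer_eq_top_iff.1 htop
    rcases IsSimpleGroup.eq_bot_or_eq_top_of_normal _ hn with hb | ht
    · have h1 : ¬ 2 ∣ (P : Subgroup L).index := P.not_dvd_index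
      rw [hb, index_bot] at h1
      exact h1 (even_iff_two_dvd.1 heven)
    · obtain ⟨a, b, hab⟩ := hnonab
      exact hab (hP a (by rw [ht]; exact mem_top a) b (by rw [ht]; exact mem_top b))
  · intro s hs hs2 c hc
    have hcs : s * c = c * s := (mem_centralizer_iff.1 hc) s (Set.mem_singleton s)
    have h3 : P = c • P := by
      apply hti
      intro hbot
      have h4 : s ∈ (P : Subgroup L) ⊓ ((c • P : Sylow 2 L) : Subgroup L) := by
        refine ⟨hs, ?_⟩
        refine ⟨s, hs, ?_⟩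
        change c * s * c⁻¹ = s
        rw [← hcs]; group
      rw [hbot, mem_bot] at h4
      rw [h4, orderOf_one] at hs2
      omega
    exact Sylow.smul_eq_iff_mem_normalizer.1 h3.symm

section

variable {X : Type u} [Group X] [Finite X] {𝒜 : Set X} (h : Ctx 𝒜) (T : Sylow 2 X)
  (h4 : Nat.card (fam 𝒜 (T : Subgroup X)) = 4) {L : Subgroup X} (hL : Cfsg.IsComponent L) (ha : Act 𝒜 L)

include h h4 hL ha

/-- The Sylow 2-subgroups of the simple quotient have order four. -/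
theorem card_sylow_quot (hno : ¬ BenPack (↥L ⧸ center ↥L))
    (T' : Sylow 2 (↥L ⧸ center ↥L)) :
    (T' : Subgroup (↥L ⧸ center ↥L)) = fam (GoldActFour.famQ 𝒜 L) (T' : Subgroup (↥L ⧸ center ↥L)) ∧
      Nat.card (T' : Subgroup (↥L ⧸ center ↥L)) = 4 := by
  classical
  have h2 : Fact (Nat.Prime 2) := ⟨Nat.prime_two⟩
  have hB := GoldActFour.isElemFam_famQ h.fam L
  have hT : TCon (↥L ⧸ center ↥L) := h.T L hL _ hB (GoldActFour.exists_ne_one L ha)
  obtain ⟨b, hb, hb1⟩ := GoldActFour.exists_ne_one L ha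
  have hel : ∀ S : Sylow 2 (↥L ⧸ center ↥L), ∀ s ∈ S, s * s = 1 := by
    rcases hT.alt with hel | hben
    · exact hel
    · exact absurd hben hno
  have hle : (T' : Subgroup (↥L ⧸ center ↥L)) ≤ fam (GoldActFour.famQ 𝒜 L) (T' : Subgroup (↥L ⧸ center ↥L)) := by
    intro x hx
    rw [hB.toIsClosedFam.mem_fam_iff T'.2]
    refine ⟨?_, hx⟩
    by_cases hx1 : x = 1
    · rw [hx1]; exact hB.one_mem
    · have ox : orderOf x = 2 := orderOf_eq_prime (by rw [pow_two]; exact hel T' x hx) hx1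
      obtain ⟨g, hg⟩ := hT.conj b x (hB.orderOf_eq hb hb1) ox
      rw [← hg]
      exact hB.conj_mem b hb g
  have heq := le_antisymm hle (fam_le _ _)
  refine ⟨heq, ?_⟩
  have h5 := GoldActFour.card_famQ h.fam T h4.le hL ha T'
  rw [← heq] at h5
  exact h5

/-- Every element of `T ∩ L` is the product of an element of the family in `T` and a central element. -/
theorem exists_mul_center (hno : ¬ BenPack (↥L ⧸ center ↥L)) {p : L}
    (hp : (p : X) ∈ T) : ∃ l : L, (l : X) ∈ fam 𝒜 (T : Subgroup X) ∧ l⁻¹ * p ∈ center ↥L := by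
  obtain ⟨T', hT'⟩ := GoldActFour.exists_sylow_quot T hL
  have h1 := (card_sylow_quot h T h4 hL ha hno T').1
  have h2 : QuotientGroup.mk' (center ↥L) p ∈ (T' : Subgroup (↥L ⧸ center ↥L)) := by
    rw [hT']
    exact ⟨p, mem_subgroupOf.2 hp, rfl⟩
  rw [h1] at h2
  obtain ⟨l, hl, hlp⟩ := GoldActFour.exists_of_mem_fam h.fam T hL hT' h2
  refine ⟨l, hl, ?_⟩
  rw [← QuotientGroup.ker_mk' (center ↥L), MonoidHom.mem_ker, map_mul, map_inv, hlp]
  group

/-- The centre of the component is trivial. -/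
theorem center_eq_bot (hno : ¬ BenPack (↥L ⧸ center ↥L)) :
    center ↥L = ⊥ := by
  classical
  have h2 : Fact (Nat.Prime 2) := ⟨Nat.prime_two⟩
  obtain ⟨P, hP⟩ := Cfsg.Agent.TwoFusion.Gold.exists_sylow_subgroupOf T hL.1
  rw [eq_bot_iff]
  intro z hz
  rw [mem_bot]
  have hmem : ∀ x : L, x ∈ (P : Subgroup L) ↔ (x : X) ∈ T := by
    intro x; rw [hP]; exact mem_subgroupOf
  have hPc : IsMulCommutative (P : Subgroup L) := by
    refine ⟨⟨fun a b => Subtype.ext ?_⟩⟩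
    obtain ⟨l, hl, hlz⟩ := exists_mul_center h T h4 hL ha hno ((hmem a).1 a.2)
    obtain ⟨m, hm, hmz⟩ := exists_mul_center h T h4 hL ha hno ((hmem b).1 b.2)
    have hlm : l * m = m * l := by
      apply Subtype.ext
      have h5 := (h.fam.toIsClosedFam.mem_fam_iff T.2).1 hl
      have h6 := (h.fam.toIsClosedFam.mem_fam_iff T.2).1 hm
      exact h.fam.comm T.2 h5.1 h5.2 h6.1 h6.2
    set u := l⁻¹ * (a : L) with hu
    set v := m⁻¹ * (b : L) with hv
    have ea : (a : L) = l * u := by rw [hu]; group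
    have eb : (b : L) = m * v := by rw [hv]; group
    have c1 := mem_center_iff.1 hlz
    have c2 := mem_center_iff.1 hmz
    change (a : L) * (b : L) = (b : L) * (a : L)
    rw [ea, eb]
    calc l * u * (m * v) = l * (u * m) * v := by group
      _ = l * (m * u) * v := by rw [c1 m]
      _ = (l * m) * (u * v) := by group
      _ = (m * l) * (v * u) := by rw [hlm, c1 v]
      _ = m * (l * v) * u := by group
      _ = m * (v * l) * u := by rw [c2 l]
      _ = m * v * (l * u) := by group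
  have hzT : (z : X) ∈ (T : Subgroup X) := by
    refine GoldInner.center_le h.core hL T z.2 ?_
    rw [mem_centralizer_iff]
    intro y hy
    exact congrArg Subtype.val (mem_center_iff.1 hz ⟨y, hy⟩)
  have hperf : commutator ↥L = ⊤ := hL.2.1.commutator_eq_top
  exact Cfsg.Agent.OddOrderLocal.FreeAction.eq_one_of_mem_sylow_center_commutator P hPc ((hmem z).2 hzT) hz
    (by rw [hperf]; exact mem_top z)

theorem fam_top_eq : fam 𝒜 (⊤ : Subgroup X) = L := by
  apply le_antisymm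
  · rw [fam_le_iff]
    intro x hx _
    exact GoldActFour.mem_of_mem h.fam T h4.le hL ha hx
  · exact (GoldLayer.le_actLayer hL ha).trans (GoldLayer.actLayer_le_fam h.fam)

/-- The component is simple. -/
theorem isSimpleGroup (hno : ¬ BenPack (↥L ⧸ center ↥L)) :
    IsSimpleGroup ↥L := by
  have hZ := center_eq_bot h T h4 hL ha hno
  have hs : IsSimpleGroup (↥L ⧸ center ↥L) := hL.2.2
  let e : (↥L ⧸ center ↥L) ≃* ↥L :=
    (QuotientGroup.quotientMulEquivOfEq hZ).trans QuotientGroup.quotientBot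
  exact e.isSimpleGroup_congr.1 hs

/-- The Sylow 2-subgroups of the component have order four. -/
theorem card_sylow (hno : ¬ BenPack (↥L ⧸ center ↥L)) (Q : Sylow 2 ↥L) :
    Nat.card (Q : Subgroup ↥L) = 4 := by
  have h2 : Fact (Nat.Prime 2) := ⟨Nat.prime_two⟩
  have hZ := center_eq_bot h T h4 hL ha hno
  let e : (↥L ⧸ center ↥L) ≃* ↥L :=
    (QuotientGroup.quotientMulEquivOfEq hZ).trans QuotientGroup.quotientBot
  obtain ⟨T'⟩ : Nonempty (Sylow 2 (↥L ⧸ center ↥L)) := inferInstance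
  have h5 := (card_sylow_quot h T h4 hL ha hno T').2
  have h6 := T'.card_eq_multiplicity
  have h7 := Q.card_eq_multiplicity
  rw [h5] at h6
  change Nat.card Q = 4
  rw [h7, h6, Nat.card_congr e.toEquiv]

/-- The Sylow 2-subgroups of the component are not TI. -/
theorem exists_not_ti (hse : ¬ ∃ H : Subgroup (↥L ⧸ center ↥L), Cfsg.IsStronglyEmbedded H) :
    ∃ Q R : Sylow 2 ↥L, Q ≠ R ∧ (Q : Subgroup ↥L) ⊓ R ≠ ⊥ := by
  have h2 : Fact (Nat.Prime 2) := ⟨Nat.prime_two⟩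
  have hno : ¬ BenPack (↥L ⧸ center ↥L) := fun hb => hse hb.se
  by_contra hcon
  push Not at hcon
  apply hse
  have hZ := center_eq_bot h T h4 hL ha hno
  let e : (↥L ⧸ center ↥L) ≃* ↥L :=
    (QuotientGroup.quotientMulEquivOfEq hZ).trans QuotientGroup.quotientBot
  obtain ⟨P⟩ : Nonempty (Sylow 2 ↥L) := inferInstance
  have hc := card_sylow h T h4 hL ha hno P
  have hcomm : IsMulCommutative (P : Subgroup ↥L) :=
    IsPGroup.isMulCommutative_of_card_eq_prime_sq (p := 2) (by rw [hc]; norm_num)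
  have hs := isSimpleGroup h T h4 hL ha hno
  obtain ⟨x, -, hxL, y, hyL, hxy⟩ := ha
  obtain ⟨H, hH⟩ := exists_se_of_ti hs
    ⟨⟨x, hxL⟩, ⟨y, hyL⟩, fun hh => hxy (congrArg Subtype.val hh)⟩ P
    (by
      rw [even_iff_two_dvd]
      exact (Dvd.intro 2 (by norm_num : 2 * 2 = 4)).trans (hc ▸ card_subgroup_dvd_card _))
    (fun x hx y hy => congrArg Subtype.val (hcomm.is_comm.comm ⟨x, hx⟩ ⟨y, hy⟩))
    (fun Q R hQR => by
      by_contra hne
      exact hQR (hcon Q R hne))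
  exact ⟨_, GoldTrans.isStronglyEmbedded_map e.symm hH⟩

end

/-- A component which is not of type `BenPack`: the family generates it, it is simple, with Sylow 2-subgroups of
order four. -/
theorem of_not_benPack {X : Type u} [Group X] [Finite X] {𝒜 : Set X} (h : Ctx 𝒜) (T : Sylow 2 X)
    (h4 : Nat.card (fam 𝒜 (T : Subgroup X)) = 4) {L : Subgroup X} (hL : Cfsg.IsComponent L) (ha : Act 𝒜 L)
    (hno : ¬ BenPack (↥L ⧸ center ↥L)) :
    fam 𝒜 (⊤ : Subgroup X) = L ∧ IsSimpleGroup ↥L ∧ ∀ Q : Sylow 2 ↥L, Nat.card Q = 4 :=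
  ⟨fam_top_eq h T h4 hL ha, isSimpleGroup h T h4 hL ha hno, fun Q => card_sylow h T h4 hL ha hno Q⟩

/-- A component without strongly embedded subgroup modulo its centre. -/
theorem of_no_se {X : Type u} [Group X] [Finite X] {𝒜 : Set X} (h : Ctx 𝒜) (T : Sylow 2 X)
    (h4 : Nat.card (fam 𝒜 (T : Subgroup X)) = 4) {L : Subgroup X} (hL : Cfsg.IsComponent L) (ha : Act 𝒜 L)
    (hse : ¬ ∃ H : Subgroup (↥L ⧸ center ↥L), Cfsg.IsStronglyEmbedded H) :
    IsSimpleGroup ↥(fam 𝒜 (⊤ : Subgroup X)) ∧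
      (∀ Q : Sylow 2 ↥(fam 𝒜 (⊤ : Subgroup X)), Nat.card Q = 4) ∧
      ∃ Q R : Sylow 2 ↥(fam 𝒜 (⊤ : Subgroup X)), Q ≠ R ∧ (Q : Subgroup ↥(fam 𝒜 (⊤ : Subgroup X))) ⊓ R ≠ ⊥ := by
  have hno : ¬ BenPack (↥L ⧸ center ↥L) := fun hb => hse hb.se
  rw [fam_top_eq h T h4 hL ha]
  exact ⟨isSimpleGroup h T h4 hL ha hno, fun Q => card_sylow h T h4 hL ha hno Q, exists_not_ti h T h4 hL ha hse⟩

end Cfsg.Agent.TwoFusion.GoldActNoSE
end

private theorem dce_e38cd5382deb : _root_.True := by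
  try have : _root_.True := by simp only [_root_.Cfsg.Agent.TwoFusion.GoldP.sq.eq_1]
  try have : _root_.True := by simp only [_root_.Cfsg.Agent.TwoFusion.GoldP.act.congr_simp]
  try have : _root_.True := by simp only [_root_.Cfsg.Agent.TwoFusion.GoldP.AN.eq_1]
  try have : _root_.True := by simp only [_root_.Cfsg.Agent.TwoFusion.GoldP.CN.eq_1]
  exact _root_.True.intro
end

-- part: TwoFusion/GoldGlue_mg
section
prune_inst 0x40001201000002000004001000000081010000900040800000860142000040400002800008000500000202000000000000800410000000000000000000210200800840002200010424000f800002010000000000000000000000000000000000004410000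
set_option linter.all false
open scoped Cfsg.Agent.FastGrp

-- part: TwoFusion/GoldType
section
/-!
# The type of a component in case (W)

`A = ∏ B i` is an elementary abelian 2-group, `J` a group of odd order permuting the factors, centralising
`D ≤ A` and transitive on the nontrivial cosets of `D` in `A`, `|A : D| > 2`.  Then all the `B j` but one are
contained in `D`.
-/

set_option autoImplicit false

namespace Cfsg.Agent.TwoFusion.GoldType

open Subgroup

variable {G : Type*} [Group G]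

/-- The situation. -/
structure Sit (A : Subgroup G) {ι : Type*} (B : ι → Subgroup G) (J D : Subgroup G) : Prop where
  sq : ∀ a ∈ A, a * a = 1
  comm : ∀ a ∈ A, ∀ b ∈ A, a * b = b * a
  sup : ⨆ i, B i = A
  indep : ∀ i, B i ⊓ (⨆ j : {j // j ≠ i}, B j) = ⊥
  two : ∀ i, ∀ x ∈ B i, ∃ y ∈ B i, y ≠ 1 ∧ y ≠ x
  odd : Odd (Nat.card J)
  norm : J ≤ normalizer (A : Set G)
  perm : ∀ j ∈ J, ∀ i, ∃ i', (B i).map (MulAut.conj j).toMonoidHom = B i'
  le : D ≤ A
  fix : ∀ j ∈ J, ∀ d ∈ D, j * d * j⁻¹ = d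
  tr : ∀ x ∈ A, ∀ y ∈ A, x ∉ D → y ∉ D → ∃ j ∈ J, j * x * j⁻¹ * y⁻¹ ∈ D
  big : ∃ x ∈ A, ∃ y ∈ A, x ∉ D ∧ y ∉ D ∧ x * y⁻¹ ∉ D

namespace Sit

variable {A : Subgroup G} {ι : Type*} {B : ι → Subgroup G} {J D : Subgroup G}

theorem B_le (h : Sit A B J D) (i : ι) : B i ≤ A := by
  rw [← h.sup]; exact le_iSup B i

theorem conj_mem (h : Sit A B J D) {j a : G} (hj : j ∈ J) (ha : a ∈ A) : j * a * j⁻¹ ∈ A :=
  (mem_normalizer_iff.1 (h.norm hj) a).1 ha

/-- The commutative group structure. -/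
@[reducible] def commGroup (h : Sit A B J D) : CommGroup A :=
  { (inferInstance : Group A) with
    mul_comm := fun a b => Subtype.ext (h.comm a a.2 b b.2) }

/-- conjugation by an element of `J` on `A`. -/
def act (h : Sit A B J D) (j : J) (a : A) : A := ⟨(j : G) * a * (j : G)⁻¹, h.conj_mem j.2 a.2⟩

open scoped Classical in
/-- The kernel of the norm map. -/
theorem exists_ker [Finite G] (h : Sit A B J D) : ∃ N : Subgroup G, N ≤ A ∧
    (∀ j ∈ J, ∀ a ∈ N, j * a * j⁻¹ ∈ N) ∧ N ⊓ D = ⊥ ∧ ∀ x ∈ A, ∀ g ∈ J, x * (g * x * g⁻¹) ∈ N := by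
  let _ := h.commGroup
  have := Fintype.ofFinite J
  let N : A → A := fun a => ∏ j : J, h.act j a
  have hmul : ∀ a b, N (a * b) = N a * N b := by
    intro a b
    change ∏ j : J, h.act j (a * b) = (∏ j : J, h.act j a) * ∏ j : J, h.act j b
    rw [← Finset.prod_mul_distrib]
    refine Finset.prod_congr rfl fun j _ => Subtype.ext ?_
    change (j : G) * ((a : G) * b) * (j : G)⁻¹ = (j : G) * a * (j : G)⁻¹ * ((j : G) * b * (j : G)⁻¹)
    group
  have hact : ∀ (k : J) (a : A), N (h.act k a) = N a := by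
    intro k a
    change ∏ j : J, h.act j (h.act k a) = ∏ j : J, h.act j a
    refine Fintype.prod_equiv (Equiv.mulRight k) _ _ fun j => Subtype.ext ?_
    change (j : G) * ((k : G) * a * (k : G)⁻¹) * (j : G)⁻¹ = ((j : G) * k) * a * ((j : G) * k)⁻¹
    group
  have hsq : ∀ a : A, N a * N a = 1 := fun a => Subtype.ext (h.sq _ (N a).2)
  have hfix : ∀ a (ha : a ∈ D), N ⟨a, h.le ha⟩ = ⟨a, h.le ha⟩ := by
    intro a ha
    change ∏ j : J, h.act j ⟨a, h.le ha⟩ = _
    rw [Finset.prod_congr rfl (fun j _ => (Subtype.ext (h.fix j j.2 a ha) :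
      h.act j ⟨a, h.le ha⟩ = ⟨a, h.le ha⟩)), Finset.prod_const, Finset.card_univ,
      ← Nat.card_eq_fintype_card]
    obtain ⟨m, hm⟩ := h.odd
    rw [hm, pow_succ, pow_mul, pow_two]
    have : (⟨a, h.le ha⟩ : A) * ⟨a, h.le ha⟩ = 1 := Subtype.ext (h.sq a (h.le ha))
    rw [this, one_pow, one_mul]
  let f : A →* A := MonoidHom.mk' N hmul
  refine ⟨f.ker.map A.subtype, ?_, ?_, ?_, ?_⟩
  · rintro _ ⟨a, -, rfl⟩
    exact a.2
  · rintro j hj _ ⟨a, ha, rfl⟩
    refine ⟨h.act ⟨j, hj⟩ a, ?_, rfl⟩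
    change N (h.act ⟨j, hj⟩ a) = 1
    rw [hact]
    exact ha
  · rw [eq_bot_iff]
    rintro _ ⟨⟨a, ha, rfl⟩, haD⟩
    have h1 : N a = 1 := ha
    have h2 := hfix a haD
    rw [mem_bot]
    have h3 : (⟨(a : G), h.le haD⟩ : A) = 1 := by rw [← h2]; exact h1
    exact congrArg Subtype.val h3
  · intro x hx g hg
    refine ⟨⟨x, hx⟩ * h.act ⟨g, hg⟩ ⟨x, hx⟩, ?_, rfl⟩
    change N (⟨x, hx⟩ * h.act ⟨g, hg⟩ ⟨x, hx⟩) = 1
    rw [hmul, hact, hsq]

theorem eq_one_of_two (h : Sit A B J D) {i j : ι} (hij : i ≠ j) {x : G} (hx : x ∈ B i) (hx' : x ∈ B j) :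
    x = 1 := by
  have h1 : x ∈ B i ⊓ (⨆ k : {k // k ≠ i}, B k) :=
    mem_inf.2 ⟨hx, (le_iSup (fun k : {k // k ≠ i} => B k) ⟨j, Ne.symm hij⟩) hx'⟩
  rw [h.indep, mem_bot] at h1
  exact h1

theorem le_of_ne {G : Type*} [Group G] {ι : Type*} (B : ι → Subgroup G) {i k : ι} (hik : i ≠ k) :
    B i ≤ ⨆ j : {j // j ≠ k}, B j :=
  le_iSup (fun j : {j // j ≠ k} => B j) ⟨i, hik⟩

theorem supp_aux (h : Sit A B J D) {k p q : ι} {c z a b : G} (ha : a ∈ B p) (hb : b ∈ B q)
    (hc : c ∈ B k) (hpk : p ≠ k) (hqk : q ≠ k)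
    (hz : z ∈ (⨆ j : {j // j ≠ k}, B j)) (he : c = a * b * z) : c = 1 := by
  have h4 : c ∈ B k ⊓ (⨆ j : {j // j ≠ k}, B j) := by
    refine mem_inf.2 ⟨hc, ?_⟩
    rw [he]
    exact mul_mem (mul_mem (le_of_ne B hpk ha) (le_of_ne B hqk hb)) hz
  rw [h.indep, mem_bot] at h4
  exact h4

/-- A product of two elements of factors is not a product of nontrivial elements of three different factors. -/
theorem three_supp (h : Sit A B J D) {p q i₁ i₂ i₃ : ι} {a b c₁ c₂ c₃ : G} (ha : a ∈ B p) (hb : b ∈ B q)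
    (h1 : c₁ ∈ B i₁) (h2 : c₂ ∈ B i₂) (h3 : c₃ ∈ B i₃) (n1 : c₁ ≠ 1) (n2 : c₂ ≠ 1) (n3 : c₃ ≠ 1)
    (d12 : i₁ ≠ i₂) (d13 : i₁ ≠ i₃) (d23 : i₂ ≠ i₃) (e : a * b = c₁ * c₂ * c₃) : False := by
  have hA := h.B_le
  have c12 := h.comm c₁ (hA i₁ h1) c₂ (hA i₂ h2)
  have c13 := h.comm c₁ (hA i₁ h1) c₃ (hA i₃ h3)
  have c23 := h.comm c₂ (hA i₂ h2) c₃ (hA i₃ h3)
  by_cases hk1 : p ≠ i₁ ∧ q ≠ i₁
  · exact n1 (h.supp_aux ha hb h1 hk1.1 hk1.2
      (mul_mem (inv_mem (le_of_ne B (Ne.symm d13) h3)) (inv_mem (le_of_ne B (Ne.symm d12) h2)))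
      (by rw [e]; group))
  by_cases hk2 : p ≠ i₂ ∧ q ≠ i₂
  · exact n2 (h.supp_aux ha hb h2 hk2.1 hk2.2
      (mul_mem (inv_mem (le_of_ne B (Ne.symm d23) h3)) (inv_mem (le_of_ne B d12 h1)))
      (by rw [e, c12]; group))
  by_cases hk3 : p ≠ i₃ ∧ q ≠ i₃
  · exact n3 (h.supp_aux ha hb h3 hk3.1 hk3.2
      (mul_mem (inv_mem (le_of_ne B d23 h2)) (inv_mem (le_of_ne B d13 h1)))
      (by
        rw [e]
        calc c₃ = (c₃ * c₁) * c₁⁻¹ := by group
          _ = (c₁ * c₃) * c₁⁻¹ := by rw [c13]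
          _ = c₁ * (c₃ * c₂) * c₂⁻¹ * c₁⁻¹ := by group
          _ = c₁ * (c₂ * c₃) * c₂⁻¹ * c₁⁻¹ := by rw [c23]
          _ = c₁ * c₂ * c₃ * (c₂⁻¹ * c₁⁻¹) := by group))
  have r1 : p = i₁ ∨ q = i₁ := by
    by_contra hc; rw [not_or] at hc; exact hk1 hc
  have r2 : p = i₂ ∨ q = i₂ := by
    by_contra hc; rw [not_or] at hc; exact hk2 hc
  have r3 : p = i₃ ∨ q = i₃ := by
    by_contra hc; rw [not_or] at hc; exact hk3 hc
  rcases r1 with r1 | r1
  · rcases r2 with r2 | r2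
    · exact d12 (r1.symm.trans r2)
    · rcases r3 with r3 | r3
      · exact d13 (r1.symm.trans r3)
      · exact d23 (r2.symm.trans r3)
  · rcases r2 with r2 | r2
    · rcases r3 with r3 | r3
      · exact d23 (r2.symm.trans r3)
      · exact d13 (r1.symm.trans r3)
    · exact d12 (r1.symm.trans r2)

theorem map_mul (g k : G) (X : Subgroup G) :
    X.map (MulAut.conj (g * k)).toMonoidHom =
      (X.map (MulAut.conj k).toMonoidHom).map (MulAut.conj g).toMonoidHom := by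
  rw [Subgroup.map_map]
  congr 1
  ext x
  simp

theorem map_inj {g : G} {X Y : Subgroup G}
    (e : X.map (MulAut.conj g).toMonoidHom = Y.map (MulAut.conj g).toMonoidHom) : X = Y :=
  Subgroup.map_injective (MulAut.conj g).injective e

theorem map_pow {g : G} {X : Subgroup G} (e : X.map (MulAut.conj g).toMonoidHom = X) (n : ℕ) :
    X.map (MulAut.conj (g ^ n)).toMonoidHom = X := by
  induction n with
  | zero =>
    ext x
    simp only [_root_.pow_zero, _root_.map_one, _root_.MulEquiv.toMonoidHom_eq_coe, _root_.Subgroup.mem_map, _root_.MonoidHom.coe_coe, _root_.MulAut.one_apply, _root_.exists_eq_right]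
  | succ n ih => rw [pow_succ, map_mul, e, ih]

/-- `J` fixes all factors. -/
theorem stab [Finite G] (h : Sit A B J D) {g : G} (hg : g ∈ J) (i : ι) :
    (B i).map (MulAut.conj g).toMonoidHom = B i := by
  by_contra hne
  obtain ⟨i₂, h2⟩ := h.perm g hg i
  have hi2 : i ≠ i₂ := by
    rintro rfl
    exact hne h2
  obtain ⟨i₃, h3⟩ := h.perm (g * g) (mul_mem hg hg) i
  have h3' : (B i₂).map (MulAut.conj g).toMonoidHom = B i₃ := by
    rw [← h2, ← map_mul, h3]
  have hBne : B i ≠ B i₂ := fun e => hne (h2.trans e.symm)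
  have hi23 : i₂ ≠ i₃ := by
    rintro rfl
    rw [← h3'] at h2
    exact hBne (map_inj h2)
  have hi13 : i ≠ i₃ := by
    rintro rfl
    -- `g²` fixes `B i`, hence `g` does
    apply hne
    have hodd : Odd (orderOf g) := by
      have h4 : orderOf g ∣ Nat.card J := by
        have := _root_.orderOf_dvd_natCard (⟨g, hg⟩ : J)
        rwa [Subgroup.orderOf_mk] at this
      exact h.odd.of_dvd_nat h4
    obtain ⟨m, hm⟩ := hodd
    have e : g = (g * g) ^ (m + 1) := by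
      rw [← pow_two, ← pow_mul, show 2 * (m + 1) = orderOf g + 1 by omega, pow_succ,
        pow_orderOf_eq_one, one_mul]
    rw [e]
    exact map_pow h3 (m + 1)
  obtain ⟨x, hx, hx1, -⟩ := h.two i 1 (one_mem _)
  obtain ⟨y, hy, hy1, hyx⟩ := h.two i x hx
  have hA := h.B_le
  have hgx : g * x * g⁻¹ ∈ B i₂ := h2 ▸ ⟨x, hx, rfl⟩
  have hgy : (g * g) * y * (g * g)⁻¹ ∈ B i₃ := h3 ▸ ⟨y, hy, rfl⟩
  have hconj1 : ∀ (k z : G), z ≠ 1 → k * z * k⁻¹ ≠ 1 := by
    intro k z hz e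
    apply hz
    have : z = k⁻¹ * (k * z * k⁻¹) * k := by group
    rw [this, e]; group
  have hgx1 := hconj1 g x hx1
  have hgy1 := hconj1 (g * g) y hy1
  obtain ⟨N, hNA, hNJ, hND, hN⟩ := h.exists_ker
  set u := x * (g * x * g⁻¹) with hu
  set v := y * ((g * g) * y * (g * g)⁻¹) with hv
  have huN : u ∈ N := hN x (hA i hx) g hg
  have hvN : v ∈ N := hN y (hA i hy) (g * g) (mul_mem hg hg)
  have hND' : ∀ z ∈ N, z ∈ D → z = 1 := by
    intro z hz hzD
    have : z ∈ N ⊓ D := mem_inf.2 ⟨hz, hzD⟩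
    rw [hND, mem_bot] at this
    exact this
  have hxy1 : x * y ≠ 1 := by
    intro e
    apply hyx
    have h4 := h.sq x (hA i hx)
    exact (mul_left_cancel (h4.trans e.symm)).symm
  have huv : u * v = (x * y) * (g * x * g⁻¹) * ((g * g) * y * (g * g)⁻¹) := by
    have h4 := h.comm (g * x * g⁻¹) (hA i₂ hgx) y (hA i hy)
    calc u * v = x * ((g * x * g⁻¹) * y) * ((g * g) * y * (g * g)⁻¹) := by rw [hu, hv]; group
      _ = _ := by rw [h4]; group
  have huD : u ∉ D := by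
    intro huD
    have h4 := hND' u huN huD
    have h5 : x = (g * x * g⁻¹)⁻¹ := eq_inv_of_mul_eq_one_left h4
    exact hx1 (h.eq_one_of_two hi2 hx (h5 ▸ inv_mem hgx))
  have huvD : u * v ∉ D := by
    intro hD
    have h4 := hND' (u * v) (mul_mem huN hvN) hD
    rw [huv] at h4
    exact h.three_supp (one_mem (B i)) (one_mem (B i)) (mul_mem hx hy) hgx hgy hxy1 hgx1 hgy1 hi2 hi13 hi23
      (by rw [mul_one]; exact h4.symm)
  obtain ⟨j, hj, hjD⟩ := h.tr u (hNA huN) (u * v) (hNA (mul_mem huN hvN)) huD huvD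
  have h5 := hND' _ (mul_mem (hNJ j hj u huN) (inv_mem (mul_mem huN hvN))) hjD
  have h6 : j * u * j⁻¹ = u * v := mul_inv_eq_one.1 h5
  obtain ⟨p, hp⟩ := h.perm j hj i
  obtain ⟨q, hq⟩ := h.perm j hj i₂
  have hjx : j * x * j⁻¹ ∈ B p := hp ▸ ⟨x, hx, rfl⟩
  have hjgx : j * (g * x * g⁻¹) * j⁻¹ ∈ B q := hq ▸ ⟨g * x * g⁻¹, hgx, rfl⟩
  refine h.three_supp hjx hjgx (mul_mem hx hy) hgx hgy hxy1 hgx1 hgy1 hi2 hi13 hi23 ?_
  rw [← huv, ← h6, hu]; group

/-- All factors but one are contained in `D`. -/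
theorem exists_type [Finite G] (h : Sit A B J D) : ∃ i, ∀ j, j ≠ i → B j ≤ D := by
  by_contra hcon
  push Not at hcon
  obtain ⟨x₀, hx₀, y₀, hy₀, hx₀D, hy₀D, hxy₀⟩ := h.big
  obtain ⟨i, hi⟩ : ∃ i, ¬ B i ≤ D := by
    by_contra hall
    push Not at hall
    apply hx₀D
    have : A ≤ D := by rw [← h.sup]; exact iSup_le hall
    exact this hx₀
  obtain ⟨j, hji, hj⟩ := hcon i
  obtain ⟨x, hx, hxD⟩ := SetLike.not_le_iff_exists.1 hi
  obtain ⟨y, hy, hyD⟩ := SetLike.not_le_iff_exists.1 hj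
  have hA := h.B_le
  obtain ⟨g, hg, hgD⟩ := h.tr x (hA i hx) y (hA j hy) hxD hyD
  have hfix : ∀ k ∈ J, k * y * k⁻¹ = y := by
    intro k hk
    have h1 := h.fix k hk _ hgD
    have hxg : g * x * g⁻¹ ∈ B i := h.stab hg i ▸ ⟨x, hx, rfl⟩
    have hkxg : k * (g * x * g⁻¹) * k⁻¹ ∈ B i := by
      have := h.stab hk i
      rw [← this]
      exact ⟨_, hxg, rfl⟩
    have hky : k * y * k⁻¹ ∈ B j := by
      have := h.stab hk j
      rw [← this]
      exact ⟨_, hy, rfl⟩
    have h2 : (g * x * g⁻¹)⁻¹ * (k * (g * x * g⁻¹) * k⁻¹) = y⁻¹ * (k * y * k⁻¹) := by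
      have h3 : k * (g * x * g⁻¹) * k⁻¹ * (k * y * k⁻¹)⁻¹ = g * x * g⁻¹ * y⁻¹ := by
        rw [← h1]; group
      rw [inv_mul_eq_iff_eq_mul]
      calc k * (g * x * g⁻¹) * k⁻¹ = (k * (g * x * g⁻¹) * k⁻¹ * (k * y * k⁻¹)⁻¹) * (k * y * k⁻¹) := by
            group
        _ = _ := by rw [h3]; group
    have h3 : y⁻¹ * (k * y * k⁻¹) = 1 := by
      refine h.eq_one_of_two hji (mul_mem (inv_mem hy) hky) ?_
      rw [← h2]
      exact mul_mem (inv_mem hxg) hkxg
    exact (inv_mul_eq_one.1 h3).symm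
  have hall : ∀ z ∈ A, z ∉ D → y * z⁻¹ ∈ D := by
    intro z hz hzD
    obtain ⟨k, hk, hkD⟩ := h.tr y (hA j hy) z hz hyD hzD
    rwa [hfix k hk] at hkD
  apply hxy₀
  have e : x₀ * y₀⁻¹ = (y * x₀⁻¹)⁻¹ * (y * y₀⁻¹) := by
    have h1 := h.comm x₀ hx₀ y⁻¹ (inv_mem (hA j hy))
    group
  rw [e]
  exact mul_mem (inv_mem (hall x₀ hx₀ hx₀D)) (hall y₀ hy₀ hy₀D)

end Sit

end Cfsg.Agent.TwoFusion.GoldType
end

-- part: TwoFusion/GoldLin
section
/-!
# The linear algebra step of Goldschmidt's theorem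

`V` is an abelian 2-group (in the application: a minimal strongly closed elementary abelian
subgroup), `Γ` acts irreducibly on it, and `P` is an invariant family of pairs
`(A_L, D_L)` of complements.  See `gold_lin` at the end of the file.
-/

set_option autoImplicit false
set_option linter.unusedSectionVars false

open scoped Pointwise

namespace Cfsg.Agent.TwoFusion.GoldLin

/-- A finite set with a fixed point free involution has even cardinality. -/
theorem even_of_involution {α : Type*} (s : Finset α) (τ : ∀ a ∈ s, α)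
    (h1 : ∀ a (ha : a ∈ s), τ a ha ∈ s) (h2 : ∀ a (ha : a ∈ s), τ (τ a ha) (h1 a ha) = a)
    (h3 : ∀ a (ha : a ∈ s), τ a ha ≠ a) : Even s.card := by
  have h := Finset.sum_involution (s := s) (f := fun _ => (1 : ZMod 2)) τ
    (fun a ha => by decide) (fun a ha _ => h3 a ha) h1 h2
  rw [Finset.sum_const, nsmul_eq_mul, mul_one] at h
  exact (ZMod.natCast_eq_zero_iff_even).1 h

variable {Γ V : Type*} [Group Γ] [CommGroup V] [MulDistribMulAction Γ V]

/-- The data of the linear algebra step. -/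
structure Fam (Γ : Type*) {V : Type*} [Group Γ] [CommGroup V] [MulDistribMulAction Γ V]
    (P : Set (Subgroup V × Subgroup V)) (q : ℕ) : Prop where
  card_fst : ∀ p ∈ P, Nat.card p.1 = q
  fst_ne : ∀ p ∈ P, p.1 ≠ ⊥
  snd_ne : ∀ p ∈ P, p.2 ≠ ⊥
  compl : ∀ p ∈ P, IsCompl p.1 p.2
  inv : ∀ g : Γ, ∀ p ∈ P, g • p ∈ P
  ti : ∀ p ∈ P, ∀ m ∈ P, p ≠ m → p.2 ⊓ m.2 ≠ ⊥ → p.1 ≤ m.2 ∧ m.1 ≤ p.2
  tr : ∀ p ∈ P, ∀ x ∈ p.1, ∀ y ∈ p.1, x ≠ 1 → y ≠ 1 →
    ∃ g : Γ, g • x = y ∧ g • p.1 = p.1 ∧ ∀ d ∈ p.2, g • d = d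

/-- Pairwise trivial intersections of second components. -/
def Disj (P : Set (Subgroup V × Subgroup V)) : Prop :=
  ∀ p ∈ P, ∀ m ∈ P, p ≠ m → p.2 ⊓ m.2 = ⊥

/-- `v` is in one of the second components. -/
def InU (P : Set (Subgroup V × Subgroup V)) (v : V) : Prop := ∃ m ∈ P, v ∈ m.2

variable {P : Set (Subgroup V × Subgroup V)} {q : ℕ}

namespace Fam

theorem mono (h : Fam Γ P q) {P' : Set (Subgroup V × Subgroup V)} (hs : P' ⊆ P)
    (hi : ∀ g : Γ, ∀ p ∈ P', g • p ∈ P') : Fam Γ P' q where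
  card_fst p hp := h.card_fst p (hs hp)
  fst_ne p hp := h.fst_ne p (hs hp)
  snd_ne p hp := h.snd_ne p (hs hp)
  compl p hp := h.compl p (hs hp)
  inv := hi
  ti p hp m hm := h.ti p (hs hp) m (hs hm)
  tr p hp := h.tr p (hs hp)

theorem eq_one (h : Fam Γ P q) {p : Subgroup V × Subgroup V} (hp : p ∈ P) {x : V}
    (h1 : x ∈ p.1) (h2 : x ∈ p.2) : x = 1 := by
  have := (h.compl p hp).disjoint.le_bot (Subgroup.mem_inf.2 ⟨h1, h2⟩)
  simpa using this

theorem exists_mul (h : Fam Γ P q) {p : Subgroup V × Subgroup V} (hp : p ∈ P) (v : V) :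
    ∃ d ∈ p.2, ∃ a ∈ p.1, d * a = v := by
  have : v ∈ p.2 ⊔ p.1 := by
    rw [sup_comm, (h.compl p hp).sup_eq_top]; trivial
  exact Subgroup.mem_sup.1 this

theorem isComplement (h : Fam Γ P q) {p : Subgroup V × Subgroup V} (hp : p ∈ P) :
    p.1.IsComplement' p.2 := by
  refine Subgroup.isComplement'_of_disjoint_and_mul_eq_univ (h.compl p hp).disjoint ?_
  refine Set.eq_univ_of_forall fun v => ?_
  obtain ⟨d, hd, a, ha, e⟩ := h.exists_mul hp v
  exact Set.mem_mul.2 ⟨a, ha, d, hd, by rw [mul_comm, e]⟩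

theorem card_mul (h : Fam Γ P q) {p : Subgroup V × Subgroup V} (hp : p ∈ P) :
    q * Nat.card p.2 = Nat.card V := by
  rw [← h.card_fst p hp]
  exact (h.isComplement hp).card_mul_card

variable [Finite V]

theorem q_pos (h : Fam Γ P q) {p : Subgroup V × Subgroup V} (hp : p ∈ P) : 0 < q := by
  rw [← h.card_fst p hp]; exact Nat.card_pos

theorem card_snd (h : Fam Γ P q) {p m : Subgroup V × Subgroup V} (hp : p ∈ P) (hm : m ∈ P) :
    Nat.card p.2 = Nat.card m.2 := by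
  have h1 := h.card_mul hp
  have h2 := h.card_mul hm
  exact Nat.eq_of_mul_eq_mul_left (h.q_pos hp) (h1.trans h2.symm)

theorem disj_of_le (h : Fam Γ P q) (hV : Nat.card V ≤ q ^ 2) : Disj P := by
  intro p hp m hm hpm
  by_contra hne
  obtain ⟨h1, -⟩ := h.ti p hp m hm hpm hne
  have h2 := h.card_mul hm
  have h3 : Nat.card m.2 ≤ q := by
    have : q * Nat.card m.2 ≤ q * q := by rw [h2, ← sq]; exact hV
    exact Nat.le_of_mul_le_mul_left this (h.q_pos hp)
  have h4 : p.1 = m.2 := Subgroup.eq_of_le_of_card_ge h1 (by rw [h.card_fst p hp]; exact h3)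
  apply hne
  rw [← h4, inf_comm]
  exact (h.compl p hp).inf_eq_bot

theorem mem_smul_snd {g : Γ} {m : Subgroup V × Subgroup V} {v : V} (hv : v ∈ m.2) :
    g • v ∈ (g • m).2 := by
  rw [Prod.smul_snd]
  exact Subgroup.smul_mem_pointwise_smul _ _ _ hv

theorem mem_smul_fst {g : Γ} {m : Subgroup V × Subgroup V} {v : V} (hv : v ∈ m.1) :
    g • v ∈ (g • m).1 := by
  rw [Prod.smul_fst]
  exact Subgroup.smul_mem_pointwise_smul _ _ _ hv

/-- equality of two members with a common nontrivial element in the second component. -/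
theorem eq_of_mem (hd : Disj P) {p m : Subgroup V × Subgroup V} (hp : p ∈ P) (hm : m ∈ P) {v : V}
    (hv : v ≠ 1) (h1 : v ∈ p.2) (h2 : v ∈ m.2) : p = m := by
  by_contra hne
  have := hd p hp m hm hne
  have h3 : v ∈ p.2 ⊓ m.2 := Subgroup.mem_inf.2 ⟨h1, h2⟩
  rw [this] at h3
  exact hv (by simpa using h3)

theorem inU_smul (h : Fam Γ P q) {v : V} (g : Γ) (hv : InU P v) : InU P (g • v) := by
  obtain ⟨m, hm, hvm⟩ := hv
  exact ⟨g • m, h.inv g m hm, mem_smul_snd hvm⟩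

theorem inU_smul_iff (h : Fam Γ P q) {v : V} (g : Γ) : InU P (g • v) ↔ InU P v := by
  refine ⟨fun hv => ?_, h.inU_smul g⟩
  have := h.inU_smul g⁻¹ hv
  rwa [inv_smul_smul] at this

/-- The group `H_p` moves `d * a` to `d * a'`. -/
theorem exists_move (h : Fam Γ P q) {p : Subgroup V × Subgroup V} (hp : p ∈ P) {d a a' : V}
    (hd : d ∈ p.2) (ha : a ∈ p.1) (ha' : a' ∈ p.1) (h1 : a ≠ 1) (h1' : a' ≠ 1) :
    ∃ g : Γ, g • (d * a) = d * a' ∧ g • p = p ∧ ∀ x ∈ p.2, g • x = x := by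
  obtain ⟨g, hg, hgp, hgd⟩ := h.tr p hp a ha a' ha' h1 h1'
  refine ⟨g, by rw [smul_mul', hg, hgd d hd], ?_, hgd⟩
  refine Prod.ext ?_ ?_
  · rw [Prod.smul_fst]; exact hgp
  · rw [Prod.smul_snd]
    ext x
    rw [Subgroup.mem_smul_pointwise_iff_exists]
    constructor
    · rintro ⟨s, hs, rfl⟩
      rw [hgd s hs]; exact hs
    · intro hx
      exact ⟨x, hx, hgd x hx⟩

theorem inU_move (h : Fam Γ P q) {p : Subgroup V × Subgroup V} (hp : p ∈ P) {d a a' : V}
    (hd : d ∈ p.2) (ha : a ∈ p.1) (ha' : a' ∈ p.1) (h1 : a ≠ 1) (h1' : a' ≠ 1)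
    (hU : InU P (d * a)) : InU P (d * a') := by
  obtain ⟨g, hg, -, -⟩ := h.exists_move hp hd ha ha' h1 h1'
  rw [← hg]
  exact h.inU_smul g hU

/-- Blocks of imprimitivity of `H_p` on `d * p.1#` have odd size, so they are trivial. -/
theorem blocks (h : Fam Γ P q) (h2 : IsPGroup 2 V) (hD : Disj P)
    {p m : Subgroup V × Subgroup V} (hp : p ∈ P) (hm : m ∈ P) {d a : V}
    (hd : d ∈ p.2) (hd1 : d ≠ 1) (ha : a ∈ p.1) (ha1 : a ≠ 1) (hda : d * a ∈ m.2) :
    m.2 ⊓ p.1 = ⊥ := by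
  classical
  by_contra hne
  have := Fintype.ofFinite V
  -- for every `b ∈ p.1#` there is a pair `n` with `d * b ∈ n.2` and an involution in `n.2 ⊓ p.1`
  have key : ∀ b ∈ p.1, b ≠ 1 → ∃ n ∈ P, d * b ∈ n.2 ∧ n.2 ⊓ p.1 ≠ ⊥ := by
    intro b hb hb1
    obtain ⟨g, hg, hgp, -⟩ := h.exists_move hp hd ha hb ha1 hb1
    refine ⟨g • m, h.inv g m hm, ?_, ?_⟩
    · rw [← hg]; exact mem_smul_snd hda
    · intro hbot
      apply hne
      have e1 : g • p.1 = p.1 := by
        have := congrArg Prod.fst hgp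
        rwa [Prod.smul_fst] at this
      rw [Prod.smul_snd, ← e1, ← Subgroup.smul_inf] at hbot
      have : m.2 ⊓ p.1 = g⁻¹ • (⊥ : Subgroup V) := by
        rw [← hbot, inv_smul_smul]
      rw [this, Subgroup.smul_bot]
  have keyinv : ∀ n : Subgroup V × Subgroup V, n.2 ⊓ p.1 ≠ ⊥ →
      ∃ x ∈ n.2 ⊓ p.1, x ≠ 1 ∧ x * x = 1 := by
    intro n hn
    have hpg : IsPGroup 2 (n.2 ⊓ p.1 : Subgroup V) := h2.to_subgroup _
    have hnt : Nontrivial (n.2 ⊓ p.1 : Subgroup V) := (Subgroup.nontrivial_iff_ne_bot _).2 hn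
    have hdvd : 2 ∣ Nat.card (n.2 ⊓ p.1 : Subgroup V) := by
      obtain ⟨k, hk0, hk⟩ := (IsPGroup.nontrivial_iff_card hpg).1 hnt
      rw [hk]
      exact dvd_pow_self 2 hk0.ne'
    obtain ⟨x, hx⟩ := exists_prime_orderOf_dvd_card' 2 hdvd
    refine ⟨x, x.2, ?_, ?_⟩
    · intro hx1
      have : x = 1 := Subtype.ext hx1
      rw [this, orderOf_one] at hx
      exact absurd hx (by norm_num)
    · have := pow_orderOf_eq_one x
      rw [hx, sq] at this
      exact congrArg Subtype.val this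
  choose! n hnP hdn hnn using key
  choose! x hx hx1 hxx using keyinv
  set T : Finset V := Finset.univ.filter (fun b => b ∈ p.1 ∧ b ≠ 1) with hT
  have hTm : ∀ b, b ∈ T ↔ b ∈ p.1 ∧ b ≠ 1 := fun b => by simp [hT]
  have hodd : ¬ Even T.card := by
    have hc : T.card + 1 = q := by
      rw [← h.card_fst p hp, ← Set.ncard_coe_finset T]
      have e : (p.1 : Set V) = insert 1 (T : Set V) := by
        ext b
        simp only [Set.mem_insert_iff, hTm, SetLike.mem_coe]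
        constructor
        · intro hb
          by_cases hb1 : b = 1
          · exact Or.inl hb1
          · exact Or.inr ⟨hb, hb1⟩
        · rintro (rfl | hb)
          · exact one_mem _
          · exact hb.1
      have e2 : Nat.card p.1 = (p.1 : Set V).ncard := rfl
      rw [e2, e, Set.ncard_insert_of_notMem]
      simp [hTm]
    have hqe : Even q := by
      rw [← h.card_fst p hp]
      have hnt : Nontrivial p.1 := (Subgroup.nontrivial_iff_ne_bot _).2 (h.fst_ne p hp)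
      obtain ⟨k, hk0, hk⟩ := (IsPGroup.nontrivial_iff_card (h2.to_subgroup p.1)).1 hnt
      rw [hk]
      exact (Nat.even_pow.2 ⟨even_two, hk0.ne'⟩)
    intro he
    rw [← hc] at hqe
    exact absurd (Nat.even_add_one.1 hqe) (by simpa only [_root_.Nat.not_even_iff_odd, _root_.Nat.not_odd_iff_even] using he)
  apply hodd
  have hpn : ∀ b ∈ p.1, b ≠ 1 → n b ≠ p := by
    intro b hb hb1 e
    have := hdn b hb hb1
    rw [e] at this
    have hbp : b ∈ p.2 := by
      have := p.2.mul_mem (p.2.inv_mem hd) this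
      rwa [inv_mul_cancel_left] at this
    exact hb1 (h.eq_one hp hb hbp)
  have hdb : ∀ b ∈ p.1, b ≠ 1 → d * b ≠ 1 := by
    intro b hb hb1 e
    have : b = d⁻¹ := by rw [eq_inv_iff_mul_eq_one, mul_comm]; exact e
    exact hb1 (h.eq_one hp hb (this ▸ p.2.inv_mem hd))
  have hstep : ∀ b ∈ p.1, b ≠ 1 → b * x (n b) ∈ p.1 ∧ b * x (n b) ≠ 1 ∧ n (b * x (n b)) = n b := by
    intro b hb hb1
    have hx' := hx (n b) (hnn b hb hb1)
    have hm1 : b * x (n b) ∈ p.1 := p.1.mul_mem hb (Subgroup.mem_inf.1 hx').2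
    have hne1 : b * x (n b) ≠ 1 := by
      intro e
      have hxb : b ∈ (n b).2 := by
        have : b = (x (n b))⁻¹ := eq_inv_of_mul_eq_one_left e
        have e3 := (n b).2.inv_mem (Subgroup.mem_inf.1 hx').1
        rwa [← this] at e3
      have hdnb : d ∈ (n b).2 := by
        have := (n b).2.mul_mem (hdn b hb hb1) ((n b).2.inv_mem hxb)
        rwa [mul_inv_cancel_right] at this
      exact hpn b hb hb1 (eq_of_mem hD (hnP b hb hb1) hp hd1 hdnb hd)
    refine ⟨hm1, hne1, ?_⟩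
    refine eq_of_mem hD (hnP _ hm1 hne1) (hnP b hb hb1) (hdb _ hm1 hne1) (hdn _ hm1 hne1) ?_
    rw [← mul_assoc]
    exact (n b).2.mul_mem (hdn b hb hb1) (Subgroup.mem_inf.1 hx').1
  refine even_of_involution T (fun b _ => b * x (n b)) ?_ ?_ ?_
  · intro b hb
    rw [hTm] at hb ⊢
    exact ⟨(hstep b hb.1 hb.2).1, (hstep b hb.1 hb.2).2.1⟩
  · intro b hb
    rw [hTm] at hb
    rw [(hstep b hb.1 hb.2).2.2, mul_assoc, hxx _ (hnn b hb.1 hb.2), mul_one]
  · intro b hb e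
    rw [hTm] at hb
    exact hx1 _ (hnn b hb.1 hb.2) (mul_eq_left.1 e)

/-- If `m.2` meets `p.1` trivially then it is a complement of it. -/
theorem graph (h : Fam Γ P q) {p m : Subgroup V × Subgroup V} (hp : p ∈ P) (hm : m ∈ P)
    (hb : m.2 ⊓ p.1 = ⊥) (v : V) : ∃ a ∈ p.1, v * a ∈ m.2 := by
  have hc : Nat.card m.2 * Nat.card p.1 = Nat.card V := by
    rw [h.card_snd hm hp, mul_comm, h.card_fst p hp, h.card_mul hp]
  have hcompl : m.2.IsComplement' p.1 :=
    Subgroup.isComplement'_of_card_mul_and_disjoint hc (disjoint_iff.2 hb)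
  obtain ⟨⟨b, a⟩, e⟩ := hcompl.2 v
  refine ⟨(a : V)⁻¹, p.1.inv_mem a.2, ?_⟩
  have e' : (b : V) * a = v := e
  rw [← e', mul_inv_cancel_right]
  exact b.2

/-- `m.2` is contained in `p.1` or meets it trivially. -/
theorem le_or_inf (h : Fam Γ P q) (h2 : IsPGroup 2 V) (hD : Disj P)
    {p m : Subgroup V × Subgroup V} (hp : p ∈ P) (hm : m ∈ P) :
    m.2 ≤ p.1 ∨ m.2 ⊓ p.1 = ⊥ := by
  by_cases hpm : m = p
  · right; rw [hpm, inf_comm]; exact (h.compl p hp).inf_eq_bot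
  by_contra hcon
  push Not at hcon
  apply hcon.1
  intro v hv
  obtain ⟨d, hd, a, ha, e⟩ := h.exists_mul hp v
  by_cases hd1 : d = 1
  · rw [← e, hd1, one_mul]; exact ha
  by_cases ha1 : a = 1
  · exfalso
    apply hpm
    have : v = d := by rw [← e, ha1, mul_one]
    exact eq_of_mem hD hm hp hd1 (this ▸ hv) hd
  · exact absurd (h.blocks h2 hD hp hm hd hd1 ha ha1 (e ▸ hv)) hcon.2

/-- Propagation to all of `p.2# * p.1#`. -/
theorem inU_all (h : Fam Γ P q) (h2 : IsPGroup 2 V) (hD : Disj P)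
    {p : Subgroup V × Subgroup V} (hp : p ∈ P) {d a : V}
    (hd : d ∈ p.2) (hd1 : d ≠ 1) (ha : a ∈ p.1) (ha1 : a ≠ 1) (hU : InU P (d * a))
    {d' a' : V} (hd' : d' ∈ p.2) (hd1' : d' ≠ 1) (ha' : a' ∈ p.1) (ha1' : a' ≠ 1) :
    InU P (d' * a') := by
  obtain ⟨m, hm, hda⟩ := hU
  have hb := h.blocks h2 hD hp hm hd hd1 ha ha1 hda
  obtain ⟨a'', ha'', hm''⟩ := h.graph hp hm hb d'
  have hpm : m ≠ p := by
    intro e
    rw [e] at hda
    have : a ∈ p.2 := by
      have := p.2.mul_mem (p.2.inv_mem hd) hda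
      rwa [inv_mul_cancel_left] at this
    exact ha1 (h.eq_one hp ha this)
  have ha1'' : a'' ≠ 1 := by
    intro e
    rw [e, mul_one] at hm''
    exact hpm (eq_of_mem hD hm hp hd1' hm'' hd')
  exact h.inU_move hp hd' ha'' ha' ha1'' ha1' ⟨m, hm, hm''⟩


/-- Irreducibility. -/
def Irr (Γ V : Type*) [Group Γ] [CommGroup V] [MulDistribMulAction Γ V] : Prop :=
  ∀ W : Subgroup V, (∀ g : Γ, g • W ≤ W) → W = ⊥ ∨ W = ⊤

theorem mk_invariant {W : Subgroup V} (h : ∀ g : Γ, ∀ x ∈ W, g • x ∈ W) (g : Γ) :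
    g • W ≤ W := by
  intro y hy
  obtain ⟨s, hs, rfl⟩ := (Subgroup.mem_smul_pointwise_iff_exists _ _ _).1 hy
  exact h g s hs

/-- `p.1` is not invariant. -/
theorem fst_not_inv (h : Fam Γ P q) (hirr : Irr Γ V) {p : Subgroup V × Subgroup V} (hp : p ∈ P)
    (hinv : ∀ g : Γ, ∀ x ∈ p.1, g • x ∈ p.1) : False := by
  rcases hirr p.1 (mk_invariant hinv) with h1 | h1
  · exact h.fst_ne p hp h1
  · have := (h.compl p hp).inf_eq_bot
    rw [h1, top_inf_eq] at this
    exact h.snd_ne p hp this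

theorem snd_not_inv (h : Fam Γ P q) (hirr : Irr Γ V) {p : Subgroup V × Subgroup V} (hp : p ∈ P)
    (hinv : ∀ g : Γ, ∀ x ∈ p.2, g • x ∈ p.2) : False := by
  rcases hirr p.2 (mk_invariant hinv) with h1 | h1
  · exact h.snd_ne p hp h1
  · have := (h.compl p hp).inf_eq_bot
    rw [h1, inf_top_eq] at this
    exact h.fst_ne p hp this

theorem exists_ne_one_of_ne_bot {W : Subgroup V} (h : W ≠ ⊥) : ∃ x ∈ W, x ≠ 1 := by
  by_contra hcon
  push Not at hcon
  exact h ((Subgroup.eq_bot_iff_forall W).2 hcon)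

/-- The case `U = p.1# ∪ p.2#`. -/
theorem case_swap (h : Fam Γ P q) (hD : Disj P) (hirr : Irr Γ V)
    (hidx : ∀ N : Subgroup Γ, (MulDistribMulAction.toMulAut Γ V).ker ≤ N → N.index ≠ 2)
    {p : Subgroup V × Subgroup V} (hp : p ∈ P) (hP : P = MulAction.orbit Γ p)
    (hU : ∀ v : V, v ≠ 1 → (InU P v ↔ v ∈ p.1 ∨ v ∈ p.2)) : False := by
  -- the set `p.1 ∪ p.2` is invariant
  have hinv : ∀ g : Γ, ∀ v : V, v ∈ p.1 ∨ v ∈ p.2 → g • v ∈ p.1 ∨ g • v ∈ p.2 := by
    intro g v hv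
    by_cases hv1 : v = 1
    · left; rw [hv1, smul_one]; exact one_mem _
    · have h1 : InU P v := (hU v hv1).2 hv
      have h2 : InU P (g • v) := h.inU_smul g h1
      have h3 : g • v ≠ 1 := by
        intro e; apply hv1
        rw [← inv_smul_smul g v, e, smul_one]
      exact (hU _ h3).1 h2
  have key : ∀ m ∈ P, m ≠ p → m = (p.2, p.1) := by
    intro m hm hmp
    -- m = g • p
    obtain ⟨g, hg⟩ : ∃ g : Γ, g • p = m := by rw [hP] at hm; exact hm
    have hu : ∀ v, v ∈ m.1 ∨ v ∈ m.2 ↔ v ∈ p.1 ∨ v ∈ p.2 := by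
      intro v
      have e1 : v ∈ m.1 ↔ g⁻¹ • v ∈ p.1 := by
        rw [← hg, Prod.smul_fst, Subgroup.mem_pointwise_smul_iff_inv_smul_mem]
      have e2 : v ∈ m.2 ↔ g⁻¹ • v ∈ p.2 := by
        rw [← hg, Prod.smul_snd, Subgroup.mem_pointwise_smul_iff_inv_smul_mem]
      rw [e1, e2]
      constructor
      · intro hv
        have := hinv g _ hv
        rwa [smul_inv_smul] at this
      · exact hinv g⁻¹ v
    have a1 : p.2 ≤ m.1 := by
      intro x hx
      by_cases hx1 : x = 1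
      · rw [hx1]; exact one_mem _
      rcases (hu x).2 (Or.inr hx) with h1 | h1
      · exact h1
      · exact absurd (eq_of_mem hD hm hp hx1 h1 hx) hmp
    have a2 : m.2 ≤ p.1 := by
      intro x hx
      by_cases hx1 : x = 1
      · rw [hx1]; exact one_mem _
      rcases (hu x).1 (Or.inr hx) with h1 | h1
      · exact h1
      · exact absurd (eq_of_mem hD hm hp hx1 hx h1) hmp
    -- union of two subgroups
    have b1 : m.1 ≤ p.2 := by
      intro x hx
      rcases (hu x).1 (Or.inl hx) with h1 | h1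
      · -- x ∈ p.1, take d ∈ p.2#
        by_contra hx2
        obtain ⟨d, hd, hd1⟩ := exists_ne_one_of_ne_bot (h.snd_ne p hp)
        rcases (hu (d * x)).1 (Or.inl (m.1.mul_mem (a1 hd) hx)) with h3 | h3
        · have : d ∈ p.1 := by
            have := p.1.mul_mem h3 (p.1.inv_mem h1)
            rwa [mul_inv_cancel_right] at this
          exact hd1 (h.eq_one hp this hd)
        · have : x ∈ p.2 := by
            have := p.2.mul_mem (p.2.inv_mem hd) h3
            rwa [inv_mul_cancel_left] at this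
          exact hx2 this
      · exact h1
    have b2 : p.1 ≤ m.2 := by
      intro x hx
      rcases (hu x).2 (Or.inl hx) with h1 | h1
      · have := b1 h1
        rw [h.eq_one hp hx this]; exact one_mem _
      · exact h1
    exact Prod.ext (le_antisymm b1 a1) (le_antisymm a2 b2)
  by_cases hall : ∀ m ∈ P, m = p
  · apply h.fst_not_inv hirr hp
    intro g x hx
    have : g • p = p := hall _ (h.inv g p hp)
    have h2 : g • x ∈ (g • p).1 := mem_smul_fst hx
    rwa [this] at h2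
  · push Not at hall
    obtain ⟨m, hm, hmp⟩ := hall
    have hPe : P = {p, m} := by
      ext n
      constructor
      · intro hn
        by_cases hnp : n = p
        · exact Or.inl hnp
        · right
          rw [Set.mem_singleton_iff, key n hn hnp, key m hm hmp]
      · rintro (rfl | hn)
        · exact hp
        · rw [Set.mem_singleton_iff.1 hn]; exact hm
    have hi := MulAction.index_stabilizer Γ p
    rw [← hP, hPe, Set.ncard_pair (Ne.symm hmp)] at hi
    refine hidx _ ?_ hi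
    intro g hg
    rw [MulAction.mem_stabilizer_iff]
    have hg' : ∀ v : V, g • v = v := by
      intro v
      have := DFunLike.congr_fun (MonoidHom.mem_ker.1 hg) v
      simpa using this
    have hW : ∀ W : Subgroup V, g • W = W := by
      intro W
      ext x
      rw [Subgroup.mem_smul_pointwise_iff_exists]
      constructor
      · rintro ⟨s, hs, rfl⟩; rw [hg']; exact hs
      · intro hx; exact ⟨x, hx, hg' x⟩
    exact Prod.ext (hW _) (hW _)

/-- The family is a spread, unless the stabiliser has index two. -/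
theorem inU_of_ne_one (h : Fam Γ P q) (h2 : IsPGroup 2 V) (hD : Disj P) (hirr : Irr Γ V)
    (hidx : ∀ N : Subgroup Γ, (MulDistribMulAction.toMulAut Γ V).ker ≤ N → N.index ≠ 2)
    {p : Subgroup V × Subgroup V} (hp : p ∈ P) (hP : P = MulAction.orbit Γ p) :
    ∀ v : V, v ≠ 1 → InU P v := by
  have hsmul : ∀ (g : Γ) (x : V), x ≠ 1 → g • x ≠ 1 := by
    intro g x hx e
    apply hx
    rw [← inv_smul_smul g x, e, smul_one]
  by_cases h1 : ∃ d ∈ p.2, d ≠ 1 ∧ ∃ a ∈ p.1, a ≠ 1 ∧ InU P (d * a)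
  · obtain ⟨d, hd, hd1, a, ha, ha1, hU⟩ := h1
    by_cases h0 : ∃ a ∈ p.1, a ≠ 1 ∧ InU P a
    · obtain ⟨b, hb, hb1, hbU⟩ := h0
      intro v hv
      obtain ⟨d', hd', a', ha', e⟩ := h.exists_mul hp v
      by_cases hd1' : d' = 1
      · have hva : v = a' := by rw [← e, hd1', one_mul]
        have := h.inU_move hp (one_mem _) hb ha' hb1 (hva ▸ hv) (d := 1) (by rwa [one_mul])
        rwa [one_mul, ← hva] at this
      by_cases ha1' : a' = 1
      · exact ⟨p, hp, by rw [← e, ha1', mul_one]; exact hd'⟩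
      · rw [← e]
        exact h.inU_all h2 hD hp hd hd1 ha ha1 hU hd' hd1' ha' ha1'
    · exfalso
      apply h.fst_not_inv hirr hp
      intro g x hx
      by_cases hx1 : x = 1
      · rw [hx1, smul_one]; exact one_mem _
      by_contra hgx
      obtain ⟨d', hd', a', ha', e⟩ := h.exists_mul hp (g • x)
      have hd1' : d' ≠ 1 := by
        intro e1
        rw [e1, one_mul] at e
        exact hgx (e ▸ ha')
      have hUg : InU P (g • x) := by
        by_cases ha1' : a' = 1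
        · exact ⟨p, hp, by rw [← e, ha1', mul_one]; exact hd'⟩
        · rw [← e]
          exact h.inU_all h2 hD hp hd hd1 ha ha1 hU hd' hd1' ha' ha1'
      exact h0 ⟨x, hx, hx1, (h.inU_smul_iff g).1 hUg⟩
  · exfalso
    by_cases h0 : ∃ a ∈ p.1, a ≠ 1 ∧ InU P a
    · obtain ⟨b, hb, hb1, hbU⟩ := h0
      apply h.case_swap hD hirr hidx hp hP
      intro v hv
      constructor
      · intro hUv
        obtain ⟨d', hd', a', ha', e⟩ := h.exists_mul hp v
        by_cases hd1' : d' = 1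
        · left; rw [← e, hd1', one_mul]; exact ha'
        by_cases ha1' : a' = 1
        · right; rw [← e, ha1', mul_one]; exact hd'
        · exact absurd ⟨d', hd', hd1', a', ha', ha1', e ▸ hUv⟩ h1
      · rintro (hv1 | hv2)
        · have := h.inU_move hp (one_mem _) hb hv1 hb1 hv (d := 1) (by rwa [one_mul])
          rwa [one_mul] at this
        · exact ⟨p, hp, hv2⟩
    · apply h.snd_not_inv hirr hp
      intro g x hx
      by_cases hx1 : x = 1
      · rw [hx1, smul_one]; exact one_mem _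
      have hUg : InU P (g • x) := h.inU_smul g ⟨p, hp, hx⟩
      obtain ⟨d', hd', a', ha', e⟩ := h.exists_mul hp (g • x)
      by_cases ha1' : a' = 1
      · rw [← e, ha1', mul_one]; exact hd'
      by_cases hd1' : d' = 1
      · exact absurd ⟨a', ha', ha1', by rw [hd1', one_mul] at e; exact e ▸ hUg⟩ h0
      · exact absurd ⟨d', hd', hd1', a', ha', ha1', e ▸ hUg⟩ h1


/-- a subgroup which is a union of second components. -/
def Good (P : Set (Subgroup V × Subgroup V)) (W : Subgroup V) : Prop :=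
  ∀ m ∈ P, m.2 ⊓ W ≠ ⊥ → m.2 ≤ W

theorem good_top : Good P (⊤ : Subgroup V) := fun _ _ _ => le_top

theorem good_inf (h : Fam Γ P q) (h2 : IsPGroup 2 V) (hD : Disj P) {W : Subgroup V}
    (hW : Good P W) {p : Subgroup V × Subgroup V} (hp : p ∈ P) : Good P (W ⊓ p.1) := by
  intro m hm hne
  have h1 : m.2 ⊓ W ≠ ⊥ := by
    intro e
    apply hne
    rw [← inf_assoc, e, bot_inf_eq]
  have h3 : m.2 ⊓ p.1 ≠ ⊥ := by
    intro e
    apply hne
    rw [inf_comm W, ← inf_assoc, e, bot_inf_eq]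
  refine le_inf (hW m hm h1) ?_
  rcases h.le_or_inf h2 hD hp hm with h4 | h4
  · exact h4
  · exact absurd h4 h3

/-- `|W| = |p.2| * |W ⊓ p.1|` when `p.2 ≤ W`. -/
theorem card_inf (h : Fam Γ P q) {W : Subgroup V}
    {p : Subgroup V × Subgroup V} (hp : p ∈ P) (hpW : p.2 ≤ W) :
    Nat.card p.2 * Nat.card (W ⊓ p.1 : Subgroup V) = Nat.card W := by
  rw [← Nat.card_prod]
  refine Nat.card_congr (Equiv.ofBijective
    (fun x : p.2 × (W ⊓ p.1 : Subgroup V) =>
      (⟨(x.1 : V) * x.2, W.mul_mem (hpW x.1.2) (Subgroup.mem_inf.1 x.2.2).1⟩ : W)) ⟨?_, ?_⟩)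
  · rintro ⟨⟨d, hd⟩, ⟨a, ha⟩⟩ ⟨⟨d', hd'⟩, ⟨a', ha'⟩⟩ e
    have e' : d * a = d' * a' := congrArg Subtype.val e
    have h1 : d'⁻¹ * d = a' * a⁻¹ := by
      rw [inv_mul_eq_iff_eq_mul, ← mul_assoc, ← e', mul_inv_cancel_right]
    have h3 : d'⁻¹ * d = 1 :=
      h.eq_one hp (h1 ▸ p.1.mul_mem (Subgroup.mem_inf.1 ha').2 (p.1.inv_mem (Subgroup.mem_inf.1 ha).2))
        (p.2.mul_mem (p.2.inv_mem hd') hd)
    have h4 : a' * a⁻¹ = 1 := h1 ▸ h3
    have h5 : d = d' := (inv_mul_eq_one.1 h3).symm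
    have h6 : a = a' := (mul_inv_eq_one.1 h4).symm
    subst h5 h6
    rfl
  · rintro ⟨w, hw⟩
    obtain ⟨d, hd, a, ha, e⟩ := h.exists_mul hp w
    have haw : a ∈ W := by
      have : a = d⁻¹ * w := by rw [← e, inv_mul_cancel_left]
      rw [this]
      exact W.mul_mem (W.inv_mem (hpW hd)) hw
    exact ⟨(⟨d, hd⟩, ⟨a, Subgroup.mem_inf.2 ⟨haw, ha⟩⟩), Subtype.ext e⟩

/-- Counting the members inside a good subgroup. -/
theorem card_good (hD : Disj P) (hU : ∀ v : V, v ≠ 1 → InU P v)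
    {W : Subgroup V} (hW : Good P W) {s : ℕ} (hs : ∀ m ∈ P, Nat.card m.2 = s + 1) :
    Set.ncard {m | m ∈ P ∧ m.2 ≤ W} * s + 1 = Nat.card W := by
  classical
  have := Fintype.ofFinite V
  have hfinP : {m | m ∈ P ∧ m.2 ≤ W}.Finite := Set.toFinite _
  choose! f hfP hf using hU
  set T : Finset V := Finset.univ.filter (fun b => b ∈ W ∧ b ≠ 1) with hT
  have hTm : ∀ b, b ∈ T ↔ b ∈ W ∧ b ≠ 1 := fun b => by simp [hT]
  have hmap : Set.MapsTo f (T : Set V) (hfinP.toFinset : Set (Subgroup V × Subgroup V)) := by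
    intro v hv
    have hv' := (hTm v).1 hv
    simp only [Set.Finite.coe_toFinset, Set.mem_ofPred_eq]
    refine ⟨hfP v hv'.2, hW _ (hfP v hv'.2) ?_⟩
    intro e
    have : v ∈ (f v).2 ⊓ W := Subgroup.mem_inf.2 ⟨hf v hv'.2, hv'.1⟩
    rw [e] at this
    exact hv'.2 (by simpa using this)
  have hsum := Finset.card_eq_sum_card_fiberwise hmap
  have hfib : ∀ m ∈ hfinP.toFinset, (T.filter (fun v => f v = m)).card = s := by
    intro m hm
    have hm' : m ∈ P ∧ m.2 ≤ W := by simpa using hm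
    have hc : (T.filter (fun v => f v = m)).card + 1 = Nat.card m.2 := by
      rw [← Set.ncard_coe_finset]
      have e2 : Nat.card m.2 = (m.2 : Set V).ncard := rfl
      have e : (m.2 : Set V) = insert 1 ((T.filter (fun v => f v = m) : Finset V) : Set V) := by
        ext b
        simp only [Set.mem_insert_iff, Finset.coe_filter, Set.mem_ofPred_eq, hTm, SetLike.mem_coe]
        constructor
        · intro hb
          by_cases hb1 : b = 1
          · exact Or.inl hb1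
          · exact Or.inr ⟨⟨hm'.2 hb, hb1⟩, eq_of_mem hD (hfP b hb1) hm'.1 hb1 (hf b hb1) hb⟩
        · rintro (rfl | hb)
          · exact one_mem _
          · rw [← hb.2]; exact hf b hb.1.2
      rw [e2, e, Set.ncard_insert_of_notMem]
      simp [hTm]
    rw [hs m hm'.1] at hc
    omega
  rw [Finset.sum_congr rfl hfib, Finset.sum_const, smul_eq_mul] at hsum
  have hTc : T.card + 1 = Nat.card W := by
    rw [← Set.ncard_coe_finset]
    have e2 : Nat.card W = (W : Set V).ncard := rfl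
    have e : (W : Set V) = insert 1 (T : Set V) := by
      ext b
      simp only [Set.mem_insert_iff, hTm, SetLike.mem_coe]
      constructor
      · intro hb
        by_cases hb1 : b = 1
        · exact Or.inl hb1
        · exact Or.inr ⟨hb, hb1⟩
      · rintro (rfl | hb)
        · exact one_mem _
        · exact hb.1
    rw [e2, e, Set.ncard_insert_of_notMem]
    simp [hTm]
  rw [← hTc, hsum, Set.ncard_eq_toFinset_card _ hfinP]

/-- In a spread the relation `m.2 ≤ p.1` is not symmetric. -/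
theorem not_symm (h : Fam Γ P q) (h2 : IsPGroup 2 V) (hD : Disj P)
    (hU : ∀ v : V, v ≠ 1 → InU P v) {p₀ : Subgroup V × Subgroup V} (hp₀ : p₀ ∈ P) :
    ∃ p ∈ P, ∃ m ∈ P, m.2 ≤ p.1 ∧ ¬ p.2 ≤ m.1 := by
  classical
  by_contra hcon
  push Not at hcon
  set s := Nat.card p₀.2 with hs
  have hcs : ∀ m ∈ P, Nat.card m.2 = s := fun m hm => h.card_snd hm hp₀
  have hs1 : 1 < s := (Subgroup.one_lt_card_iff_ne_bot _).2 (h.snd_ne p₀ hp₀)
  -- a minimal good subgroup of order `> s`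
  have hex : ∃ n, ∃ W : Subgroup V, Good P W ∧ s < Nat.card W ∧ Nat.card W = n := by
    refine ⟨Nat.card V, ⊤, good_top, ?_, ?_⟩
    · rw [Subgroup.card_top, ← h.card_mul hp₀]
      have hq1 : 1 < q := by
        rw [← h.card_fst p₀ hp₀]
        exact (Subgroup.one_lt_card_iff_ne_bot _).2 (h.fst_ne p₀ hp₀)
      calc s = 1 * s := (one_mul _).symm
        _ < q * s := Nat.mul_lt_mul_of_pos_right hq1 (by omega)
    · rw [Subgroup.card_top]
  obtain ⟨W, hW, hsW, hWn⟩ := Nat.find_spec hex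
  have hmin : ∀ W' : Subgroup V, Good P W' → Nat.card W' < Nat.card W → Nat.card W' ≤ s := by
    intro W' hW' hlt
    by_contra hlt'
    exact Nat.find_min hex (m := Nat.card W') (by rw [← hWn]; exact hlt) ⟨W', hW', by omega, rfl⟩
  -- for `p.2 ≤ W`, `W ⊓ p.1` is a second component
  have hstep : ∀ p ∈ P, p.2 ≤ W → ∃ m ∈ P, W ⊓ p.1 = m.2 := by
    intro p hp hpW
    have hc := h.card_inf hp hpW
    rw [hcs p hp] at hc
    have h1 : Nat.card (W ⊓ p.1 : Subgroup V) < Nat.card W := by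
      rw [← hc]
      have : 0 < Nat.card (W ⊓ p.1 : Subgroup V) := Nat.card_pos
      nlinarith only [hs1, hsW, hc]
    have h3 := hmin _ (h.good_inf h2 hD hW hp) h1
    have h4 : W ⊓ p.1 ≠ ⊥ := by
      intro e
      rw [e, Subgroup.card_bot, mul_one] at hc
      omega
    obtain ⟨x, hx, hx1⟩ := exists_ne_one_of_ne_bot h4
    obtain ⟨m, hm, hxm⟩ := hU x hx1
    have h5 : m.2 ≤ W ⊓ p.1 := by
      apply h.good_inf h2 hD hW hp m hm
      intro e
      have : x ∈ m.2 ⊓ (W ⊓ p.1) := Subgroup.mem_inf.2 ⟨hxm, hx⟩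
      rw [e] at this
      exact hx1 (by simpa using this)
    refine ⟨m, hm, (Subgroup.eq_of_le_of_card_ge h5 ?_).symm⟩
    rw [hcs m hm]; exact h3
  choose! τ hτP hτ using hstep
  -- existence of one `p` with `p.2 ≤ W`
  have hne : ∃ p ∈ P, p.2 ≤ W := by
    have : W ≠ ⊥ := by
      intro e
      rw [e, Subgroup.card_bot] at hsW
      omega
    obtain ⟨x, hx, hx1⟩ := exists_ne_one_of_ne_bot this
    obtain ⟨m, hm, hxm⟩ := hU x hx1
    refine ⟨m, hm, hW m hm ?_⟩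
    intro e
    have : x ∈ m.2 ⊓ W := Subgroup.mem_inf.2 ⟨hxm, hx⟩
    rw [e] at this
    exact hx1 (by simpa using this)
  have hWs : Nat.card W = s * s := by
    obtain ⟨p, hp, hpW⟩ := hne
    rw [← h.card_inf hp hpW, hτ p hp hpW, hcs p hp, hcs _ (hτP p hp hpW)]
  obtain ⟨t, ht⟩ : ∃ t, s = t + 1 := ⟨s - 1, by omega⟩
  have hcount := card_good hD hU hW (s := t) (fun m hm => by rw [hcs m hm, ht])
  have hN : Set.ncard {m | m ∈ P ∧ m.2 ≤ W} = t + 2 := by
    rw [hWs, ht] at hcount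
    have : Set.ncard {m | m ∈ P ∧ m.2 ≤ W} * t = (t + 2) * t := by linarith only [hcount]
    exact Nat.eq_of_mul_eq_mul_right (by omega) this
  have hse : Even s := by
    have hnt : Nontrivial p₀.2 := (Subgroup.nontrivial_iff_ne_bot _).2 (h.snd_ne p₀ hp₀)
    obtain ⟨k, hk0, hk⟩ := (IsPGroup.nontrivial_iff_card (h2.to_subgroup p₀.2)).1 hnt
    rw [hs, hk]
    exact (Nat.even_pow.2 ⟨even_two, hk0.ne'⟩)
  have hfin : {m | m ∈ P ∧ m.2 ≤ W}.Finite := Set.toFinite _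
  have heven : Even (hfin.toFinset).card := by
    have hmem : ∀ m, m ∈ hfin.toFinset ↔ m ∈ P ∧ m.2 ≤ W := by
      intro m; simp
    have hτW : ∀ m ∈ P, m.2 ≤ W → (τ m).2 ≤ W := by
      intro m hm hmW
      rw [← hτ m hm hmW]; exact inf_le_left
    refine even_of_involution _ (fun m _ => τ m) ?_ ?_ ?_
    · intro m hm
      rw [hmem] at hm ⊢
      exact ⟨hτP m hm.1 hm.2, hτW m hm.1 hm.2⟩
    · intro m hm
      rw [hmem] at hm
      have h1 : (τ m).2 ≤ m.1 := by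
        rw [← hτ m hm.1 hm.2]; exact inf_le_right
      have h3 : m.2 ≤ (τ m).1 := hcon m hm.1 (τ m) (hτP m hm.1 hm.2) h1
      have h4 : m.2 ≤ (τ (τ m)).2 := by
        rw [← hτ (τ m) (hτP m hm.1 hm.2) (hτW m hm.1 hm.2)]
        exact le_inf hm.2 h3
      have hP2 : τ (τ m) ∈ P := hτP (τ m) (hτP m hm.1 hm.2) (hτW m hm.1 hm.2)
      obtain ⟨x, hx, hx1⟩ := exists_ne_one_of_ne_bot (h.snd_ne m hm.1)
      exact eq_of_mem hD hP2 hm.1 hx1 (h4 hx) hx
    · intro m hm e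
      rw [hmem] at hm
      have h1 : (τ m).2 ≤ m.1 := by
        rw [← hτ m hm.1 hm.2]; exact inf_le_right
      rw [e] at h1
      obtain ⟨x, hx, hx1⟩ := exists_ne_one_of_ne_bot (h.snd_ne m hm.1)
      exact hx1 (h.eq_one hm.1 (h1 hx) hx)
  rw [← Set.ncard_eq_toFinset_card _ hfin, hN] at heven
  rw [ht] at hse
  exact absurd hse (by
    have : Even t := by
      rcases Nat.even_or_odd t with h1 | h1
      · exact h1
      · exfalso
        rcases heven with ⟨a, ha⟩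
        rcases h1 with ⟨b, hb⟩
        omega
    rcases this with ⟨a, ha⟩
    rintro ⟨b, hb⟩
    omega)

/-- images of second components. -/
theorem smul_eq_of_mem (h : Fam Γ P q) (hD : Disj P) {p m : Subgroup V × Subgroup V} (hp : p ∈ P)
    (hm : m ∈ P) {g : Γ} {x : V} (hx : x ∈ p.2) (hx1 : x ≠ 1) (hgx : g • x ∈ m.2) : g • p = m := by
  refine eq_of_mem hD (h.inv g p hp) hm ?_ (mem_smul_snd hx) hgx
  intro e
  apply hx1
  rw [← inv_smul_smul g x, e, smul_one]

theorem smul_snd_le_fst {p m : Subgroup V × Subgroup V} (g : Γ) (hle : m.2 ≤ p.1) :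
    (g • m).2 ≤ (g • p).1 := by
  rw [Prod.smul_snd, Prod.smul_fst]
  exact Subgroup.pointwise_smul_le_pointwise_smul_iff.2 hle

theorem antisymm_of (h : Fam Γ P q) (hD : Disj P)
    (horb : ∀ p ∈ P, ∀ m ∈ P, ∃ g : Γ, g • p = m)
    {p₀ m₀ : Subgroup V × Subgroup V} (hp₀ : p₀ ∈ P) (hm₀ : m₀ ∈ P) (h1 : m₀.2 ≤ p₀.1)
    (h3 : ¬ p₀.2 ≤ m₀.1) {p m : Subgroup V × Subgroup V} (hp : p ∈ P) (hm : m ∈ P)
    (hmp : m.2 ≤ p.1) : ¬ p.2 ≤ m.1 := by
  intro hpm
  obtain ⟨g, hg⟩ := horb p₀ hp₀ p hp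
  have a1 : (g • m₀).2 ≤ p.1 := hg ▸ smul_snd_le_fst g h1
  have a2 : ¬ p.2 ≤ (g • m₀).1 := by
    intro hle
    have := smul_snd_le_fst g⁻¹ hle
    rw [inv_smul_smul, ← hg, inv_smul_smul] at this
    exact h3 this
  obtain ⟨x, hx, hx1⟩ := exists_ne_one_of_ne_bot (h.snd_ne _ (h.inv g m₀ hm₀))
  obtain ⟨y, hy, hy1⟩ := exists_ne_one_of_ne_bot (h.snd_ne m hm)
  obtain ⟨k, hk, hkp, -⟩ := h.exists_move hp (one_mem _) (a1 hx) (hmp hy) hx1 hy1
  rw [one_mul, one_mul] at hk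
  have hkm : k • (g • m₀) = m := h.smul_eq_of_mem hD (h.inv g m₀ hm₀) hm hx hx1 (hk ▸ hy)
  apply a2
  have := smul_snd_le_fst k⁻¹ hpm
  rw [← hkm, inv_smul_smul] at this
  have hkp' : k⁻¹ • p = p := by rw [inv_smul_eq_iff]; exact hkp.symm
  rwa [hkp'] at this

theorem antisymm_of' (h : Fam Γ P q) (h2 : IsPGroup 2 V) (hD : Disj P)
    (horb : ∀ p ∈ P, ∀ m ∈ P, ∃ g : Γ, g • p = m)
    {p₀ m₀ : Subgroup V × Subgroup V} (hp₀ : p₀ ∈ P) (hm₀ : m₀ ∈ P) (h1 : m₀.2 ≤ p₀.1)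
    (h3 : ¬ p₀.2 ≤ m₀.1) {p m : Subgroup V × Subgroup V} (hp : p ∈ P) (hm : m ∈ P)
    (hne : p ≠ m) (hpm : ¬ p.2 ≤ m.1) : m.2 ≤ p.1 := by
  obtain ⟨g, hg⟩ := horb m₀ hm₀ m hm
  set p₁ := g • p₀ with hp₁
  have hp₁P : p₁ ∈ P := h.inv g p₀ hp₀
  have a1 : m.2 ≤ p₁.1 := hg ▸ smul_snd_le_fst g h1
  have a2 : ¬ p₁.2 ≤ m.1 := h.antisymm_of hD horb hp₀ hm₀ h1 h3 hp₁P hm a1
  have a3 : p₁ ≠ m := by
    intro e
    rw [e] at a1
    obtain ⟨x, hx, hx1⟩ := exists_ne_one_of_ne_bot (h.snd_ne m hm)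
    exact hx1 (h.eq_one hm (a1 hx) hx)
  have b1 : p₁.2 ⊓ m.1 = ⊥ := (h.le_or_inf h2 hD hm hp₁P).resolve_left a2
  have b2 : p.2 ⊓ m.1 = ⊥ := (h.le_or_inf h2 hD hm hp).resolve_left hpm
  obtain ⟨d, hd, hd1⟩ := exists_ne_one_of_ne_bot (h.snd_ne m hm)
  obtain ⟨a, ha, hda⟩ := h.graph hm hp₁P b1 d
  obtain ⟨a', ha', hda'⟩ := h.graph hm hp b2 d
  have ha1 : a ≠ 1 := by
    intro e
    rw [e, mul_one] at hda
    exact a3 (eq_of_mem hD hp₁P hm hd1 hda hd)
  have ha1' : a' ≠ 1 := by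
    intro e
    rw [e, mul_one] at hda'
    exact hne (eq_of_mem hD hp hm hd1 hda' hd)
  have hda1 : d * a ≠ 1 := by
    intro e
    have : a = d⁻¹ := by rw [eq_inv_iff_mul_eq_one, mul_comm]; exact e
    exact ha1 (h.eq_one hm ha (this ▸ m.2.inv_mem hd))
  obtain ⟨k, hk, hkm, -⟩ := h.exists_move hm hd ha ha' ha1 ha1'
  have hkp : k • p₁ = p := h.smul_eq_of_mem hD hp₁P hp hda hda1 (hk ▸ hda')
  have := smul_snd_le_fst k a1
  rwa [hkm, hkp] at this

theorem arith_two {F n t q : ℕ} (hF : 0 < F) (ht : 0 < t) (hn : 0 < n) (c8 : n * t + 1 = q)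
    (c2 : F * t + 1 = q * (t + 1)) (c4 : F * n = F * (F - n - 1)) (c3 : n + 1 ≤ F) : 2 = t + 1 := by
  have c6 : n = F - n - 1 := Nat.eq_of_mul_eq_mul_left hF c4
  have c7 : F = 2 * n + 1 := by omega
  rw [c7, ← c8] at c2
  have c9 : 2 * n * t = n * t * (t + 1) := by linarith only [c2]
  have : n * t * 2 = n * t * (t + 1) := by rw [← c9]; ring
  exact Nat.eq_of_mul_eq_mul_left (Nat.mul_pos hn ht) this

theorem good_fst (h : Fam Γ P q) (h2 : IsPGroup 2 V) (hD : Disj P)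
    {p : Subgroup V × Subgroup V} (hp : p ∈ P) : Good P p.1 := by
  have := h.good_inf h2 hD good_top hp
  rwa [top_inf_eq] at this

theorem card_filter_fst (h : Fam Γ P q) (h2 : IsPGroup 2 V) (hD : Disj P)
    (hU : ∀ v : V, v ≠ 1 → InU P v) {t : ℕ} (hcs : ∀ m ∈ P, Nat.card m.2 = t + 1)
    {p : Subgroup V × Subgroup V} (hp : p ∈ P) :
    Set.ncard {m | m ∈ P ∧ m.2 ≤ p.1} * t + 1 = q := by
  have := card_good hD hU (h.good_fst h2 hD hp) hcs
  rwa [h.card_fst p hp] at this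

theorem card_all (h : Fam Γ P q) (hD : Disj P)
    (hU : ∀ v : V, v ≠ 1 → InU P v) {t : ℕ} (hcs : ∀ m ∈ P, Nat.card m.2 = t + 1)
    {p : Subgroup V × Subgroup V} (hp : p ∈ P) :
    Set.ncard P * t + 1 = q * (t + 1) := by
  have := card_good hD hU (W := (⊤ : Subgroup V)) good_top hcs
  rw [Subgroup.card_top, ← h.card_mul hp, hcs p hp] at this
  rw [← this]
  congr 3
  ext m
  simp

/-- The second components have order two. -/
theorem card_snd_eq_two (h : Fam Γ P q) (h2 : IsPGroup 2 V) (hD : Disj P)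
    (hU : ∀ v : V, v ≠ 1 → InU P v)
    (hA : ∀ p ∈ P, ∀ m ∈ P, m.2 ≤ p.1 → ¬ p.2 ≤ m.1)
    (hB : ∀ p ∈ P, ∀ m ∈ P, p ≠ m → ¬ p.2 ≤ m.1 → m.2 ≤ p.1)
    {p₀ m₀ : Subgroup V × Subgroup V} (hp₀ : p₀ ∈ P) (hm₀ : m₀ ∈ P) (h1 : m₀.2 ≤ p₀.1) :
    Nat.card p₀.2 = 2 := by
  classical
  have hself : ∀ m ∈ P, ¬ m.2 ≤ m.1 := by
    intro m hm hle
    obtain ⟨x, hx, hx1⟩ := exists_ne_one_of_ne_bot (h.snd_ne m hm)
    exact hx1 (h.eq_one hm (hle hx) hx)
  obtain ⟨t, ht⟩ : ∃ t, Nat.card p₀.2 = t + 1 := ⟨Nat.card p₀.2 - 1, by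
    have : 0 < Nat.card p₀.2 := Nat.card_pos
    omega⟩
  have ht1 : 0 < t := by
    have : 1 < Nat.card p₀.2 := (Subgroup.one_lt_card_iff_ne_bot _).2 (h.snd_ne p₀ hp₀)
    omega
  have hcs : ∀ m ∈ P, Nat.card m.2 = t + 1 := fun m hm => by rw [h.card_snd hm hp₀, ht]
  have hPfin : P.Finite := Set.toFinite _
  obtain ⟨F, hFP⟩ : ∃ F : Finset (Subgroup V × Subgroup V), (F : Set _) = P :=
    ⟨hPfin.toFinset, by simp⟩
  have hFm : ∀ m, m ∈ F ↔ m ∈ P := fun m => by rw [← hFP]; simp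
  -- number of members below `p.1`
  have c1 : ∀ p ∈ F, (F.filter (fun m => m.2 ≤ p.1)).card * t + 1 = q := by
    intro p hp
    have := h.card_filter_fst h2 hD hU hcs ((hFm p).1 hp)
    rw [← this, ← Set.ncard_coe_finset]
    have e : ((F.filter (fun m => m.2 ≤ p.1) : Finset _) : Set (Subgroup V × Subgroup V))
        = {m | m ∈ P ∧ m.2 ≤ p.1} := by
      ext m
      simp [hFm]
    rw [e]
  have c2 : F.card * t + 1 = q * (t + 1) := by
    rw [← h.card_all hD hU hcs hp₀, ← hFP, Set.ncard_coe_finset]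
  obtain ⟨n, hn⟩ : ∃ n, ∀ p ∈ F, (F.filter (fun m => m.2 ≤ p.1)).card = n := by
    refine ⟨(F.filter (fun m => m.2 ≤ p₀.1)).card, fun p hp => ?_⟩
    have e1 := c1 p hp
    have e2 := c1 p₀ ((hFm p₀).2 hp₀)
    exact Nat.eq_of_mul_eq_mul_right ht1 (Nat.succ.inj (e1.trans e2.symm))
  have c3 : ∀ m ∈ F, F.card = (F.filter (fun p => m.2 ≤ p.1)).card + n + 1 := by
    intro m hm
    have hm' := (hFm m).1 hm
    rw [← hn m hm]
    have e1 : F = (F.filter (fun p => m.2 ≤ p.1) ∪ F.filter (fun p => p.2 ≤ m.1)) ∪ {m} := by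
      ext p
      rw [Finset.mem_union, Finset.mem_union, Finset.mem_filter, Finset.mem_filter,
        Finset.mem_singleton]
      constructor
      · intro hp
        by_cases hpm : p = m
        · exact Or.inr hpm
        by_cases hle : p.2 ≤ m.1
        · exact Or.inl (Or.inr ⟨hp, hle⟩)
        · exact Or.inl (Or.inl ⟨hp, hB p ((hFm p).1 hp) m hm' hpm hle⟩)
      · rintro ((hp | hp) | rfl)
        · exact hp.1
        · exact hp.1
        · exact hm
    have hd1 : Disjoint (F.filter (fun p => m.2 ≤ p.1)) (F.filter (fun p => p.2 ≤ m.1)) := by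
      rw [Finset.disjoint_filter]
      intro p hp hle hle'
      exact hA p ((hFm p).1 hp) m hm' hle hle'
    have hd2 : Disjoint (F.filter (fun p => m.2 ≤ p.1) ∪ F.filter (fun p => p.2 ≤ m.1)) {m} := by
      rw [Finset.disjoint_singleton_right, Finset.mem_union, Finset.mem_filter, Finset.mem_filter]
      rintro (h5 | h5)
      · exact hself m hm' h5.2
      · exact hself m hm' h5.2
    calc F.card = ((F.filter (fun p => m.2 ≤ p.1) ∪ F.filter (fun p => p.2 ≤ m.1)) ∪ {m}).card :=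
          congrArg Finset.card e1
      _ = _ := by
          rw [Finset.card_union_of_disjoint hd2, Finset.card_union_of_disjoint hd1,
            Finset.card_singleton]
  have c4 : ∑ p ∈ F, (F.filter (fun m => m.2 ≤ p.1)).card
      = ∑ m ∈ F, (F.filter (fun p => m.2 ≤ p.1)).card := by
    have h6 := Finset.sum_card_bipartiteAbove_eq_sum_card_bipartiteBelow (s := F) (t := F)
      (fun p m : Subgroup V × Subgroup V => m.2 ≤ p.1)
    unfold Finset.bipartiteAbove Finset.bipartiteBelow at h6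
    exact h6
  have c5 : ∀ m ∈ F, (F.filter (fun p => m.2 ≤ p.1)).card = F.card - n - 1 := by
    intro m hm
    have := c3 m hm
    omega
  rw [Finset.sum_congr rfl hn, Finset.sum_congr rfl c5, Finset.sum_const, Finset.sum_const,
    smul_eq_mul, smul_eq_mul] at c4
  have hFpos : 0 < F.card := Finset.card_pos.2 ⟨p₀, (hFm p₀).2 hp₀⟩
  have c8 := c1 p₀ ((hFm p₀).2 hp₀)
  rw [hn p₀ ((hFm p₀).2 hp₀)] at c8
  have hn0 : 0 < n := by
    rw [← hn p₀ ((hFm p₀).2 hp₀)]
    exact Finset.card_pos.2 ⟨m₀, Finset.mem_filter.2 ⟨(hFm m₀).2 hm₀, h1⟩⟩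
  have c9 : n + 1 ≤ F.card := by
    rw [c3 p₀ ((hFm p₀).2 hp₀), add_assoc]
    exact Nat.le_add_left _ _
  rw [ht]
  exact (arith_two hFpos ht1 hn0 c8 c2 c4 c9).symm

/-- Case (J). -/
theorem case_J (h : Fam Γ P q) (h2 : IsPGroup 2 V) (hD : Disj P)
    (hU : ∀ v : V, v ≠ 1 → InU P v)
    (horb : ∀ p ∈ P, ∀ m ∈ P, ∃ g : Γ, g • p = m) (hne : P.Nonempty) :
    (∀ p ∈ P, Nat.card p.2 = 2) ∧ Nat.card V = 2 * q ∧
      Odd (Nat.card (MulDistribMulAction.toMulAut Γ V).range) ∧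
      ∀ x y : V, x ≠ 1 → y ≠ 1 → ∃ g : Γ, g • x = y := by
  classical
  obtain ⟨p₁, hp₁⟩ := hne
  obtain ⟨p₀, hp₀, m₀, hm₀, h1, h3⟩ := h.not_symm h2 hD hU hp₁
  have hA : ∀ p ∈ P, ∀ m ∈ P, m.2 ≤ p.1 → ¬ p.2 ≤ m.1 := fun p hp m hm hle =>
    h.antisymm_of hD horb hp₀ hm₀ h1 h3 hp hm hle
  have hB : ∀ p ∈ P, ∀ m ∈ P, p ≠ m → ¬ p.2 ≤ m.1 → m.2 ≤ p.1 := fun p hp m hm hne hle =>
    h.antisymm_of' h2 hD horb hp₀ hm₀ h1 h3 hp hm hne hle
  have hc := h.card_snd_eq_two h2 hD hU hA hB hp₀ hm₀ h1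
  have hcs : ∀ m ∈ P, Nat.card m.2 = 2 := fun m hm => by rw [h.card_snd hm hp₀, hc]
  have huniq : ∀ m ∈ P, ∀ x ∈ m.2, ∀ y ∈ m.2, x ≠ 1 → y ≠ 1 → x = y := by
    intro m hm x hx y hy hx1 hy1
    have hcm := hcs m hm
    by_contra hxy
    have : ({1, x, y} : Set V) ⊆ (m.2 : Set V) := by
      rintro z (rfl | rfl | rfl)
      · exact one_mem _
      · exact hx
      · exact hy
    have hle := Set.ncard_le_ncard this (Set.toFinite _)
    have h3 : Set.ncard ({1, x, y} : Set V) = 3 := by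
      rw [Set.ncard_eq_three]
      exact ⟨1, x, y, Ne.symm hx1, Ne.symm hy1, hxy, rfl⟩
    have e2 : Nat.card m.2 = (m.2 : Set V).ncard := rfl
    omega
  refine ⟨hcs, ?_, ?_, ?_⟩
  · rw [← h.card_mul hp₀, hc, mul_comm]
  · by_contra hodd
    rw [Nat.not_odd_iff_even] at hodd
    obtain ⟨⟨σ, hσ'⟩, hσ2⟩ := exists_prime_orderOf_dvd_card' 2 hodd.two_dvd
    obtain ⟨g, rfl⟩ := hσ'
    have hσ : MulDistribMulAction.toMulAut Γ V g ∈ (MulDistribMulAction.toMulAut Γ V).range :=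
      ⟨g, rfl⟩
    have hg2 : ∀ v : V, g • g • v = v := by
      intro v
      have h4 := pow_orderOf_eq_one
        (⟨MulDistribMulAction.toMulAut Γ V g, hσ⟩ : (MulDistribMulAction.toMulAut Γ V).range)
      rw [hσ2, sq] at h4
      have h5 := congrArg Subtype.val h4
      have h6 := DFunLike.congr_fun h5 v
      simpa only [_root_.MulDistribMulAction.toMulAut_apply, _root_.MulMemClass.mk_mul_mk, _root_.MulAut.mul_apply, _root_.MulDistribMulAction.toMulEquiv_apply, _root_.OneMemClass.coe_one, _root_.MulAut.one_apply] using h6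
    have hg1 : ∃ v : V, g • v ≠ v := by
      by_contra hcon
      push Not at hcon
      have : (⟨MulDistribMulAction.toMulAut Γ V g, hσ⟩ :
          (MulDistribMulAction.toMulAut Γ V).range) = 1 := by
        apply Subtype.ext
        ext v
        simpa only [_root_.MulDistribMulAction.toMulAut_apply, _root_.MulDistribMulAction.toMulEquiv_apply, _root_.OneMemClass.coe_one, _root_.MulAut.one_apply] using hcon v
      rw [this, orderOf_one] at hσ2
      exact absurd hσ2 (by norm_num)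
    obtain ⟨v, hv⟩ := hg1
    have hv1 : v ≠ 1 := by
      rintro rfl
      exact hv (smul_one g)
    have hgv1 : g • v ≠ 1 := by
      intro e
      apply hv1
      rw [← hg2 v, e, smul_one]
    obtain ⟨p, hp, hvp⟩ := hU v hv1
    obtain ⟨m, hm, hvm⟩ := hU (g • v) hgv1
    have hpm : p ≠ m := by
      rintro rfl
      exact hv (huniq p hp _ hvm _ hvp hgv1 hv1)
    have e1 : g • p = m := h.smul_eq_of_mem hD hp hm hvp hv1 hvm
    have e2 : g • m = p := h.smul_eq_of_mem hD hm hp hvm hgv1 (by rw [hg2]; exact hvp)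
    by_cases hle : p.2 ≤ m.1
    · have := smul_snd_le_fst g hle
      rw [e1, e2] at this
      exact hA m hm p hp hle this
    · have h4 := hB p hp m hm hpm hle
      have := smul_snd_le_fst g h4
      rw [e1, e2] at this
      exact hle this
  · intro x y hx hy
    obtain ⟨p, hp, hxp⟩ := hU x hx
    obtain ⟨m, hm, hym⟩ := hU y hy
    obtain ⟨g, hg⟩ := horb p hp m hm
    refine ⟨g, ?_⟩
    refine huniq m hm _ (hg ▸ mem_smul_snd hxp) _ hym ?_ hy
    intro e
    apply hx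
    rw [← inv_smul_smul g x, e, smul_one]

/-- Case (W). -/
theorem case_W (h : Fam Γ P q) (hirr : Irr Γ V) (hV : q ^ 2 < Nat.card V) (hne : P.Nonempty) :
    (∀ p ∈ P, ∀ m ∈ P, p ≠ m → p.1 ≤ m.2) ∧
      (∀ p ∈ P, p.2 = ⨆ m ∈ P \ {p}, (m : Subgroup V × Subgroup V).1) ∧
      (⨆ p ∈ P, (p : Subgroup V × Subgroup V).1 = ⊤) ∧
      (∀ p ∈ P, ∀ m ∈ P, ∃ g : Γ, g • p = m) ∧ 3 ≤ P.ncard := by
  classical
  obtain ⟨p₀, hp₀⟩ := hne
  have hle : ∀ p ∈ P, ∀ m ∈ P, p ≠ m → p.1 ≤ m.2 := by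
    intro p hp m hm hpm
    refine (h.ti p hp m hm hpm ?_).1
    intro e
    have h1 := h.card_mul hp
    have h3 := h.card_snd hp hm
    have h4 : q < Nat.card m.2 := by
      rw [← h1, sq, h3] at hV
      exact Nat.lt_of_mul_lt_mul_left hV
    have h5 : Nat.card p.2 * Nat.card m.2 ≤ Nat.card V := by
      rw [← Nat.card_prod]
      refine Nat.card_le_card_of_injective (fun x : p.2 × m.2 => (x.1 : V) * x.2) ?_
      rintro ⟨⟨a, ha⟩, ⟨b, hb⟩⟩ ⟨⟨a', ha'⟩, ⟨b', hb'⟩⟩ e'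
      have e'' : a * b = a' * b' := e'
      have h6 : a'⁻¹ * a = b' * b⁻¹ := by
        rw [inv_mul_eq_iff_eq_mul, ← mul_assoc, ← e'', mul_inv_cancel_right]
      have h7 : a'⁻¹ * a ∈ p.2 ⊓ m.2 :=
        Subgroup.mem_inf.2 ⟨p.2.mul_mem (p.2.inv_mem ha') ha, h6 ▸ m.2.mul_mem hb' (m.2.inv_mem hb)⟩
      rw [e, Subgroup.mem_bot] at h7
      have h8 : a = a' := (inv_mul_eq_one.1 h7).symm
      have h9 : b = b' := (mul_inv_eq_one.1 (h6 ▸ h7)).symm
      subst h8 h9
      rfl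
    rw [← h1, h3] at h5
    exact absurd (Nat.le_of_mul_le_mul_right h5 Nat.card_pos) (not_le.2 h4)
  -- sup over an invariant nonempty subset is everything
  have hsup : ∀ Q : Set (Subgroup V × Subgroup V), Q ⊆ P → Q.Nonempty →
      (∀ g : Γ, ∀ p ∈ Q, g • p ∈ Q) → ⨆ p ∈ Q, (p : Subgroup V × Subgroup V).1 = ⊤ := by
    intro Q hQ hQne hQinv
    obtain ⟨p, hp⟩ := hQne
    have hirrQ := hirr (⨆ p ∈ Q, (p : Subgroup V × Subgroup V).1) (by
      intro g
      rw [Subgroup.pointwise_smul_subset_iff]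
      refine iSup₂_le fun m hm => ?_
      rw [← Subgroup.pointwise_smul_subset_iff]
      exact le_iSup₂ (f := fun (p : Subgroup V × Subgroup V) (_ : p ∈ Q) => p.1) (g • m)
        (hQinv g m hm))
    rcases hirrQ with h1 | h1
    · exfalso
      apply h.fst_ne p (hQ hp)
      rw [eq_bot_iff, ← h1]
      exact le_iSup₂ (f := fun (p : Subgroup V × Subgroup V) (_ : p ∈ Q) => p.1) p hp
    · exact h1
  have htop := hsup P subset_rfl ⟨p₀, hp₀⟩ h.inv
  have hsnd : ∀ p ∈ P, p.2 = ⨆ m ∈ P \ {p}, (m : Subgroup V × Subgroup V).1 := by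
    intro p hp
    have hB : (⨆ m ∈ P \ {p}, (m : Subgroup V × Subgroup V).1) ≤ p.2 :=
      iSup₂_le fun m hm => hle m hm.1 p hp (fun e => hm.2 e)
    have h1 : (⊤ : Subgroup V) = (⨆ m ∈ P \ {p}, (m : Subgroup V × Subgroup V).1) ⊔ p.1 := by
      rw [← htop]
      apply le_antisymm
      · refine iSup₂_le fun m hm => ?_
        by_cases hmp : m = p
        · rw [hmp]; exact le_sup_right
        · exact le_trans (le_iSup₂ (f := fun (p' : Subgroup V × Subgroup V) (_ : p' ∈ P \ {p}) => p'.1)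
            m ⟨hm, hmp⟩) le_sup_left
      · rw [htop]; exact le_top
    have h3 : p.2 = ((⨆ m ∈ P \ {p}, (m : Subgroup V × Subgroup V).1) ⊔ p.1) ⊓ p.2 := by
      rw [← h1, top_inf_eq]
    rw [h3, sup_inf_assoc_of_le _ hB, (h.compl p hp).inf_eq_bot, sup_bot_eq]
  have htrans : ∀ p ∈ P, ∀ m ∈ P, ∃ g : Γ, g • p = m := by
    intro p hp m hm
    by_contra hcon
    push Not at hcon
    have h1 := hsup (MulAction.orbit Γ p) ?_ ⟨p, MulAction.mem_orbit_self p⟩ ?_
    · have h3 : (⊤ : Subgroup V) ≤ m.2 := by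
        rw [← h1]
        refine iSup₂_le fun n hn => ?_
        obtain ⟨g, hg⟩ := hn
        refine hle n ?_ m hm ?_
        · rw [← hg]; exact h.inv g p hp
        · rintro rfl; exact hcon g hg
      have := (h.compl m hm).inf_eq_bot
      rw [top_le_iff.1 h3, inf_top_eq] at this
      exact h.fst_ne m hm this
    · rintro n ⟨g, rfl⟩
      exact h.inv g p hp
    · intro g n hn
      obtain ⟨k, rfl⟩ := hn
      exact ⟨g * k, mul_smul g k p⟩
  refine ⟨hle, hsnd, htop, htrans, ?_⟩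
  by_contra hlt
  push Not at hlt
  have h1 : P = {p₀} ∨ ∃ m, m ≠ p₀ ∧ P = {p₀, m} := by
    have hfin : P.Finite := Set.toFinite _
    have hpos : 0 < P.ncard := (Set.ncard_pos hfin).2 ⟨p₀, hp₀⟩
    have hcase : P.ncard = 1 ∨ P.ncard = 2 := by omega
    rcases hcase with hc | hc
    · left
      obtain ⟨a, ha⟩ := Set.ncard_eq_one.1 hc
      rw [ha] at hp₀ ⊢
      rw [Set.mem_singleton_iff.1 hp₀]
    · right
      obtain ⟨a, b, hab, hPab⟩ := Set.ncard_eq_two.1 hc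
      rw [hPab] at hp₀
      rcases hp₀ with rfl | hb
      · exact ⟨b, Ne.symm hab, hPab⟩
      · rw [Set.mem_singleton_iff] at hb
        subst hb
        exact ⟨a, hab, by rw [hPab, Set.pair_comm]⟩
  rcases h1 with h1 | ⟨m, hmp, h1⟩
  · have h3 := hsnd p₀ hp₀
    rw [h1] at h3
    simp only [_root_.sdiff_self, _root_.Set.bot_eq_empty, _root_.Set.mem_empty_iff_false, _root_.not_false_eq_true, _root_.iSup_neg, _root_.iSup_bot] at h3
    exact h.snd_ne p₀ hp₀ h3
  · have hm : m ∈ P := by rw [h1]; simp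
    have h3 := hsnd p₀ hp₀
    have h4 : P \ {p₀} = {m} := by
      rw [h1]
      ext x
      simp only [Set.mem_sdiff, Set.mem_insert_iff, Set.mem_singleton_iff]
      constructor
      · rintro ⟨rfl | h5, h6⟩
        · exact absurd rfl h6
        · exact h5
      · rintro rfl
        exact ⟨Or.inr rfl, hmp⟩
    rw [h4] at h3
    have h5 : (⨆ m' ∈ ({m} : Set (Subgroup V × Subgroup V)), (m' : Subgroup V × Subgroup V).1) = m.1 := by
      simp
    rw [h5] at h3
    have h6 := h.card_mul hp₀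
    rw [h3, h.card_fst m hm] at h6
    rw [sq, h6] at hV
    exact lt_irrefl _ hV

end Fam

end Cfsg.Agent.TwoFusion.GoldLin
end

-- part: TwoFusion/GoldJ
section
/-!
# Case (J) of Goldschmidt's theorem

An odd order (solvable) group `Q` acting faithfully and transitively on the nonzero vectors of an
elementary abelian 2-group `W` of order `2 q`, such that the stabiliser of some `v` is transitive
on the nonzero vectors of a complement of `v`: then `q = 4`.
-/

set_option autoImplicit false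
set_option linter.unusedSectionVars false

open scoped Pointwise

namespace Cfsg.Agent.TwoFusion.GoldJ

theorem exists_abelian_normal (Q : Type*) [Group Q] [Group.IsSolvable Q] [Nontrivial Q] :
    ∃ F : Subgroup Q, F.Normal ∧ F ≠ ⊥ ∧ ∀ x ∈ F, ∀ y ∈ F, x * y = y * x := by
  classical
  have hex : ∃ n, derivedSeries Q n = ⊥ := Group.IsSolvable.solvable
  obtain ⟨k, hk⟩ : ∃ k, Nat.find hex = k + 1 := by
    refine Nat.exists_eq_succ_of_ne_zero ?_
    intro h0
    have := Nat.find_spec hex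
    rw [h0, derivedSeries_zero] at this
    exact absurd this top_ne_bot
  refine ⟨derivedSeries Q k, inferInstance, ?_, ?_⟩
  · exact Nat.find_min hex (by omega)
  · have h1 := Nat.find_spec hex
    rw [hk, derivedSeries_succ, Subgroup.commutator_eq_bot_iff_le_centralizer] at h1
    intro x hx y hy
    exact (Subgroup.mem_centralizer_iff.1 (h1 hx) y hy).symm

section Field

variable {Q W : Type*} [Group Q] [AddCommGroup W] [DistribMulAction Q W]

/-- The field `F ∪ {0}` inside the endomorphism ring. -/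
def fieldRing (F : Subgroup Q) (hF : ∀ x ∈ F, ∀ y ∈ F, x * y = y * x) (v : W)
    (htr : ∀ x : W, x ≠ 0 → ∃ f ∈ F, f • v = x) (h2 : ∀ x : W, x + x = 0) :
    Subring (AddMonoid.End W) where
  carrier := {k | k = 0 ∨ ∃ f ∈ F, k = DistribMulAction.toAddMonoidEnd Q W f}
  mul_mem' := by
    rintro a b (rfl | ⟨f, hf, rfl⟩) (rfl | ⟨f', hf', rfl⟩)
    · left; exact zero_mul _
    · left; exact zero_mul _
    · left; exact mul_zero _
    · right; exact ⟨f * f', F.mul_mem hf hf', by rw [map_mul]⟩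
  one_mem' := Or.inr ⟨1, F.one_mem, by rw [map_one]⟩
  add_mem' := by
    rintro a b (rfl | ⟨f, hf, rfl⟩) (rfl | ⟨f', hf', rfl⟩)
    · left; exact add_zero _
    · right; exact ⟨f', hf', zero_add _⟩
    · right; exact ⟨f, hf, add_zero _⟩
    · by_cases hw : f • v + f' • v = 0
      · left
        ext x
        change f • x + f' • x = 0
        by_cases hx : x = 0
        · rw [hx, smul_zero, smul_zero, add_zero]
        · obtain ⟨e, he, rfl⟩ := htr x hx
          rw [← mul_smul, ← mul_smul, hF f hf e he, hF f' hf' e he, mul_smul, mul_smul, ← smul_add,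
            hw, smul_zero]
      · obtain ⟨e, he, hev⟩ := htr _ hw
        right
        refine ⟨e, he, ?_⟩
        ext x
        change f • x + f' • x = e • x
        by_cases hx : x = 0
        · rw [hx, smul_zero, smul_zero, smul_zero, add_zero]
        · obtain ⟨c, hc, rfl⟩ := htr x hx
          rw [← mul_smul, ← mul_smul, ← mul_smul, hF f hf c hc, hF f' hf' c hc, hF e he c hc,
            mul_smul, mul_smul, mul_smul, ← smul_add, hev]
  zero_mem' := Or.inl rfl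
  neg_mem' := by
    intro a ha
    have : -a = a := by
      ext x
      change -(a x) = a x
      exact neg_eq_of_add_eq_zero_left (h2 _)
    rw [this]; exact ha

theorem mem_fieldRing {F : Subgroup Q} {hF : ∀ x ∈ F, ∀ y ∈ F, x * y = y * x} {v : W}
    {htr : ∀ x : W, x ≠ 0 → ∃ f ∈ F, f • v = x} {h2 : ∀ x : W, x + x = 0} {k : AddMonoid.End W} :
    k ∈ fieldRing F hF v htr h2 ↔
      k = 0 ∨ ∃ f ∈ F, k = DistribMulAction.toAddMonoidEnd Q W f := Iff.rfl

/-- The stabiliser of a vector has order at most `m`. -/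
theorem card_stab_le [Finite W] [FaithfulSMul Q W] (F : Subgroup Q) (hFn : F.Normal)
    (hF : ∀ x ∈ F, ∀ y ∈ F, x * y = y * x) (v : W) (hv : v ≠ 0)
    (htr : ∀ x : W, x ≠ 0 → ∃ f ∈ F, f • v = x) (h2 : ∀ x : W, x + x = 0) (m : ℕ)
    (hm : Nat.card W = 2 ^ m) : Nat.card (MulAction.stabilizer Q v) ≤ m := by
  classical
  set ρ := DistribMulAction.toAddMonoidEnd Q W with hρ
  have hρa : ∀ (g : Q) (x : W), ρ g x = g • x := fun _ _ => rfl
  set K := fieldRing F hF v htr h2 with hK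
  have hcomm : ∀ a b : K, a * b = b * a := by
    rintro ⟨a, ha⟩ ⟨b, hb⟩
    apply Subtype.ext
    change a * b = b * a
    rcases mem_fieldRing.1 ha with rfl | ⟨f, hf, rfl⟩
    · rw [zero_mul, mul_zero]
    rcases mem_fieldRing.1 hb with rfl | ⟨f', hf', rfl⟩
    · rw [zero_mul, mul_zero]
    · rw [← map_mul, ← map_mul, hF f hf f' hf']
  let _ : CommRing K := { (inferInstance : Ring K) with mul_comm := hcomm }
  have hnt : Nontrivial K := by
    refine ⟨⟨0, 1, ?_⟩⟩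
    intro e
    have e' : (0 : AddMonoid.End W) = 1 := congrArg Subtype.val e
    have := DFunLike.congr_fun e' v
    exact hv this.symm
  have hunit : ∀ a : K, IsUnit a ∨ a = 0 := by
    rintro ⟨a, ha⟩
    rcases mem_fieldRing.1 ha with rfl | ⟨f, hf, rfl⟩
    · right; rfl
    · left
      refine ⟨⟨⟨ρ f, ha⟩, ⟨ρ f⁻¹, Or.inr ⟨f⁻¹, F.inv_mem hf, rfl⟩⟩, ?_, ?_⟩, rfl⟩
      · apply Subtype.ext
        change ρ f * ρ f⁻¹ = 1
        rw [← map_mul, mul_inv_cancel, map_one]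
      · apply Subtype.ext
        change ρ f⁻¹ * ρ f = 1
        rw [← map_mul, inv_mul_cancel, map_one]
  let _ : Field K := Field.ofIsUnitOrEqZero hunit
  have hchar : CharP K 2 := by
    refine CharTwo.of_one_ne_zero_of_two_eq_zero one_ne_zero ?_
    apply Subtype.ext
    ext x
    change ((2 : K) : AddMonoid.End W) x = 0
    have : ((2 : K) : AddMonoid.End W) = 1 + 1 := by
      rw [← one_add_one_eq_two]; rfl
    rw [this]
    exact h2 x
  let _ : Algebra (ZMod 2) K := ZMod.algebra K 2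
  have hfinK : Finite K := by
    refine Finite.of_injective (fun k : K => (k : AddMonoid.End W) v) ?_
    rintro ⟨a, ha⟩ ⟨b, hb⟩ e
    have e' : a v = b v := e
    apply Subtype.ext
    change a = b
    have hab : a - b ∈ K := K.sub_mem ha hb
    have h0 : (a - b) v = 0 := by
      change a v - b v = 0
      rw [e', sub_self]
    rcases mem_fieldRing.1 hab with h1 | ⟨f, hf, h1⟩
    · exact sub_eq_zero.1 h1
    · exfalso
      rw [h1] at h0
      have h3 : f • v = 0 := h0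
      apply hv
      rw [← inv_smul_smul f v, h3, smul_zero]
  have hcardK : Nat.card K = Nat.card W := by
    refine Nat.card_congr (Equiv.ofBijective (fun k : K => (k : AddMonoid.End W) v) ⟨?_, ?_⟩)
    · rintro ⟨a, ha⟩ ⟨b, hb⟩ e
      have e' : a v = b v := e
      apply Subtype.ext
      change a = b
      have hab : a - b ∈ K := K.sub_mem ha hb
      have h0 : (a - b) v = 0 := by
        change a v - b v = 0
        rw [e', sub_self]
      rcases mem_fieldRing.1 hab with h1 | ⟨f, hf, h1⟩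
      · exact sub_eq_zero.1 h1
      · exfalso
        rw [h1] at h0
        have h3 : f • v = 0 := h0
        apply hv
        rw [← inv_smul_smul f v, h3, smul_zero]
    · intro x
      by_cases hx : x = 0
      · exact ⟨0, by rw [hx]; rfl⟩
      · obtain ⟨f, hf, e⟩ := htr x hx
        exact ⟨⟨ρ f, Or.inr ⟨f, hf, rfl⟩⟩, e⟩
  have hfr : Module.finrank (ZMod 2) K = m := by
    have h1 := Module.natCard_eq_pow_finrank (K := ZMod 2) (V := K)
    rw [hcardK, hm, Nat.card_zmod] at h1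
    exact (Nat.pow_right_injective le_rfl h1).symm
  rw [← hfr]
  refine le_trans ?_ (card_algHom_le_finrank (ZMod 2) K K)
  -- the conjugation homomorphism
  have hconj : ∀ (g : Q) (k : AddMonoid.End W), k ∈ K → ρ g * k * ρ g⁻¹ ∈ K := by
    intro g k hk
    rcases mem_fieldRing.1 hk with rfl | ⟨f, hf, rfl⟩
    · left; simp
    · right
      exact ⟨g * f * g⁻¹, hFn.conj_mem f hf g, by rw [map_mul, map_mul]⟩
  have hgg : ∀ g : Q, ρ g⁻¹ * ρ g = 1 := by
    intro g; rw [← map_mul, inv_mul_cancel, map_one]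
  have hgg' : ∀ g : Q, ρ g * ρ g⁻¹ = 1 := by
    intro g; rw [← map_mul, mul_inv_cancel, map_one]
  let c : Q → (K →+* K) := fun g =>
    { toFun := fun k => ⟨ρ g * k * ρ g⁻¹, hconj g k k.2⟩
      map_one' := by
        apply Subtype.ext
        change ρ g * 1 * ρ g⁻¹ = 1
        rw [mul_one, hgg']
      map_mul' := by
        rintro ⟨a, ha⟩ ⟨b, hb⟩
        apply Subtype.ext
        change ρ g * (a * b) * ρ g⁻¹ = (ρ g * a * ρ g⁻¹) * (ρ g * b * ρ g⁻¹)
        calc ρ g * (a * b) * ρ g⁻¹ = ρ g * a * 1 * b * ρ g⁻¹ := by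
              rw [mul_one]; simp only [mul_assoc]
          _ = _ := by rw [← hgg g]; simp only [mul_assoc]
      map_zero' := by
        apply Subtype.ext
        change ρ g * 0 * ρ g⁻¹ = 0
        rw [mul_zero, zero_mul]
      map_add' := by
        rintro ⟨a, ha⟩ ⟨b, hb⟩
        apply Subtype.ext
        change ρ g * (a + b) * ρ g⁻¹ = (ρ g * a * ρ g⁻¹) + (ρ g * b * ρ g⁻¹)
        rw [mul_add, add_mul] }
  let c' : Q → (K →ₐ[ZMod 2] K) := fun g =>
    { c g with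
      commutes' := fun r => by
        have : (c g).comp (algebraMap (ZMod 2) K) = algebraMap (ZMod 2) K := Subsingleton.elim _ _
        exact DFunLike.congr_fun this r }
  have hfin2 : Finite (K →ₐ[ZMod 2] K) := by
    exact Finite.of_injective (fun (f : K →ₐ[ZMod 2] K) => (f : K → K)) DFunLike.coe_injective
  refine Nat.card_le_card_of_injective (fun g : MulAction.stabilizer Q v => c' g) ?_
  rintro ⟨g, hg⟩ ⟨g', hg'⟩ e
  have e1 : ∀ f ∈ F, ρ g * ρ f * ρ g⁻¹ = ρ g' * ρ f * ρ g'⁻¹ := by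
    intro f hf
    have := DFunLike.congr_fun (F := K →ₐ[ZMod 2] K) e ⟨ρ f, Or.inr ⟨f, hf, rfl⟩⟩
    exact congrArg Subtype.val this
  apply Subtype.ext
  change g = g'
  apply FaithfulSMul.eq_of_smul_eq_smul (α := W)
  intro x
  have hg1 : g⁻¹ • v = v := by rw [inv_smul_eq_iff]; exact hg.symm
  have hg2 : g'⁻¹ • v = v := by rw [inv_smul_eq_iff]; exact hg'.symm
  by_cases hx : x = 0
  · rw [hx, smul_zero, smul_zero]
  · obtain ⟨f, hf, rfl⟩ := htr x hx
    have h3 := DFunLike.congr_fun (e1 f hf) v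
    change g • f • g⁻¹ • v = g' • f • g'⁻¹ • v at h3
    rwa [hg1, hg2] at h3


/-- The core of case (J). -/
theorem card_eq_eight [Finite Q] [Finite W] [FaithfulSMul Q W] (hodd : Odd (Nat.card Q))
    (hsol : Group.IsSolvable Q) (htr : ∀ x y : W, x ≠ 0 → y ≠ 0 → ∃ g : Q, g • x = y)
    (v : W) (hv : v ≠ 0) (A : AddSubgroup W) {q : ℕ} (hAq : Nat.card A = q) (hq2 : 2 < q)
    (hW : Nat.card W = 2 * q) (hvA : v ∉ A)
    (hst : ∀ a ∈ A, ∀ b ∈ A, a ≠ 0 → b ≠ 0 → ∃ g : Q, g • v = v ∧ g • a = b) : q = 4 := by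
  classical
  -- `W` is elementary abelian
  have h2 : ∀ x : W, x + x = 0 := by
    obtain ⟨w, hw⟩ := exists_prime_addOrderOf_dvd_card' (G := W) 2 (by rw [hW]; exact dvd_mul_right 2 q)
    have hw0 : w ≠ 0 := by
      rintro rfl
      rw [addOrderOf_zero] at hw
      exact absurd hw (by norm_num)
    have hww : w + w = 0 := by
      have := addOrderOf_nsmul_eq_zero w
      rwa [hw, two_nsmul] at this
    intro x
    by_cases hx : x = 0
    · rw [hx, add_zero]
    · obtain ⟨g, hg⟩ := htr w x hw0 hx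
      rw [← hg, ← smul_add, hww, smul_zero]
  obtain ⟨m, hm⟩ : ∃ m, Nat.card W = 2 ^ m := by
    have h3 : IsPGroup 2 (Multiplicative W) := by
      intro x
      refine ⟨1, ?_⟩
      rw [pow_one, sq]
      exact h2 (Multiplicative.toAdd x)
    obtain ⟨m, hm⟩ := IsPGroup.iff_card.1 h3
    exact ⟨m, hm⟩
  have hqe : Even q := by
    -- q = 2^(m-1)
    rcases m with _ | _ | m
    · rw [hm] at hW; omega
    · rw [hm] at hW; omega
    · rw [hm, pow_succ, pow_succ] at hW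
      exact ⟨2 ^ m, by omega⟩
  -- cosets
  have hcos : ∀ x : W, x ∈ A ∨ x - v ∈ A := by
    have hidx : A.index = 2 := by
      have h3 := A.card_mul_index
      rw [hAq, hW, mul_comm 2 q] at h3
      exact Nat.eq_of_mul_eq_mul_left (by omega) h3
    intro x
    by_cases hx : x ∈ A
    · exact Or.inl hx
    · right
      have := (AddSubgroup.add_mem_iff_of_index_two hidx (a := x) (b := -v)).2
      rw [sub_eq_add_neg]
      apply this
      rw [neg_mem_iff]
      exact iff_of_false hx hvA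
  have hnt : Nontrivial Q := by
    obtain ⟨a, ha, ha0⟩ : ∃ a ∈ A, a ≠ 0 := by
      by_contra hcon
      push Not at hcon
      have : A = ⊥ := (AddSubgroup.eq_bot_iff_forall A).2 hcon
      rw [this, AddSubgroup.card_bot] at hAq
      omega
    obtain ⟨g, hg⟩ := htr v a hv ha0
    refine ⟨⟨g, 1, ?_⟩⟩
    rintro rfl
    rw [one_smul] at hg
    exact hvA (hg ▸ ha)
  obtain ⟨F, hFn, hF1, hFc⟩ := exists_abelian_normal Q
  -- the orbit of `v`
  set B : Set W := {x | ∃ f ∈ F, f • v = x} with hB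
  have hBstab : ∀ g : Q, g • v = v → ∀ x ∈ B, g • x ∈ B := by
    rintro g hg x ⟨f, hf, rfl⟩
    refine ⟨g * f * g⁻¹, hFn.conj_mem f hf g, ?_⟩
    have hg1 : g⁻¹ • v = v := by rw [inv_smul_eq_iff]; exact hg.symm
    rw [mul_smul, mul_smul, hg1]
  have hB0 : ∀ x ∈ B, x ≠ 0 := by
    rintro x ⟨f, hf, rfl⟩ e
    apply hv
    rw [← inv_smul_smul f v, e, smul_zero]
  have hvB : v ∈ B := ⟨1, F.one_mem, one_smul _ _⟩
  have hBodd : Odd (B.ncard) := by
    have e : B = MulAction.orbit F v := by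
      ext x
      constructor
      · rintro ⟨f, hf, rfl⟩; exact ⟨⟨f, hf⟩, rfl⟩
      · rintro ⟨⟨f, hf⟩, rfl⟩; exact ⟨f, hf, rfl⟩
    rw [e, ← MulAction.index_stabilizer]
    exact (hodd.of_dvd_nat (F.card_subgroup_dvd_card)).of_dvd_nat
      (Subgroup.index_dvd_card _)
  obtain ⟨x₀, hx₀, hx₀v⟩ : ∃ x ∈ B, x ≠ v := by
    by_contra hcon
    push Not at hcon
    apply hF1
    rw [Subgroup.eq_bot_iff_forall]
    intro f hf
    apply FaithfulSMul.eq_of_smul_eq_smul (α := W)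
    intro x
    rw [one_smul]
    by_cases hx : x = 0
    · rw [hx, smul_zero]
    · obtain ⟨g, rfl⟩ := htr v x hv hx
      have h3 : (g⁻¹ * f * g) • v = v := by
        apply hcon
        refine ⟨g⁻¹ * f * g, ?_, rfl⟩
        have := hFn.conj_mem f hf g⁻¹
        rwa [inv_inv] at this
      rw [mul_smul, mul_smul, inv_smul_eq_iff] at h3
      exact h3
  have hA1 : ∀ a ∈ A, a ≠ 0 → a ∈ B → ∀ b ∈ A, b ≠ 0 → b ∈ B := by
    intro a ha ha0 haB b hb hb0
    obtain ⟨g, hg, hgab⟩ := hst a ha b hb ha0 hb0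
    rw [← hgab]; exact hBstab g hg a haB
  have hA2 : ∀ a ∈ A, a ≠ 0 → v + a ∈ B → ∀ b ∈ A, b ≠ 0 → v + b ∈ B := by
    intro a ha ha0 haB b hb hb0
    obtain ⟨g, hg, hgab⟩ := hst a ha b hb ha0 hb0
    have h3 := hBstab g hg _ haB
    rwa [smul_add, hg, hgab] at h3
  have hcA : (A : Set W).ncard = q := hAq
  have hall : ∀ x : W, x ≠ 0 → x ∈ B := by
    have ha : ∃ a ∈ A, a ≠ 0 ∧ a ∈ B := by
      by_contra hna
      push Not at hna
      have hb : ∃ a ∈ A, a ≠ 0 ∧ v + a ∈ B := by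
        rcases hcos x₀ with h3 | h3
        · exact absurd hx₀ (hna x₀ h3 (hB0 x₀ hx₀))
        · exact ⟨x₀ - v, h3, sub_ne_zero.2 hx₀v, by rw [add_sub_cancel]; exact hx₀⟩
      obtain ⟨a, haA, ha0, haB⟩ := hb
      have e : B = (fun x => v + x) '' (A : Set W) := by
        ext x
        constructor
        · intro hx
          rcases hcos x with h3 | h3
          · exact absurd hx (hna x h3 (hB0 x hx))
          · exact ⟨x - v, h3, add_sub_cancel v x⟩
        · rintro ⟨b, hb, rfl⟩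
          by_cases hb0 : b = 0
          · change v + b ∈ B
            rw [hb0, add_zero]; exact hvB
          · exact hA2 a haA ha0 haB b hb hb0
      rw [e, Set.ncard_image_of_injective _ (add_right_injective v), hcA] at hBodd
      exact (Nat.not_odd_iff_even.2 hqe) hBodd
    have hb : ∃ a ∈ A, a ≠ 0 ∧ v + a ∈ B := by
      by_contra hnb
      push Not at hnb
      obtain ⟨a, haA, ha0, haB⟩ := ha
      have e : B = insert v ((A : Set W) \ {0}) := by
        ext x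
        constructor
        · intro hx
          by_cases hxv : x = v
          · exact Or.inl hxv
          · right
            rcases hcos x with h3 | h3
            · exact ⟨h3, hB0 x hx⟩
            · exact absurd (by rw [add_sub_cancel]; exact hx) (hnb (x - v) h3 (sub_ne_zero.2 hxv))
        · rintro (rfl | ⟨hx, hx0⟩)
          · exact hvB
          · exact hA1 a haA ha0 haB x hx hx0
      rw [e, Set.ncard_insert_of_notMem (fun h => hvA h.1),
        Set.ncard_sdiff_singleton_add_one (zero_mem A) (Set.toFinite _), hcA] at hBodd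
      exact (Nat.not_odd_iff_even.2 hqe) hBodd
    obtain ⟨a, haA, ha0, haB⟩ := ha
    obtain ⟨b, hbA, hb0, hbB⟩ := hb
    intro x hx
    rcases hcos x with h3 | h3
    · exact hA1 a haA ha0 haB x h3 hx
    · by_cases hxv : x = v
      · rw [hxv]; exact hvB
      · have := hA2 b hbA hb0 hbB (x - v) h3 (sub_ne_zero.2 hxv)
        rwa [add_sub_cancel] at this
  have hle := card_stab_le F hFn hFc v hv hall h2 m hm
  obtain ⟨a₀, ha₀, ha₀0⟩ : ∃ a ∈ A, a ≠ 0 := by
    by_contra hcon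
    push Not at hcon
    have : A = ⊥ := (AddSubgroup.eq_bot_iff_forall A).2 hcon
    rw [this, AddSubgroup.card_bot] at hAq
    omega
  have hge : q ≤ Nat.card (MulAction.stabilizer Q v) + 1 := by
    have h3 : ((A : Set W) \ {0}).ncard + 1 = q := by
      rw [Set.ncard_sdiff_singleton_add_one (zero_mem A) (Set.toFinite _), hcA]
    rw [← h3]
    apply Nat.succ_le_succ
    have h4 : ∀ b : ((A : Set W) \ {0} : Set W), ∃ g : Q, g • v = v ∧ g • a₀ = b := by
      rintro ⟨b, hb, hb0⟩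
      exact hst a₀ ha₀ b hb ha₀0 hb0
    choose f hf1 hf2 using h4
    refine Nat.card_le_card_of_injective
      (fun b : ((A : Set W) \ {0} : Set W) => (⟨f b, hf1 b⟩ : MulAction.stabilizer Q v)) ?_
    intro b b' e
    have e' : f b = f b' := congrArg Subtype.val e
    apply Subtype.ext
    rw [← hf2 b, ← hf2 b', e']
  -- arithmetic
  rw [hm] at hW
  obtain ⟨k, rfl⟩ : ∃ k, m = k + 1 := Nat.exists_eq_succ_of_ne_zero (by rintro rfl; omega)
  have hqk : q = 2 ^ k := by rw [pow_succ] at hW; omega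
  have hk : k < 3 := by
    by_contra hk3
    push Not at hk3
    have h5 : k + 2 < 2 ^ k := by
      obtain ⟨j, rfl⟩ : ∃ j, k = j + 3 := ⟨k - 3, by omega⟩
      clear * -
      induction j with
      | zero => norm_num
      | succ n ih => rw [show n + 1 + 3 = (n + 3) + 1 from rfl, pow_succ]; omega
    omega
  have hk2 : 2 ≤ k := by
    by_contra hk2
    push Not at hk2
    interval_cases k
    · omega
    · omega
  have : k = 2 := by omega
  rw [hqk, this]
  norm_num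

end Field

section Main

open GoldLin

variable {Γ V : Type*} [Group Γ] [CommGroup V] [MulDistribMulAction Γ V]
  {P : Set (Subgroup V × Subgroup V)} {q : ℕ}

/-- Case (J) of the linear algebra step, with all the information: the family is a spread by
subgroups of order two and the relation `m.2 ≤ p.1` is a tournament. -/
theorem gold_J [Finite V] (h : Fam Γ P q) (h2 : IsPGroup 2 V) (hirr : Fam.Irr Γ V)
    (hidx : ∀ N : Subgroup Γ, (MulDistribMulAction.toMulAut Γ V).ker ≤ N → N.index ≠ 2)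
    (hne : P.Nonempty) (hV : Nat.card V ≤ q ^ 2) :
    (∀ v : V, v ≠ 1 → ∃ p ∈ P, v ∈ p.2) ∧ (∀ p ∈ P, ∀ m ∈ P, p ≠ m → p.2 ⊓ m.2 = ⊥) ∧
      (∀ p ∈ P, Nat.card p.2 = 2) ∧ Nat.card V = 2 * q ∧
      Odd (Nat.card (MulDistribMulAction.toMulAut Γ V).range) ∧
      (∀ x y : V, x ≠ 1 → y ≠ 1 → ∃ g : Γ, g • x = y) ∧
      (∀ p ∈ P, ∀ m ∈ P, m.2 ≤ p.1 → ¬ p.2 ≤ m.1) ∧
      (∀ p ∈ P, ∀ m ∈ P, p ≠ m → ¬ p.2 ≤ m.1 → m.2 ≤ p.1) := by
  obtain ⟨p₀, hp₀⟩ := hne
  have hsub : MulAction.orbit Γ p₀ ⊆ P := by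
    rintro n ⟨g, rfl⟩
    exact h.inv g p₀ hp₀
  have h' : Fam Γ (MulAction.orbit Γ p₀) q := by
    refine h.mono hsub ?_
    rintro g n ⟨k, rfl⟩
    exact ⟨g * k, mul_smul g k p₀⟩
  have hDj' : Disj (MulAction.orbit Γ p₀) := h'.disj_of_le hV
  have hU' := h'.inU_of_ne_one h2 hDj' hirr hidx (MulAction.mem_orbit_self p₀) rfl
  have hDj : Disj P := h.disj_of_le hV
  have hP : P = MulAction.orbit Γ p₀ := by
    apply Set.Subset.antisymm _ hsub
    intro p hp
    obtain ⟨x, hx, hx1⟩ := Fam.exists_ne_one_of_ne_bot (h.snd_ne p hp)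
    obtain ⟨m, hm, hxm⟩ := hU' x hx1
    rw [Fam.eq_of_mem hDj hp (hsub hm) hx1 hx hxm]
    exact hm
  have hU : ∀ v : V, v ≠ 1 → InU P v := by rw [hP]; exact hU'
  have horb : ∀ p ∈ P, ∀ m ∈ P, ∃ g : Γ, g • p = m := by
    rw [hP]
    rintro p ⟨g, rfl⟩ m ⟨k, rfl⟩
    refine ⟨k * g⁻¹, ?_⟩
    change (k * g⁻¹) • g • p₀ = k • p₀
    rw [mul_smul, inv_smul_smul]
  obtain ⟨a1, a2, a3, a4⟩ := h.case_J h2 hDj hU horb ⟨p₀, hp₀⟩
  obtain ⟨p₁, hp₁, m₁, hm₁, h1, h3⟩ := h.not_symm h2 hDj hU hp₀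
  exact ⟨hU, hDj, a1, a2, a3, a4,
    fun p hp m hm hle => h.antisymm_of hDj horb hp₁ hm₁ h1 h3 hp hm hle,
    fun p hp m hm hne hle => h.antisymm_of' h2 hDj horb hp₁ hm₁ h1 h3 hp hm hne hle⟩

/-- The additive version of a multiplicative action. -/
@[reducible] def addAction (Q V : Type*) [Group Q] [CommGroup V] [MulDistribMulAction Q V] :
    DistribMulAction Q (Additive V) where
  smul g x := Additive.ofMul (g • Additive.toMul x)
  one_smul x := by
    change Additive.ofMul ((1 : Q) • Additive.toMul x) = x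
    rw [one_smul]; rfl
  mul_smul g k x := by
    change Additive.ofMul ((g * k) • Additive.toMul x) = Additive.ofMul (g • k • Additive.toMul x)
    rw [mul_smul]
  smul_zero g := by
    change Additive.ofMul (g • (1 : V)) = 0
    rw [smul_one]; rfl
  smul_add g x y := by
    change Additive.ofMul (g • (Additive.toMul x * Additive.toMul y)) = _
    rw [smul_mul']; rfl

/-- Case (J): the group has order eight. -/
theorem gold_J_card [Finite V] (h : Fam Γ P q) (h2 : IsPGroup 2 V) (hirr : Fam.Irr Γ V)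
    (hidx : ∀ N : Subgroup Γ, (MulDistribMulAction.toMulAut Γ V).ker ≤ N → N.index ≠ 2)
    (hne : P.Nonempty) (hV : Nat.card V ≤ q ^ 2) (hq2 : 2 < q)
    (hsol : Odd (Nat.card (MulDistribMulAction.toMulAut Γ V).range) →
      Group.IsSolvable (MulDistribMulAction.toMulAut Γ V).range) :
    q = 4 ∧ Nat.card V = 8 := by
  obtain ⟨hU, hDj, a1, a2, a3, a4, -, -⟩ := gold_J h h2 hirr hidx hne hV
  obtain ⟨p, hp⟩ := hne
  obtain ⟨x, hx, hx1⟩ := Fam.exists_ne_one_of_ne_bot (h.snd_ne p hp)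
  let R := (MulDistribMulAction.toMulAut Γ V).range
  let _ : DistribMulAction R (Additive V) := addAction R V
  have hfaith : FaithfulSMul R (Additive V) := by
    refine ⟨?_⟩
    intro g g' e
    apply Subtype.ext
    ext y
    exact congrArg Additive.toMul (e (Additive.ofMul y))
  have hfinR : Finite R := inferInstance
  have key := card_eq_eight (Q := R) (W := Additive V) a3 (hsol a3) ?_ (Additive.ofMul x) hx1
    (Subgroup.toAddSubgroup p.1) (q := q) (h.card_fst p hp) hq2 a2 ?_ ?_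
  · refine ⟨key, ?_⟩
    rw [a2, key]
  · intro y z hy hz
    obtain ⟨g, hg⟩ := a4 (Additive.toMul y) (Additive.toMul z) hy hz
    exact ⟨⟨_, ⟨g, rfl⟩⟩, congrArg Additive.ofMul hg⟩
  · intro hxp
    exact hx1 (h.eq_one hp hxp hx)
  · intro a ha b hb ha0 hb0
    obtain ⟨g, hg, -, hgd⟩ := h.tr p hp (Additive.toMul a) ha (Additive.toMul b) hb ha0 hb0
    exact ⟨⟨_, ⟨g, rfl⟩⟩, congrArg Additive.ofMul (hgd x hx), congrArg Additive.ofMul hg⟩

end Main

end Cfsg.Agent.TwoFusion.GoldJ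
end

-- part: TwoFusion/GoldCases
section
/-!
# Goldschmidt's theorem: the linear algebra step inside a group

`A` is an elementary abelian 2-subgroup of `G` on which `N_G(A)` acts irreducibly, `𝓓` is an invariant set of
subgroups of index `q` of `A` and `K D` is a canonical complement to `D` in `A`.  We transport `gold_lin` and
`gold_J` to this situation.
-/

set_option autoImplicit false
set_option linter.unusedSectionVars false

open scoped Pointwise

namespace Cfsg.Agent.TwoFusion.GoldCases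

open Subgroup
open Cfsg.Agent.TwoFusion.GoldLin Cfsg.Agent.TwoFusion.GoldJ

variable {G : Type*} [Group G]

/-- Canonical complements to the subgroups in `𝓓`. -/
structure Canon (A : Subgroup G) (q : ℕ) (𝓓 : Set (Subgroup G)) (K : Subgroup G → Subgroup G) :
    Prop where
  sq : ∀ a ∈ A, a * a = 1
  comm : ∀ a ∈ A, ∀ b ∈ A, a * b = b * a
  irr : ∀ B ≤ A, (∀ n ∈ normalizer (A : Set G), ∀ x ∈ B, n * x * n⁻¹ ∈ B) → B = ⊥ ∨ B = A
  idx : ∀ N₀ : Subgroup ↥(normalizer (A : Set G)), N₀.index ≠ 2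
  q2 : 2 < q
  le : ∀ D ∈ 𝓓, D ≤ A
  ne : ∀ D ∈ 𝓓, D ≠ ⊥
  Kle : ∀ D ∈ 𝓓, K D ≤ A
  Kcard : ∀ D ∈ 𝓓, Nat.card (K D) = q
  Kinf : ∀ D ∈ 𝓓, K D ⊓ D = ⊥
  Ksup : ∀ D ∈ 𝓓, K D ⊔ D = A
  inv : ∀ D ∈ 𝓓, ∀ n ∈ normalizer (A : Set G), D.map (MulAut.conj n).toMonoidHom ∈ 𝓓
  Kinv : ∀ D ∈ 𝓓, ∀ n ∈ normalizer (A : Set G),
    K (D.map (MulAut.conj n).toMonoidHom) = (K D).map (MulAut.conj n).toMonoidHom
  ti : ∀ D ∈ 𝓓, ∀ D' ∈ 𝓓, D ≠ D' → D ⊓ D' ≠ ⊥ → K D ≤ D'
  tr : ∀ D ∈ 𝓓, ∀ x ∈ K D, ∀ y ∈ K D, x ≠ 1 → y ≠ 1 →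
    ∃ n ∈ normalizer (A : Set G), n * x * n⁻¹ = y ∧ ∀ d ∈ D, n * d * n⁻¹ = d

/-- Conclusion (W). -/
structure ConW (A : Subgroup G) (𝓓 : Set (Subgroup G)) (K : Subgroup G → Subgroup G) : Prop where
  le : ∀ D ∈ 𝓓, ∀ D' ∈ 𝓓, D ≠ D' → K D ≤ D'
  eq : ∀ D ∈ 𝓓, D = ⨆ D' ∈ 𝓓 \ {D}, K D'
  sup : ⨆ D ∈ 𝓓, K D = A
  trans : ∀ D ∈ 𝓓, ∀ D' ∈ 𝓓, ∃ n ∈ normalizer (A : Set G), D.map (MulAut.conj n).toMonoidHom = D'
  three : 3 ≤ 𝓓.ncard

/-- Conclusion (J). -/
structure ConJ (A : Subgroup G) (q : ℕ) (𝓓 : Set (Subgroup G)) (K : Subgroup G → Subgroup G) :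
    Prop where
  card_D : ∀ D ∈ 𝓓, Nat.card D = 2
  q_eq : q = 4
  card_A : Nat.card A = 8
  exists_mem : ∀ x ∈ A, x ≠ 1 → ∃ D ∈ 𝓓, x ∈ D
  disj : ∀ D ∈ 𝓓, ∀ D' ∈ 𝓓, D ≠ D' → D ⊓ D' = ⊥
  odd : Odd (Nat.card A.normalizerMonoidHom.range)
  trans : ∀ x ∈ A, ∀ y ∈ A, x ≠ 1 → y ≠ 1 → ∃ n ∈ normalizer (A : Set G), n * x * n⁻¹ = y
  tour₁ : ∀ D ∈ 𝓓, ∀ D' ∈ 𝓓, D' ≤ K D → ¬ D ≤ K D'
  tour₂ : ∀ D ∈ 𝓓, ∀ D' ∈ 𝓓, D ≠ D' → ¬ D ≤ K D' → D' ≤ K D

namespace Canon

variable {A : Subgroup G} {q : ℕ} {𝓓 : Set (Subgroup G)} {K : Subgroup G → Subgroup G}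

/-- The commutative group structure. -/
@[reducible] def commGroup (h : Canon A q 𝓓 K) : CommGroup A :=
  { (inferInstance : Group A) with
    mul_comm := fun a b => Subtype.ext (h.comm a a.2 b b.2) }

/-- The set of pairs. -/
def pairs (A : Subgroup G) (𝓓 : Set (Subgroup G)) (K : Subgroup G → Subgroup G) :
    Set (Subgroup A × Subgroup A) :=
  {p | ∃ D ∈ 𝓓, p = ((K D).subgroupOf A, D.subgroupOf A)}

theorem smul_subgroupOf (n : ↥(normalizer (A : Set G))) (X : Subgroup G) :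
    n • (X.subgroupOf A) = (X.map (MulAut.conj (n : G)).toMonoidHom).subgroupOf A := by
  ext x
  rw [mem_subgroupOf, Subgroup.mem_pointwise_smul_iff_inv_smul_mem, mem_subgroupOf]
  have e : ((n⁻¹ • x : A) : G) = (n : G)⁻¹ * x * n := by
    change ((n⁻¹ : ↥(normalizer (A : Set G))) : G) * (x : G) * ((n⁻¹ : ↥(normalizer (A : Set G))) : G)⁻¹ = _
    rw [InvMemClass.coe_inv, inv_inv]
  rw [e]
  constructor
  · intro hx
    refine ⟨_, hx, ?_⟩
    change (n : G) * ((n : G)⁻¹ * x * n) * (n : G)⁻¹ = x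
    group
  · rintro ⟨y, hy, hyx⟩
    have : y = (n : G)⁻¹ * x * n := by
      rw [← hyx]
      change y = (n : G)⁻¹ * ((n : G) * y * (n : G)⁻¹) * n
      group
    rwa [← this]

theorem subgroupOf_eq_bot {X : Subgroup G} (hX : X ≤ A) : X.subgroupOf A = ⊥ ↔ X = ⊥ := by
  rw [Subgroup.subgroupOf_eq_bot, disjoint_iff, inf_of_le_left hX]

theorem subgroupOf_inj {X Y : Subgroup G} (hX : X ≤ A) (hY : Y ≤ A) :
    X.subgroupOf A = Y.subgroupOf A ↔ X = Y := by
  constructor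
  · intro e
    rwa [Subgroup.subgroupOf_inj, inf_of_le_left hX, inf_of_le_left hY] at e
  · rintro rfl; rfl

theorem subgroupOf_le {X Y : Subgroup G} (hX : X ≤ A) :
    X.subgroupOf A ≤ Y.subgroupOf A ↔ X ≤ Y := by
  constructor
  · intro e x hx
    exact (mem_subgroupOf (h := ⟨x, hX hx⟩)).1 (e (mem_subgroupOf.2 hx))
  · intro e x hx
    exact mem_subgroupOf.2 (e (mem_subgroupOf.1 hx))

theorem card_subgroupOf {X : Subgroup G} (hX : X ≤ A) :
    Nat.card (X.subgroupOf A) = Nat.card X :=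
  Nat.card_congr (Subgroup.subgroupOfEquivOfLe hX).toEquiv

theorem inf_subgroupOf_eq (X Y : Subgroup G) :
    X.subgroupOf A ⊓ Y.subgroupOf A = (X ⊓ Y).subgroupOf A := by
  ext x
  simp only [mem_subgroupOf, _root_.Subgroup.mem_inf, _root_.Subgroup.mem_subgroupOf]

theorem smul_pair (h : Canon A q 𝓓 K) (n : ↥(normalizer (A : Set G))) {D : Subgroup G} (hD : D ∈ 𝓓) :
    n • (((K D).subgroupOf A, D.subgroupOf A) : Subgroup A × Subgroup A) =
      ((K (D.map (MulAut.conj (n : G)).toMonoidHom)).subgroupOf A,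
        (D.map (MulAut.conj (n : G)).toMonoidHom).subgroupOf A) := by
  refine Prod.ext ?_ ?_
  · rw [Prod.smul_fst, h.Kinv D hD n n.2]
    exact smul_subgroupOf n (K D)
  · rw [Prod.smul_snd]
    exact smul_subgroupOf n D

theorem fam (h : Canon A q 𝓓 K) :
    letI := h.commGroup
    Fam (↥(normalizer (A : Set G))) (pairs A 𝓓 K) q := by
  let _ := h.commGroup
  constructor
  · rintro _ ⟨D, hD, rfl⟩
    exact (card_subgroupOf (h.Kle D hD)).trans (h.Kcard D hD)
  · rintro _ ⟨D, hD, rfl⟩ e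
    have := (subgroupOf_eq_bot (h.Kle D hD)).1 e
    have hc := h.Kcard D hD
    rw [this, card_bot] at hc
    have := h.q2
    omega
  · rintro _ ⟨D, hD, rfl⟩ e
    exact h.ne D hD ((subgroupOf_eq_bot (h.le D hD)).1 e)
  · rintro _ ⟨D, hD, rfl⟩
    constructor
    · rw [disjoint_iff]
      change (K D).subgroupOf A ⊓ D.subgroupOf A = ⊥
      rw [inf_subgroupOf_eq, h.Kinf D hD, bot_subgroupOf]
    · rw [codisjoint_iff]
      change (K D).subgroupOf A ⊔ D.subgroupOf A = ⊤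
      rw [← Subgroup.subgroupOf_sup (h.Kle D hD) (h.le D hD), h.Ksup D hD, subgroupOf_self]
  · rintro n _ ⟨D, hD, rfl⟩
    exact ⟨_, h.inv D hD n n.2, h.smul_pair n hD⟩
  · rintro _ ⟨D, hD, rfl⟩ _ ⟨D', hD', rfl⟩ hne hne'
    have h1 : D ≠ D' := by rintro rfl; exact hne rfl
    have h2 : D ⊓ D' ≠ ⊥ := by
      intro e
      apply hne'
      change D.subgroupOf A ⊓ D'.subgroupOf A = ⊥
      rw [inf_subgroupOf_eq, e, bot_subgroupOf]
    have h2' : D' ⊓ D ≠ ⊥ := by rwa [inf_comm]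
    exact ⟨(subgroupOf_le (h.Kle D hD)).2 (h.ti D hD D' hD' h1 h2),
      (subgroupOf_le (h.Kle D' hD')).2 (h.ti D' hD' D hD (Ne.symm h1) h2')⟩
  · rintro _ ⟨D, hD, rfl⟩ x hx y hy hx1 hy1
    obtain ⟨n, hn, hxy, hnd⟩ := h.tr D hD x hx y hy (fun e => hx1 (Subtype.ext e))
      (fun e => hy1 (Subtype.ext e))
    have hDn : D.map (MulAut.conj n).toMonoidHom = D := by
      ext z
      constructor
      · rintro ⟨d, hd, rfl⟩
        change n * d * n⁻¹ ∈ D
        rw [hnd d hd]; exact hd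
      · intro hz
        exact ⟨z, hz, hnd z hz⟩
    refine ⟨⟨n, hn⟩, Subtype.ext hxy, ?_, ?_⟩
    · have := congrArg Prod.fst (h.smul_pair ⟨n, hn⟩ hD)
      change (⟨n, hn⟩ : ↥(normalizer (A : Set G))) • (K D).subgroupOf A = _ at this
      rw [hDn] at this
      exact this
    · intro d hd
      exact Subtype.ext (hnd d hd)

theorem isPGroup (h : Canon A q 𝓓 K) : IsPGroup 2 A := by
  intro x
  refine ⟨1, ?_⟩
  rw [pow_one, pow_two]
  exact Subtype.ext (h.sq x x.2)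

theorem irr' (h : Canon A q 𝓓 K) :
    letI := h.commGroup
    Fam.Irr (↥(normalizer (A : Set G))) (↥A) := by
  let _ := h.commGroup
  intro W hW
  have key := h.irr (W.map A.subtype) (by
    rintro _ ⟨x, -, rfl⟩
    exact x.2) (by
    rintro n hn _ ⟨x, hx, rfl⟩
    have h1 := hW ⟨n, hn⟩ (Subgroup.smul_mem_pointwise_smul x (⟨n, hn⟩ : ↥(normalizer (A : Set G))) W hx)
    exact ⟨_, h1, rfl⟩)
  rcases key with h1 | h1
  · left
    rwa [Subgroup.map_eq_bot_iff_of_injective _ A.subtype_injective] at h1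
  · right
    rw [eq_top_iff]
    intro x _
    have : (x : G) ∈ W.map A.subtype := by rw [h1]; exact x.2
    obtain ⟨y, hy, hyx⟩ := this
    rwa [← Subtype.ext hyx]

/-- the supremum of a family of subgroups. -/
theorem iSup_subgroupOf (h : Canon A q 𝓓 K) (𝓔 : Set (Subgroup G)) (hE : 𝓔 ⊆ 𝓓) :
    (⨆ D ∈ 𝓔, K D).subgroupOf A = ⨆ D ∈ 𝓔, (K D).subgroupOf A := by
  apply le_antisymm
  · -- work in the image
    have h1 : (⨆ D ∈ 𝓔, K D) ≤ (⨆ D ∈ 𝓔, (K D).subgroupOf A).map A.subtype := by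
      refine iSup₂_le fun D hD => ?_
      have h2 : (K D).subgroupOf A ≤ ⨆ D ∈ 𝓔, (K D).subgroupOf A :=
        le_iSup₂ (f := fun (D : Subgroup G) (_ : D ∈ 𝓔) => (K D).subgroupOf A) D hD
      have h3 := Subgroup.map_mono (f := A.subtype) h2
      rwa [subgroupOf_map_subtype, inf_of_le_left (h.Kle D (hE hD))] at h3
    intro x hx
    obtain ⟨y, hy, hyx⟩ := h1 (mem_subgroupOf.1 hx)
    rwa [← Subtype.ext hyx]
  · refine iSup₂_le fun D hD => ?_
    intro x hx
    have h2 : K D ≤ ⨆ D ∈ 𝓔, K D := le_iSup₂ (f := fun (D : Subgroup G) (_ : D ∈ 𝓔) => K D) D hD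
    exact mem_subgroupOf.2 (h2 (mem_subgroupOf.1 hx))

theorem snd_inj (h : Canon A q 𝓓 K) {D D' : Subgroup G} (hD : D ∈ 𝓓) (hD' : D' ∈ 𝓓)
    (e : (((K D).subgroupOf A, D.subgroupOf A) : Subgroup A × Subgroup A) =
      ((K D').subgroupOf A, D'.subgroupOf A)) : D = D' :=
  (subgroupOf_inj (h.le D hD) (h.le D' hD')).1 (congrArg Prod.snd e)

theorem pair_ne (h : Canon A q 𝓓 K) {D D' : Subgroup G} (hD : D ∈ 𝓓) (hD' : D' ∈ 𝓓) (hne : D ≠ D') :
    (((K D).subgroupOf A, D.subgroupOf A) : Subgroup A × Subgroup A) ≠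
      ((K D').subgroupOf A, D'.subgroupOf A) := fun e => hne (h.snd_inj hD hD' e)

theorem iSup_pairs (h : Canon A q 𝓓 K) (𝓔 : Set (Subgroup G)) (hE : 𝓔 ⊆ 𝓓) :
    ⨆ m ∈ pairs A 𝓔 K, (m : Subgroup A × Subgroup A).1 = (⨆ D ∈ 𝓔, K D).subgroupOf A := by
  rw [h.iSup_subgroupOf 𝓔 hE]
  apply le_antisymm
  · refine iSup₂_le ?_
    rintro _ ⟨D, hD, rfl⟩
    exact le_iSup₂ (f := fun (D : Subgroup G) (_ : D ∈ 𝓔) => (K D).subgroupOf A) D hD
  · refine iSup₂_le fun D hD => ?_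
    exact le_iSup₂ (f := fun (m : Subgroup A × Subgroup A) (_ : m ∈ pairs A 𝓔 K) => m.1)
      ((K D).subgroupOf A, D.subgroupOf A) ⟨D, hD, rfl⟩

theorem pairs_diff (h : Canon A q 𝓓 K) {D : Subgroup G} (hD : D ∈ 𝓓) :
    pairs A 𝓓 K \ {((K D).subgroupOf A, D.subgroupOf A)} = pairs A (𝓓 \ {D}) K := by
  ext p
  constructor
  · rintro ⟨⟨D', hD', rfl⟩, hne⟩
    refine ⟨D', ⟨hD', ?_⟩, rfl⟩
    rintro rfl
    exact hne rfl
  · rintro ⟨D', ⟨hD', hne⟩, rfl⟩
    exact ⟨⟨D', hD', rfl⟩, h.pair_ne hD' hD hne⟩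

theorem iSup_le_A (h : Canon A q 𝓓 K) (𝓔 : Set (Subgroup G)) (hE : 𝓔 ⊆ 𝓓) :
    (⨆ D ∈ 𝓔, K D) ≤ A := iSup₂_le fun D hD => h.Kle D (hE hD)

theorem ncard_pairs (h : Canon A q 𝓓 K) : (pairs A 𝓓 K).ncard = 𝓓.ncard := by
  have e : pairs A 𝓓 K = (fun D => (((K D).subgroupOf A, D.subgroupOf A) :
      Subgroup A × Subgroup A)) '' 𝓓 := by
    ext p
    constructor
    · rintro ⟨D, hD, rfl⟩; exact ⟨D, hD, rfl⟩
    · rintro ⟨D, hD, rfl⟩; exact ⟨D, hD, rfl⟩
  rw [e]
  exact Set.InjOn.ncard_image fun D hD D' hD' e => h.snd_inj hD hD' e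

theorem idx' (h : Canon A q 𝓓 K) :
    letI := h.commGroup
    ∀ N : Subgroup ↥(normalizer (A : Set G)),
      (MulDistribMulAction.toMulAut ↥(normalizer (A : Set G)) ↥A).ker ≤ N → N.index ≠ 2 :=
  fun N _ => h.idx N

/-- The main case distinction. -/
theorem cases [Finite G] (h : Canon A q 𝓓 K) (hne : 𝓓.Nonempty)
    (hsol : Odd (Nat.card A.normalizerMonoidHom.range) →
      Group.IsSolvable A.normalizerMonoidHom.range) :
    ConW A 𝓓 K ∨ ConJ A q 𝓓 K := by
  let _ := h.commGroup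
  have hF := h.fam
  have hI := h.irr'
  have hneP : (pairs A 𝓓 K).Nonempty := by
    obtain ⟨D, hD⟩ := hne
    exact ⟨_, D, hD, rfl⟩
  by_cases hV : q ^ 2 < Nat.card A
  · left
    obtain ⟨w1, w2, w3, w4, w5⟩ := hF.case_W hI hV hneP
    refine ⟨?_, ?_, ?_, ?_, ?_⟩
    · intro D hD D' hD' hDD
      exact (subgroupOf_le (h.Kle D hD)).1
        (w1 _ ⟨D, hD, rfl⟩ _ ⟨D', hD', rfl⟩ (h.pair_ne hD hD' hDD))
    · intro D hD
      have h1 := w2 _ ⟨D, hD, rfl⟩
      rw [h.pairs_diff hD, h.iSup_pairs _ Set.sdiff_subset] at h1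
      exact (subgroupOf_inj (h.le D hD) (h.iSup_le_A _ Set.sdiff_subset)).1 h1
    · rw [h.iSup_pairs _ subset_rfl] at w3
      have h1 : A ≤ ⨆ D ∈ 𝓓, K D := subgroupOf_eq_top.1 w3
      exact le_antisymm (h.iSup_le_A _ subset_rfl) h1
    · intro D hD D' hD'
      obtain ⟨n, hn⟩ := w4 _ ⟨D, hD, rfl⟩ _ ⟨D', hD', rfl⟩
      refine ⟨n, n.2, ?_⟩
      rw [h.smul_pair n hD] at hn
      exact h.snd_inj (h.inv D hD n n.2) hD' hn
    · rwa [h.ncard_pairs] at w5
  · right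
    have hV' := not_lt.1 hV
    obtain ⟨j1, j2, j3, j4, j5, j6, j7, j8⟩ := gold_J hF h.isPGroup hI h.idx' hneP hV'
    obtain ⟨k1, k2⟩ := gold_J_card hF h.isPGroup hI h.idx' hneP hV' h.q2 hsol
    refine ⟨?_, k1, k2, ?_, ?_, j5, ?_, ?_, ?_⟩
    · intro D hD
      rw [← card_subgroupOf (h.le D hD)]
      exact (j3 _ ⟨D, hD, rfl⟩ :)
    · intro x hx hx1
      obtain ⟨_, ⟨D, hD, rfl⟩, hxD⟩ := j1 ⟨x, hx⟩ (fun e => hx1 (congrArg Subtype.val e))
      exact ⟨D, hD, hxD⟩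
    · intro D hD D' hD' hDD
      have h1 := j2 _ ⟨D, hD, rfl⟩ _ ⟨D', hD', rfl⟩ (h.pair_ne hD hD' hDD)
      change D.subgroupOf A ⊓ D'.subgroupOf A = ⊥ at h1
      rw [inf_subgroupOf_eq] at h1
      exact (subgroupOf_eq_bot (inf_le_left.trans (h.le D hD))).1 h1
    · intro x hx y hy hx1 hy1
      obtain ⟨n, hn⟩ := j6 ⟨x, hx⟩ ⟨y, hy⟩ (fun e => hx1 (congrArg Subtype.val e))
        (fun e => hy1 (congrArg Subtype.val e))
      exact ⟨n, n.2, congrArg Subtype.val hn⟩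
    · intro D hD D' hD' hle hle'
      exact j7 _ ⟨D, hD, rfl⟩ _ ⟨D', hD', rfl⟩ ((subgroupOf_le (h.le D' hD')).2 hle)
        ((subgroupOf_le (h.le D hD)).2 hle')
    · intro D hD D' hD' hDD hle
      exact (subgroupOf_le (h.le D' hD')).1 (j8 _ ⟨D, hD, rfl⟩ _ ⟨D', hD', rfl⟩ (h.pair_ne hD hD' hDD)
        (fun e => hle ((subgroupOf_le (h.le D hD)).1 e)))

end Canon

/-- The classes of components: the subgroups `D = C_A(L)` for the components `L` with `|A / C_A(L)| = q` maximal,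
together with an odd order subgroup of `N_G(A)` (which lives in `L`). -/
structure ClassData (A : Subgroup G) (q : ℕ) (𝓓 : Set (Subgroup G)) : Prop where
  sq : ∀ a ∈ A, a * a = 1
  comm : ∀ a ∈ A, ∀ b ∈ A, a * b = b * a
  irr : ∀ B ≤ A, (∀ n ∈ normalizer (A : Set G), ∀ x ∈ B, n * x * n⁻¹ ∈ B) → B = ⊥ ∨ B = A
  idx : ∀ N₀ : Subgroup ↥(normalizer (A : Set G)), N₀.index ≠ 2
  q2 : 2 < q
  le : ∀ D ∈ 𝓓, D ≤ A
  ne : ∀ D ∈ 𝓓, D ≠ ⊥
  rel : ∀ D ∈ 𝓓, D.relIndex A = q
  inv : ∀ D ∈ 𝓓, ∀ n ∈ normalizer (A : Set G), D.map (MulAut.conj n).toMonoidHom ∈ 𝓓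
  tor : ∀ D ∈ 𝓓, ∃ J : Subgroup G, J ≤ normalizer (A : Set G) ∧
    (∀ j ∈ J, ∀ d ∈ D, j * d * j⁻¹ = d) ∧
    (∀ x ∈ A, ∀ y ∈ A, x ∉ D → y ∉ D → ∃ j ∈ J, j * x * j⁻¹ * y⁻¹ ∈ D) ∧
    ∀ D' ∈ 𝓓, D' ≠ D → D ⊓ D' ≠ ⊥ → ∀ j ∈ J, ∀ a ∈ A, j * a * j⁻¹ * a⁻¹ ∈ D'

namespace ClassData

variable {A : Subgroup G} {q : ℕ} {𝓓 : Set (Subgroup G)}

theorem card_mul_relIndex' {D A : Subgroup G} (hDA : D ≤ A) :
    Nat.card D * D.relIndex A = Nat.card A := by
  rw [← relIndex_bot_left D, ← relIndex_bot_left A]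
  exact relIndex_mul_relIndex ⊥ D A bot_le hDA

theorem card_eq (h : ClassData A q 𝓓) {D : Subgroup G} (hD : D ∈ 𝓓) :
    Nat.card D * q = Nat.card A := by
  rw [← h.rel D hD]
  exact card_mul_relIndex' (h.le D hD)

theorem inf_ne_bot [Finite G] (h : ClassData A q 𝓓) (hV : q ^ 2 < Nat.card A) {D D' : Subgroup G}
    (hD : D ∈ 𝓓) (hD' : D' ∈ 𝓓) : D ⊓ D' ≠ ⊥ := by
  intro e
  have h1 := h.card_eq hD
  have h3 := h.card_eq hD'
  have hq : 0 < q := lt_trans two_pos h.q2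
  have h4 : q < Nat.card D := by
    rw [← h1, pow_two] at hV
    exact Nat.lt_of_mul_lt_mul_right hV
  have h5 : Nat.card D * Nat.card D' ≤ Nat.card A := by
    rw [← Nat.card_prod]
    refine Nat.card_le_card_of_injective
      (fun x : D × D' => (⟨(x.1 : G) * x.2, mul_mem (h.le D hD x.1.2) (h.le D' hD' x.2.2)⟩ : A)) ?_
    rintro ⟨⟨a, ha⟩, ⟨b, hb⟩⟩ ⟨⟨a', ha'⟩, ⟨b', hb'⟩⟩ e'
    have e'' : a * b = a' * b' := congrArg Subtype.val e'
    have h6 : a'⁻¹ * a = b' * b⁻¹ := by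
      rw [inv_mul_eq_iff_eq_mul, ← mul_assoc, ← e'', mul_inv_cancel_right]
    have h7 : a'⁻¹ * a ∈ D ⊓ D' :=
      mem_inf.2 ⟨mul_mem (inv_mem ha') ha, h6 ▸ mul_mem hb' (inv_mem hb)⟩
    rw [e, mem_bot] at h7
    have h8 : a = a' := (inv_mul_eq_one.1 h7).symm
    have h9 : b = b' := (mul_inv_eq_one.1 (h6 ▸ h7)).symm
    subst h8 h9
    rfl
  have h6 : Nat.card D' = Nat.card D := Nat.eq_of_mul_eq_mul_right hq (h3.trans h1.symm)
  rw [← h1, h6] at h5
  exact absurd (Nat.le_of_mul_le_mul_left h5 Nat.card_pos) (not_le.2 h4)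

theorem ne_A (h : ClassData A q 𝓓) {D : Subgroup G} (hD : D ∈ 𝓓) : D ≠ A := by
  rintro rfl
  have := h.rel _ hD
  rw [relIndex_self] at this
  have := h.q2
  omega

/-- conjugating back. -/
theorem map_map_inv (n : G) (D : Subgroup G) :
    (D.map (MulAut.conj n⁻¹).toMonoidHom).map (MulAut.conj n).toMonoidHom = D := by
  ext x
  constructor
  · rintro ⟨_, ⟨y, hy, rfl⟩, rfl⟩
    change n * (n⁻¹ * y * n⁻¹⁻¹) * n⁻¹ ∈ D
    have : n * (n⁻¹ * y * n⁻¹⁻¹) * n⁻¹ = y := by group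
    rwa [this]
  · intro hx
    refine ⟨n⁻¹ * x * n, ⟨x, hx, ?_⟩, ?_⟩
    · change n⁻¹ * x * n⁻¹⁻¹ = _
      rw [inv_inv]
    · change n * (n⁻¹ * x * n) * n⁻¹ = x
      group

/-- The canonical complement in the large case. -/
def compl (A : Subgroup G) (𝓓 : Set (Subgroup G)) (D : Subgroup G) : Subgroup G :=
  A ⊓ ⨅ D' ∈ 𝓓 \ {D}, D'

theorem mem_compl {D : Subgroup G} {x : G} :
    x ∈ compl A 𝓓 D ↔ x ∈ A ∧ ∀ D' ∈ 𝓓, D' ≠ D → x ∈ D' := by
  unfold compl
  rw [mem_inf, mem_iInf]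
  simp only [mem_iInf, Set.mem_sdiff, Set.mem_singleton_iff, and_imp, ne_eq]

/-- `compl D * D = A`. -/
theorem exists_mul (h : ClassData A q 𝓓) [Finite G] (hV : q ^ 2 < Nat.card A) {D : Subgroup G}
    (hD : D ∈ 𝓓) : ∀ z ∈ A, ∃ c ∈ compl A 𝓓 D, c⁻¹ * z ∈ D := by
  obtain ⟨J, hJ, hJD, hJt, hJ'⟩ := h.tor D hD
  intro z hz
  by_cases hzD : z ∈ D
  · exact ⟨1, one_mem _, by simpa using hzD⟩
  -- choose `x ∉ D` with `z * x ∉ D`
  obtain ⟨x, hx, hxD, hzx⟩ : ∃ x ∈ A, x ∉ D ∧ z * x ∉ D := by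
    by_contra hcon
    push Not at hcon
    -- then `A = D ∪ z⁻¹ D`, so the index is at most two
    have h1 : D.relIndex A ≤ 2 := by
      have h2 : ∀ x : A, (x : G) ∉ D → z * x ∈ D := fun x hxD => hcon x x.2 hxD
      have h3 : Nat.card A ≤ Nat.card (D ⊕ D) := by
        classical
        refine Nat.card_le_card_of_injective (fun x : A =>
          if hxD : (x : G) ∈ D then (Sum.inl ⟨x, hxD⟩ : D ⊕ D) else Sum.inr ⟨z * x, h2 x hxD⟩) ?_
        intro x y hxy
        dsimp only at hxy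
        by_cases hxD : (x : G) ∈ D
        · by_cases hyD : (y : G) ∈ D
          · rw [dif_pos hxD, dif_pos hyD] at hxy
            have h6 := Sum.inl.inj hxy
            exact Subtype.ext (Subtype.mk.inj h6)
          · rw [dif_pos hxD, dif_neg hyD] at hxy
            exact absurd hxy (by simp)
        · by_cases hyD : (y : G) ∈ D
          · rw [dif_neg hxD, dif_pos hyD] at hxy
            exact absurd hxy (by simp)
          · rw [dif_neg hxD, dif_neg hyD] at hxy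
            have h6 := Sum.inr.inj hxy
            exact Subtype.ext (mul_left_cancel (Subtype.mk.inj h6))
      rw [Nat.card_sum, ← card_mul_relIndex' (h.le D hD)] at h3
      have h4 : 0 < Nat.card D := Nat.card_pos
      by_contra h5
      push Not at h5
      have : Nat.card D * 3 ≤ Nat.card D * D.relIndex A := Nat.mul_le_mul_left _ h5
      omega
    rw [h.rel D hD] at h1
    have := h.q2
    omega
  obtain ⟨j, hj, hjx⟩ := hJt x hx (z * x) (mul_mem hz hx) hxD hzx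
  refine ⟨j * x * j⁻¹ * x⁻¹, ?_, ?_⟩
  · rw [mem_compl]
    have hjxA : j * x * j⁻¹ ∈ A := (mem_normalizer_iff.1 (hJ hj) x).1 hx
    refine ⟨mul_mem hjxA (inv_mem hx), fun D' hD' hne => ?_⟩
    exact hJ' D' hD' hne (h.inf_ne_bot hV hD hD') j hj x hx
  · -- `(j x j⁻¹ x⁻¹)⁻¹ z = x (j x j⁻¹)⁻¹ z`
    have hjxA : j * x * j⁻¹ ∈ A := (mem_normalizer_iff.1 (hJ hj) x).1 hx
    have e : (j * x * j⁻¹ * x⁻¹)⁻¹ * z = ((j * x * j⁻¹) * (z * x)⁻¹)⁻¹ := by
      set y := j * x * j⁻¹ with hy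
      have h1 := h.comm z hz x hx
      have h3 := h.comm y⁻¹ (inv_mem hjxA) z hz
      calc (y * x⁻¹)⁻¹ * z = x * (y⁻¹ * z) := by group
        _ = x * (z * y⁻¹) := by rw [h3]
        _ = (x * z) * y⁻¹ := by group
        _ = (z * x) * y⁻¹ := by rw [h1]
        _ = (y * (z * x)⁻¹)⁻¹ := by group
    rw [e]
    exact inv_mem hjx

theorem compl_inf (h : ClassData A q 𝓓) {D : Subgroup G} (hD : D ∈ 𝓓) : compl A 𝓓 D ⊓ D = ⊥ := by
  have e : compl A 𝓓 D ⊓ D = A ⊓ ⨅ D' ∈ 𝓓, D' := by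
    ext x
    rw [mem_inf, mem_compl, mem_inf, mem_iInf]
    simp only [mem_iInf]
    constructor
    · rintro ⟨⟨hA, h1⟩, h2⟩
      refine ⟨hA, fun D' hD' => ?_⟩
      by_cases hne : D' = D
      · rw [hne]; exact h2
      · exact h1 D' hD' hne
    · rintro ⟨hA, h1⟩
      exact ⟨⟨hA, fun D' hD' _ => h1 D' hD'⟩, h1 D hD⟩
  rw [e]
  have key := h.irr (A ⊓ ⨅ D' ∈ 𝓓, D') inf_le_left (by
    intro n hn x hx
    rw [mem_inf, mem_iInf] at hx ⊢
    simp only [mem_iInf] at hx ⊢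
    refine ⟨(mem_normalizer_iff.1 hn x).1 hx.1, fun D' hD' => ?_⟩
    have h2 := hx.2 _ (h.inv D' hD' n⁻¹ (inv_mem hn))
    obtain ⟨y, hy, hyx⟩ := h2
    have hyx' : n⁻¹ * y * n⁻¹⁻¹ = x := hyx
    rw [← hyx']
    have : n * (n⁻¹ * y * n⁻¹⁻¹) * n⁻¹ = y := by group
    rwa [this])
  rcases key with h1 | h1
  · exact h1
  · exfalso
    apply h.ne_A hD
    apply le_antisymm (h.le D hD)
    rw [← h1]
    exact inf_le_right.trans (iInf₂_le D hD)

/-- In the large case the data are canonical. -/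
theorem canon_of_large [Finite G] (h : ClassData A q 𝓓) (hV : q ^ 2 < Nat.card A) :
    Canon A q 𝓓 (compl A 𝓓) where
  sq := h.sq
  comm := h.comm
  irr := h.irr
  idx := h.idx
  q2 := h.q2
  le := h.le
  ne := h.ne
  Kle D _ := inf_le_left
  Kcard D hD := by
    have h1 := h.card_eq hD
    have h2 : Nat.card (compl A 𝓓 D) * Nat.card D = Nat.card A := by
      rw [← Nat.card_prod]
      refine Nat.card_congr (Equiv.ofBijective (fun x : compl A 𝓓 D × D =>
        (⟨(x.1 : G) * x.2, mul_mem (mem_compl.1 x.1.2).1 (h.le D hD x.2.2)⟩ : A)) ⟨?_, ?_⟩)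
      · rintro ⟨⟨a, ha⟩, ⟨b, hb⟩⟩ ⟨⟨a', ha'⟩, ⟨b', hb'⟩⟩ e'
        have e'' : a * b = a' * b' := congrArg Subtype.val e'
        have h6 : a'⁻¹ * a = b' * b⁻¹ := by
          rw [inv_mul_eq_iff_eq_mul, ← mul_assoc, ← e'', mul_inv_cancel_right]
        have h7 : a'⁻¹ * a ∈ compl A 𝓓 D ⊓ D :=
          mem_inf.2 ⟨mul_mem (inv_mem ha') ha, h6 ▸ mul_mem hb' (inv_mem hb)⟩
        rw [h.compl_inf hD, mem_bot] at h7
        have h8 : a = a' := (inv_mul_eq_one.1 h7).symm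
        have h9 : b = b' := (mul_inv_eq_one.1 (h6 ▸ h7)).symm
        subst h8 h9
        rfl
      · rintro ⟨z, hz⟩
        obtain ⟨c, hc, hcz⟩ := h.exists_mul hV hD z hz
        exact ⟨(⟨c, hc⟩, ⟨c⁻¹ * z, hcz⟩), Subtype.ext (mul_inv_cancel_left c z)⟩
    rw [mul_comm] at h2
    exact Nat.eq_of_mul_eq_mul_left (Nat.card_pos (α := D)) (h2.trans h1.symm)
  Kinf D hD := h.compl_inf hD
  Ksup D hD := by
    apply le_antisymm (sup_le inf_le_left (h.le D hD))
    intro z hz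
    obtain ⟨c, hc, hcz⟩ := h.exists_mul hV hD z hz
    rw [← mul_inv_cancel_left c z]
    exact mul_mem_sup hc hcz
  inv := h.inv
  Kinv D hD n hn := by
    ext x
    rw [mem_compl]
    constructor
    · rintro ⟨hA, hx⟩
      refine ⟨n⁻¹ * x * n, mem_compl.2 ⟨?_, ?_⟩, ?_⟩
      · have := (mem_normalizer_iff.1 (inv_mem hn) x).1 hA
        rwa [inv_inv] at this
      · intro D' hD' hne
        have h1 := hx _ (h.inv D' hD' n hn) (by
          intro e
          apply hne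
          have h2 := congrArg (Subgroup.map (MulAut.conj n⁻¹).toMonoidHom) e
          have h3 := map_map_inv n⁻¹ D'
          have h4 := map_map_inv n⁻¹ D
          rw [inv_inv] at h3 h4
          rwa [h3, h4] at h2)
        obtain ⟨y, hy, hyx⟩ := h1
        have hyx' : n * y * n⁻¹ = x := hyx
        rw [← hyx']
        have : n⁻¹ * (n * y * n⁻¹) * n = y := by group
        rwa [this]
      · change n * (n⁻¹ * x * n) * n⁻¹ = x
        group
    · rintro ⟨y, hy, rfl⟩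
      obtain ⟨hyA, hy'⟩ := mem_compl.1 hy
      refine ⟨(mem_normalizer_iff.1 hn y).1 hyA, fun D' hD' hne => ?_⟩
      have h1 := hy' _ (h.inv D' hD' n⁻¹ (inv_mem hn)) (by
        intro e
        apply hne
        rw [← e, map_map_inv])
      obtain ⟨w, hw, hwy⟩ := h1
      have hwy' : n⁻¹ * w * n⁻¹⁻¹ = y := hwy
      change n * y * n⁻¹ ∈ D'
      rw [← hwy']
      have : n * (n⁻¹ * w * n⁻¹⁻¹) * n⁻¹ = w := by group
      rwa [this]
  ti D hD D' hD' hne _ x hx := (mem_compl.1 hx).2 D' hD' (Ne.symm hne)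
  tr D hD x hx y hy hx1 hy1 := by
    obtain ⟨J, hJ, hJD, hJt, hJ'⟩ := h.tor D hD
    have hxA := (mem_compl.1 hx).1
    have hyA := (mem_compl.1 hy).1
    have hxD : x ∉ D := by
      intro hxD
      have : x ∈ compl A 𝓓 D ⊓ D := mem_inf.2 ⟨hx, hxD⟩
      rw [h.compl_inf hD, mem_bot] at this
      exact hx1 this
    have hyD : y ∉ D := by
      intro hyD
      have : y ∈ compl A 𝓓 D ⊓ D := mem_inf.2 ⟨hy, hyD⟩
      rw [h.compl_inf hD, mem_bot] at this
      exact hy1 this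
    obtain ⟨j, hj, hjx⟩ := hJt x hxA y hyA hxD hyD
    refine ⟨j, hJ hj, ?_, hJD j hj⟩
    -- `j x j⁻¹ ∈ compl`
    have h1 : j * x * j⁻¹ ∈ compl A 𝓓 D := by
      rw [mem_compl]
      have hjxA : j * x * j⁻¹ ∈ A := (mem_normalizer_iff.1 (hJ hj) x).1 hxA
      refine ⟨hjxA, fun D' hD' hne => ?_⟩
      have h2 := hJ' D' hD' hne (h.inf_ne_bot hV hD hD') j hj x hxA
      have h3 := (mem_compl.1 hx).2 D' hD' hne
      have := mul_mem h2 h3
      rwa [inv_mul_cancel_right] at this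
    have h2 : j * x * j⁻¹ * y⁻¹ ∈ compl A 𝓓 D ⊓ D := mem_inf.2 ⟨mul_mem h1 (inv_mem hy), hjx⟩
    rw [h.compl_inf hD, mem_bot] at h2
    exact mul_inv_eq_one.1 h2

end ClassData

end Cfsg.Agent.TwoFusion.GoldCases
end

-- part: TwoFusion/GoldInnerJ
section
/-!
# The automizer of `A` in a component

For an active component `L` and `A = 𝒜 ∩ S`: there is a subgroup `J` of odd order in `N_L(A)` which is
transitive on the nontrivial elements of `A/C_A(L)`; every element of `S ∩ L` centralizes some element of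
`A - C_A(L)`; and `S ∩ L` centralizes `A ∩ L` unless `|A/C_A(L)| = 2^n` with `n` odd.
-/

set_option autoImplicit false
set_option linter.style.haveILetI false

namespace Cfsg.Agent.TwoFusion.GoldInnerJ

open Subgroup
open Cfsg.Agent.TwoFusion.ClosedFam Cfsg.Agent.TwoFusion.Gold Cfsg.Agent.TwoFusion.GoldInner

/-- A supplement of odd order to a normal subgroup of odd index. -/
theorem exists_odd_supplement {N : Type*} [Group N] [Finite N] (Q : Subgroup N) [hQn : Q.Normal]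
    (hQ : Odd Q.index) : ∃ J : Subgroup N, Odd (Nat.card J) ∧ ∀ n : N, ∃ q ∈ Q, ∃ j ∈ J, n = q * j := by
  classical
  haveI : Fact (Nat.Prime 2) := ⟨Nat.prime_two⟩
  obtain ⟨P⟩ : Nonempty (Sylow 2 Q) := inferInstance
  set P' : Subgroup N := (P : Subgroup Q).map Q.subtype with hP'
  have hfr : normalizer (P' : Set N) ⊔ Q = ⊤ := Sylow.normalizer_sup_eq_top P
  set R : Subgroup N := normalizer (P' : Set N) with hR
  have hP'R : P' ≤ R := le_normalizer
  have hP'Q : P' ≤ Q := map_subtype_le _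
  haveI : (P'.subgroupOf R).Normal := by
    refine ⟨fun x hx g => ?_⟩
    rw [mem_subgroupOf] at hx ⊢
    exact (mem_normalizer_iff.1 g.2 x).1 hx
  have hP'p : IsPGroup 2 P' := P.2.map _
  have hidx : ¬ 2 ∣ P'.index := by
    intro h2
    rw [hP', index_map_subtype] at h2
    rcases (Nat.Prime.dvd_mul Nat.prime_two).1 h2 with h3 | h3
    · exact P.not_dvd_index h3
    · rw [← Nat.not_even_iff_odd] at hQ
      exact hQ (even_iff_two_dvd.2 h3)
  have hrel : ¬ 2 ∣ P'.relIndex R := fun h2 => hidx (h2.trans (relIndex_dvd_index_of_le hP'R))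
  have hcop : (Nat.card (P'.subgroupOf R)).Coprime (P'.subgroupOf R).index := by
    have h2 : IsPGroup 2 (P'.subgroupOf R) := hP'p.comap_of_injective R.subtype R.subtype_injective
    obtain ⟨k, hk⟩ := IsPGroup.iff_card.1 h2
    rw [hk]
    exact Nat.Coprime.pow_left _ ((Nat.Prime.coprime_iff_not_dvd Nat.prime_two).2 hrel)
  obtain ⟨J', hJ'⟩ := exists_right_complement'_of_coprime hcop
  refine ⟨J'.map R.subtype, ?_, ?_⟩
  · have h2 : Nat.card (J'.map R.subtype) = Nat.card J' :=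
      (Nat.card_congr (J'.equivMapOfInjective _ R.subtype_injective).toEquiv).symm
    rw [h2, ← Nat.not_even_iff_odd, even_iff_two_dvd]
    have h3 : Nat.card J' = (P'.subgroupOf R).index := hJ'.symm.index_eq_card.symm
    rw [h3]
    exact hrel
  · intro n
    have h1 : n ∈ Q ⊔ R := by rw [sup_comm, hfr]; exact mem_top n
    obtain ⟨q, hq, r, hr, rfl⟩ := mem_sup_of_normal_left.1 h1
    have h2 := hJ'.sup_eq_top
    have h3 : (⟨r, hr⟩ : R) ∈ P'.subgroupOf R ⊔ J' := by rw [h2]; exact mem_top _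
    obtain ⟨t, ht, j, hj, htj⟩ := mem_sup_of_normal_left.1 h3
    refine ⟨q * t, mul_mem hq (hP'Q (mem_subgroupOf.1 ht)), j, ⟨j, hj, rfl⟩, ?_⟩
    have h4 : r = (t : N) * j := (congrArg Subtype.val htj).symm
    rw [h4, mul_assoc]

section

variable {X : Type*} [Group X] [Finite X] {𝒜 : Set X} {L : Subgroup X}

/-- The Sylow subgroup of `Inn L` given by `S`. -/
theorem exists_sylow_inn (hL : Cfsg.IsComponent L) (S : Sylow 2 X) :
    ∃ R : Sylow 2 ↥(inn L), (∀ t : L, (t : X) ∈ (S : Subgroup X) → toInn L t ∈ (R : Subgroup ↥(inn L))) ∧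
      ∀ z ∈ (R : Subgroup ↥(inn L)), ∃ t : L, (t : X) ∈ (S : Subgroup X) ∧ toInn L t = z := by
  haveI : Fact (Nat.Prime 2) := ⟨Nat.prime_two⟩
  obtain ⟨T, hT'⟩ := exists_sylow_subgroupOf S hL.1
  have hTmem : ∀ m : L, m ∈ (T : Subgroup L) ↔ (m : X) ∈ (S : Subgroup X) := by
    intro m
    rw [hT', mem_subgroupOf]
  refine ⟨T.mapSurjective (toInn_surjective L), ?_, ?_⟩
  · intro t ht
    rw [T.coe_mapSurjective (toInn_surjective L)]
    exact ⟨t, (hTmem t).2 ht, rfl⟩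
  · intro z hz
    rw [T.coe_mapSurjective (toInn_surjective L)] at hz
    obtain ⟨t, ht, rfl⟩ := hz
    exact ⟨t, (hTmem t).1 ht, rfl⟩

variable (h : Ctx 𝒜) (hL : Cfsg.IsComponent L) (hA : Act 𝒜 L) (S : Sylow 2 X)
include h hL hA

omit [Finite X] in
theorem exists_act : ∃ x ∈ 𝒜, x ∈ L ∧ x ∉ centralizer (L : Set X) := by
  obtain ⟨x, hx, hxL, y, hy, hne⟩ := hA
  refine ⟨x, hx, hxL, ?_⟩
  rw [mem_centralizer_iff]
  intro hc
  exact hne (hc y hy).symm

/-- An element of `S ∩ L` with central square is the product of a central element and an element of the family. -/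
theorem exists_fam_of_sq {t : X} (htL : t ∈ L) (htS : t ∈ (S : Subgroup X))
    (htt : t * t ∈ centralizer (L : Set X)) (htc : t ∉ centralizer (L : Set X)) :
    ∃ b ∈ 𝒜, b ∈ (S : Subgroup X) ∧ b ∈ L ∧ b ∉ centralizer (L : Set X) ∧
      ∃ z ∈ L, z ∈ centralizer (L : Set X) ∧ t = z * b := by
  obtain ⟨x, hx, hxL, hxc⟩ := exists_act h hL hA
  obtain ⟨l, hl, hlc⟩ := exists_conj_mul h hL hA hxL (le_normalizer htL)
    ⟨⟨t, le_normalizer htL⟩, mem_subgroupOf.2 htL, rfl⟩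
    (by rw [h.fam.sq x hx]; exact one_mem _) htt hxc htc
  set b := l * x * l⁻¹ with hb
  have hbL : b ∈ L := mul_mem (mul_mem hl hxL) (inv_mem hl)
  have hzL : t * b⁻¹ ∈ L := mul_mem htL (inv_mem hbL)
  have hzc : t * b⁻¹ ∈ centralizer (L : Set X) := by
    have h1 := (centralizer (L : Set X)).inv_mem hlc
    have e : (b * t⁻¹)⁻¹ = t * b⁻¹ := by group
    rwa [e] at h1
  have hzS := center_le h.core hL S hzL hzc
  have hbS : b ∈ (S : Subgroup X) := by
    have e : b = (t * b⁻¹)⁻¹ * t := by group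
    rw [e]
    exact mul_mem (inv_mem hzS) htS
  refine ⟨b, h.fam.conj_mem x hx l, hbS, hbL, ?_, t * b⁻¹, hzL, hzc, by group⟩
  intro hbc
  apply htc
  have e : t = (t * b⁻¹) * b := by group
  rw [e]
  exact mul_mem hzc hbc

/-- `S ∩ L` centralizes `A` modulo `C(L)`. -/
theorem comm_mod {t a : X} (htL : t ∈ L) (htS : t ∈ (S : Subgroup X)) (ha : a ∈ 𝒜)
    (haS : a ∈ (S : Subgroup X)) : t * a * t⁻¹ * a⁻¹ ∈ centralizer (L : Set X) := by
  obtain ⟨b, hb, hbS, hbL, hab⟩ := exists_inner h hL hA S a ha haS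
  obtain ⟨R, hR1, hR2⟩ := exists_sylow_inn hL S
  have hT := tCon_inn h hL hA
  have h1 := hT.central R (toInn L ⟨b, hbL⟩) (hR1 ⟨b, hbL⟩ hbS) (by
    rw [← map_mul, toInn_eq_one]
    change b * b ∈ _
    rw [h.fam.sq b hb]; exact one_mem _) (toInn L ⟨t, htL⟩) (hR1 ⟨t, htL⟩ htS)
  have haN : a ∈ normalizer (L : Set X) := mem_normalizer h.fam h.core hL ha
  have hpr : pr L ⟨a, haN⟩ = pr L ⟨b, le_normalizer hbL⟩ := by
    rw [pr_eq_iff, mem_centralizer_iff]
    intro l hl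
    have hl' : b⁻¹ * l * b ∈ L := mul_mem (mul_mem (inv_mem hbL) hl) hbL
    have h2 := hab _ hl'
    change l * (a * b⁻¹) = a * b⁻¹ * l
    have h3 : a * (b⁻¹ * l * b) * a⁻¹ = l := by rw [h2]; group
    calc l * (a * b⁻¹) = (a * (b⁻¹ * l * b) * a⁻¹) * (a * b⁻¹) := by rw [h3]
      _ = a * b⁻¹ * l := by group
  have h2 : pr L ⟨t, le_normalizer htL⟩ * pr L ⟨a, haN⟩ = pr L ⟨a, haN⟩ * pr L ⟨t, le_normalizer htL⟩ := by
    rw [hpr]
    exact congrArg Subtype.val h1
  rw [← map_mul, ← map_mul, pr_eq_iff] at h2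
  have e : t * a * t⁻¹ * a⁻¹ = ((⟨t, le_normalizer htL⟩ * ⟨a, haN⟩ : ↥(normalizer (L : Set X))) : X) *
      ((⟨a, haN⟩ * ⟨t, le_normalizer htL⟩ : ↥(normalizer (L : Set X))) : X)⁻¹ := by
    simp only [coe_mul]
    group
  rw [e]
  exact h2

/-- Every element of `S ∩ L` centralizes an element of `A` outside `C(L)`. -/
theorem exists_comm {t : X} (htL : t ∈ L) (htS : t ∈ (S : Subgroup X)) :
    ∃ a ∈ 𝒜, a ∈ (S : Subgroup X) ∧ a ∈ L ∧ a ∉ centralizer (L : Set X) ∧ t * a = a * t := by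
  classical
  haveI : Fact (Nat.Prime 2) := ⟨Nat.prime_two⟩
  by_cases htc : t ∈ centralizer (L : Set X)
  · -- any element of the family in `L`
    obtain ⟨x, hx, hxL, hxc⟩ := exists_act h hL hA
    -- move it into `S`
    obtain ⟨T, hT'⟩ := exists_sylow_subgroupOf S hL.1
    have hxp : IsPGroup 2 (zpowers (⟨x, hxL⟩ : L)) := by
      rintro ⟨y, hy⟩
      obtain ⟨n, rfl⟩ := mem_zpowers_iff.1 hy
      refine ⟨1, Subtype.ext ?_⟩
      simp only [SubmonoidClass.mk_pow, OneMemClass.coe_one]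
      have : (⟨x, hxL⟩ : L) * ⟨x, hxL⟩ = 1 := Subtype.ext (h.fam.sq x hx)
      rw [← zpow_natCast, ← zpow_mul, mul_comm, zpow_mul, zpow_natCast, pow_one, pow_two, this, one_zpow]
    obtain ⟨Q, hQ⟩ := hxp.exists_le_sylow
    obtain ⟨g, hg⟩ := MulAction.exists_smul_eq L Q T
    have h1 : (g * ⟨x, hxL⟩ * g⁻¹ : L) ∈ (T : Subgroup L) := by
      rw [← hg]
      exact ⟨⟨x, hxL⟩, hQ (mem_zpowers _), rfl⟩
    rw [hT', mem_subgroupOf] at h1
    have hgx : (g : X) * x * (g : X)⁻¹ ∈ L := mul_mem (mul_mem g.2 hxL) (inv_mem g.2)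
    refine ⟨(g : X) * x * (g : X)⁻¹, h.fam.conj_mem x hx g, h1, hgx, ?_, ?_⟩
    · intro hc
      apply hxc
      rw [mem_centralizer_iff] at hc ⊢
      intro l hl
      have h2 := hc ((g : X) * l * (g : X)⁻¹) (mul_mem (mul_mem g.2 hl) (inv_mem g.2))
      have h3 : (g : X) * (l * x) * (g : X)⁻¹ = (g : X) * (x * l) * (g : X)⁻¹ := by
        calc (g : X) * (l * x) * (g : X)⁻¹ = (g : X) * l * (g : X)⁻¹ * ((g : X) * x * (g : X)⁻¹) := by group
          _ = (g : X) * x * (g : X)⁻¹ * ((g : X) * l * (g : X)⁻¹) := h2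
          _ = (g : X) * (x * l) * (g : X)⁻¹ := by group
      exact mul_left_cancel (mul_right_cancel h3)
    · exact ((mem_centralizer_iff.1 htc) _ hgx).symm
  · -- the last power of `t` outside `C(L)`
    have hex : ∃ k : ℕ, t ^ 2 ^ k ∈ centralizer (L : Set X) := by
      obtain ⟨k, hk⟩ := S.2 ⟨t, htS⟩
      refine ⟨k, ?_⟩
      have hk' : t ^ 2 ^ k = 1 := by
        have := congrArg Subtype.val hk
        simpa only [_root_.SubmonoidClass.mk_pow, _root_.OneMemClass.coe_one] using this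
      rw [hk']; exact one_mem _
    set k := Nat.find hex with hk
    have hk1 := Nat.find_spec hex
    rw [← hk] at hk1
    obtain ⟨m, hm⟩ : ∃ m, k = m + 1 := by
      rcases Nat.eq_zero_or_pos k with h0 | h0
      · exfalso
        rw [h0, pow_zero, pow_one] at hk1
        exact htc hk1
      · exact ⟨k - 1, by omega⟩
    have hm1 : t ^ 2 ^ m ∉ centralizer (L : Set X) := by
      intro hc
      have := Nat.find_min' hex hc
      omega
    have htt : t ^ 2 ^ m * t ^ 2 ^ m ∈ centralizer (L : Set X) := by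
      rw [← pow_add, ← two_mul, ← pow_succ', ← hm]
      exact hk1
    obtain ⟨b, hb, hbS, hbL, hbc, z, hzL, hzc, e⟩ := exists_fam_of_sq h hL hA S (pow_mem htL _)
      (pow_mem htS _) htt hm1
    refine ⟨b, hb, hbS, hbL, hbc, ?_⟩
    have h2 : b = z⁻¹ * t ^ 2 ^ m := by rw [e]; group
    have h3 : Commute t z := (mem_centralizer_iff.1 hzc) t htL
    have h4 : Commute t b := by
      rw [h2]
      exact h3.inv_right.mul_right ((Commute.refl t).pow_right _)
    exact h4.eq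

/-- (1.5) The group `J`. -/
theorem exists_J : ∃ J : Subgroup X, J ≤ L ∧ Odd (Nat.card J) ∧
    J ≤ normalizer (fam 𝒜 (S : Subgroup X) : Set X) ∧
    ∀ x ∈ fam 𝒜 (S : Subgroup X), ∀ y ∈ fam 𝒜 (S : Subgroup X), x ∉ centralizer (L : Set X) →
      y ∉ centralizer (L : Set X) → ∃ j ∈ J, j * x * j⁻¹ * y⁻¹ ∈ centralizer (L : Set X) := by
  classical
  haveI : Fact (Nat.Prime 2) := ⟨Nat.prime_two⟩
  set A := fam 𝒜 (S : Subgroup X) with hAdef
  have hAmem : ∀ {x : X}, x ∈ A ↔ x ∈ 𝒜 ∧ x ∈ (S : Subgroup X) := fun {x} =>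
    h.fam.toIsClosedFam.mem_fam_iff S.2
  set N : Subgroup X := L ⊓ normalizer (A : Set X) with hN
  have hLC : ∀ l ∈ L, ∀ c ∈ centralizer (L : Set X), l * c * l⁻¹ ∈ centralizer (L : Set X) := by
    intro l hl c hc
    have : l * c * l⁻¹ = c := by
      rw [(mem_centralizer_iff.1 hc) l hl]; group
    rw [this]; exact hc
  -- the subgroup `Q` acting trivially on `A/C_A(L)`
  let Q : Subgroup N :=
    { carrier := {n | ∀ a ∈ A, (n : X) * a * (n : X)⁻¹ * a⁻¹ ∈ centralizer (L : Set X)}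
      one_mem' := by
        intro a _
        have e : ((1 : N) : X) * a * ((1 : N) : X)⁻¹ * a⁻¹ = 1 := by
          rw [coe_one]; group
        rw [e]; exact one_mem _
      mul_mem' := by
        intro x y hx hy a ha
        have h1 := hy a ha
        have h2 := hx a ha
        have e : ((x * y : N) : X) * a * ((x * y : N) : X)⁻¹ * a⁻¹ =
            ((x : X) * ((y : X) * a * (y : X)⁻¹ * a⁻¹) * (x : X)⁻¹) * ((x : X) * a * (x : X)⁻¹ * a⁻¹) := by
          rw [coe_mul]; group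
        rw [e]
        exact mul_mem (hLC x x.2.1 _ h1) h2
      inv_mem' := by
        intro x hx a ha
        have h1 : (x : X)⁻¹ * a * x ∈ A := by
          have := (mem_normalizer_iff.1 (inv_mem x.2.2) a).1 ha
          rwa [inv_inv] at this
        have h2 := hx _ h1
        have h3 := (centralizer (L : Set X)).inv_mem h2
        have e : ((x⁻¹ : N) : X) * a * ((x⁻¹ : N) : X)⁻¹ * a⁻¹ =
            ((x : X) * ((x : X)⁻¹ * a * x) * (x : X)⁻¹ * ((x : X)⁻¹ * a * x)⁻¹)⁻¹ := by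
          rw [coe_inv]
          group
        rw [e]
        exact h3 }
  have hQmem : ∀ {n : N}, n ∈ Q ↔ ∀ a ∈ A, (n : X) * a * (n : X)⁻¹ * a⁻¹ ∈ centralizer (L : Set X) :=
    Iff.rfl
  haveI hQn : Q.Normal := by
    refine ⟨fun x hx g => ?_⟩
    rw [hQmem] at hx ⊢
    intro a ha
    have h1 : (g : X)⁻¹ * a * g ∈ A := by
      have := (mem_normalizer_iff.1 (inv_mem g.2.2) a).1 ha
      rwa [inv_inv] at this
    have h2 := hx _ h1
    have h3 := hLC g g.2.1 _ h2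
    have e : ((g * x * g⁻¹ : N) : X) * a * ((g * x * g⁻¹ : N) : X)⁻¹ * a⁻¹ =
        (g : X) * ((x : X) * ((g : X)⁻¹ * a * g) * (x : X)⁻¹ * ((g : X)⁻¹ * a * g)⁻¹) * (g : X)⁻¹ := by
      simp only [coe_mul, coe_inv]
      group
    rw [e]
    exact h3
  -- `S ∩ L ≤ Q`
  have hSN : (S : Subgroup X) ⊓ L ≤ N := by
    intro t ht
    exact mem_inf.2 ⟨ht.2, h.fam.toIsClosedFam.le_normalizer_fam (S : Subgroup X) ht.1⟩
  have hSQ : ((S : Subgroup X) ⊓ L).subgroupOf N ≤ Q := by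
    intro t ht
    rw [mem_subgroupOf] at ht
    rw [hQmem]
    intro a ha
    rw [hAmem] at ha
    exact comm_mod h hL hA S ht.2 ht.1 ha.1 ha.2
  have hodd : Odd Q.index := by
    rw [← Nat.not_even_iff_odd, even_iff_two_dvd]
    intro h2
    have h3 : 2 ∣ (((S : Subgroup X) ⊓ L).subgroupOf N).index := h2.trans (index_dvd_of_le hSQ)
    have h4 : ((S : Subgroup X) ⊓ L).relIndex N ∣ ((S : Subgroup X) ⊓ L).relIndex L := by
      rw [← relIndex_mul_relIndex ((S : Subgroup X) ⊓ L) N L hSN inf_le_left]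
      exact dvd_mul_right _ _
    have h5 : 2 ∣ ((S : Subgroup X) ⊓ L).relIndex L := h3.trans h4
    rw [inf_relIndex_right] at h5
    exact S.not_dvd_index
      (h5.trans (Cfsg.Agent.SignalizersComponents.PCompCore.relIndex_dvd_index_of_subnormal _ hL.1))
  obtain ⟨J', hJ'odd, hJ'⟩ := exists_odd_supplement Q hodd
  refine ⟨J'.map N.subtype, ?_, ?_, ?_, ?_⟩
  · exact (map_subtype_le _).trans inf_le_left
  · have h2 : Nat.card (J'.map N.subtype) = Nat.card J' :=
      (Nat.card_congr (J'.equivMapOfInjective _ N.subtype_injective).toEquiv).symm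
    rw [h2]; exact hJ'odd
  · exact (map_subtype_le _).trans inf_le_right
  · intro x hx y hy hxc hyc
    rw [hAmem] at hx hy
    obtain ⟨bx, hbx, hbxS, hbxL, habx⟩ := exists_inner h hL hA S x hx.1 hx.2
    obtain ⟨by', hby, hbyS, hbyL, haby⟩ := exists_inner h hL hA S y hy.1 hy.2
    -- `x bx⁻¹` and `y by⁻¹` centralize `L`
    have hcent : ∀ {a b : X}, b ∈ L → (∀ l ∈ L, a * l * a⁻¹ = b * l * b⁻¹) →
        a * b⁻¹ ∈ centralizer (L : Set X) := by
      intro a b hb hab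
      rw [mem_centralizer_iff]
      intro l hl
      have hl' : b⁻¹ * l * b ∈ L := mul_mem (mul_mem (inv_mem hb) hl) hb
      have h2 := hab _ hl'
      have h3 : a * (b⁻¹ * l * b) * a⁻¹ = l := by rw [h2]; group
      calc l * (a * b⁻¹) = (a * (b⁻¹ * l * b) * a⁻¹) * (a * b⁻¹) := by rw [h3]
        _ = a * b⁻¹ * l := by group
    have hxb := hcent hbxL habx
    have hyb := hcent hbyL haby
    have hbxc : bx ∉ centralizer (L : Set X) := by
      intro hc
      apply hxc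
      have e : x = (x * bx⁻¹) * bx := by group
      rw [e]; exact mul_mem hxb hc
    have hbyc : by' ∉ centralizer (L : Set X) := by
      intro hc
      apply hyc
      have e : y = (y * by'⁻¹) * by' := by group
      rw [e]; exact mul_mem hyb hc
    obtain ⟨l, hl, hlc⟩ := exists_conj_mul h hL hA hbxL (le_normalizer hbyL)
      ⟨⟨by', le_normalizer hbyL⟩, mem_subgroupOf.2 hbyL, rfl⟩
      (by rw [h.fam.sq bx hbx]; exact one_mem _) (by rw [h.fam.sq by' hby]; exact one_mem _) hbxc hbyc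
    have hzL : l * bx * l⁻¹ * by'⁻¹ ∈ L := mul_mem (mul_mem (mul_mem hl hbxL) (inv_mem hl)) (inv_mem hbyL)
    have hzS := center_le h.core hL S hzL hlc
    have hS1 : l * bx * l⁻¹ ∈ (S : Subgroup X) := by
      have e : l * bx * l⁻¹ = (l * bx * l⁻¹ * by'⁻¹) * by' := by group
      rw [e]; exact mul_mem hzS hbyS
    obtain ⟨n, hnL, hnA, hn⟩ := exists_normalizing h.fam S (L := L) (by
      intro a ha
      rw [← hAdef, hAmem] at ha
      exact mem_normalizer h.fam h.core hL ha.1) hbx hbxS hl hS1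
    obtain ⟨q, hq, j, hj, hqj⟩ := hJ' ⟨n, mem_inf.2 ⟨hnL, hnA⟩⟩
    have hnqj : n = (q : X) * j := congrArg Subtype.val hqj
    refine ⟨j, ⟨j, hj, rfl⟩, ?_⟩
    rw [hQmem] at hq
    have hjbx : (j : X) * bx * (j : X)⁻¹ ∈ A :=
      (mem_normalizer_iff.1 j.2.2 bx).1 (hAmem.2 ⟨hbx, hbxS⟩)
    have h6 := hq _ hjbx
    have h7 : (q : X) * ((j : X) * bx * (j : X)⁻¹) * (q : X)⁻¹ = l * bx * l⁻¹ := by
      rw [← hn, hnqj]; group
    rw [h7] at h6
    -- collect
    have h8 := hLC _ j.2.1 _ hxb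
    have h9 := (centralizer (L : Set X)).inv_mem h6
    have h10 := (centralizer (L : Set X)).inv_mem hyb
    have e : (j : X) * x * (j : X)⁻¹ * y⁻¹ =
        ((j : X) * (x * bx⁻¹) * (j : X)⁻¹) * (((l * bx * l⁻¹ * ((j : X) * bx * (j : X)⁻¹)⁻¹)⁻¹ *
          (l * bx * l⁻¹ * by'⁻¹)) * (y * by'⁻¹)⁻¹) := by
      group
    rw [e]
    exact mul_mem h8 (mul_mem (mul_mem h9 hlc) h10)

end

end Cfsg.Agent.TwoFusion.GoldInnerJ
end

-- part: TwoFusion/GoldPairDefs
section
/-!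
# Pairs `(w, L)`: definitions

`w ∈ A#`, `L` a component of `X_w = C(w)/O(C(w))` which is not centralized by the family.
`DD A w L = C_A(L)`, `JJ A w L =` the elements of `N(A) ∩ C(w)` mapping into `L`.
-/

set_option autoImplicit false
set_option linter.style.haveILetI false

namespace Cfsg.Agent.TwoFusion.GoldPairDefs

open Subgroup
open Cfsg.Agent.TwoFusion.ClosedFam Cfsg.Agent.TwoFusion.Gold

universe u

variable {G : Type u} [Group G]

/-- The centralizer of an element. -/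
abbrev Cw (w : G) : Subgroup G := centralizer ({w} : Set G)

/-- `X_w = C(w)/O(C(w))`. -/
abbrev Xw (w : G) : Type u := ↥(Cw w) ⧸ Cfsg.oddCore ↥(Cw w)

/-- The projection `C(w) → X_w`. -/
def pw (w : G) : ↥(Cw w) →* Xw w := QuotientGroup.mk' (Cfsg.oddCore ↥(Cw w))

theorem pw_surjective (w : G) : Function.Surjective (pw w) := QuotientGroup.mk'_surjective _

theorem pw_eq_one {w : G} {x : ↥(Cw w)} : pw w x = 1 ↔ x ∈ Cfsg.oddCore ↥(Cw w) := by
  unfold pw
  rw [QuotientGroup.mk'_apply, QuotientGroup.eq_one_iff]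

theorem mem_Cw {w x : G} : x ∈ Cw w ↔ w * x = x * w := by
  rw [mem_centralizer_iff]
  simp only [Set.mem_singleton_iff, forall_eq]

/-- `C_A(L)`. -/
def DD (A : Subgroup G) (w : G) (L : Subgroup (Xw w)) : Subgroup G :=
  A ⊓ ((centralizer (L : Set (Xw w))).comap (pw w)).map (Cw w).subtype

theorem mem_DD {A : Subgroup G} {w : G} {L : Subgroup (Xw w)} {a : G} :
    a ∈ DD A w L ↔ a ∈ A ∧ ∃ ha : a ∈ Cw w, pw w ⟨a, ha⟩ ∈ centralizer (L : Set (Xw w)) := by
  unfold DD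
  rw [mem_inf]
  refine and_congr_right fun _ => ?_
  constructor
  · rintro ⟨y, hy, rfl⟩
    exact ⟨y.2, hy⟩
  · rintro ⟨ha, h⟩
    exact ⟨⟨a, ha⟩, h, rfl⟩

/-- `N_L(A)`, lifted to `G`. -/
def JJ (A : Subgroup G) (w : G) (L : Subgroup (Xw w)) : Subgroup G :=
  normalizer (A : Set G) ⊓ (L.comap (pw w)).map (Cw w).subtype

theorem mem_JJ {A : Subgroup G} {w : G} {L : Subgroup (Xw w)} {g : G} :
    g ∈ JJ A w L ↔ g ∈ normalizer (A : Set G) ∧ ∃ hg : g ∈ Cw w, pw w ⟨g, hg⟩ ∈ L := by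
  unfold JJ
  rw [mem_inf]
  refine and_congr_right fun _ => ?_
  constructor
  · rintro ⟨y, hy, rfl⟩
    exact ⟨y.2, hy⟩
  · rintro ⟨hg, h⟩
    exact ⟨⟨g, hg⟩, h, rfl⟩

/-- A pair `(w, L)`: `w ∈ A#` and `L` is an active component of `X_w`. -/
structure IsPair (𝒜 : Set G) (A : Subgroup G) (w : G) (L : Subgroup (Xw w)) : Prop where
  mem : w ∈ A
  ne : w ≠ 1
  comp : Cfsg.IsComponent L
  act : Act (push 𝒜 (Cw w)) L

/-- The L-balance statement (section 2 of the blueprint): a pair `(w, L)` persists in `X_d` for `1 ≠ d ∈ C_A(L)`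
if `|A : C_A(L)|` is maximal. -/
def Balance (𝒜 : Set G) (A : Subgroup G) : Prop :=
  ∀ (w : G) (L : Subgroup (Xw w)) (d : G), IsPair 𝒜 A w L → d ∈ DD A w L → d ≠ 1 →
    (∀ M : Subgroup (Xw d), IsPair 𝒜 A d M → (DD A d M).relIndex A ≤ (DD A w L).relIndex A) →
    ∃ M : Subgroup (Xw d), IsPair 𝒜 A d M ∧ DD A d M = DD A w L ∧
      ∀ g ∈ JJ A w L, ∃ g' ∈ JJ A d M, ∀ a ∈ A, g * a * g⁻¹ = g' * a * g'⁻¹

/-- Conjugation by elements of `N(A)` permutes the pairs. -/
def ConjPair (𝒜 : Set G) (A : Subgroup G) : Prop :=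
  ∀ (w : G) (L : Subgroup (Xw w)) (n : G), IsPair 𝒜 A w L → n ∈ normalizer (A : Set G) →
    ∃ L' : Subgroup (Xw (n * w * n⁻¹)), IsPair 𝒜 A (n * w * n⁻¹) L' ∧
      DD A (n * w * n⁻¹) L' = (DD A w L).map (MulAut.conj n).toMonoidHom ∧
      JJ A (n * w * n⁻¹) L' = (JJ A w L).map (MulAut.conj n).toMonoidHom

end Cfsg.Agent.TwoFusion.GoldPairDefs
end

-- part: TwoFusion/GoldBridge
section
/-!
# Goldschmidt's theorem: passage between `H` and `H/O(H)`

* `img H A`: the image of `A ≤ H` in `H/O(H)`; `pull H Y`: the preimage of `Y ≤ H/O(H)` in `G`;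
* `lift H A J`: the elements of `N(A) ∩ H` with image in `J`; it is odd if `J` is, and maps onto `J ≤ N(img H A)`;
* `exists_type`: (7.1) for the components of `H/O(H)`;
* `le_sup_pLayer`: `H = O(H) L(H) N_H(A)`;
* `exists_pcomp`: the 2-components of `H` over the components of `H/O(H)`.
-/

set_option autoImplicit false
set_option linter.style.haveILetI false

namespace Cfsg.Agent.TwoFusion.GoldBridge

open Subgroup
open scoped commutatorElement
open Cfsg.Agent.TwoFusion.ClosedFam Cfsg.Agent.TwoFusion.Gold Cfsg.Agent.TwoFusion.ClosedLocal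
open Cfsg.Agent.TwoFusion.GoldSetup

universe u

variable {G : Type u} [Group G]

/-- The quotient map. -/
abbrev π (H : Subgroup G) : ↥H →* ↥H ⧸ Cfsg.oddCore ↥H := QuotientGroup.mk' (Cfsg.oddCore ↥H)

theorem π_surjective (H : Subgroup G) : Function.Surjective (π H) := QuotientGroup.mk'_surjective _

theorem π_eq_one {H : Subgroup G} {x : H} : π H x = 1 ↔ (x : G) ∈ core H := by
  rw [← MonoidHom.mem_ker, QuotientGroup.ker_mk']
  constructor
  · intro hx; exact ⟨x, hx, rfl⟩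
  · rintro ⟨y, hy, hyx⟩
    have : y = x := Subtype.ext hyx
    rwa [← this]

theorem π_eq_iff {H : Subgroup G} {x y : H} : π H x = π H y ↔ (x : G) * (y : G)⁻¹ ∈ core H := by
  rw [← mul_inv_eq_one, ← map_inv, ← map_mul, π_eq_one]
  rfl

theorem π_eq_iff' {H : Subgroup G} {x y : H} : π H x = π H y ↔ (x : G)⁻¹ * (y : G) ∈ core H := by
  rw [← inv_mul_eq_one, ← map_inv, ← map_mul, π_eq_one]
  rfl

/-- The image of `A` in `H/O(H)`. -/
def img (H A : Subgroup G) : Subgroup (↥H ⧸ Cfsg.oddCore ↥H) := (A.subgroupOf H).map (π H)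

/-- The preimage in `G` of a subgroup of `H/O(H)`. -/
def pull (H : Subgroup G) (Y : Subgroup (↥H ⧸ Cfsg.oddCore ↥H)) : Subgroup G := (Y.comap (π H)).map H.subtype

theorem mem_pull {H : Subgroup G} {Y : Subgroup (↥H ⧸ Cfsg.oddCore ↥H)} {g : G} :
    g ∈ pull H Y ↔ ∃ hg : g ∈ H, π H ⟨g, hg⟩ ∈ Y := by
  constructor
  · rintro ⟨x, hx, rfl⟩
    exact ⟨x.2, hx⟩
  · rintro ⟨hg, h⟩
    exact ⟨⟨g, hg⟩, h, rfl⟩

theorem mem_img {H A : Subgroup G} (hA : A ≤ H) {y : ↥H ⧸ Cfsg.oddCore ↥H} :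
    y ∈ img H A ↔ ∃ a, ∃ ha : a ∈ A, π H ⟨a, hA ha⟩ = y := by
  constructor
  · rintro ⟨x, hx, rfl⟩
    exact ⟨x, hx, rfl⟩
  · rintro ⟨a, ha, rfl⟩
    exact ⟨⟨a, hA ha⟩, ha, rfl⟩

theorem mem_img_of {H A : Subgroup G} (hA : A ≤ H) {a : G} (ha : a ∈ A) : π H ⟨a, hA ha⟩ ∈ img H A :=
  (mem_img hA).2 ⟨a, ha, rfl⟩

theorem pull_le (H : Subgroup G) (Y : Subgroup (↥H ⧸ Cfsg.oddCore ↥H)) : pull H Y ≤ H := by
  rintro _ ⟨x, -, rfl⟩
  exact x.2

theorem inf_core [Finite G] {H A : Subgroup G} (hA : IsPGroup 2 A) {x : G} (hx : x ∈ A) (hxc : x ∈ core H) :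
    x = 1 :=
  eq_one_of_odd_of_isPGroup (odd_core H) hA hxc hx

/-- The map `A → H/O(H)` is injective. -/
theorem π_inj [Finite G] {H A : Subgroup G} (hA : IsPGroup 2 A) {x y : H} (hx : (x : G) ∈ A)
    (hy : (y : G) ∈ A) (hxy : π H x = π H y) : x = y := by
  rw [π_eq_iff] at hxy
  have h1 := inf_core hA (mul_mem hx (inv_mem hy)) hxy
  exact Subtype.ext (mul_inv_eq_one.1 h1)

/-- The elements of `N(A) ∩ H` with image in `J`. -/
def lift (H A : Subgroup G) (J : Subgroup (↥H ⧸ Cfsg.oddCore ↥H)) : Subgroup G :=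
  pull H J ⊓ normalizer (A : Set G)

theorem mem_lift {H A : Subgroup G} {J : Subgroup (↥H ⧸ Cfsg.oddCore ↥H)} {g : G} :
    g ∈ lift H A J ↔ (∃ hg : g ∈ H, π H ⟨g, hg⟩ ∈ J) ∧ g ∈ normalizer (A : Set G) := by
  rw [lift, mem_inf, mem_pull]

theorem lift_le (H A : Subgroup G) (J : Subgroup (↥H ⧸ Cfsg.oddCore ↥H)) : lift H A J ≤ H :=
  inf_le_left.trans (pull_le H J)

theorem lift_le_pull (H A : Subgroup G) (J : Subgroup (↥H ⧸ Cfsg.oddCore ↥H)) : lift H A J ≤ pull H J :=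
  inf_le_left

theorem lift_le_normalizer (H A : Subgroup G) (J : Subgroup (↥H ⧸ Cfsg.oddCore ↥H)) :
    lift H A J ≤ normalizer (A : Set G) := inf_le_right

/-- The preimage of an odd subgroup is odd. -/
theorem odd_pull [Finite G] (H : Subgroup G) {J : Subgroup (↥H ⧸ Cfsg.oddCore ↥H)}
    (hJ : Odd (Nat.card J)) : Odd (Nat.card (pull H J)) := by
  have h1 : Nat.card (pull H J) = Nat.card (J.comap (π H)) :=
    (Nat.card_congr ((J.comap (π H)).equivMapOfInjective _ H.subtype_injective).toEquiv).symm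
  rw [h1]
  have h2 : Nat.card (J.comap (π H)) = Nat.card (Cfsg.oddCore ↥H) * Nat.card J := by
    have e1 := (J.comap (π H)).card_mul_index
    rw [index_comap_of_surjective J (π_surjective H)] at e1
    have e2 := J.card_mul_index
    have e3 := (Cfsg.oddCore ↥H).card_mul_index
    rw [index_eq_card] at e3
    have h0 : 0 < J.index := Nat.pos_of_ne_zero J.index_ne_zero_of_finite
    apply Nat.eq_of_mul_eq_mul_right h0
    rw [e1, ← e3, ← e2]
    ring
  rw [h2]
  refine Odd.mul ?_ hJ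
  have : (Nat.card (Cfsg.oddCore ↥H)).Coprime 2 := Cfsg.Agent.Lib.Cores.pPrimeCore_coprime 2
  exact Nat.coprime_two_right.1 this

theorem odd_lift [Finite G] {H A : Subgroup G} {J : Subgroup (↥H ⧸ Cfsg.oddCore ↥H)}
    (hJ : Odd (Nat.card J)) : Odd (Nat.card (lift H A J)) :=
  (odd_pull H hJ).of_dvd_nat (card_dvd_of_le (lift_le_pull H A J))

section Fam

variable [Finite G] {𝒜 : Set G} (h : IsElemFam 𝒜) (S : Sylow 2 G)

include h

theorem exists_mem_lift {H : Subgroup G} (hAH : fam 𝒜 (S : Subgroup G) ≤ H)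
    {J : Subgroup (↥H ⧸ Cfsg.oddCore ↥H)}
    (hJ : J ≤ normalizer (img H (fam 𝒜 (S : Subgroup G)) : Set (↥H ⧸ Cfsg.oddCore ↥H)))
    {j : ↥H ⧸ Cfsg.oddCore ↥H} (hj : j ∈ J) :
    ∃ g, ∃ hg : g ∈ H, g ∈ lift H (fam 𝒜 (S : Subgroup G)) J ∧ π H ⟨g, hg⟩ = j := by
  obtain ⟨⟨c, hc⟩, rfl⟩ := π_surjective H j
  obtain ⟨o, ho, n, hn, hnH, e⟩ := GoldSolid.exists_mul_of_mem_normalizer h S hAH hc (hJ hj)
  have h1 : π H ⟨n, hnH⟩ = π H ⟨c, hc⟩ := by
    rw [π_eq_iff]
    change n * c⁻¹ ∈ core H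
    have : n * c⁻¹ = o⁻¹ := by rw [e]; group
    rw [this]
    exact inv_mem ho
  refine ⟨n, hnH, ?_, h1⟩
  rw [mem_lift]
  exact ⟨⟨hnH, by rw [h1]; exact hj⟩, hn⟩

end Fam

/-- (7.1) for an active component `M` of `H/O(H)`. -/
theorem exists_type [Finite G] {ι : Type*} {B : ι → Subgroup G} {A H : Subgroup G}
    (sq : ∀ a ∈ A, a * a = 1) (comm : ∀ a ∈ A, ∀ b ∈ A, a * b = b * a) (hAH : A ≤ H)
    (sup : ⨆ i, B i = A) (indep : ∀ i, B i ⊓ (⨆ j : {j // j ≠ i}, B j) = ⊥)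
    (two : ∀ i, ∀ x ∈ B i, ∃ y ∈ B i, y ≠ 1 ∧ y ≠ x)
    (perm : ∀ g ∈ normalizer (A : Set G), ∀ i, ∃ i', (B i).map (MulAut.conj g).toMonoidHom = B i')
    {M J : Subgroup (↥H ⧸ Cfsg.oddCore ↥H)} (hJM : J ≤ M) (hodd : Odd (Nat.card J))
    (hlift : ∀ j ∈ J, ∃ g, ∃ hg : g ∈ H, g ∈ lift H A J ∧ π H ⟨g, hg⟩ = j)
    (tr : ∀ x ∈ img H A, ∀ y ∈ img H A, x ∉ centralizer (M : Set (↥H ⧸ Cfsg.oddCore ↥H)) →
      y ∉ centralizer (M : Set (↥H ⧸ Cfsg.oddCore ↥H)) →
      ∃ j ∈ J, j * x * j⁻¹ * y⁻¹ ∈ centralizer (M : Set (↥H ⧸ Cfsg.oddCore ↥H)))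
    (big : ∃ x ∈ img H A, ∃ y ∈ img H A, x ∉ centralizer (M : Set (↥H ⧸ Cfsg.oddCore ↥H)) ∧
      y ∉ centralizer (M : Set (↥H ⧸ Cfsg.oddCore ↥H)) ∧
      x * y⁻¹ ∉ centralizer (M : Set (↥H ⧸ Cfsg.oddCore ↥H))) :
    ∃ i, ∀ j, j ≠ i → B j ≤ pull H (centralizer (M : Set (↥H ⧸ Cfsg.oddCore ↥H))) := by
  have hAp : IsPGroup 2 A := by
    rintro ⟨x, hx⟩
    exact ⟨1, Subtype.ext (by simpa only [pow_two, _root_.pow_one, _root_.MulMemClass.mk_mul_mk, _root_.OneMemClass.coe_one] using sq x hx)⟩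
  set D : Subgroup G := A ⊓ pull H (centralizer (M : Set (↥H ⧸ Cfsg.oddCore ↥H))) with hD
  have hmemD : ∀ {a : G} (ha : a ∈ A), a ∈ D ↔
      π H ⟨a, hAH ha⟩ ∈ centralizer (M : Set (↥H ⧸ Cfsg.oddCore ↥H)) := by
    intro a ha
    rw [hD, mem_inf, mem_pull]
    exact ⟨fun ⟨_, _, h⟩ => h, fun h => ⟨ha, hAH ha, h⟩⟩
  have hsit : GoldType.Sit A B (lift H A J) D :=
    { sq := sq
      comm := comm
      sup := sup
      indep := indep
      two := two
      odd := odd_lift hodd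
      norm := lift_le_normalizer H A J
      perm := fun j hj i => perm j (lift_le_normalizer H A J hj) i
      le := inf_le_left
      fix := by
        intro j hj d hd
        obtain ⟨⟨hjH, hjJ⟩, hjN⟩ := mem_lift.1 hj
        have hdA : d ∈ A := (mem_inf.1 hd).1
        have hdc := (hmemD hdA).1 hd
        have h1 := mem_centralizer_iff.1 hdc _ (hJM hjJ)
        have h2 : j * d * j⁻¹ ∈ A := (mem_normalizer_iff.1 hjN d).1 hdA
        have h3 : π H ⟨j * d * j⁻¹, hAH h2⟩ = π H ⟨d, hAH hdA⟩ := by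
          have e : (⟨j * d * j⁻¹, hAH h2⟩ : H) = ⟨j, hjH⟩ * ⟨d, hAH hdA⟩ * ⟨j, hjH⟩⁻¹ := rfl
          rw [e, map_mul, map_mul, map_inv, h1]
          group
        exact congrArg Subtype.val (π_inj hAp h2 hdA h3)
      tr := by
        intro x hx y hy hxD hyD
        obtain ⟨j, hj, hjc⟩ := tr _ (mem_img_of hAH hx) _ (mem_img_of hAH hy)
          (fun hc => hxD ((hmemD hx).2 hc)) (fun hc => hyD ((hmemD hy).2 hc))
        obtain ⟨g, hg, hgl, rfl⟩ := hlift j hj
        have hgN := lift_le_normalizer H A J hgl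
        have h2 : g * x * g⁻¹ * y⁻¹ ∈ A := mul_mem ((mem_normalizer_iff.1 hgN x).1 hx) (inv_mem hy)
        refine ⟨g, hgl, (hmemD h2).2 ?_⟩
        exact hjc
      big := by
        obtain ⟨x, hx, y, hy, h1, h2, h3⟩ := big
        obtain ⟨a, ha, rfl⟩ := (mem_img hAH).1 hx
        obtain ⟨b, hb, rfl⟩ := (mem_img hAH).1 hy
        refine ⟨a, ha, b, hb, fun hc => h1 ((hmemD ha).1 hc), fun hc => h2 ((hmemD hb).1 hc), fun hc => ?_⟩
        exact h3 ((hmemD (mul_mem ha (inv_mem hb))).1 hc) }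
  obtain ⟨i, hi⟩ := hsit.exists_type
  exact ⟨i, fun j hj => (hi j hj).trans inf_le_right⟩

/-! ### 2-components -/

section PComp

variable [Finite G] {H : Subgroup G}

omit [Finite G] in
/-- `[L, B] ≤ O(H)` iff the images commute. -/
theorem commutator_le_core_iff {L : Subgroup H} {B : Subgroup G} (hB : B ≤ H) :
    ⁅L.map H.subtype, B⁆ ≤ core H ↔
      B ≤ pull H (centralizer ((L.map (π H) : Subgroup (↥H ⧸ Cfsg.oddCore ↥H)) : Set (↥H ⧸ Cfsg.oddCore ↥H))) := by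
  have key : ∀ (l : H) (b : G) (hb : b ∈ H), ⁅(l : G), b⁆ ∈ core H ↔ π H ⟨b, hb⟩ * π H l = π H l * π H ⟨b, hb⟩ := by
    intro l b hb
    have e : ⁅(l : G), b⁆ = ((⁅l, (⟨b, hb⟩ : H)⁆ : H) : G) := rfl
    rw [e, ← π_eq_one, map_commutatorElement, commutatorElement_eq_one_iff_mul_comm]
    exact eq_comm
  constructor
  · intro hle b hb
    rw [mem_pull]
    refine ⟨hB hb, ?_⟩
    rw [mem_centralizer_iff]
    rintro _ ⟨l, hl, rfl⟩
    exact ((key l b (hB hb)).1 (hle (commutator_mem_commutator ⟨l, hl, rfl⟩ hb))).symm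
  · intro hle
    rw [commutator_le]
    rintro _ ⟨l, hl, rfl⟩ b hb
    obtain ⟨hbH, hbc⟩ := mem_pull.1 (hle hb)
    rw [mem_centralizer_iff] at hbc
    exact (key l b hbH).2 (hbc _ ⟨l, hl, rfl⟩).symm

omit [Finite G] in
/-- `B ≤ L O(H)` iff the image of `B` lies in the image of `L`. -/
theorem le_sup_core_iff {L : Subgroup H} {B : Subgroup G} :
    B ≤ L.map H.subtype ⊔ core H ↔ B ≤ pull H (L.map (π H)) := by
  have e : L.map H.subtype ⊔ core H = pull H (L.map (π H)) := by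
    rw [pull, comap_map_eq, QuotientGroup.ker_mk', core, ← Subgroup.map_sup]
  rw [e]

/-- The 2-components of `H`. -/
theorem exists_pcomp {M : Subgroup (↥H ⧸ Cfsg.oddCore ↥H)} (hM : Cfsg.IsComponent M) :
    ∃ L : Subgroup H, Cfsg.IsPComponent 2 L ∧ L.map (π H) = M :=
  haveI : Fact (Nat.Prime 2) := ⟨Nat.prime_two⟩
  Cfsg.Agent.Lib.PComponents.exists_pcomp hM

/-- `H = O(H) L(H) N_H(A)`. -/
theorem le_sup_pLayer {𝒜 : Set G} (h : IsElemFam 𝒜) (S : Sylow 2 G) (hAH : fam 𝒜 (S : Subgroup G) ≤ H)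
    (hctx : Ctx (push 𝒜 H)) :
    H ≤ core H ⊔ (Cfsg.pLayer 2 H).map H.subtype ⊔ normalizer (fam 𝒜 (S : Subgroup G) : Set G) := by
  haveI : Fact (Nat.Prime 2) := ⟨Nat.prime_two⟩
  obtain ⟨P, hP⟩ := GoldSolid.exists_sylow_push h S hAH
  have hI : (GoldLayer.Inner (push 𝒜 H) (P : Subgroup (↥H ⧸ Cfsg.oddCore ↥H)) :) := fun L hL hA a ha haS =>
    GoldInner.exists_inner hctx hL hA P a ha haS
  have h1 := GoldLayer.layer_sup_normalizer hctx P hI
  intro c hc
  have h2 : π H ⟨c, hc⟩ ∈ sSup {L | Cfsg.IsComponent L ∧ Act (push 𝒜 H) L} ⊔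
      normalizer (fam (push 𝒜 H) (P : Subgroup (↥H ⧸ Cfsg.oddCore ↥H)) : Set (↥H ⧸ Cfsg.oddCore ↥H)) := by
    rw [h1]; exact mem_top _
  haveI hn : (sSup {L | Cfsg.IsComponent L ∧ Act (push 𝒜 H) L}).Normal :=
    GoldLayer.actLayer_normal hctx.fam
  obtain ⟨e, he, n, hn', hen⟩ := mem_sup_of_normal_left.1 h2
  have hle : sSup {L | Cfsg.IsComponent L ∧ Act (push 𝒜 H) L} ≤ Cfsg.layer (↥H ⧸ Cfsg.oddCore ↥H) :=
    sSup_le_sSup fun L hL => hL.1
  have he' := hle he
  rw [← Cfsg.Agent.Lib.PComponents.map_pLayer] at he'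
  obtain ⟨l, hl, rfl⟩ := he'
  rw [hP] at hn'
  obtain ⟨⟨m, hm⟩, rfl⟩ := π_surjective H n
  obtain ⟨o, ho, k, hk, hkH, e⟩ := GoldSolid.exists_mul_of_mem_normalizer h S hAH hm hn'
  -- `c = l m` mod the core
  have h3 : π H (l * ⟨m, hm⟩) = π H ⟨c, hc⟩ := by rw [map_mul]; exact hen
  rw [π_eq_iff'] at h3
  have h4 : c = l * o * k * (((l * ⟨m, hm⟩ : H) : G)⁻¹ * c) := by
    have : ((l * ⟨m, hm⟩ : H) : G) = l * m := rfl
    rw [this, e]; group
  rw [h4]
  refine mul_mem (mul_mem (mul_mem ?_ ?_) ?_) ?_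
  · exact mem_sup_left (mem_sup_right ⟨l, hl, rfl⟩)
  · exact mem_sup_left (mem_sup_left ho)
  · exact mem_sup_right hk
  · exact mem_sup_left (mem_sup_left h3)

end PComp

/-! ### The quotient `A/C_A(L)` has more than two elements -/

section Big

variable {X : Type u} [Group X] [Finite X] {𝒜 : Set X} {L : Subgroup X}

/-- The family in `Inn L`. -/
def innFam (𝒜 : Set X) (L : Subgroup X) : Set ↥(GoldInner.inn L) :=
  {x | (x : ↥(normalizer (L : Set X)) ⧸ GoldInner.cn L) ∈ GoldInner.famN 𝒜 L}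

omit [Finite X] in
theorem inn_nonab (hL : Cfsg.IsComponent L) : ∃ a b : ↥(GoldInner.inn L), a * b ≠ b * a := by
  obtain ⟨a, b, hab⟩ := GoldSolid.quasisimple_nonab hL.2
  refine ⟨GoldInner.innEquiv L a, GoldInner.innEquiv L b, ?_⟩
  rw [← map_mul, ← map_mul]
  exact fun e => hab ((GoldInner.innEquiv L).injective e)

theorem exists_big (h : Ctx 𝒜) (hL : Cfsg.IsComponent L) (hA : Act 𝒜 L) (S : Sylow 2 X) :
    ∃ x ∈ fam 𝒜 (S : Subgroup X), ∃ y ∈ fam 𝒜 (S : Subgroup X), x ∉ centralizer (L : Set X) ∧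
      y ∉ centralizer (L : Set X) ∧ x * y⁻¹ ∉ centralizer (L : Set X) := by
  classical
  haveI : Fact (Nat.Prime 2) := ⟨Nat.prime_two⟩
  by_contra hcon
  push Not at hcon
  obtain ⟨R, hR1, hR2⟩ := GoldInnerJ.exists_sylow_inn hL S
  obtain ⟨b₀, hb₀, hb₀S, hb₀L, hb₀c, -⟩ := GoldInnerJ.exists_comm h hL hA S (t := 1) (one_mem _) (one_mem _)
  have hE : IsElemFam (innFam 𝒜 L) :=
    (GoldInner.isElemFam_famN h.fam).restrict (GoldInner.inn L)
  refine GoldSolid.card_ne_two_of (GoldInner.isSimpleGroup_inn hL) (inn_nonab hL) hE R ?_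
  have hmem : ∀ (t : L), (t : X) ∈ 𝒜 → (t : X) ∈ (S : Subgroup X) →
      GoldInner.toInn L t ∈ fam (innFam 𝒜 L)
        (R : Subgroup ↥(GoldInner.inn L)) := by
    intro t ht htS
    refine mem_fam ?_ (hR1 t htS)
    exact ⟨⟨t, le_normalizer t.2⟩, ht, rfl⟩
  have hb₀1 : GoldInner.toInn L ⟨b₀, hb₀L⟩ ≠ 1 := by
    rw [Ne, GoldInner.toInn_eq_one]; exact hb₀c
  rw [Nat.card_eq_two_iff' (⟨1, one_mem _⟩ : fam (innFam 𝒜 L)
    (R : Subgroup ↥(GoldInner.inn L)))]
  refine ⟨⟨_, hmem ⟨b₀, hb₀L⟩ hb₀ hb₀S⟩, fun e => hb₀1 (congrArg Subtype.val e), ?_⟩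
  rintro ⟨z, hz⟩ hz1
  have hz1' : z ≠ 1 := fun e => hz1 (Subtype.ext e)
  apply Subtype.ext
  change z = GoldInner.toInn L ⟨b₀, hb₀L⟩
  obtain ⟨hzf, hzR⟩ := (hE.toIsClosedFam.mem_fam_iff R.2).1 hz
  obtain ⟨t, htS, rfl⟩ := hR2 z hzR
  have htt : (t : X) * t ∈ centralizer (L : Set X) := by
    have h1 := hE.sq _ hzf
    rw [← map_mul, GoldInner.toInn_eq_one] at h1
    exact h1
  have htc : (t : X) ∉ centralizer (L : Set X) := fun hc => hz1' (GoldInner.toInn_eq_one L |>.2 hc)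
  obtain ⟨b, hb, hbS, hbL, hbc, z, hzL, hzc, htz⟩ := GoldInnerJ.exists_fam_of_sq h hL hA S t.2 htS htt htc
  have h2 := hcon b (mem_fam hb hbS) b₀ (mem_fam hb₀ hb₀S) hbc hb₀c
  rw [← mul_inv_eq_one, ← map_inv, ← map_mul, GoldInner.toInn_eq_one]
  change (t : X) * b₀⁻¹ ∈ _
  rw [htz]
  have : z * b * b₀⁻¹ = z * (b * b₀⁻¹) := by group
  rw [this]
  exact mul_mem hzc h2

end Big

/-! ### Pairs -/

section Pairs

open Cfsg.Agent.TwoFusion.GoldPairDefs

variable [Finite G] {𝒜 : Set G} {A : Subgroup G} {w : G} {L : Subgroup (Xw w)}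

omit [Finite G] in
theorem mem_DD_iff (hAw : A ≤ Cw w) {a : G} (ha : a ∈ A) :
    a ∈ DD A w L ↔ π (Cw w) ⟨a, hAw ha⟩ ∈ centralizer (L : Set (Xw w)) := by
  rw [mem_DD]
  exact ⟨fun ⟨_, _, h⟩ => h, fun h => ⟨ha, hAw ha, h⟩⟩

theorem exists_big_pair (h : IsElemFam 𝒜) (S : Sylow 2 G) (hctx : Ctx (push 𝒜 (Cw w)))
    (hp : IsPair 𝒜 (fam 𝒜 (S : Subgroup G)) w L) :
    ∃ x ∈ fam 𝒜 (S : Subgroup G), ∃ y ∈ fam 𝒜 (S : Subgroup G), x ∉ DD (fam 𝒜 (S : Subgroup G)) w L ∧
      y ∉ DD (fam 𝒜 (S : Subgroup G)) w L ∧ x * y⁻¹ ∉ DD (fam 𝒜 (S : Subgroup G)) w L := by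
  set A := fam 𝒜 (S : Subgroup G) with hAdef
  have hmem : ∀ {x : G}, x ∈ A ↔ x ∈ 𝒜 ∧ x ∈ (S : Subgroup G) := fun {x} =>
    h.toIsClosedFam.mem_fam_iff S.2
  have hcomm : ∀ a ∈ A, ∀ b ∈ A, a * b = b * a := by
    intro a ha b hb
    rw [hmem] at ha hb
    exact h.comm S.2 ha.1 ha.2 hb.1 hb.2
  have hAw : A ≤ Cw w := fun a ha => mem_Cw.2 (hcomm w hp.mem a ha)
  obtain ⟨P, hP⟩ := GoldSolid.exists_sylow_push h S hAw
  obtain ⟨x, hx, y, hy, h1, h2, h3⟩ := exists_big hctx hp.comp hp.act P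
  rw [hP] at hx hy
  obtain ⟨a, ha, rfl⟩ := (mem_img hAw).1 hx
  obtain ⟨b, hb, rfl⟩ := (mem_img hAw).1 hy
  refine ⟨a, ha, b, hb, fun hc => h1 ((mem_DD_iff hAw ha).1 hc), fun hc => h2 ((mem_DD_iff hAw hb).1 hc),
    fun hc => h3 ((mem_DD_iff hAw (mul_mem ha (inv_mem hb))).1 hc)⟩

end Pairs

end Cfsg.Agent.TwoFusion.GoldBridge
end

-- part: TwoFusion/GoldPairs
section
/-!
# The classes of pairs `(w, L)` with `|A : C_A(L)|` maximal
-/

set_option autoImplicit false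
set_option linter.style.haveILetI false

namespace Cfsg.Agent.TwoFusion.GoldPairs

open Subgroup
open Cfsg.Agent.TwoFusion.ClosedFam Cfsg.Agent.TwoFusion.Gold Cfsg.Agent.TwoFusion.GoldPairDefs
open Cfsg.Agent.TwoFusion.GoldSetup

universe u

variable {G : Type u} [Group G] [Finite G] {𝒜 : Set G} (h : Setup 𝒜) (S : Sylow 2 G)

/-- The maximal index. -/
noncomputable def qmax (𝒜 : Set G) (A : Subgroup G) : ℕ :=
  sSup {n : ℕ | ∃ (w : G) (L : Subgroup (Xw w)), IsPair 𝒜 A w L ∧ (DD A w L).relIndex A = n}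

/-- The classes. -/
def cls (𝒜 : Set G) (A : Subgroup G) : Set (Subgroup G) :=
  {D | ∃ (w : G) (L : Subgroup (Xw w)), IsPair 𝒜 A w L ∧ DD A w L = D ∧ D.relIndex A = qmax 𝒜 A}

theorem relIndex_le_card (D A : Subgroup G) : D.relIndex A ≤ Nat.card A := by
  have h1 := Subgroup.card_mul_index (D.subgroupOf A)
  have h2 : 0 < Nat.card (D.subgroupOf A) := Nat.card_pos
  calc D.relIndex A = 1 * (D.subgroupOf A).index := by rw [one_mul]; rfl
    _ ≤ Nat.card (D.subgroupOf A) * (D.subgroupOf A).index := Nat.mul_le_mul_right _ h2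
    _ = Nat.card A := h1

theorem bddAbove (𝒜 : Set G) (A : Subgroup G) :
    BddAbove {n : ℕ | ∃ (w : G) (L : Subgroup (Xw w)), IsPair 𝒜 A w L ∧ (DD A w L).relIndex A = n} := by
  refine ⟨Nat.card A, ?_⟩
  rintro _ ⟨w, L, -, rfl⟩
  exact relIndex_le_card _ _

theorem le_qmax {A : Subgroup G} {w : G} {L : Subgroup (Xw w)} (hp : IsPair 𝒜 A w L) :
    (DD A w L).relIndex A ≤ qmax 𝒜 A :=
  le_csSup (bddAbove 𝒜 A) ⟨w, L, hp, rfl⟩

theorem exists_eq_qmax {A : Subgroup G} (hne : ∃ (w : G) (L : Subgroup (Xw w)), IsPair 𝒜 A w L) :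
    ∃ (w : G) (L : Subgroup (Xw w)), IsPair 𝒜 A w L ∧ (DD A w L).relIndex A = qmax 𝒜 A := by
  have hn : {n : ℕ | ∃ (w : G) (L : Subgroup (Xw w)), IsPair 𝒜 A w L ∧ (DD A w L).relIndex A = n}.Nonempty := by
    obtain ⟨w, L, hp⟩ := hne
    exact ⟨_, w, L, hp, rfl⟩
  exact Nat.sSup_mem hn (bddAbove 𝒜 A)

section Local

include h

omit [Finite G] in
theorem mem_family {a : G} (ha : a ∈ fam 𝒜 (S : Subgroup G)) : a ∈ 𝒜 := ((h.mem_iff S).1 ha).1

theorem ctxw {w : G} (hw : w ∈ fam 𝒜 (S : Subgroup G)) (hw1 : w ≠ 1) : Ctx (push 𝒜 (Cw w)) :=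
  h.ctx w (mem_family h S hw) hw1

omit [Finite G] in
theorem mem_Cw' {a w : G} (ha : a ∈ fam 𝒜 (S : Subgroup G)) (hw : w ∈ fam 𝒜 (S : Subgroup G)) :
    a ∈ Cw w := mem_Cw.2 (h.comm S w hw a ha)

/-- An element of `A` which is trivial modulo the core is trivial. -/
theorem eq_one_of_pw {w a : G} (ha : a ∈ fam 𝒜 (S : Subgroup G)) (haw : a ∈ Cw w)
    (h1 : pw w ⟨a, haw⟩ = 1) : a = 1 := by
  rw [pw_eq_one] at h1
  have hodd : Odd (Nat.card (Cfsg.oddCore ↥(Cw w))) :=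
    Nat.coprime_two_right.1 (Cfsg.Agent.Lib.Cores.pPrimeCore_coprime 2)
  have h2 : (⟨a, haw⟩ : ↥(Cw w)) * ⟨a, haw⟩ = 1 := Subtype.ext (h.sq S a ha)
  set x : Cfsg.oddCore ↥(Cw w) := ⟨⟨a, haw⟩, h1⟩ with hx
  have h3 : x ^ 2 = 1 := by
    rw [pow_two]; exact Subtype.ext h2
  have h4 : x ^ Nat.card (Cfsg.oddCore ↥(Cw w)) = 1 := pow_card_eq_one'
  have h5 : x = 1 := by
    obtain ⟨k, hk⟩ := hodd
    rw [hk, pow_add, pow_mul, h3, one_pow, one_mul, pow_one] at h4
    exact h4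
  exact congrArg (fun z : Cfsg.oddCore ↥(Cw w) => ((z : ↥(Cw w)) : G)) h5

theorem pw_mem_push {w a : G} (ha : a ∈ fam 𝒜 (S : Subgroup G)) (haw : a ∈ Cw w) :
    pw w ⟨a, haw⟩ ∈ push 𝒜 (Cw w) := ⟨⟨a, haw⟩, mem_family h S ha, rfl⟩

/-- Commutators of `JJ` with `A` lie in `L`. -/
theorem comm_mem {w : G} {L : Subgroup (Xw w)} (hp : IsPair 𝒜 (fam 𝒜 (S : Subgroup G)) w L) {g a : G}
    (hg : g ∈ JJ (fam 𝒜 (S : Subgroup G)) w L) (ha : a ∈ fam 𝒜 (S : Subgroup G)) :
    g * a * g⁻¹ * a⁻¹ ∈ fam 𝒜 (S : Subgroup G) ∧ ∃ hc : g * a * g⁻¹ * a⁻¹ ∈ Cw w,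
      pw w ⟨g * a * g⁻¹ * a⁻¹, hc⟩ ∈ L := by
  obtain ⟨hgN, hgw, hgL⟩ := mem_JJ.1 hg
  have haw := mem_Cw' h S ha hp.mem
  refine ⟨mul_mem ((mem_normalizer_iff.1 hgN a).1 ha) (inv_mem ha),
    mul_mem (mul_mem (mul_mem hgw haw) (inv_mem hgw)) (inv_mem haw), ?_⟩
  have hn : pw w ⟨a, haw⟩ ∈ normalizer (L : Set (Xw w)) :=
    mem_normalizer (ctxw h S hp.mem hp.ne).fam (ctxw h S hp.mem hp.ne).core hp.comp
      (pw_mem_push h S ha haw)
  have h1 : pw w ⟨a, haw⟩ * (pw w ⟨g, hgw⟩)⁻¹ * (pw w ⟨a, haw⟩)⁻¹ ∈ L :=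
    (mem_normalizer_iff.1 hn _).1 (inv_mem hgL)
  have e : pw w ⟨g * a * g⁻¹ * a⁻¹, mul_mem (mul_mem (mul_mem hgw haw) (inv_mem hgw)) (inv_mem haw)⟩ =
      pw w ⟨g, hgw⟩ * (pw w ⟨a, haw⟩ * (pw w ⟨g, hgw⟩)⁻¹ * (pw w ⟨a, haw⟩)⁻¹) := by
    rw [← map_inv, ← map_inv, ← map_mul, ← map_mul, ← map_mul]
    congr 1
    apply Subtype.ext
    change g * a * g⁻¹ * a⁻¹ = g * (a * g⁻¹ * a⁻¹)
    group
  rw [e]
  exact mul_mem hgL h1

/-- `JJ` centralizes `DD`. -/
theorem JJ_comm_DD {w : G} {L : Subgroup (Xw w)} (hp : IsPair 𝒜 (fam 𝒜 (S : Subgroup G)) w L) {g d : G}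
    (hg : g ∈ JJ (fam 𝒜 (S : Subgroup G)) w L) (hd : d ∈ DD (fam 𝒜 (S : Subgroup G)) w L) :
    g * d * g⁻¹ = d := by
  obtain ⟨hdA, hdw, hdc⟩ := mem_DD.1 hd
  obtain ⟨h1, h2, -⟩ := comm_mem h S hp hg hdA
  obtain ⟨-, hgw, hgL⟩ := mem_JJ.1 hg
  have h3 : g * d * g⁻¹ * d⁻¹ = 1 := by
    refine eq_one_of_pw h S h1 h2 ?_
    have e : pw w ⟨g * d * g⁻¹ * d⁻¹, h2⟩ =
        pw w ⟨g, hgw⟩ * pw w ⟨d, hdw⟩ * (pw w ⟨g, hgw⟩)⁻¹ * (pw w ⟨d, hdw⟩)⁻¹ := by
      rw [← map_inv, ← map_inv, ← map_mul, ← map_mul, ← map_mul]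
      rfl
    rw [e, (mem_centralizer_iff.1 hdc) _ hgL]
    group
  calc g * d * g⁻¹ = g * d * g⁻¹ * d⁻¹ * d := by group
    _ = d := by rw [h3, one_mul]

/-- `DD` is not everything. -/
theorem DD_ne {w : G} {L : Subgroup (Xw w)} (hp : IsPair 𝒜 (fam 𝒜 (S : Subgroup G)) w L) :
    w ∈ DD (fam 𝒜 (S : Subgroup G)) w L := by
  rw [mem_DD]
  refine ⟨hp.mem, mem_Cw.2 rfl, ?_⟩
  rw [mem_centralizer_iff]
  intro x _
  obtain ⟨y, rfl⟩ := pw_surjective w x
  rw [← map_mul, ← map_mul]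
  congr 1
  apply Subtype.ext
  exact (mem_Cw.1 y.2).symm

/-- `JJ` is transitive on the nontrivial elements of `A/C_A(L)`. -/
theorem JJ_trans {w : G} {L : Subgroup (Xw w)} (hp : IsPair 𝒜 (fam 𝒜 (S : Subgroup G)) w L) {x y : G}
    (hx : x ∈ fam 𝒜 (S : Subgroup G)) (hy : y ∈ fam 𝒜 (S : Subgroup G))
    (hxD : x ∉ DD (fam 𝒜 (S : Subgroup G)) w L) (hyD : y ∉ DD (fam 𝒜 (S : Subgroup G)) w L) :
    ∃ j ∈ JJ (fam 𝒜 (S : Subgroup G)) w L, j * x * j⁻¹ * y⁻¹ ∈ DD (fam 𝒜 (S : Subgroup G)) w L := by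
  set A := fam 𝒜 (S : Subgroup G) with hA
  have hAH : A ≤ Cw w := fun a ha => mem_Cw' h S ha hp.mem
  obtain ⟨P, hP⟩ := GoldSolid.exists_sylow_push h.fam S hAH
  obtain ⟨J, hJL, hJodd, hJn, hJt⟩ := GoldInnerJ.exists_J (ctxw h S hp.mem hp.ne) hp.comp hp.act P
  have hxw := hAH hx
  have hyw := hAH hy
  have hmem : ∀ {a : G} (ha : a ∈ A) (haw : a ∈ Cw w),
      pw w ⟨a, haw⟩ ∈ (fam (push 𝒜 (Cw w)) (P : Subgroup (Xw w)) :) := by
    intro a ha haw
    rw [hP]
    exact ⟨⟨a, haw⟩, mem_subgroupOf.2 ha, rfl⟩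
  obtain ⟨j, hj, hjxy⟩ := hJt (pw w ⟨x, hxw⟩) (hmem hx hxw) (pw w ⟨y, hyw⟩) (hmem hy hyw)
    (fun hc => hxD (mem_DD.2 ⟨hx, hxw, hc⟩)) (fun hc => hyD (mem_DD.2 ⟨hy, hyw, hc⟩))
  obtain ⟨⟨c, hc⟩, rfl⟩ := pw_surjective w j
  have hjn := hJn hj
  rw [hP] at hjn
  obtain ⟨o, ho, n, hn, hnw, hcn⟩ := GoldSolid.exists_mul_of_mem_normalizer h.fam S hAH hc hjn
  have hpn : pw w ⟨n, hnw⟩ = pw w ⟨c, hc⟩ := by
    have how : o ∈ Cw w := by
      obtain ⟨y, -, rfl⟩ := ho
      exact y.2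
    have h1 : pw w ⟨o, how⟩ = 1 := by
      rw [pw_eq_one]
      obtain ⟨y, hy, hyo⟩ := ho
      have : y = ⟨o, how⟩ := Subtype.ext hyo
      rw [← this]; exact hy
    have h2 : (⟨c, hc⟩ : ↥(Cw w)) = ⟨o, how⟩ * ⟨n, hnw⟩ := Subtype.ext hcn
    rw [h2, map_mul, h1, one_mul]
  refine ⟨n, mem_JJ.2 ⟨hn, hnw, by rw [hpn]; exact hJL hj⟩, ?_⟩
  rw [mem_DD]
  have hz : n * x * n⁻¹ * y⁻¹ ∈ Cw w := mul_mem (mul_mem (mul_mem hnw hxw) (inv_mem hnw)) (inv_mem hyw)
  refine ⟨mul_mem ((mem_normalizer_iff.1 hn x).1 hx) (inv_mem hy), hz, ?_⟩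
  have e : pw w ⟨n * x * n⁻¹ * y⁻¹, hz⟩ =
      pw w ⟨c, hc⟩ * pw w ⟨x, hxw⟩ * (pw w ⟨c, hc⟩)⁻¹ * (pw w ⟨y, hyw⟩)⁻¹ := by
    rw [← hpn, ← map_inv, ← map_inv, ← map_mul, ← map_mul, ← map_mul]
    rfl
  rw [e]
  exact hjxy

/-- Distinct components commute. -/
theorem comm_components {w : G} {L M : Subgroup (Xw w)} (hL : Cfsg.IsComponent L) (hM : Cfsg.IsComponent M)
    (hne : L ≠ M) : L ≤ centralizer (M : Set (Xw w)) := by
  have h1 := Cfsg.Agent.S1270.component_comm_of_ne hL hM hne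
  rwa [commutator_eq_bot_iff_le_centralizer] at h1

end Local

section Classes

variable (hB : Balance 𝒜 (fam 𝒜 (S : Subgroup G))) (hC : ConjPair 𝒜 (fam 𝒜 (S : Subgroup G)))
  (h4 : ∀ (w : G) (L : Subgroup (Xw w)), IsPair 𝒜 (fam 𝒜 (S : Subgroup G)) w L →
    4 ≤ (DD (fam 𝒜 (S : Subgroup G)) w L).relIndex (fam 𝒜 (S : Subgroup G)))

include hB in
omit [Finite G] in
/-- Balance for classes. -/
theorem balance' [Finite G] {w : G} {L : Subgroup (Xw w)} {d : G}
    (hp : IsPair 𝒜 (fam 𝒜 (S : Subgroup G)) w L)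
    (hq : (DD (fam 𝒜 (S : Subgroup G)) w L).relIndex (fam 𝒜 (S : Subgroup G)) =
      qmax 𝒜 (fam 𝒜 (S : Subgroup G)))
    (hd : d ∈ DD (fam 𝒜 (S : Subgroup G)) w L) (hd1 : d ≠ 1) :
    ∃ M : Subgroup (Xw d), IsPair 𝒜 (fam 𝒜 (S : Subgroup G)) d M ∧
      DD (fam 𝒜 (S : Subgroup G)) d M = DD (fam 𝒜 (S : Subgroup G)) w L ∧
      ∀ g ∈ JJ (fam 𝒜 (S : Subgroup G)) w L, ∃ g' ∈ JJ (fam 𝒜 (S : Subgroup G)) d M,
        ∀ a ∈ fam 𝒜 (S : Subgroup G), g * a * g⁻¹ = g' * a * g'⁻¹ :=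
  hB w L d hp hd hd1 (fun M hM => by rw [hq]; exact le_qmax hM)

include hB in
/-- For `D ∈ cls` and `d ∈ D#` there is a component `M` of `X_d` with `C_A(M) = D`. -/
theorem exists_comp {D : Subgroup G} (hD : D ∈ cls 𝒜 (fam 𝒜 (S : Subgroup G))) {d : G} (hd : d ∈ D)
    (hd1 : d ≠ 1) : ∃ M : Subgroup (Xw d), IsPair 𝒜 (fam 𝒜 (S : Subgroup G)) d M ∧
      DD (fam 𝒜 (S : Subgroup G)) d M = D := by
  obtain ⟨w, L, hp, rfl, hq⟩ := hD
  obtain ⟨M, hM, hMD, -⟩ := balance' S hB hp hq hd hd1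
  exact ⟨M, hM, hMD⟩

include h hB hC h4 in
/-- The class data. -/
theorem classData (hne : ∃ (w : G) (L : Subgroup (Xw w)), IsPair 𝒜 (fam 𝒜 (S : Subgroup G)) w L) :
    GoldCases.ClassData (fam 𝒜 (S : Subgroup G)) (qmax 𝒜 (fam 𝒜 (S : Subgroup G)))
      (cls 𝒜 (fam 𝒜 (S : Subgroup G))) where
  sq := h.sq S
  comm := h.comm S
  irr B hBA hn := h.irreducible S hBA hn
  idx := h.index_ne_two S
  q2 := by
    obtain ⟨w, L, hp, hq⟩ := exists_eq_qmax hne
    have := h4 w L hp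
    omega
  le := by
    rintro _ ⟨w, L, -, rfl, -⟩
    exact inf_le_left
  ne := by
    rintro _ ⟨w, L, hp, rfl, -⟩ hbot
    have h1 := DD_ne h S hp
    rw [hbot, mem_bot] at h1
    exact hp.ne h1
  rel := by
    rintro _ ⟨w, L, -, rfl, hq⟩
    exact hq
  inv := by
    rintro _ ⟨w, L, hp, rfl, hq⟩ n hn
    obtain ⟨L', hp', hD', -⟩ := hC w L n hp hn
    refine ⟨_, L', hp', hD', ?_⟩
    rw [← hq]
    have e : (fam 𝒜 (S : Subgroup G)).map (MulAut.conj n).toMonoidHom = fam 𝒜 (S : Subgroup G) :=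
      map_conj_of_mem_normalizer hn
    have e2 := relIndex_map_map_of_injective (DD (fam 𝒜 (S : Subgroup G)) w L) (fam 𝒜 (S : Subgroup G))
      (f := (MulAut.conj n).toMonoidHom) (MulAut.conj n).injective
    rw [e] at e2
    exact e2
  tor := by
    rintro _ ⟨w, L, hp, rfl, hq⟩
    refine ⟨JJ (fam 𝒜 (S : Subgroup G)) w L, inf_le_left, fun j hj d hd => JJ_comm_DD h S hp hj hd,
      fun x hx y hy hxD hyD => JJ_trans h S hp hx hy hxD hyD, ?_⟩
    rintro _ ⟨w', L', hp', rfl, hq'⟩ hne' hinf j hj a ha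
    obtain ⟨⟨d, hd⟩, hd1'⟩ := Subgroup.ne_bot_iff_exists_ne_one.1 hinf
    have hd1 : d ≠ 1 := fun e => hd1' (Subtype.ext e)
    obtain ⟨M, hM, hMD, hMJ⟩ := balance' S hB hp hq hd.1 hd1
    obtain ⟨M', hM', hMD', -⟩ := balance' S hB hp' hq' hd.2 hd1
    have hMM' : M ≠ M' := by
      rintro rfl
      exact hne' (hMD'.symm.trans hMD)
    obtain ⟨j', hj', hjj'⟩ := hMJ j hj
    rw [hjj' a ha, ← hMD', mem_DD]
    obtain ⟨h1, h2, h3⟩ := comm_mem h S hM hj' ha
    exact ⟨h1, h2, comm_components h hM.comp hM'.comp hMM' h3⟩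

end Classes

end Cfsg.Agent.TwoFusion.GoldPairs
end

-- part: TwoFusion/GoldConjPair
section
/-!
# Conjugation of pairs

`conjPair`: conjugation by the elements of `N(A)` permutes the pairs `(w, L)`, `L` an active component of
`C(w)/O(C(w))`.
-/

set_option autoImplicit false
set_option linter.style.haveILetI false

namespace Cfsg.Agent.TwoFusion.GoldConjPair

open Subgroup
open Cfsg.Agent.TwoFusion.ClosedFam Cfsg.Agent.TwoFusion.Gold Cfsg.Agent.TwoFusion.GoldSetup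
open Cfsg.Agent.TwoFusion.GoldPairDefs

universe u

variable {G : Type u} [Group G]

theorem conj_mem_Cw {n w x : G} (hx : x ∈ Cw w) : n * x * n⁻¹ ∈ Cw (n * w * n⁻¹) := by
  rw [mem_Cw] at hx ⊢
  calc n * w * n⁻¹ * (n * x * n⁻¹) = n * (w * x) * n⁻¹ := by group
    _ = n * (x * w) * n⁻¹ := by rw [hx]
    _ = n * x * n⁻¹ * (n * w * n⁻¹) := by group

theorem conj_mem_Cw_iff {n w x : G} : x ∈ Cw (n * w * n⁻¹) ↔ n⁻¹ * x * n ∈ Cw w := by
  constructor
  · intro h
    have h1 := conj_mem_Cw (n := n⁻¹) h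
    have e1 : n⁻¹ * (n * w * n⁻¹) * n⁻¹⁻¹ = w := by group
    have e2 : n⁻¹ * x * n⁻¹⁻¹ = n⁻¹ * x * n := by group
    rwa [e1, e2] at h1
  · intro h
    have h1 := conj_mem_Cw (n := n) h
    have e : n * (n⁻¹ * x * n) * n⁻¹ = x := by group
    rwa [e] at h1

/-- Conjugation `C(w) ≃* C(n w n⁻¹)`. -/
def cc (n w : G) : ↥(Cw w) ≃* ↥(Cw (n * w * n⁻¹)) where
  toFun x := ⟨n * x * n⁻¹, conj_mem_Cw x.2⟩
  invFun y := ⟨n⁻¹ * y * n, conj_mem_Cw_iff.1 y.2⟩
  left_inv x := by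
    apply Subtype.ext
    show n⁻¹ * (n * (x : G) * n⁻¹) * n = x
    group
  right_inv y := by
    apply Subtype.ext
    show n * (n⁻¹ * (y : G) * n) * n⁻¹ = y
    group
  map_mul' x y := by
    apply Subtype.ext
    show n * ((x : G) * y) * n⁻¹ = n * x * n⁻¹ * (n * y * n⁻¹)
    group

@[simp] theorem cc_coe (n w : G) (x : ↥(Cw w)) : ((cc n w x : ↥(Cw (n * w * n⁻¹))) : G) = n * x * n⁻¹ := rfl

theorem map_core (n w : G) :
    (Cfsg.oddCore ↥(Cw w)).map (cc n w).toMonoidHom = Cfsg.oddCore ↥(Cw (n * w * n⁻¹)) :=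
  Cfsg.Agent.Lib.Cores.map_equiv_pPrimeCore (cc n w) 2

/-- The induced isomorphism `X_w ≃* X_{n w n⁻¹}`. -/
def ee (n w : G) : Xw w ≃* Xw (n * w * n⁻¹) :=
  QuotientGroup.congr (Cfsg.oddCore ↥(Cw w)) (Cfsg.oddCore ↥(Cw (n * w * n⁻¹))) (cc n w) (map_core n w)

theorem ee_pw (n w : G) (x : ↥(Cw w)) : ee n w (pw w x) = pw (n * w * n⁻¹) (cc n w x) := rfl

theorem pw_conj (n w : G) {x : G} (hx : x ∈ Cw (n * w * n⁻¹)) :
    pw (n * w * n⁻¹) ⟨x, hx⟩ = ee n w (pw w ⟨n⁻¹ * x * n, conj_mem_Cw_iff.1 hx⟩) := by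
  rw [ee_pw]
  congr 1
  apply Subtype.ext
  show x = n * (n⁻¹ * x * n) * n⁻¹
  group

theorem mem_map_ee {n w : G} {L : Subgroup (Xw w)} {x : Xw w} :
    ee n w x ∈ L.map (ee n w).toMonoidHom ↔ x ∈ L := by
  constructor
  · rintro ⟨y, hy, hyx⟩
    have : y = x := (ee n w).injective hyx
    rwa [← this]
  · intro h
    exact ⟨x, h, rfl⟩

theorem mem_centralizer_ee {n w : G} {L : Subgroup (Xw w)} {x : Xw w} :
    ee n w x ∈ centralizer ((L.map (ee n w).toMonoidHom : Subgroup _) : Set (Xw (n * w * n⁻¹))) ↔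
      x ∈ centralizer (L : Set (Xw w)) := by
  rw [mem_centralizer_iff, mem_centralizer_iff]
  constructor
  · intro h y hy
    have := h (ee n w y) (mem_map_ee.2 hy)
    simp only [← map_mul, ← map_mul] at this
    exact (ee n w).injective this
  · rintro h _ ⟨y, hy, rfl⟩
    show ee n w y * ee n w x = ee n w x * ee n w y
    simp only [← map_mul, ← map_mul, h y hy]

theorem mem_map_conj {K : Subgroup G} {g x : G} :
    x ∈ K.map (MulAut.conj g).toMonoidHom ↔ g⁻¹ * x * g ∈ K := by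
  constructor
  · rintro ⟨k, hk, rfl⟩
    have h : g⁻¹ * ((MulAut.conj g).toMonoidHom k) * g = k := by
      simp [MulAut.conj_apply, mul_assoc]
    rw [h]; exact hk
  · intro h
    exact ⟨g⁻¹ * x * g, h, by simp only [MulAut.conj_apply, mul_assoc, _root_.MulEquiv.toMonoidHom_eq_coe, _root_.mul_assoc, _root_.MonoidHom.coe_coe, _root_.MulAut.conj_apply, _root_.mul_inv_cancel_left, _root_.mul_inv_cancel, _root_.mul_one]⟩

theorem conj_mem_iff_of_normalizer {A : Subgroup G} {n x : G} (hn : n ∈ normalizer (A : Set G)) :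
    n⁻¹ * x * n ∈ A ↔ x ∈ A := by
  have h := mem_normalizer_iff.1 hn (n⁻¹ * x * n)
  have e : n * (n⁻¹ * x * n) * n⁻¹ = x := by group
  rw [e] at h
  exact h

/-- Conjugation of a pair. -/
theorem isPair_conj {𝒜 : Set G} {A : Subgroup G} (hconj : ∀ x ∈ 𝒜, ∀ g : G, g * x * g⁻¹ ∈ 𝒜) {w n : G}
    {L : Subgroup (Xw w)} (hL : IsPair 𝒜 A w L) (hn : n ∈ normalizer (A : Set G)) :
    IsPair 𝒜 A (n * w * n⁻¹) (L.map (ee n w).toMonoidHom) where
  mem := (mem_normalizer_iff.1 hn w).1 hL.mem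
  ne := by
    intro h
    apply hL.ne
    have e : w = n⁻¹ * (n * w * n⁻¹) * n := by group
    rw [e, h]; group
  comp := Cfsg.Agent.SignalizersComponents.Components.isComponent_map_equiv (ee n w) hL.comp
  act := by
    obtain ⟨x, ⟨x0, hx0, rfl⟩, hxL, y, hyL, hxy⟩ := hL.act
    refine ⟨ee n w (pw w x0), ⟨cc n w x0, hconj _ hx0 n, rfl⟩, mem_map_ee.2 hxL, ee n w y,
      mem_map_ee.2 hyL, ?_⟩
    intro h
    simp only [← map_mul, ← map_mul] at h
    exact hxy ((ee n w).injective h)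

theorem DD_conj {A : Subgroup G} {w n : G} {L : Subgroup (Xw w)} (hn : n ∈ normalizer (A : Set G)) :
    DD A (n * w * n⁻¹) (L.map (ee n w).toMonoidHom) = (DD A w L).map (MulAut.conj n).toMonoidHom := by
  ext x
  rw [mem_map_conj, mem_DD, mem_DD, conj_mem_iff_of_normalizer hn]
  refine and_congr_right fun _ => ?_
  constructor
  · rintro ⟨hx, h⟩
    refine ⟨conj_mem_Cw_iff.1 hx, ?_⟩
    rw [pw_conj, mem_centralizer_ee] at h
    exact h
  · rintro ⟨hx, h⟩
    refine ⟨conj_mem_Cw_iff.2 hx, ?_⟩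
    rw [pw_conj, mem_centralizer_ee]
    exact h

theorem JJ_conj {A : Subgroup G} {w n : G} {L : Subgroup (Xw w)} (hn : n ∈ normalizer (A : Set G)) :
    JJ A (n * w * n⁻¹) (L.map (ee n w).toMonoidHom) = (JJ A w L).map (MulAut.conj n).toMonoidHom := by
  ext x
  rw [mem_map_conj, mem_JJ, mem_JJ]
  have h1 : n⁻¹ * x * n ∈ normalizer (A : Set G) ↔ x ∈ normalizer (A : Set G) := by
    rw [mul_mem_cancel_right hn, mul_mem_cancel_left (inv_mem hn)]
  rw [h1]
  refine and_congr_right fun _ => ?_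
  constructor
  · rintro ⟨hx, h⟩
    refine ⟨conj_mem_Cw_iff.1 hx, ?_⟩
    rw [pw_conj, mem_map_ee] at h
    exact h
  · rintro ⟨hx, h⟩
    refine ⟨conj_mem_Cw_iff.2 hx, ?_⟩
    rw [pw_conj, mem_map_ee]
    exact h

/-- **Conjugation by elements of `N(A)` permutes the pairs.** -/
theorem conjPair_of {𝒜 : Set G} (A : Subgroup G) (hconj : ∀ x ∈ 𝒜, ∀ g : G, g * x * g⁻¹ ∈ 𝒜) :
    ConjPair 𝒜 A := by
  intro w L n hL hn
  exact ⟨L.map (ee n w).toMonoidHom, isPair_conj hconj hL hn, DD_conj hn, JJ_conj hn⟩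

theorem conjPair [Finite G] {𝒜 : Set G} (h : Setup 𝒜) (S : Sylow 2 G) :
    ConjPair 𝒜 (ClosedFam.fam 𝒜 (S : Subgroup G)) :=
  conjPair_of _ h.fam.toIsClosedFam.conj_mem

end Cfsg.Agent.TwoFusion.GoldConjPair
end

-- part: TwoFusion/GoldIdx
section
/-!
# Goldschmidt's theorem: `|A : C_A(L)| ≥ 4`

If the component `L` of `X` (`O(X) = 1`) is not centralized by the elementary closed family `𝒜` and `S` is a Sylow
2-subgroup, then `𝒜 ∩ S ∩ L` contains two elements `a, b` such that none of `a, b, ab` centralizes `L`.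
For a pair `(w, L)` in a minimal counterexample this gives `4 ≤ |A : C_A(L)|`.
-/

set_option autoImplicit false
set_option linter.style.haveILetI false

namespace Cfsg.Agent.TwoFusion.GoldIdx

open Subgroup
open Cfsg.Agent.TwoFusion.ClosedFam Cfsg.Agent.TwoFusion.Gold Cfsg.Agent.TwoFusion.GoldSetup
open Cfsg.Agent.TwoFusion.GoldPairDefs

universe u

/-- Two elements of `𝒜 ∩ S ∩ L` which together with their product act nontrivially on `L`. -/
theorem exists_two {X : Type u} [Group X] [Finite X] {𝒜 : Set X} (h : IsElemFam 𝒜) (hO : Cfsg.oddCore X = ⊥)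
    (S : Sylow 2 X) {L : Subgroup X} (hL : Cfsg.IsComponent L) (hA : Act 𝒜 L) :
    ∃ a ∈ fam 𝒜 (S : Subgroup X), ∃ b ∈ fam 𝒜 (S : Subgroup X), a ∈ L ∧ b ∈ L ∧
      a ∉ centralizer (L : Set X) ∧ b ∉ centralizer (L : Set X) ∧ a * b ∉ centralizer (L : Set X) := by
  classical
  haveI : Fact (Nat.Prime 2) := ⟨Nat.prime_two⟩
  obtain ⟨x₀, hx₀, hx₀L, y₀, hy₀, hxy₀⟩ := hA
  set f := QuotientGroup.mk' (center ↥L) with hf
  have hfs : Function.Surjective f := QuotientGroup.mk'_surjective _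
  have hr : IsElemFam {l : L | (l : X) ∈ 𝒜} := h.restrict L
  set ℬ : Set (↥L ⧸ center ↥L) := f '' {l : L | (l : X) ∈ 𝒜} with hB
  have hBe : IsElemFam ℬ := hr.image hfs
  have hf1 : ∀ l : L, f l = 1 ↔ (l : X) ∈ centralizer (L : Set X) := by
    intro l
    rw [hf, QuotientGroup.mk'_apply, QuotientGroup.eq_one_iff, mem_center_iff, mem_centralizer_iff]
    constructor
    · intro h1 g hg
      exact congrArg Subtype.val (h1 ⟨g, hg⟩)
    · intro h1 g
      exact Subtype.ext (h1 g g.2)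
  -- the Sylow subgroup `S ∩ L` and its image
  obtain ⟨T, hT⟩ := exists_sylow_subgroupOf S hL.1
  let R : Sylow 2 (↥L ⧸ center ↥L) := T.mapSurjective hfs
  have hR : (R : Subgroup (↥L ⧸ center ↥L)) = (T : Subgroup L).map f := T.coe_mapSurjective hfs
  have hne : ∃ b ∈ ℬ, b ≠ 1 := by
    refine ⟨f ⟨x₀, hx₀L⟩, ⟨⟨x₀, hx₀L⟩, hx₀, rfl⟩, ?_⟩
    rw [Ne, hf1, mem_centralizer_iff]
    intro hc
    exact hxy₀ (hc y₀ hy₀).symm
  -- elements of `ℬ ∩ R` lift to `𝒜 ∩ S ∩ L`
  have hcov : ∀ b ∈ fam ℬ (R : Subgroup (↥L ⧸ center ↥L)), ∃ l : L, (l : X) ∈ 𝒜 ∧ (l : X) ∈ (S : Subgroup X) ∧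
      f l = b := by
    intro b hb
    obtain ⟨⟨l, hl, hlb⟩, hbR⟩ := (hBe.toIsClosedFam.mem_fam_iff R.2).1 hb
    rw [hR] at hbR
    obtain ⟨s, hs, hsb⟩ := hbR
    have hsS : (s : X) ∈ (S : Subgroup X) := by
      have hs' : s ∈ (T : Subgroup L) := hs
      rw [hT, mem_subgroupOf] at hs'
      exact hs'
    have h1 : f (s⁻¹ * l) = 1 := by rw [map_mul, map_inv, hsb, hlb, inv_mul_cancel]
    rw [hf1] at h1
    have h2 := GoldInner.center_le hO hL S (SetLike.coe_mem _) h1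
    refine ⟨l, hl, ?_, hlb⟩
    have e : (l : X) = s * ((s⁻¹ * l : L) : X) := by
      simp only [coe_mul, coe_inv]; group
    rw [e]
    exact mul_mem hsS h2
  -- two different nontrivial elements of `ℬ ∩ R`
  obtain ⟨c, hc⟩ := Subgroup.ne_bot_iff_exists_ne_one.1 (GoldSolid.fam_ne_bot_of hBe hne R)
  have hc1 : (c : ↥L ⧸ center ↥L) ≠ 1 := fun e => hc (Subtype.ext e)
  obtain ⟨d, hd, hd1, hdc⟩ : ∃ d ∈ fam ℬ (R : Subgroup (↥L ⧸ center ↥L)), d ≠ 1 ∧ d ≠ c := by
    by_contra hcon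
    push Not at hcon
    apply GoldSolid.card_ne_two_of hL.2.2 (GoldSolid.quasisimple_nonab hL.2) hBe R
    rw [Nat.card_eq_two_iff' (⟨1, one_mem _⟩ : fam ℬ (R : Subgroup (↥L ⧸ center ↥L)))]
    refine ⟨c, hc, ?_⟩
    rintro ⟨d, hd⟩ hd1
    exact Subtype.ext (hcon d hd (fun e => hd1 (Subtype.ext e)))
  obtain ⟨a, ha, haS, hac⟩ := hcov c c.2
  obtain ⟨b, hb, hbS, hbd⟩ := hcov d hd
  refine ⟨a, mem_fam ha haS, b, mem_fam hb hbS, a.2, b.2, ?_, ?_, ?_⟩
  · rw [← hf1, hac]; exact hc1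
  · rw [← hf1, hbd]; exact hd1
  · have e : (a : X) * b = ((a * b : L) : X) := rfl
    rw [e, ← hf1, map_mul, hac, hbd]
    intro h1
    apply hdc
    have h2 : (c : ↥L ⧸ center ↥L) * c = 1 := hBe.sq _ ((hBe.toIsClosedFam.mem_fam_iff R.2).1 c.2).1
    exact mul_left_cancel (h1.trans h2.symm)

/-- `|A : C_A(L)| ≥ 4` for a pair `(w, L)`. -/
theorem four_le {G : Type u} [Group G] [Finite G] {𝒜 : Set G} (h : Setup 𝒜) (S : Sylow 2 G) {w : G}
    {L : Subgroup (Xw w)} (hp : IsPair 𝒜 (fam 𝒜 (S : Subgroup G)) w L) :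
    4 ≤ (DD (fam 𝒜 (S : Subgroup G)) w L).relIndex (fam 𝒜 (S : Subgroup G)) := by
  classical
  haveI : Fact (Nat.Prime 2) := ⟨Nat.prime_two⟩
  set A := fam 𝒜 (S : Subgroup G) with hA
  have hAH : A ≤ Cw w := GoldSolid.fam_le_centralizer h S hp.mem
  obtain ⟨P, hP⟩ := GoldSolid.exists_sylow_push h.fam S hAH
  have hctx := h.ctxCent hp.ne
  obtain ⟨a', ha', b', hb', -, -, hac, hbc, habc⟩ := exists_two hctx.fam hctx.core P hp.comp hp.act
  rw [hP] at ha' hb'
  obtain ⟨a, ha, rfl⟩ := ha'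
  obtain ⟨b, hb, rfl⟩ := hb'
  have haA : (a : G) ∈ A := mem_subgroupOf.1 ha
  have hbA : (b : G) ∈ A := mem_subgroupOf.1 hb
  have haD : (a : G) ∉ DD A w L := fun hc => by
    obtain ⟨-, h1, h2⟩ := mem_DD.1 hc
    exact hac h2
  have hbD : (b : G) ∉ DD A w L := fun hc => by
    obtain ⟨-, h1, h2⟩ := mem_DD.1 hc
    exact hbc h2
  have habD : (a : G) * b ∉ DD A w L := fun hc => by
    obtain ⟨-, h1, h2⟩ := mem_DD.1 hc
    apply habc
    rw [← map_mul]
    exact h2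
  have hAp : IsPGroup 2 A := isPGroup_fam _ S.2
  obtain ⟨k, hk⟩ := IsPGroup.iff_card.1 hAp
  have hdvd : (DD A w L).relIndex A ∣ 2 ^ k := by
    rw [← hk]; exact Subgroup.index_dvd_card _
  obtain ⟨j, -, hj⟩ := (Nat.dvd_prime_pow Nat.prime_two).1 hdvd
  rw [hj]
  have hj0 : j ≠ 0 := by
    rintro rfl
    rw [pow_zero, relIndex_eq_one] at hj
    exact haD (hj haA)
  have hj1 : j ≠ 1 := by
    rintro rfl
    rw [pow_one] at hj
    have h1 : ((DD A w L).subgroupOf A).index = 2 := hj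
    have h2 := (Subgroup.mul_mem_iff_of_index_two h1 (a := ⟨a, haA⟩) (b := ⟨b, hbA⟩))
    rw [mem_subgroupOf, mem_subgroupOf, mem_subgroupOf] at h2
    apply habD
    exact h2.2 ⟨fun hc => absurd hc haD, fun hc => absurd hc hbD⟩
  calc 4 = 2 ^ 2 := by norm_num
    _ ≤ 2 ^ j := Nat.pow_le_pow_right (by norm_num) (by omega)

end Cfsg.Agent.TwoFusion.GoldIdx
end

-- part: TwoFusion/GoldGlue
section
/-!
# Goldschmidt's theorem: from the classes of components to case (W) and case (J)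

* `Glue 𝒜 A q 𝓓 K`: canonical data together with the components `M` of `C(d)/O(C(d))`, `d ∈ D#`, `D ∈ 𝓓`, with
  `C_A(M) = D` and `K D ≤ M` modulo the core;
* `glue_of_large`: the classes form such data if `q² < |A|`;
* `caseW`: conclusion (W) of the linear algebra gives `GoldW.CaseW`;
* `exists_pair_of_conJ`: conclusion (J) gives a component for every `x ∈ A#`.
-/

set_option autoImplicit false
set_option linter.style.haveILetI false

namespace Cfsg.Agent.TwoFusion.GoldGlue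

open Subgroup
open scoped commutatorElement
open Cfsg.Agent.TwoFusion.ClosedFam Cfsg.Agent.TwoFusion.Gold Cfsg.Agent.TwoFusion.ClosedLocal
open Cfsg.Agent.TwoFusion.GoldSetup Cfsg.Agent.TwoFusion.GoldPairDefs Cfsg.Agent.TwoFusion.GoldPairs
open Cfsg.Agent.TwoFusion.GoldBridge Cfsg.Agent.TwoFusion.GoldCases

universe u

variable {G : Type u} [Group G] [Finite G] {𝒜 : Set G}

/-- Canonical data with components. -/
structure Glue (𝒜 : Set G) (A : Subgroup G) (q : ℕ) (𝓓 : Set (Subgroup G)) (K : Subgroup G → Subgroup G) :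
    Prop where
  canon : Canon A q 𝓓 K
  four : 4 ≤ q
  comp : ∀ D ∈ 𝓓, ∀ d ∈ D, d ≠ 1 → ∃ M : Subgroup (Xw d), IsPair 𝒜 A d M ∧ DD A d M = D ∧
    ∀ a ∈ K D, ∃ ha : a ∈ Cw d, pw d ⟨a, ha⟩ ∈ M

section Large

variable (h : Setup 𝒜) (S : Sylow 2 G) (hB : Balance 𝒜 (fam 𝒜 (S : Subgroup G)))
  (hC : ConjPair 𝒜 (fam 𝒜 (S : Subgroup G)))
  (h4 : ∀ (w : G) (L : Subgroup (Xw w)), IsPair 𝒜 (fam 𝒜 (S : Subgroup G)) w L →
    4 ≤ (DD (fam 𝒜 (S : Subgroup G)) w L).relIndex (fam 𝒜 (S : Subgroup G)))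

include h hB in
/-- The commutators `[JJ, A]` of a maximal pair lie in the other classes. -/
theorem comm_mem_of_ne {w : G} {L : Subgroup (Xw w)} (hp : IsPair 𝒜 (fam 𝒜 (S : Subgroup G)) w L)
    (hq : (DD (fam 𝒜 (S : Subgroup G)) w L).relIndex (fam 𝒜 (S : Subgroup G)) =
      qmax 𝒜 (fam 𝒜 (S : Subgroup G))) {D' : Subgroup G} (hD' : D' ∈ cls 𝒜 (fam 𝒜 (S : Subgroup G)))
    (hne : D' ≠ DD (fam 𝒜 (S : Subgroup G)) w L) (hinf : DD (fam 𝒜 (S : Subgroup G)) w L ⊓ D' ≠ ⊥)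
    {j a : G} (hj : j ∈ JJ (fam 𝒜 (S : Subgroup G)) w L) (ha : a ∈ fam 𝒜 (S : Subgroup G)) :
    j * a * j⁻¹ * a⁻¹ ∈ D' := by
  obtain ⟨w', L', hp', rfl, hq'⟩ := hD'
  obtain ⟨⟨d, hd⟩, hd1'⟩ := Subgroup.ne_bot_iff_exists_ne_one.1 hinf
  have hd1 : d ≠ 1 := fun e => hd1' (Subtype.ext e)
  obtain ⟨M, hM, hMD, hMJ⟩ := balance' S hB hp hq hd.1 hd1
  obtain ⟨M', hM', hMD', -⟩ := balance' S hB hp' hq' hd.2 hd1
  have hMM' : M ≠ M' := by
    rintro rfl
    exact hne (hMD'.symm.trans hMD)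
  obtain ⟨j', hj', hjj'⟩ := hMJ j hj
  rw [hjj' a ha, ← hMD', mem_DD]
  obtain ⟨h1, h2, h3⟩ := comm_mem h S hM hj' ha
  exact ⟨h1, h2, comm_components h hM.comp hM'.comp hMM' h3⟩

include h hB hC h4 in
theorem glue_of_large (hne : ∃ (w : G) (L : Subgroup (Xw w)), IsPair 𝒜 (fam 𝒜 (S : Subgroup G)) w L)
    (hbig : qmax 𝒜 (fam 𝒜 (S : Subgroup G)) ^ 2 < Nat.card (fam 𝒜 (S : Subgroup G))) :
    Glue 𝒜 (fam 𝒜 (S : Subgroup G)) (qmax 𝒜 (fam 𝒜 (S : Subgroup G))) (cls 𝒜 (fam 𝒜 (S : Subgroup G)))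
      (ClassData.compl (fam 𝒜 (S : Subgroup G)) (cls 𝒜 (fam 𝒜 (S : Subgroup G)))) := by
  have hcd := classData h S hB hC h4 hne
  have hcanon := hcd.canon_of_large hbig
  set A := fam 𝒜 (S : Subgroup G) with hA
  refine ⟨hcanon, ?_, ?_⟩
  · obtain ⟨w, L, hp, hq⟩ := exists_eq_qmax hne
    rw [← hq]; exact h4 w L hp
  rintro D hD d hd hd1
  obtain ⟨w, L, hp, rfl, hq⟩ := id hD
  obtain ⟨M, hM, hMD, -⟩ := balance' S hB hp hq hd hd1
  refine ⟨M, hM, hMD, ?_⟩
  intro a ha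
  have hinf := hcd.compl_inf hD
  by_cases ha1 : a = 1
  · subst ha1
    exact ⟨one_mem _, by
      have : (⟨1, one_mem _⟩ : ↥(Cw d)) = 1 := rfl
      rw [this, map_one]; exact one_mem _⟩
  have haD : a ∉ DD A w L := fun hc => ha1 (by
    have : a ∈ ClassData.compl A (cls 𝒜 A) (DD A w L) ⊓ DD A w L := ⟨ha, hc⟩
    rwa [hinf, mem_bot] at this)
  obtain ⟨haA, haD'⟩ := ClassData.mem_compl.1 ha
  -- choose `x ∉ D` with `a x ∉ D`
  obtain ⟨x, hx, y, hy, hxD, hyD, hxy⟩ := exists_big_pair h.fam S (ctxw h S hp.mem hp.ne) hp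
  obtain ⟨x, hx, hxD, hax⟩ : ∃ x ∈ A, x ∉ DD A w L ∧ a * x ∉ DD A w L := by
    by_contra hcon
    push Not at hcon
    have h1 := hcon x hx hxD
    have h2 := hcon y hy hyD
    apply hxy
    have e : x * y⁻¹ = (a * x) * (a * y)⁻¹ := by
      have hc := h.comm S
      have h3 : a * x = x * a := hc a haA x hx
      have h4' : a * y = y * a := hc a haA y hy
      rw [h3, h4']; group
    rw [e]
    exact mul_mem h1 (inv_mem h2)
  have hMq : (DD A d M).relIndex A = qmax 𝒜 A := by rw [hMD]; exact hq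
  obtain ⟨j, hj, hjD⟩ := JJ_trans h S hM hx (mul_mem haA hx) (by rw [hMD]; exact hxD) (by rw [hMD]; exact hax)
  rw [hMD] at hjD
  obtain ⟨h1, h2, h3⟩ := comm_mem h S hM hj hx
  -- the commutator equals `a`
  have hvc : j * x * j⁻¹ * x⁻¹ ∈ ClassData.compl A (cls 𝒜 A) (DD A w L) := by
    rw [ClassData.mem_compl]
    refine ⟨h1, fun D' hD' hne' => ?_⟩
    have hinf' : DD A w L ⊓ D' ≠ ⊥ := hcd.inf_ne_bot hbig hD hD'
    exact comm_mem_of_ne h S hB hM hMq hD' (by rw [hMD]; exact hne') (by rw [hMD]; exact hinf') hj hx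
  have hva : (j * x * j⁻¹ * x⁻¹) * a⁻¹ ∈ DD A w L := by
    have e : (j * x * j⁻¹ * x⁻¹) * a⁻¹ = j * x * j⁻¹ * (a * x)⁻¹ := by group
    rw [e]; exact hjD
  have hva1 : (j * x * j⁻¹ * x⁻¹) * a⁻¹ = 1 := by
    have : (j * x * j⁻¹ * x⁻¹) * a⁻¹ ∈ ClassData.compl A (cls 𝒜 A) (DD A w L) ⊓ DD A w L :=
      mem_inf.2 ⟨mul_mem hvc ((ClassData.compl A (cls 𝒜 A) (DD A w L)).inv_mem ha), hva⟩
    rwa [hinf, mem_bot] at this
  have hva2 : j * x * j⁻¹ * x⁻¹ = a := mul_inv_eq_one.1 hva1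
  have haw : a ∈ Cw d := by rw [← hva2]; exact h2
  refine ⟨haw, ?_⟩
  have e : (⟨a, haw⟩ : ↥(Cw d)) = ⟨j * x * j⁻¹ * x⁻¹, h2⟩ := Subtype.ext hva2.symm
  rw [e]; exact h3

end Large

/-! ### Case (W) -/

section W

variable (h : Setup 𝒜) (S : Sylow 2 G)

omit [Finite G] in
theorem isPGroup_A : IsPGroup 2 (fam 𝒜 (S : Subgroup G)) := isPGroup_fam 𝒜 S.2

include h

omit [Finite G] in
theorem le_Cw {w : G} (hw : w ∈ fam 𝒜 (S : Subgroup G)) : fam 𝒜 (S : Subgroup G) ≤ Cw w :=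
  fun a ha => mem_Cw.2 (h.comm S w hw a ha)

/-- (7.1) for all components. -/
theorem type_of {ι : Type*} [Nonempty ι] {B : ι → Subgroup G}
    (sup : ⨆ i, B i = fam 𝒜 (S : Subgroup G)) (indep : ∀ i, B i ⊓ (⨆ j : {j // j ≠ i}, B j) = ⊥)
    (two : ∀ i, ∀ x ∈ B i, ∃ y ∈ B i, y ≠ 1 ∧ y ≠ x)
    (perm : ∀ g ∈ normalizer (fam 𝒜 (S : Subgroup G) : Set G), ∀ i, ∃ i',
      (B i).map (MulAut.conj g).toMonoidHom = B i')
    {w : G} (hw : w ∈ fam 𝒜 (S : Subgroup G)) (hw1 : w ≠ 1) {M : Subgroup (Xw w)}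
    (hM : Cfsg.IsComponent M) :
    ∃ i, ∀ j, j ≠ i → B j ≤ pull (Cw w) (centralizer (M : Set (Xw w))) := by
  have hctx := ctxw h S hw hw1
  have hAw := le_Cw h S hw
  by_cases hact : Act (push 𝒜 (Cw w)) M
  · obtain ⟨P, hP⟩ := GoldSolid.exists_sylow_push h.fam S hAw
    obtain ⟨J, hJL, hodd, hJN, hJt⟩ := GoldInnerJ.exists_J hctx hM hact P
    obtain ⟨x, hx, y, hy, h1, h2, h3⟩ := exists_big hctx hM hact P
    rw [hP] at hJN hJt hx hy
    exact GoldBridge.exists_type (h.sq S) (h.comm S) hAw sup indep two perm hJL hodd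
      (fun j hj => exists_mem_lift h.fam S hAw hJN hj) hJt ⟨x, hx, y, hy, h1, h2, h3⟩
  · obtain ⟨i⟩ := ‹Nonempty ι›
    refine ⟨i, fun j _ a ha => ?_⟩
    have haA : a ∈ fam 𝒜 (S : Subgroup G) := by
      rw [← sup]; exact (le_iSup B j) ha
    rw [mem_pull]
    refine ⟨hAw haA, ?_⟩
    rw [mem_centralizer_iff]
    intro m hm
    exact (comm_of_not_act hctx.fam hctx.core hM hact (π (Cw w) ⟨a, hAw haA⟩)
      ⟨⟨a, hAw haA⟩, mem_family h S haA, rfl⟩ m hm).symm

/-- Case (W). -/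
theorem caseW {q : ℕ} {𝓓 : Set (Subgroup G)} {K : Subgroup G → Subgroup G}
    (hg : Glue 𝒜 (fam 𝒜 (S : Subgroup G)) q 𝓓 K) (hW : ConW (fam 𝒜 (S : Subgroup G)) 𝓓 K) :
    GoldW.CaseW (fam 𝒜 (S : Subgroup G)) (fun D : 𝓓 => K (D : Subgroup G)) := by
  classical
  haveI : Fact (Nat.Prime 2) := ⟨Nat.prime_two⟩
  set A := fam 𝒜 (S : Subgroup G) with hA
  have hsup : (⨆ i : 𝓓, K (i : Subgroup G)) = A := by
    rw [← hW.sup, iSup_subtype']
  have hKle : ∀ i : 𝓓, K (i : Subgroup G) ≤ A := fun i => hg.canon.Kle i i.2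
  have hle : ∀ i : 𝓓, (⨆ j : {j : 𝓓 // j ≠ i}, K ((j : 𝓓) : Subgroup G)) ≤ i := by
    intro i
    refine iSup_le fun j => ?_
    exact hW.le _ (j : 𝓓).2 _ i.2 (fun e => j.2 (Subtype.ext e))
  have hindep : ∀ i : 𝓓, K (i : Subgroup G) ⊓ (⨆ j : {j : 𝓓 // j ≠ i}, K ((j : 𝓓) : Subgroup G)) = ⊥ := by
    intro i
    rw [eq_bot_iff, ← hg.canon.Kinf i i.2]
    exact inf_le_inf le_rfl (hle i)
  have hcard : ∀ i : 𝓓, 4 ≤ Nat.card (K (i : Subgroup G)) := fun i => by
    rw [hg.canon.Kcard i i.2]; exact hg.four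
  have hnorm : ∀ g ∈ normalizer (A : Set G), ∀ i : 𝓓, ∃ j : 𝓓,
      (K (i : Subgroup G)).map (MulAut.conj g).toMonoidHom = K (j : Subgroup G) := fun g hgN i =>
    ⟨⟨_, hg.canon.inv i i.2 g hgN⟩, (hg.canon.Kinv i i.2 g hgN).symm⟩
  have htwo : ∀ i : 𝓓, ∀ x ∈ K (i : Subgroup G), ∃ y ∈ K (i : Subgroup G), y ≠ 1 ∧ y ≠ x := by
    intro i x hx
    by_contra hcon
    push Not at hcon
    have h1 : (Set.univ : Set (K (i : Subgroup G))) ⊆ {1, ⟨x, hx⟩} := by
      rintro ⟨y, hy⟩ -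
      by_cases hy1 : y = 1
      · left; exact Subtype.ext hy1
      · right; exact Subtype.ext (hcon y hy hy1)
    have h2 := Set.ncard_le_ncard h1 (Set.toFinite _)
    rw [Set.ncard_univ] at h2
    have h3 : ({1, ⟨x, hx⟩} : Set (K (i : Subgroup G))).ncard ≤ 2 := by
      refine (Set.ncard_insert_le _ _).trans ?_
      rw [Set.ncard_singleton]
    have := hcard i
    omega
  have hthree : ∀ i j : 𝓓, ∃ k, k ≠ i ∧ k ≠ j := by
    intro i j
    by_contra hcon
    push Not at hcon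
    have h1 : 𝓓 ⊆ {(i : Subgroup G), (j : Subgroup G)} := by
      intro D hD
      by_cases hDi : (⟨D, hD⟩ : 𝓓) = i
      · left; exact congrArg Subtype.val hDi
      · right; exact congrArg Subtype.val (hcon ⟨D, hD⟩ hDi)
    have h2 := Set.ncard_le_ncard h1 (Set.toFinite _)
    have h3 : ({(i : Subgroup G), (j : Subgroup G)} : Set (Subgroup G)).ncard ≤ 2 := by
      refine (Set.ncard_insert_le _ _).trans ?_
      rw [Set.ncard_singleton]
    have := hW.three
    omega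
  haveI hne : Nonempty 𝓓 := by
    have h0 : 𝓓.Nonempty := by
      rw [← Set.ncard_pos (Set.toFinite _)]
      have := hW.three
      omega
    exact ⟨⟨_, h0.choose_spec⟩⟩
  exact
  { sq := h.sq S
    comm := h.comm S
    sup := hsup
    indep := hindep
    card := hcard
    three := hthree
    norm := hnorm
    weak := by
      intro g hgc
      have hcent : A.map (MulAut.conj g).toMonoidHom ≤ normalizer (A : Set G) := by
        rintro _ ⟨a, ha, rfl⟩
        refine centralizer_le_normalizer _ ?_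
        rw [mem_centralizer_iff]
        intro b hb
        exact (hgc a ha b hb).symm
      have hp : IsPGroup 2 (A ⊔ A.map (MulAut.conj g).toMonoidHom : Subgroup G) :=
        IsPGroup.to_sup_of_normal_left' (isPGroup_A (𝒜 := 𝒜) S) ((isPGroup_A (𝒜 := 𝒜) S).map _) hcent
      exact h.weak S hp le_sup_left le_sup_right
    type := by
      intro w hw hw1 M hM
      obtain ⟨i, hi⟩ := type_of h S hsup hindep htwo hnorm hw hw1 hM.2.1
      refine ⟨i, fun j hj => ?_⟩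
      exact (commutator_le_core_iff ((hKle j).trans (le_Cw h S hw))).2 (hi j hj)
    gen := by
      intro w hw hw1
      exact le_sup_pLayer h.fam S (le_Cw h S hw) (ctxw h S hw hw1)
    comp := by
      intro i j hij x hx hx1
      have hne' : (i : Subgroup G) ≠ j := fun e => hij (Subtype.ext e)
      have hxj : x ∈ (j : Subgroup G) := hW.le _ i.2 _ j.2 hne' hx
      obtain ⟨M, hM, hMD, hMK⟩ := hg.comp _ j.2 x hxj hx1
      have hxA : x ∈ A := hKle i hx
      obtain ⟨L, hL, hLM⟩ := exists_pcomp hM.comp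
      refine ⟨L, hL, ?_, ?_, ?_⟩
      · refine le_sup_core_iff.2 ?_
        intro a ha
        rw [mem_pull]
        obtain ⟨ha', haM⟩ := hMK a ha
        exact ⟨ha', by rw [hLM]; exact haM⟩
      · intro k hkj
        refine (commutator_le_core_iff ((hKle k).trans (le_Cw h S hxA))).2 ?_
        rw [hLM]
        intro a ha
        have haj : a ∈ (j : Subgroup G) := hW.le _ k.2 _ j.2 (fun e => hkj (Subtype.ext e)) ha
        rw [← hMD, mem_DD] at haj
        obtain ⟨-, h1, h2⟩ := haj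
        exact mem_pull.2 ⟨h1, h2⟩
      · intro a ha ha1 hle'
        have haA : a ∈ A := hKle j ha
        have hle2 : zpowers a ≤ Cw x := by
          rw [zpowers_le]; exact le_Cw h S hxA haA
        have h1 := (commutator_le_core_iff hle2).1 hle' (mem_zpowers a)
        rw [hLM, mem_pull] at h1
        obtain ⟨h2, h3⟩ := h1
        have haD : a ∈ (j : Subgroup G) := by
          rw [← hMD, mem_DD]
          exact ⟨haA, h2, h3⟩
        have h4 : a ∈ K (j : Subgroup G) ⊓ (j : Subgroup G) := ⟨ha, haD⟩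
        rw [hg.canon.Kinf j j.2, mem_bot] at h4
        exact ha1 h4 }

/-- Case (W) is impossible. -/
theorem false_of_conW {q : ℕ} {𝓓 : Set (Subgroup G)} {K : Subgroup G → Subgroup G}
    (hg : Glue 𝒜 (fam 𝒜 (S : Subgroup G)) q 𝓓 K) (hW : ConW (fam 𝒜 (S : Subgroup G)) 𝓓 K)
    (hcomplete : ClosedFunctor.Complete G) (hSE : SE1174 G) : False := by
  haveI := h.simple
  have h0 : 𝓓.Nonempty := by
    rw [← Set.ncard_pos (Set.toFinite _)]
    have := hW.three
    omega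
  obtain ⟨M, hM, hle⟩ := (caseW h S hg hW).exists_proper hcomplete ⟨_, h0.choose_spec⟩
  exact h.false_of_cent_le S hSE hM hle

end W

/-! ### Case (J) -/

/-- The situation in case (J). -/
structure JData (𝒜 : Set G) (A : Subgroup G) (K : Subgroup G → Subgroup G) : Prop where
  card_A : Nat.card A = 8
  odd : Odd (Nat.card A.normalizerMonoidHom.range)
  trans : ∀ x ∈ A, ∀ y ∈ A, x ≠ 1 → y ≠ 1 → ∃ n ∈ normalizer (A : Set G), n * x * n⁻¹ = y
  Kcard : ∀ x ∈ A, x ≠ 1 → Nat.card (K (zpowers x)) = 4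
  Kle : ∀ x ∈ A, x ≠ 1 → K (zpowers x) ≤ A
  notMem : ∀ x ∈ A, x ≠ 1 → x ∉ K (zpowers x)
  Kinv : ∀ x ∈ A, x ≠ 1 → ∀ n ∈ normalizer (A : Set G),
    K (zpowers (n * x * n⁻¹)) = (K (zpowers x)).map (MulAut.conj n).toMonoidHom
  tr : ∀ d ∈ A, d ≠ 1 → ∀ x ∈ K (zpowers d), ∀ y ∈ K (zpowers d), x ≠ 1 → y ≠ 1 →
    ∃ n ∈ normalizer (A : Set G), n * x * n⁻¹ = y ∧ n * d * n⁻¹ = d
  pair : ∀ x ∈ A, x ≠ 1 → ∃ M : Subgroup (Xw x), IsPair 𝒜 A x M ∧ DD A x M = zpowers x ∧
    ∀ a ∈ K (zpowers x), ∃ ha : a ∈ Cw x, pw x ⟨a, ha⟩ ∈ M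
  /-- the tournament property -/
  tour₁ : ∀ x ∈ A, ∀ y ∈ A, x ≠ 1 → y ≠ 1 → y ∈ K (zpowers x) → x ∉ K (zpowers y)
  tour₂ : ∀ x ∈ A, ∀ y ∈ A, x ≠ 1 → y ≠ 1 → x ≠ y → x ∉ K (zpowers y) → y ∈ K (zpowers x)

section J

variable {A : Subgroup G}

omit [Finite G] in
theorem zpowers_conj (n x : G) :
    (zpowers x).map (MulAut.conj n).toMonoidHom = zpowers (n * x * n⁻¹) := by
  rw [MonoidHom.map_zpowers]
  rfl

theorem jData {q : ℕ} {𝓓 : Set (Subgroup G)} {K : Subgroup G → Subgroup G}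
    (hg : Glue 𝒜 A q 𝓓 K) (hJ : ConJ A q 𝓓 K) : JData 𝒜 A K := by
  have hq := hJ.q_eq
  have key : ∀ x ∈ A, x ≠ 1 → zpowers x ∈ 𝓓 := by
    intro x hx hx1
    obtain ⟨D, hD, hxD⟩ := hJ.exists_mem x hx hx1
    have h1 : zpowers x ≤ D := by rwa [zpowers_le]
    have h2 : zpowers x = D := by
      apply eq_of_le_of_card_ge h1
      rw [hJ.card_D D hD, Nat.card_zpowers]
      have h3 : orderOf x ∣ 2 := orderOf_dvd_of_pow_eq_one (by rw [pow_two]; exact hg.canon.sq x hx)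
      have h4 : orderOf x ≠ 1 := fun e => hx1 (orderOf_eq_one_iff.1 e)
      have h5 : 0 < orderOf x := orderOf_pos x
      have h6 := Nat.le_of_dvd two_pos h3
      omega
    rw [h2]; exact hD
  refine
  { card_A := hJ.card_A
    odd := hJ.odd
    trans := hJ.trans
    Kcard := fun x hx hx1 => by rw [hg.canon.Kcard _ (key x hx hx1), hq]
    Kle := fun x hx hx1 => hg.canon.Kle _ (key x hx hx1)
    notMem := ?_
    Kinv := ?_
    tr := ?_
    pair := fun x hx hx1 => hg.comp _ (key x hx hx1) x (mem_zpowers x) hx1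
    tour₁ := ?_
    tour₂ := ?_ }
  · intro x hx hx1 hc
    have h1 : x ∈ K (zpowers x) ⊓ zpowers x := mem_inf.2 ⟨hc, mem_zpowers x⟩
    rw [hg.canon.Kinf _ (key x hx hx1), mem_bot] at h1
    exact hx1 h1
  · intro x hx hx1 n hn
    rw [← hg.canon.Kinv _ (key x hx hx1) n hn, zpowers_conj]
  · intro d hd hd1 x hx y hy hx1 hy1
    obtain ⟨n, hn, h1, h2⟩ := hg.canon.tr _ (key d hd hd1) x hx y hy hx1 hy1
    exact ⟨n, hn, h1, h2 d (mem_zpowers d)⟩
  · intro x hx y hy hx1 hy1 h1 h2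
    refine hJ.tour₁ _ (key x hx hx1) _ (key y hy hy1) ?_ ?_
    · rwa [zpowers_le]
    · rwa [zpowers_le]
  · intro x hx y hy hx1 hy1 hxy h1
    have := hJ.tour₂ _ (key x hx hx1) _ (key y hy hy1) (by
      intro e
      apply hxy
      have h3 : x ∈ zpowers y := e ▸ mem_zpowers x
      obtain ⟨k, rfl⟩ := mem_zpowers_iff.1 h3
      have h4 : (y : G) ^ k = 1 ∨ y ^ k = y := by
        have h5 : y ^ 2 = 1 := by rw [pow_two]; exact hg.canon.sq y hy
        rcases Int.even_or_odd k with ⟨m, hm⟩ | ⟨m, hm⟩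
        · left
          rw [hm, ← two_mul, zpow_mul]
          have : y ^ (2 : ℤ) = 1 := by exact_mod_cast h5
          rw [this, one_zpow]
        · right
          rw [hm, zpow_add, zpow_mul, zpow_one]
          have : y ^ (2 : ℤ) = 1 := by exact_mod_cast h5
          rw [this, one_zpow, one_mul]
      rcases h4 with h4 | h4
      · exact absurd h4 hx1
      · exact h4) (fun hc => h1 (hc (mem_zpowers x)))
    exact this (mem_zpowers y)

end J

/-! ### The case division for `|A| ≥ 8` -/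

section Main

variable (h : Setup 𝒜) (S : Sylow 2 G)

include h in
/-- The case `|A| ≥ 8`. -/
theorem tcon (h8 : 8 ≤ Nat.card (fam 𝒜 (S : Subgroup G)))
    (hOO : ∀ (H : Type u) [Group H] [Finite H], Odd (Nat.card H) → Group.IsSolvable H)
    (hSF : ∀ θ : G → Subgroup G, Cfsg.IsSignalizerFunctor 2 (fam 𝒜 (S : Subgroup G)) θ →
      (∀ a ∈ fam 𝒜 (S : Subgroup G), a ≠ 1 → Group.IsSolvable (θ a)) →
      ¬ 2 ∣ Nat.card ↥(⨆ a : {a : G // a ∈ fam 𝒜 (S : Subgroup G) ∧ a ≠ 1}, θ a))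
    (hcomplete : ClosedFunctor.Complete G) (hSE : SE1174 G)
    (hB : Balance 𝒜 (fam 𝒜 (S : Subgroup G)))
    (hCentre : (∃ (w : G) (L : Subgroup (Xw w)), IsPair 𝒜 (fam 𝒜 (S : Subgroup G)) w L) →
      Nat.card (fam 𝒜 (S : Subgroup G)) ≤ qmax 𝒜 (fam 𝒜 (S : Subgroup G)) ^ 2 →
      ∃ K : Subgroup G → Subgroup G, Glue 𝒜 (fam 𝒜 (S : Subgroup G)) (qmax 𝒜 (fam 𝒜 (S : Subgroup G)))
        (cls 𝒜 (fam 𝒜 (S : Subgroup G))) K)
    (hJ : ∀ K : Subgroup G → Subgroup G, JData 𝒜 (fam 𝒜 (S : Subgroup G)) K → TCon G) : TCon G := by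
  have hC := GoldConjPair.conjPair h S
  have h4 := fun (w : G) (L : Subgroup (Xw w)) (hp : IsPair 𝒜 (fam 𝒜 (S : Subgroup G)) w L) =>
    GoldIdx.four_le h S hp
  by_cases hne : ∃ (w : G) (L : Subgroup (Xw w)), IsPair 𝒜 (fam 𝒜 (S : Subgroup G)) w L
  · have hglue : ∃ K : Subgroup G → Subgroup G, Glue 𝒜 (fam 𝒜 (S : Subgroup G))
        (qmax 𝒜 (fam 𝒜 (S : Subgroup G))) (cls 𝒜 (fam 𝒜 (S : Subgroup G))) K := by
      by_cases hbig : qmax 𝒜 (fam 𝒜 (S : Subgroup G)) ^ 2 < Nat.card (fam 𝒜 (S : Subgroup G))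
      · exact ⟨_, glue_of_large h S hB hC h4 hne hbig⟩
      · exact hCentre hne (not_lt.1 hbig)
    obtain ⟨K, hg⟩ := hglue
    have hcls : (cls 𝒜 (fam 𝒜 (S : Subgroup G))).Nonempty := by
      obtain ⟨w, L, hp, hq⟩ := exists_eq_qmax hne
      exact ⟨_, w, L, hp, rfl, hq⟩
    rcases hg.canon.cases hcls (fun hodd => hOO _ hodd) with hW | hJ'
    · exact (false_of_conW h S hg hW hcomplete hSE).elim
    · exact hJ K (jData hg hJ')
  · exfalso
    refine GoldNZero.false_of_not_act h S h8 ?_ ?_ hSF hSE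
    · intro w hw hw1 L hL hact
      -- move `w` into `S`
      obtain ⟨n, hn⟩ := GoldLayer.exists_conj_mem h.fam S hw
      have hn1 : n * w * n⁻¹ ≠ 1 := by
        intro e
        rw [mul_inv_eq_one, mul_eq_left] at e
        exact hw1 e
      apply hne
      have hp : IsPair 𝒜 (⊤ : Subgroup G) w L := ⟨mem_top _, hw1, hL, hact⟩
      have hp' := GoldConjPair.isPair_conj h.fam.toIsClosedFam.conj_mem hp (n := n) (by
        rw [mem_normalizer_iff]; intro x; exact ⟨fun _ => mem_top _, fun _ => mem_top _⟩)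
      exact ⟨_, _, hn, hn1, hp'.comp, hp'.act⟩
    · intro X hX
      exact hOO X (by
        rw [← Nat.not_even_iff_odd, even_iff_two_dvd]; exact hX)

end Main

end Cfsg.Agent.TwoFusion.GoldGlue
end

-- part: TwoFusion/GoldRedConj
section
/-!
# Goldschmidt's theorem, `|A| = 4`: conjugation of `cen 𝒜 e` and of `Simp A K`
-/

set_option autoImplicit false
set_option linter.style.haveILetI false

namespace Cfsg.Agent.TwoFusion.GoldRedConj

open Subgroup
open Cfsg.Agent.TwoFusion.ClosedFam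
open Cfsg.Agent.TwoFusion.ClosedLocal Cfsg.Agent.TwoFusion.GoldCen
open Cfsg.Agent.TwoFusion.GoldLFourBad (Simp)
open Cfsg.Agent.TwoFusion.GoldLFour (conj_mem_core' comm_conj)

variable {G : Type*} [Group G]

theorem conj_mem_cen {𝒜 : Set G} [Finite G] (hA : ∀ x ∈ 𝒜, ∀ g : G, g * x * g⁻¹ ∈ 𝒜) {w x : G} (n : G)
    (hx : x ∈ cen 𝒜 w) : n * x * n⁻¹ ∈ cen 𝒜 (n * w * n⁻¹) := by
  rw [mem_cen] at hx ⊢
  refine ⟨comm_conj n hx.1, fun k hk hkw => ?_⟩
  have hk' : n⁻¹ * k * n ∈ 𝒜 := by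
    have := hA k hk n⁻¹
    rwa [inv_inv] at this
  have hkw' : (n⁻¹ * k * n) * w = w * (n⁻¹ * k * n) := by
    have h1 := comm_conj n⁻¹ hkw
    have e : n⁻¹ * (n * w * n⁻¹) * n⁻¹⁻¹ = w := by group
    rw [e, inv_inv] at h1
    exact h1
  have h2 := conj_mem_core' n (hx.2 _ hk' hkw')
  have e1 : n * x * n⁻¹ * k * (n * x * n⁻¹)⁻¹ * k⁻¹ =
      n * (x * (n⁻¹ * k * n) * x⁻¹ * (n⁻¹ * k * n)⁻¹) * n⁻¹ := by group
  rw [e1]; exact h2

/-- `Simp A K` is invariant under conjugation. -/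
theorem simp_map [Finite G] {A K : Subgroup G} (h : Simp A K) (n : G) :
    Simp (A.map (MulAut.conj n).toMonoidHom) (K.map (MulAut.conj n).toMonoidHom) := by
  have hinj : Function.Injective (MulAut.conj n).toMonoidHom := (MulAut.conj n).injective
  have hfact : Fact (Nat.Prime 2) := ⟨Nat.prime_two⟩
  set K' := K.map (MulAut.conj n).toMonoidHom with hK'
  let φ : K ≃* K' := K.equivMapOfInjective _ hinj
  let ψ : K ⧸ Cfsg.oddCore K ≃* K' ⧸ Cfsg.oddCore K' :=
    QuotientGroup.congr (Cfsg.oddCore K) (Cfsg.oddCore K') φ (Cfsg.Agent.Lib.Cores.map_equiv_pPrimeCore φ 2)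
  haveI := h.simple
  obtain ⟨P, hP⟩ := h.sylow
  have hAp : IsPGroup 2 (A.subgroupOf K) := by rw [← hP]; exact P.2
  have hAp' : IsPGroup 2 A := hAp.of_equiv (subgroupOfEquivOfLe h.le)
  have hidx : ¬ 2 ∣ A.relIndex K := by
    have := P.not_dvd_index
    rw [hP] at this
    exact this
  refine ⟨Subgroup.map_mono h.le, ψ.symm.isSimpleGroup, ?_, ?_⟩
  · obtain ⟨x, y, hxy⟩ := h.nonab
    refine ⟨ψ x, ψ y, fun e => hxy (ψ.injective ?_)⟩
    rw [map_mul, map_mul, e]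
  · have h1 : IsPGroup 2 ((A.map (MulAut.conj n).toMonoidHom).subgroupOf K') :=
      (hAp'.map _).comap_of_injective K'.subtype K'.subtype_injective
    refine ⟨h1.toSylow ?_, rfl⟩
    change ¬ 2 ∣ (A.map (MulAut.conj n).toMonoidHom).relIndex K'
    rw [hK', relIndex_map_map_of_injective A K hinj]
    exact hidx

theorem simp_conj [Finite G] {𝒜 : Set G} (hA : IsClosedFam 𝒜) {A : Subgroup G} {e : G}
    (h : Simp A (fam 𝒜 (centralizer ({e} : Set G)))) {n : G} (hn : n ∈ normalizer (A : Set G)) :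
    Simp A (fam 𝒜 (centralizer ({n * e * n⁻¹} : Set G))) := by
  have h1 := simp_map h n
  rw [hA.map_conj_fam] at h1
  have h2 : A.map (MulAut.conj n).toMonoidHom = A :=
    Cfsg.Agent.Lib.GoldschmidtFusion.mem_normalizer_iff_map_conj.1 hn
  have h3 : (centralizer ({e} : Set G)).map (MulAut.conj n).toMonoidHom = centralizer ({n * e * n⁻¹} : Set G) := by
    ext x
    rw [Cfsg.Agent.Lib.GoldschmidtFusion.mem_map_conj, mem_centralizer_singleton_iff,
      mem_centralizer_singleton_iff]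
    constructor
    · intro h4
      have := comm_conj n h4
      have e1 : n * (n⁻¹ * x * n) * n⁻¹ = x := by group
      rwa [e1] at this
    · intro h4
      have := comm_conj n⁻¹ h4
      have e1 : n⁻¹ * (n * e * n⁻¹) * n⁻¹⁻¹ = e := by group
      rw [e1, inv_inv] at this
      exact this
  rwa [h2, h3] at h1

end Cfsg.Agent.TwoFusion.GoldRedConj
end

-- part: TwoFusion/GoldRedMax
section
/-!
# Goldschmidt's theorem, `|A| = 4`: bad involutions with maximal centralizer in a Sylow 2-subgroup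

`MaxPair 𝒜 S e`: `e ∈ S` is bad and `|C_S(e)|` is maximal among all such pairs `(S, e)`.  Then `P = C_S(e)` is
elementary abelian of order 8 or 16.
-/

set_option autoImplicit false
set_option linter.style.haveILetI false

namespace Cfsg.Agent.TwoFusion.GoldRedMax

open Subgroup
open Cfsg.Agent.TwoFusion.ClosedFam Cfsg.Agent.TwoFusion.Gold Cfsg.Agent.TwoFusion.GoldSetup
open Cfsg.Agent.TwoFusion.ClosedLocal Cfsg.Agent.TwoFusion.GoldCen Cfsg.Agent.TwoFusion.GoldBad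

universe u

variable {G : Type u} [Group G]

/-- The balance statement (B3) for the Sylow subgroup `S`. -/
def Bal (𝒜 : Set G) (A : Subgroup G) : Prop :=
  ∀ e f : G, Bad 𝒜 e → (∀ a ∈ A, a * e = e * a) → f * f = 1 → f ≠ 1 → f ∈ cen 𝒜 e → (∀ a ∈ A, a * f = f * a) →
    Bad 𝒜 f ∧ ∀ p, (∃ k : ℕ, p ^ 2 ^ k = 1) → p * e = e * p → p * f = f * p → (∀ a ∈ A, p * a = a * p) →
      (p ∈ cen 𝒜 e ↔ p ∈ cen 𝒜 f)

/-- `e ∈ S` is bad and `|C_S(e)|` is maximal. -/
structure MaxPair (𝒜 : Set G) (S : Sylow 2 G) (e : G) : Prop where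
  mem : e ∈ (S : Subgroup G)
  bad : Bad 𝒜 e
  max : ∀ (T : Sylow 2 G) (f : G), f ∈ (T : Subgroup G) → Bad 𝒜 f →
    Nat.card ((T : Subgroup G) ⊓ centralizer ({f} : Set G) : Subgroup G) ≤
      Nat.card ((S : Subgroup G) ⊓ centralizer ({e} : Set G) : Subgroup G)

/-- `C_S(e)` -/
abbrev Pe (S : Sylow 2 G) (e : G) : Subgroup G := (S : Subgroup G) ⊓ centralizer ({e} : Set G)

/-- `C_S(e) ∩ cen 𝒜 e` -/
abbrev Re (𝒜 : Set G) (S : Sylow 2 G) (e : G) : Subgroup G := Pe S e ⊓ cen 𝒜 e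

theorem exists_maxPair [Finite G] {𝒜 : Set G} (S : Sylow 2 G) {e : G} (he : e ∈ (S : Subgroup G)) (hb : Bad 𝒜 e) :
    ∃ (T : Sylow 2 G) (f : G), MaxPair 𝒜 T f := by
  classical
  let X : Set (Sylow 2 G × G) := {x | x.2 ∈ (x.1 : Subgroup G) ∧ Bad 𝒜 x.2}
  have hne : X.Nonempty := ⟨(S, e), he, hb⟩
  obtain ⟨⟨T, f⟩, hx, hmax⟩ := Set.exists_max_image X
    (fun x : Sylow 2 G × G => Nat.card ((x.1 : Subgroup G) ⊓ centralizer ({x.2} : Set G) : Subgroup G))
    (Set.toFinite X) hne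
  exact ⟨T, f, hx.1, hx.2, fun T' f' h1 h2 => hmax (T', f') ⟨h1, h2⟩⟩

theorem mem_Pe {S : Sylow 2 G} {e x : G} : x ∈ Pe S e ↔ x ∈ (S : Subgroup G) ∧ x * e = e * x := by
  rw [mem_inf, mem_cent]

theorem mem_Re {𝒜 : Set G} {S : Sylow 2 G} {e x : G} : x ∈ Re 𝒜 S e ↔
    x ∈ (S : Subgroup G) ∧ x * e = e * x ∧ x ∈ cen 𝒜 e := by
  rw [mem_inf, mem_Pe, and_assoc]

theorem two_pow [Finite G] {S : Sylow 2 G} {p : G} (hp : p ∈ (S : Subgroup G)) : ∃ k : ℕ, p ^ 2 ^ k = 1 := by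
  obtain ⟨k, hk⟩ := S.2 ⟨p, hp⟩
  exact ⟨k, congrArg Subtype.val hk⟩

section

variable [Finite G] {𝒜 : Set G} (h : Setup 𝒜) {S : Sylow 2 G} (h4 : Nat.card (fam 𝒜 (S : Subgroup G)) = 4)
  {e : G} (hm : MaxPair 𝒜 S e)

include h h4 hm

theorem comm_e : ∀ a ∈ fam 𝒜 (S : Subgroup G), a * e = e * a := fun a ha =>
  (GoldFour.central h S h4 a ha e hm.mem).symm

theorem notMem : e ∉ fam 𝒜 (S : Subgroup G) := by
  intro he
  exact hm.bad.2.1 (GoldCenAct.eq_one_of_mem_cen h.fam S h4 hm.bad (comm_e h h4 hm) he GoldCenAct.self_mem_cen)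

theorem fam_le_Pe : fam 𝒜 (S : Subgroup G) ≤ Pe S e := fun a ha => mem_Pe.2 ⟨fam_le _ _ ha, comm_e h h4 hm a ha⟩

omit [Finite G] h h4 in
theorem e_mem_Re : e ∈ Re 𝒜 S e := mem_Re.2 ⟨hm.mem, rfl, GoldCenAct.self_mem_cen⟩

theorem exists_mul_mem {p : G} (hp : p ∈ Pe S e) : ∃ a ∈ fam 𝒜 (S : Subgroup G), a * p ∈ Re 𝒜 S e := by
  rw [mem_Pe] at hp
  obtain ⟨a, ha, hap⟩ := GoldCenAct.exists_mul_mem_cen h.fam S h4 hm.bad (comm_e h h4 hm) hp.2
    (fun a ha => GoldFour.central h S h4 a ha p hp.1) (two_pow hp.1)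
  refine ⟨a, ha, mem_Re.2 ⟨mul_mem (fam_le _ _ ha) hp.1, ?_, hap⟩⟩
  rw [mul_assoc, hp.2, ← mul_assoc, comm_e h h4 hm a ha, mul_assoc]

theorem eq_one {a : G} (ha : a ∈ fam 𝒜 (S : Subgroup G)) (haR : a ∈ Re 𝒜 S e) : a = 1 :=
  GoldCenAct.eq_one_of_mem_cen h.fam S h4 hm.bad (comm_e h h4 hm) ha (mem_Re.1 haR).2.2

omit [Finite G] h4 hm in
theorem conj_mem_Re {p r : G} (hp : p ∈ Pe S e) (hr : r ∈ Re 𝒜 S e) : p * r * p⁻¹ ∈ Re 𝒜 S e := by
  have hp' := mem_Pe.1 hp
  refine mem_inf.2 ⟨mul_mem (mul_mem hp (mem_inf.1 hr).1) (inv_mem hp), ?_⟩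
  exact GoldCenAct.conj_mem_cen h.fam hp'.2 (mem_inf.1 hr).2

/-- Subgroups of Sylow subgroups centralizing an involution outside `𝒜` have order at most `|C_S(e)|`. -/
theorem card_le (hbad : ∀ (T : Sylow 2 G) (t : G), t ∈ (T : Subgroup G) → t * t = 1 → t ∉ fam 𝒜 (T : Subgroup G) →
      ∃ a ∈ fam 𝒜 (T : Subgroup G), Bad 𝒜 (t * a))
    (T : Sylow 2 G) {u : G} (hu : u ∈ (T : Subgroup G)) (huu : u * u = 1) (huA : u ∉ fam 𝒜 (T : Subgroup G)) :
    ∃ f ∈ (T : Subgroup G), Bad 𝒜 f ∧ (∃ a ∈ fam 𝒜 (T : Subgroup G), f = u * a) ∧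
      ∀ Q : Subgroup G, Q ≤ (T : Subgroup G) → (∀ q ∈ Q, q * u = u * q) →
        Q ≤ Pe T f ∧ Nat.card Q ≤ Nat.card (Pe S e) := by
  obtain ⟨a, ha, hb⟩ := hbad T u hu huu huA
  have h4T : Nat.card (fam 𝒜 (T : Subgroup G)) = 4 := by rw [card_fam_sylow h.fam.toIsClosedFam T S, h4]
  have hf : u * a ∈ (T : Subgroup G) := mul_mem hu (fam_le _ _ ha)
  refine ⟨u * a, hf, hb, ⟨a, ha, rfl⟩, fun Q hQ hQu => ?_⟩
  have h1 : Q ≤ Pe T (u * a) := by
    intro q hq
    refine mem_Pe.2 ⟨hQ hq, ?_⟩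
    have h2 := GoldFour.central h T h4T a ha q (hQ hq)
    rw [← mul_assoc, hQu q hq, mul_assoc, h2, ← mul_assoc]
  refine ⟨h1, (Subgroup.card_le_of_le h1).trans (hm.max T _ hf hb)⟩

/-- `P ≠ S` (Lemma P). -/
theorem ne (hC1 : GoldP.C1 G) : Pe S e ≠ (S : Subgroup G) := by
  classical
  intro heq
  have hPe : ∀ s : (S : Subgroup G), (s : G) ∈ Pe S e := fun s => by rw [heq]; exact s.2
  choose f hf hfR using fun s : (S : Subgroup G) => exists_mul_mem h h4 hm (hPe s)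
  have hcen := GoldFour.central h S h4
  have hsq := h.sq S
  -- uniqueness
  have huniq : ∀ (s : (S : Subgroup G)) (a : G), a ∈ fam 𝒜 (S : Subgroup G) → a * s ∈ Re 𝒜 S e → a = f s := by
    intro s a ha has
    have h1 : (a * s) * (f s * s)⁻¹ ∈ Re 𝒜 S e := mul_mem has (inv_mem (hfR s))
    have e1 : (a * s) * (f s * (s : G))⁻¹ = a * (f s)⁻¹ := by group
    rw [e1] at h1
    exact mul_inv_eq_one.1 (eq_one h h4 hm (mul_mem ha (inv_mem (hf s))) h1)
  let π : (S : Subgroup G) →* fam 𝒜 (S : Subgroup G) :=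
    { toFun := fun s => ⟨f s, hf s⟩
      map_one' := by
        apply Subtype.ext
        exact (huniq 1 1 (one_mem _) (by simp only [one_mem, _root_.OneMemClass.coe_one, _root_.mul_one, _root_.OneMemClass.one_mem])).symm
      map_mul' := by
        intro s t
        apply Subtype.ext
        change f (s * t) = f s * f t
        refine (huniq (s * t) (f s * f t) (mul_mem (hf s) (hf t)) ?_).symm
        have e1 : f s * f t * ((s * t : (S : Subgroup G)) : G) = (f s * s) * (f t * t) := by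
          have := hcen (f t) (hf t) s s.2
          calc f s * f t * ((s * t : (S : Subgroup G)) : G) = f s * (f t * s) * t := by
                rw [coe_mul]; group
            _ = f s * (s * f t) * t := by rw [this]
            _ = (f s * s) * (f t * t) := by group
        rw [e1]
        exact mul_mem (hfR s) (hfR t) }
  have hπ : ∀ a (ha : a ∈ ClosedFam.fam 𝒜 (S : Subgroup G)), (π ⟨a, (h.sc S).1 ha⟩ : G) = a := by
    intro a ha
    change f ⟨a, _⟩ = a
    exact (huniq ⟨a, (h.sc S).1 ha⟩ a ha (by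
      change a * a ∈ _
      rw [hsq a ha]; exact one_mem _)).symm
  exact notMem h h4 hm (GoldP.eq_of_split h S hC1 hcen π hπ hm.mem)

end

/-- A nontrivial normal subgroup of a 2-group contains a central involution. -/
theorem exists_central [Finite G] {Q R : Subgroup G} (hQ : IsPGroup 2 Q) (hRQ : R ≤ Q)
    (hn : ∀ q ∈ Q, ∀ r ∈ R, q * r * q⁻¹ ∈ R) (hR : R ≠ ⊥) :
    ∃ f ∈ R, f ≠ 1 ∧ f * f = 1 ∧ ∀ q ∈ Q, q * f = f * q := by
  haveI : Fact (Nat.Prime 2) := ⟨Nat.prime_two⟩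
  haveI hN : (R.subgroupOf Q).Normal := by
    refine ⟨fun y hy g => ?_⟩
    rw [mem_subgroupOf] at hy ⊢
    exact hn g g.2 y hy
  have hne : R.subgroupOf Q ≠ ⊥ := by
    intro hb
    apply hR
    rw [eq_bot_iff]
    intro x hx
    have : (⟨x, hRQ hx⟩ : Q) ∈ R.subgroupOf Q := hx
    rw [hb, mem_bot] at this
    rw [mem_bot]
    exact congrArg Subtype.val this
  obtain ⟨z, hz, hzc, hz2⟩ := Cfsg.Agent.Involutions.NormalFour.exists_mem_center_of_normal hQ _ hne
  have hz2' : orderOf (z : G) = 2 := by rw [Subgroup.orderOf_coe]; exact hz2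
  refine ⟨z, hz, ne_one hz2', mul_self hz2', fun q hq => ?_⟩
  exact congrArg Subtype.val (mem_center_iff.1 hzc ⟨q, hq⟩)

section

variable [Finite G] {𝒜 : Set G} (h : Setup 𝒜) {S : Sylow 2 G} (h4 : Nat.card (fam 𝒜 (S : Subgroup G)) = 4)
  {e : G} (hm : MaxPair 𝒜 S e) (hbal : Bal 𝒜 (fam 𝒜 (S : Subgroup G)))

include h h4 hm hbal

/-- For an involution `v ∈ R` central in `P`: `v` is bad and `P ∩ cen 𝒜 v = R`. -/
theorem bad_and_iff {v : G} (hv : v ∈ Re 𝒜 S e) (hv1 : v ≠ 1) (hvv : v * v = 1)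
    (hvc : ∀ p ∈ Pe S e, p * v = v * p) :
    Bad 𝒜 v ∧ ∀ p ∈ Pe S e, (p ∈ cen 𝒜 e ↔ p ∈ cen 𝒜 v) := by
  have hv' := mem_Re.1 hv
  have hcen := GoldFour.central h S h4
  obtain ⟨h1, h2⟩ := hbal e v hm.bad (comm_e h h4 hm) hvv hv1 hv'.2.2 (fun a ha => (hcen a ha v hv'.1).symm)
  refine ⟨h1, fun p hp => ?_⟩
  have hp' := mem_Pe.1 hp
  exact h2 p (two_pow hp'.1) hp'.2 (hvc p hp) (fun a ha => hcen a ha p hp'.1)

/-- `R ∩ nRn⁻¹ = 1` for `n ∈ N_S(P) - P`. -/
theorem disj {n : G} (hnS : n ∈ (S : Subgroup G)) (hn : n ∈ normalizer (Pe S e : Set G)) (hnP : n ∉ Pe S e) :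
    ∀ x ∈ Re 𝒜 S e, n⁻¹ * x * n ∈ Re 𝒜 S e → x = 1 := by
  classical
  haveI : Fact (Nat.Prime 2) := ⟨Nat.prime_two⟩
  set P := Pe S e with hP
  set R := Re 𝒜 S e with hR
  have hPp : IsPGroup 2 P := S.2.to_le inf_le_left
  have hRP : R ≤ P := inf_le_left
  have hPn : ∀ p ∈ P, n * p * n⁻¹ ∈ P := fun p hp => (mem_normalizer_iff.1 hn p).1 hp
  have hPn' : ∀ p ∈ P, n⁻¹ * p * n ∈ P := fun p hp => by
    have := (mem_normalizer_iff.1 (inv_mem hn) p).1 hp
    rwa [inv_inv] at this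
  let R' : Subgroup G := R.map (MulAut.conj n).toMonoidHom
  have hR' : ∀ x, x ∈ R' ↔ n⁻¹ * x * n ∈ R := fun x => mem_map_conj
  by_contra hcon
  push Not at hcon
  obtain ⟨x, hx, hxR', hx1⟩ := hcon
  have hD : ∃ v ∈ R ⊓ R', v ≠ 1 ∧ v * v = 1 ∧ ∀ q ∈ P, q * v = v * q := by
    apply exists_central hPp (inf_le_left.trans hRP)
    · intro p hp r hr
      rw [mem_inf, hR'] at hr ⊢
      refine ⟨conj_mem_Re h hp hr.1, ?_⟩
      have e1 : n⁻¹ * (p * r * p⁻¹) * n = (n⁻¹ * p * n) * (n⁻¹ * r * n) * (n⁻¹ * p * n)⁻¹ := by group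
      rw [e1]
      exact conj_mem_Re h (hPn' p hp) hr.2
    · intro hb
      have : x ∈ R ⊓ R' := mem_inf.2 ⟨hx, (hR' x).2 hxR'⟩
      rw [hb, mem_bot] at this
      exact hx1 this
  obtain ⟨v, hv, hv1, hvv, hvc⟩ := hD
  have hvR := (mem_inf.1 hv).1
  have hwR : n⁻¹ * v * n ∈ R := (hR' v).1 (mem_inf.1 hv).2
  set w := n⁻¹ * v * n with hw
  have hw1 : w ≠ 1 := by
    intro hw1
    apply hv1
    have e1 : v = n * w * n⁻¹ := by rw [hw]; group
    rw [e1, hw1]; group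
  have hww : w * w = 1 := by
    calc w * w = n⁻¹ * (v * v) * n := by rw [hw]; group
      _ = 1 := by rw [hvv]; group
  have hwc : ∀ p ∈ P, p * w = w * p := by
    intro p hp
    have h1 := hvc _ (hPn p hp)
    calc p * w = n⁻¹ * ((n * p * n⁻¹) * v) * n := by rw [hw]; group
      _ = n⁻¹ * (v * (n * p * n⁻¹)) * n := by rw [h1]
      _ = w * p := by rw [hw]; group
  obtain ⟨-, hv2⟩ := bad_and_iff h h4 hm hbal hvR hv1 hvv hvc
  obtain ⟨-, hw2⟩ := bad_and_iff h h4 hm hbal hwR hw1 hww hwc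
  -- `n` normalises `R`
  have hnR : ∀ r ∈ R, n * r * n⁻¹ ∈ R := by
    intro r hr
    have hrP := hRP hr
    have h1 : r ∈ cen 𝒜 w := (hw2 r hrP).1 (mem_inf.1 hr).2
    have h2 := GoldRedConj.conj_mem_cen h.fam.conj_mem n h1
    have e1 : n * w * n⁻¹ = v := by rw [hw]; group
    rw [e1] at h2
    exact mem_inf.2 ⟨hPn r hrP, (hv2 _ (hPn r hrP)).2 h2⟩
  have hnR' : n ∈ normalizer (R : Set G) := by
    rw [Lib.GoldschmidtFusion.mem_normalizer_iff_map_conj]
    apply Subgroup.eq_of_le_of_card_ge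
    · rintro _ ⟨r, hr, rfl⟩
      exact hnR r hr
    · rw [Lib.GoldschmidtFusion.card_map_conj]
  set Q : Subgroup G := (S : Subgroup G) ⊓ normalizer (R : Set G) with hQ
  have hPQ : P ≤ Q := by
    intro p hp
    refine mem_inf.2 ⟨(mem_inf.1 hp).1, ?_⟩
    rw [Lib.GoldschmidtFusion.mem_normalizer_iff_map_conj]
    apply Subgroup.eq_of_le_of_card_ge
    · rintro _ ⟨r, hr, rfl⟩
      exact conj_mem_Re h hp hr
    · rw [Lib.GoldschmidtFusion.card_map_conj]
  have hnQ : n ∈ Q := mem_inf.2 ⟨hnS, hnR'⟩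
  have hQp : IsPGroup 2 Q := S.2.to_le inf_le_left
  obtain ⟨f, hfR, hf1, hff, hfc⟩ := exists_central hQp (hRP.trans hPQ)
    (fun q hq r hr => (mem_normalizer_iff.1 (mem_inf.1 hq).2 r).1 hr) (by
      intro hb
      have : x ∈ R := hx
      rw [hb, mem_bot] at this
      exact hx1 this)
  obtain ⟨hfb, -⟩ := bad_and_iff h h4 hm hbal hfR hf1 hff (fun p hp => hfc p (hPQ hp))
  have hlt : P < Q := lt_of_le_of_ne hPQ (fun e1 => hnP (by rw [e1]; exact hnQ))
  have h1 : Q ≤ (S : Subgroup G) ⊓ centralizer ({f} : Set G) := fun q hq =>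
    mem_inf.2 ⟨(mem_inf.1 hq).1, mem_cent.2 (hfc q hq)⟩
  have h2 := hm.max S f ((mem_Re.1 hfR).1) hfb
  have h3 := Subgroup.card_le_of_le h1
  have h5 : Nat.card P < Nat.card Q := by
    by_contra h5
    exact hlt.ne (Subgroup.eq_of_le_of_card_ge hlt.le (not_lt.1 h5))
  have h6 : Nat.card ((S : Subgroup G) ⊓ centralizer ({e} : Set G) : Subgroup G) = Nat.card P := rfl
  omega

omit hbal in
/-- `|P| = 4 |R|`. -/
theorem card_Pe : Nat.card (Pe S e) = 4 * Nat.card (Re 𝒜 S e) := by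
  classical
  have hcen := GoldFour.central h S h4
  let φ : fam 𝒜 (S : Subgroup G) × Re 𝒜 S e → Pe S e := fun x =>
    ⟨(x.1 : G) * x.2, mul_mem (fam_le_Pe h h4 hm x.1.2) (mem_inf.1 x.2.2).1⟩
  have hφ : Function.Bijective φ := by
    constructor
    · rintro ⟨⟨a, ha⟩, ⟨r, hr⟩⟩ ⟨⟨b, hb⟩, ⟨s, hs⟩⟩ hxy
      have h1 : a * r = b * s := congrArg Subtype.val hxy
      have h2 : b⁻¹ * a = s * r⁻¹ := by
        calc b⁻¹ * a = b⁻¹ * (a * r) * r⁻¹ := by group
          _ = s * r⁻¹ := by rw [h1]; group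
      have h3 : b⁻¹ * a = 1 := by
        apply eq_one h h4 hm (mul_mem (inv_mem hb) ha)
        rw [h2]; exact mul_mem hs (inv_mem hr)
      have h5 : a = b := (inv_mul_eq_one.1 h3).symm
      subst h5
      have h6 : r = s := mul_left_cancel h1
      subst h6
      rfl
    · rintro ⟨p, hp⟩
      obtain ⟨a, ha, hap⟩ := exists_mul_mem h h4 hm hp
      refine ⟨(⟨a⁻¹, inv_mem ha⟩, ⟨a * p, hap⟩), Subtype.ext ?_⟩
      change a⁻¹ * (a * p) = p
      group
  rw [← Nat.card_congr (Equiv.ofBijective φ hφ), Nat.card_prod, h4]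

/-- **The structure of `P = C_S(e)`.** -/
theorem structure_Pe (hC1 : GoldP.C1 G) :
    (∀ x ∈ Pe S e, x * x = 1) ∧ ((Nat.card (Re 𝒜 S e) = 2 ∧ Nat.card (Pe S e) = 8) ∨
      (Nat.card (Re 𝒜 S e) = 4 ∧ Nat.card (Pe S e) = 16)) := by
  classical
  haveI : Fact (Nat.Prime 2) := ⟨Nat.prime_two⟩
  have hcen := GoldFour.central h S h4
  have hsq := h.sq S
  set P := Pe S e with hP
  set R := Re 𝒜 S e with hR
  set A := fam 𝒜 (S : Subgroup G) with hA
  have hPp : IsPGroup 2 P := S.2.to_le inf_le_left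
  have hRP : R ≤ P := inf_le_left
  have hPS : P < (S : Subgroup G) := lt_of_le_of_ne inf_le_left (ne h h4 hm hC1)
  obtain ⟨n, hn, hnP⟩ := SetLike.exists_of_lt (Lib.GoldschmidtFusion.lt_inf_normalizer S.2 hPS)
  have hnS := (mem_inf.1 hn).1
  have hnN := (mem_inf.1 hn).2
  have hdis := disj h h4 hm hbal hnS hnN hnP
  have hPn : ∀ p ∈ P, n * p * n⁻¹ ∈ P := fun p hp => (mem_normalizer_iff.1 hnN p).1 hp
  have hPn' : ∀ p ∈ P, n⁻¹ * p * n ∈ P := fun p hp => by
    have := (mem_normalizer_iff.1 (inv_mem hnN) p).1 hp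
    rwa [inv_inv] at this
  -- every `r ∈ R` is `a r'` with `r' ∈ n R n⁻¹`
  have hdec : ∀ p ∈ P, ∃ a ∈ A, n⁻¹ * (a * p) * n ∈ R := by
    intro p hp
    obtain ⟨a, ha, har⟩ := exists_mul_mem h h4 hm (hPn' p hp)
    refine ⟨a, ha, ?_⟩
    have h1 := hcen a ha n hnS
    have e1 : n⁻¹ * (a * p) * n = a * (n⁻¹ * p * n) := by
      calc n⁻¹ * (a * p) * n = n⁻¹ * (a * n) * (n⁻¹ * p * n) := by group
        _ = n⁻¹ * (n * a) * (n⁻¹ * p * n) := by rw [h1]
        _ = a * (n⁻¹ * p * n) := by group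
    rw [e1]; exact har
  -- `R` has exponent two
  have hR2 : ∀ r ∈ R, r * r = 1 := by
    intro r hr
    obtain ⟨a, ha, har⟩ := hdec r (hRP hr)
    apply hdis (r * r) (mul_mem hr hr)
    have h1 := mul_mem har har
    have h2 := hcen a ha r (mem_inf.1 (hRP hr)).1
    have e1 : n⁻¹ * (a * r) * n * (n⁻¹ * (a * r) * n) = n⁻¹ * (r * r) * n := by
      calc n⁻¹ * (a * r) * n * (n⁻¹ * (a * r) * n) = n⁻¹ * (a * (r * a) * r) * n := by group
        _ = n⁻¹ * ((a * a) * (r * r)) * n := by rw [h2]; group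
        _ = n⁻¹ * (r * r) * n := by rw [hsq a ha, one_mul]
    rwa [e1] at h1
  have hP2 : ∀ x ∈ P, x * x = 1 := by
    intro p hp
    obtain ⟨a, ha, har⟩ := exists_mul_mem h h4 hm hp
    have h1 := hR2 _ har
    have h2 := hcen a ha p (mem_inf.1 hp).1
    calc p * p = (a * a) * (p * p) := by rw [hsq a ha, one_mul]
      _ = a * (a * p) * p := by group
      _ = a * (p * a) * p := by rw [h2]
      _ = (a * p) * (a * p) := by group
      _ = 1 := h1
  -- `|R| ≤ 4`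
  have hR4 : Nat.card R ≤ 4 := by
    choose f hf hfR using fun r : R => hdec r (hRP r.2)
    rw [← h4]
    apply Nat.card_le_card_of_injective (fun r : R => (⟨f r, hf r⟩ : A))
    intro r s hrs
    have h1 : f r = f s := congrArg Subtype.val hrs
    have h2 := mul_mem (hfR r) (inv_mem (hfR s))
    have hfi : (f r)⁻¹ = f r := inv_eq_of_mul_eq_one_right (hsq _ (hf r))
    have e1 : n⁻¹ * (f r * r) * n * (n⁻¹ * (f s * s) * n)⁻¹ = n⁻¹ * (r * (s : G)⁻¹) * n := by
      rw [← h1]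
      have h3 := hcen (f r) (hf r) (r * (s : G)⁻¹) (mem_inf.1 (hRP (mul_mem r.2 (inv_mem s.2)))).1
      calc n⁻¹ * (f r * r) * n * (n⁻¹ * (f r * s) * n)⁻¹ = n⁻¹ * (f r * (r * (s : G)⁻¹) * (f r)⁻¹) * n := by
            group
        _ = n⁻¹ * (r * (s : G)⁻¹ * f r * (f r)⁻¹) * n := by rw [h3]
        _ = n⁻¹ * (r * (s : G)⁻¹) * n := by group
    rw [e1] at h2
    have h3 := hdis _ (mul_mem r.2 (inv_mem s.2)) h2
    exact Subtype.ext (mul_inv_eq_one.1 h3)
  have hc := card_Pe h h4 hm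
  have hRp : IsPGroup 2 R := hPp.to_le hRP
  obtain ⟨k, hk⟩ := IsPGroup.iff_card.1 hRp
  have hk1 : 2 ≤ Nat.card R := by
    have hne : Nontrivial R := by
      refine ⟨⟨e, e_mem_Re hm⟩, 1, fun e1 => hm.bad.2.1 (congrArg Subtype.val e1)⟩
    exact Finite.one_lt_card_iff_nontrivial.2 hne
  refine ⟨hP2, ?_⟩
  rcases k with _ | _ | _ | k
  · rw [hk] at hk1; omega
  · left
    constructor
    · rw [hk]; norm_num
    · rw [hc, hk]; norm_num
  · right
    constructor
    · rw [hk]; norm_num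
    · rw [hc, hk]; norm_num
  · exfalso
    rw [hk, pow_succ, pow_succ, pow_succ] at hR4
    have : 1 ≤ 2 ^ k := Nat.one_le_two_pow
    omega

end

end Cfsg.Agent.TwoFusion.GoldRedMax
end

-- part: TwoFusion/GoldLFourUp
section
/-!
# Goldschmidt's theorem, `|A| = 4`: Sylow 2-subgroups properly containing one of type `PSL(3,4)`

`S` is a Sylow 2-subgroup, `T = R₁ R₂ ≤ S` of type `PSL(3,4)`, `A = R₁ ∩ R₂` central in `S` and strongly
closed.  Transfer shows `T = S` (`Up.eq`).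
-/

set_option autoImplicit false
set_option linter.style.haveILetI false

namespace Cfsg.Agent.TwoFusion.GoldLFourUp

open Subgroup Cfsg.Agent.TypeL3 Cfsg.Agent.Lib.GoldschmidtFusion

variable {G : Type*} [Group G]

/-- `T = R₁ R₂` is a subgroup of type `PSL(3,4)` of the 2-group `S`. -/
structure Up (S T R₁ R₂ : Subgroup G) : Prop where
  ab : IsAB T R₁ R₂
  le : T ≤ S
  central : ∀ a ∈ R₁ ⊓ R₂, ∀ s ∈ S, a * s = s * a
  c1 : ∀ e ∈ R₁, e ∉ R₂ → ∀ s ∈ S, e * s = s * e → s ∈ R₁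
  c2 : ∀ e ∈ R₂, e ∉ R₁ → ∀ s ∈ S, e * s = s * e → s ∈ R₂
  n1 : ∀ s ∈ S, (∀ r ∈ R₁, s * r * s⁻¹ ∈ R₁) → s ∈ T
  card1 : Nat.card R₁ = 16
  card2 : Nat.card R₂ = 16
  cardZ : Nat.card (R₁ ⊓ R₂ : Subgroup G) = 4

theorem conj_mul' (g x y : G) : g * (x * y) * g⁻¹ = (g * x * g⁻¹) * (g * y * g⁻¹) := by group

/-- If all conjugates of the elements of `R` lie in `R'`, `|R| = |R'|`, then the converse holds as well. -/
theorem conj_inv_mem [Finite G] {R R' : Subgroup G} (hc : Nat.card R = Nat.card R') {n : G}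
    (hn : ∀ r ∈ R, n * r * n⁻¹ ∈ R') : ∀ r ∈ R', n⁻¹ * r * n ∈ R := by
  intro r hr
  have h1 : R.map (MulAut.conj n).toMonoidHom ≤ R' := by
    rintro _ ⟨x, hx, rfl⟩
    exact hn x hx
  have h2 : R.map (MulAut.conj n).toMonoidHom = R' :=
    Subgroup.eq_of_le_of_card_ge h1 (by rw [card_map_conj, hc])
  rw [← h2, mem_map_conj] at hr
  exact hr

namespace Up

variable {S T R₁ R₂ : Subgroup G}

/-- Elementary subgroups of `S` normalising `T` of order 16 lie in `T`; here the main case distinction. -/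
theorem swap [Finite G] (h : Up S T R₁ R₂) {n : G} (hn : n ∈ S) (hnT : ∀ t ∈ T, n * t * n⁻¹ ∈ T)
    (hn' : n ∉ T) : (∀ r ∈ R₁, n * r * n⁻¹ ∈ R₂) ∧ (∀ r ∈ R₂, n * r * n⁻¹ ∈ R₁) := by
  have hle : ∀ R : Subgroup G, R ≤ T → (∀ r ∈ R, r * r = 1) →
      R.map (MulAut.conj n).toMonoidHom ≤ R₁ ∨ R.map (MulAut.conj n).toMonoidHom ≤ R₂ := by
    intro R hR hsq
    apply h.ab.le_or_le
    · rintro _ ⟨x, hx, rfl⟩
      exact hnT x (hR hx)
    · rintro _ ⟨x, hx, rfl⟩
      rw [← map_mul, hsq x hx, map_one]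
  have h1 : R₁.map (MulAut.conj n).toMonoidHom ≤ R₂ := by
    rcases hle R₁ h.ab.A_le h.ab.A_sq with h1 | h1
    · exact absurd (h.n1 n hn fun r hr => h1 ⟨r, hr, rfl⟩) hn'
    · exact h1
  have h2 : R₂.map (MulAut.conj n).toMonoidHom ≤ R₁ := by
    rcases hle R₂ h.ab.B_le h.ab.B_sq with h2 | h2
    · exact h2
    · exfalso
      have e1 : R₁.map (MulAut.conj n).toMonoidHom = R₂ :=
        Subgroup.eq_of_le_of_card_ge h1 (by rw [card_map_conj, h.card1, h.card2])
      have e2 : R₂.map (MulAut.conj n).toMonoidHom = R₂ :=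
        Subgroup.eq_of_le_of_card_ge h2 (by rw [card_map_conj])
      have e3 : R₁ = R₂ := Subgroup.map_injective (MulAut.conj n).injective (e1.trans e2.symm)
      obtain ⟨a, ha, ha'⟩ := h.ab.neA
      exact ha' (e3 ▸ ha)
  exact ⟨fun r hr => h1 ⟨r, hr, rfl⟩, fun r hr => h2 ⟨r, hr, rfl⟩⟩

theorem mul_mem_T [Finite G] (h : Up S T R₁ R₂) {n m : G} (hn : n ∈ S) (hnT : ∀ t ∈ T, n * t * n⁻¹ ∈ T)
    (hn' : n ∉ T) (hm : m ∈ S) (hmT : ∀ t ∈ T, m * t * m⁻¹ ∈ T) (hm' : m ∉ T) : n * m ∈ T := by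
  apply h.n1 _ (mul_mem hn hm)
  intro r hr
  have h1 := (h.swap hm hmT hm').1 r hr
  have h2 := (h.swap hn hnT hn').2 _ h1
  have e : n * m * r * (n * m)⁻¹ = n * (m * r * m⁻¹) * n⁻¹ := by group
  rw [e]; exact h2

/-- An elementary subgroup of `S` of order 16 normalising `T` lies in `T`. -/
theorem elem_le [Finite G] (h : Up S T R₁ R₂) {E : Subgroup G} (hE : E ≤ S) (hsq : ∀ e ∈ E, e * e = 1)
    (hc : Nat.card E = 16) (hET : ∀ e ∈ E, ∀ t ∈ T, e * t * e⁻¹ ∈ T) : E ≤ T := by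
  by_contra hcon
  obtain ⟨e, he, heT⟩ := SetLike.not_le_iff_exists.1 hcon
  have hcomm : ∀ x ∈ E, ∀ y ∈ E, x * y = y * x := by
    intro x hx y hy
    have h1 := hsq _ (mul_mem hx hy)
    have hx' : x⁻¹ = x := inv_eq_of_mul_eq_one_right (hsq x hx)
    have hy' : y⁻¹ = y := inv_eq_of_mul_eq_one_right (hsq y hy)
    have h2 : (x * y)⁻¹ = x * y := inv_eq_of_mul_eq_one_right h1
    rw [mul_inv_rev, hx', hy'] at h2
    exact h2.symm
  -- `T ∩ E` has index two in `E`
  have hidx : (T.subgroupOf E).index = 2 := by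
    rw [Subgroup.index_eq_two_iff]
    refine ⟨⟨e, he⟩, fun b => ?_⟩
    rw [mem_subgroupOf, mem_subgroupOf]
    change Xor ((b : G) * e ∈ T) ((b : G) ∈ T)
    by_cases hb : (b : G) ∈ T
    · exact Or.inr ⟨hb, fun h1 => heT (by simpa using mul_mem (inv_mem hb) h1)⟩
    · exact Or.inl ⟨h.mul_mem_T (hE b.2) (hET b b.2) hb (hE he) (hET e he) heT, hb⟩
  have hcard : Nat.card (T.subgroupOf E) = 8 := by
    have := (T.subgroupOf E).card_mul_index
    rw [hidx, hc] at this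
    omega
  -- `T ∩ E ≤ R₁ ∩ R₂`
  have hsw := h.swap (hE he) (hET e he) heT
  have hle : T ⊓ E ≤ R₁ ⊓ R₂ := by
    have hfix : ∀ x ∈ T ⊓ E, e * x * e⁻¹ = x := by
      intro x hx
      rw [hcomm e he x (mem_inf.1 hx).2]; group
    rcases h.ab.le_or_le (E := T ⊓ E) inf_le_left (fun x hx => hsq x (mem_inf.1 hx).2) with h1 | h1
    · intro x hx
      refine mem_inf.2 ⟨h1 hx, ?_⟩
      have := hsw.1 x (h1 hx)
      rwa [hfix x hx] at this
    · intro x hx
      refine mem_inf.2 ⟨?_, h1 hx⟩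
      have := hsw.2 x (h1 hx)
      rwa [hfix x hx] at this
  have hcle : Nat.card (T.subgroupOf E) ≤ Nat.card (R₁ ⊓ R₂ : Subgroup G) := by
    refine Nat.card_le_card_of_injective
      (fun x : T.subgroupOf E => (⟨((x : E) : G), hle (mem_inf.2 ⟨mem_subgroupOf.1 x.2, x.1.2⟩)⟩ :
        (R₁ ⊓ R₂ : Subgroup G))) ?_
    intro x y hxy
    have h1 : ((x : E) : G) = ((y : E) : G) := Subtype.mk.inj hxy
    exact Subtype.ext (Subtype.ext h1)
  rw [hcard, h.cardZ] at hcle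
  omega

/-- `T` is generated by `R₁` and `R₂`. -/
theorem conj_T (h : Up S T R₁ R₂) {n : G} (h1 : ∀ r ∈ R₁, n * r * n⁻¹ ∈ T) (h2 : ∀ r ∈ R₂, n * r * n⁻¹ ∈ T) :
    ∀ t ∈ T, n * t * n⁻¹ ∈ T := by
  intro t ht
  obtain ⟨a, ha, b, hb, rfl⟩ := h.ab.prod t ht
  rw [conj_mul']
  exact mul_mem (h1 a ha) (h2 b hb)

/-- `T` is normal in `S`. -/
theorem normal [Finite G] (h : Up S T R₁ R₂) (hS : IsPGroup 2 S) : ∀ s ∈ S, ∀ t ∈ T, s * t * s⁻¹ ∈ T := by
  haveI : Fact (Nat.Prime 2) := ⟨Nat.prime_two⟩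
  set N : Subgroup G := S ⊓ normalizer (T : Set G) with hN
  have hNT : ∀ s ∈ N, ∀ t ∈ T, s * t * s⁻¹ ∈ T := by
    intro s hs t ht
    exact ((mem_normalizer_iff.1 (mem_inf.1 hs).2) t).1 ht
  have hTN : T ≤ N := le_inf h.le Subgroup.le_normalizer
  by_cases hNS : N = S
  · intro s hs
    exact hNT s (hNS ▸ hs)
  exfalso
  have hlt : N < S := lt_of_le_of_ne inf_le_left hNS
  have h1 := lt_inf_normalizer hS hlt
  obtain ⟨m, hm, hmN⟩ := SetLike.exists_of_lt h1
  obtain ⟨hmS, hmn⟩ := mem_inf.1 hm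
  have hmN' : ∀ x ∈ N, m * x * m⁻¹ ∈ N := fun x hx => ((mem_normalizer_iff.1 hmn) x).1 hx
  have key : ∀ R : Subgroup G, R ≤ T → (∀ r ∈ R, r * r = 1) → Nat.card R = 16 →
      ∀ r ∈ R, m * r * m⁻¹ ∈ T := by
    intro R hR hsq hc r hr
    have h2 : R.map (MulAut.conj m).toMonoidHom ≤ T := by
      apply h.elem_le
      · rintro _ ⟨x, hx, rfl⟩
        exact (mem_inf.1 (hmN' x (hTN (hR hx)))).1
      · rintro _ ⟨x, hx, rfl⟩
        rw [← map_mul, hsq x hx, map_one]
      · rw [card_map_conj]; exact hc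
      · rintro _ ⟨x, hx, rfl⟩
        exact hNT _ (hmN' x (hTN (hR hx)))
    exact h2 ⟨r, hr, rfl⟩
  apply hmN
  refine mem_inf.2 ⟨hmS, ?_⟩
  rw [mem_normalizer_iff_map_conj]
  apply map_conj_le_of_le_normalizer
  rintro _ ⟨t, ht, rfl⟩
  exact h.conj_T (key R₁ h.ab.A_le h.ab.A_sq h.card1) (key R₂ h.ab.B_le h.ab.B_sq h.card2) t ht

/-- Elements of `S ∖ T` swap `R₁` and `R₂`. -/
theorem swap' [Finite G] (h : Up S T R₁ R₂) (hS : IsPGroup 2 S) {n : G} (hn : n ∈ S) (hn' : n ∉ T) :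
    (∀ r ∈ R₁, n * r * n⁻¹ ∈ R₂) ∧ (∀ r ∈ R₂, n * r * n⁻¹ ∈ R₁) :=
  h.swap hn (h.normal hS n hn) hn'

theorem mul_mem' [Finite G] (h : Up S T R₁ R₂) (hS : IsPGroup 2 S) {n m : G} (hn : n ∈ S) (hn' : n ∉ T)
    (hm : m ∈ S) (hm' : m ∉ T) : n * m ∈ T :=
  h.mul_mem_T hn (h.normal hS n hn) hn' hm (h.normal hS m hm) hm'

theorem inv_eq {x : G} (hx : x * x = 1) : x⁻¹ = x := inv_eq_of_mul_eq_one_right hx

theorem sqZ (h : Up S T R₁ R₂) {z : G} (hz : z ∈ R₁ ⊓ R₂) : z * z = 1 := h.ab.A_sq z (mem_inf.1 hz).1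

theorem Z_le (h : Up S T R₁ R₂) : R₁ ⊓ R₂ ≤ S := h.ab.Z_le.trans h.le

/-- If `w ∈ S ∖ T` then some `w ∈ S ∖ T` has `w² ∈ Z`. -/
theorem exists_sq_mem [Finite G] (h : Up S T R₁ R₂) (hS : IsPGroup 2 S) {w₀ : G} (hw : w₀ ∈ S)
    (hw' : w₀ ∉ T) : ∃ w ∈ S, w ∉ T ∧ w * w ∈ R₁ ⊓ R₂ := by
  have hsq : w₀ * w₀ ∈ T := h.mul_mem' hS hw hw' hw hw'
  have hsw := h.swap' hS hw hw'
  obtain ⟨a, ha, b, hb, hab⟩ := h.ab.prod _ hsq
  have ha' := hsw.1 a ha
  have hb' := hsw.2 b hb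
  set a' := w₀ * a * w₀⁻¹ with ea
  set b' := w₀ * b * w₀⁻¹ with eb
  have e1 : a' * b' = a * b := by
    rw [ea, eb, ← conj_mul', hab]; group
  obtain ⟨z, hz, e2⟩ := h.ab.exists_comm (h.ab.B_le ha') (h.ab.A_le hb')
  -- `b' a' z = a b`
  have e3 : a⁻¹ * b' = b * z⁻¹ * a'⁻¹ := by
    have hza : z * a' = a' * z := h.ab.comm_Z hz (h.ab.B_le ha')
    calc a⁻¹ * b' = a⁻¹ * (b' * (a' * z)) * z⁻¹ * a'⁻¹ := by group
      _ = a⁻¹ * (a * b) * z⁻¹ * a'⁻¹ := by rw [← e1, e2]; group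
      _ = b * z⁻¹ * a'⁻¹ := by group
  have hy : a⁻¹ * b' ∈ R₁ ⊓ R₂ := by
    refine mem_inf.2 ⟨mul_mem (inv_mem ha) hb', ?_⟩
    rw [e3]
    exact mul_mem (mul_mem hb (inv_mem (mem_inf.1 hz).2)) (inv_mem ha')
  -- hence `b = y a'` for some `y ∈ Z`
  obtain ⟨y, hyZ, hby⟩ : ∃ y ∈ R₁ ⊓ R₂, b = y * a' := by
    refine ⟨b * a'⁻¹, ?_, by group⟩
    have h1 : b * a'⁻¹ = (a⁻¹ * b') * z := by
      rw [e3]
      have hza : z * a' = a' * z := h.ab.comm_Z hz (h.ab.B_le ha')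
      calc b * a'⁻¹ = b * z⁻¹ * a'⁻¹ * (a' * z * a'⁻¹) := by group
        _ = b * z⁻¹ * a'⁻¹ * z := by rw [← hza]; group
    rw [h1]
    exact mul_mem hy hz
  refine ⟨a * w₀, mul_mem (h.le (h.ab.A_le ha)) hw, ?_, ?_⟩
  · intro h1
    exact hw' (by simpa using mul_mem (inv_mem (h.ab.A_le ha)) h1)
  · have e4 : a * w₀ * (a * w₀) = a * a' * (a * b) := by
      rw [hab, ea]; group
    have hca := h.ab.comm_mem (h.ab.A_le ha) (h.ab.B_le ha')
    have e5 : a * a' * (a * b) = y * (a * a' * a⁻¹ * a'⁻¹) := by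
      rw [hby, inv_eq (h.ab.A_sq a ha), inv_eq (h.ab.B_sq a' ha')]
      have hya : y * a = a * y := h.ab.comm_Z hyZ (h.ab.A_le ha)
      have hya' : y * a' = a' * y := h.ab.comm_Z hyZ (h.ab.B_le ha')
      calc a * a' * (a * (y * a')) = a * a' * (a * y) * a' := by group
        _ = a * (a' * y) * a * a' := by rw [← hya]; group
        _ = (a * y) * a' * a * a' := by rw [← hya']; group
        _ = y * (a * a' * a * a') := by rw [← hya]; group
    rw [e4, e5]
    exact mul_mem hyZ hca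

/-- The shape of the elements `t ∈ T` with `t · t^w ∈ Z`. -/
theorem shape [Finite G] (h : Up S T R₁ R₂) (hS : IsPGroup 2 S) {w : G} (hw : w ∈ S) (hw' : w ∉ T)
    {t : G} (ht : t ∈ T) (htt : t * (w * t * w⁻¹) ∈ R₁ ⊓ R₂) :
    ∃ r ∈ R₁, ∃ y ∈ R₁ ⊓ R₂, t = y * (r * (w * r * w⁻¹)) := by
  have hsw := h.swap' hS hw hw'
  obtain ⟨a, ha, b, hb, rfl⟩ := h.ab.prod t ht
  have ha' := hsw.1 a ha
  have hb' := hsw.2 b hb
  rw [conj_mul'] at htt
  set a' := w * a * w⁻¹ with ea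
  set b' := w * b * w⁻¹ with eb
  -- `b a' ∈ Z`
  have h1 : b * a' ∈ R₁ ⊓ R₂ := by
    refine mem_inf.2 ⟨?_, mul_mem hb ha'⟩
    have e : b * a' = a⁻¹ * (a * b * (a' * b')) * b'⁻¹ := by group
    rw [e]
    exact mul_mem (mul_mem (inv_mem ha) (mem_inf.1 htt).1) (inv_mem hb')
  refine ⟨a, ha, b * a', h1, ?_⟩
  have h2 : b = (b * a') * a' := by rw [mul_assoc, h.ab.B_sq a' ha', mul_one]
  have h3 := h.ab.comm_Z h1 (h.ab.A_le ha)
  calc a * b = a * ((b * a') * a') := by rw [← h2]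
    _ = (a * (b * a')) * a' := by group
    _ = (b * a') * (a * a') := by rw [← h3]; group

/-- All elements of `S ∖ T` with square in `Z` have the same square. -/
theorem sq_eq [Finite G] (h : Up S T R₁ R₂) (hS : IsPGroup 2 S) {w x : G} (hw : w ∈ S) (hw' : w ∉ T)
    (hwZ : w * w ∈ R₁ ⊓ R₂) (hx : x ∈ S) (hx' : x ∉ T) (hxZ : x * x ∈ R₁ ⊓ R₂) : x * x = w * w := by
  have hwi : w⁻¹ ∉ T := fun h1 => hw' (by simpa using inv_mem h1)
  have ht : x * w⁻¹ ∈ T := h.mul_mem' hS hx hx' (inv_mem hw) hwi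
  have e1 : x * x = (x * w⁻¹) * (w * (x * w⁻¹) * w⁻¹) * (w * w) := by group
  have h1 : (x * w⁻¹) * (w * (x * w⁻¹) * w⁻¹) ∈ R₁ ⊓ R₂ := by
    have e2 : (x * w⁻¹) * (w * (x * w⁻¹) * w⁻¹) = x * x * (w * w)⁻¹ := by group
    rw [e2]
    exact mul_mem hxZ (inv_mem hwZ)
  obtain ⟨r, hr, y, hy, e⟩ := h.shape hS hw hw' ht h1
  have hr' := (h.swap' hS hw hw').1 r hr
  rw [e1, e]
  set r' := w * r * w⁻¹ with er
  have hyw : y * w = w * y := h.central y hy w hw
  have e3 : w * (y * (r * r')) * w⁻¹ = y * (r' * r) := by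
    have e4 : w * r' * w⁻¹ = r := by
      have := h.central _ hwZ r (h.le (h.ab.A_le hr))
      calc w * r' * w⁻¹ = (w * w * r) * (w * w)⁻¹ := by rw [er]; group
        _ = r := by rw [this]; group
    calc w * (y * (r * r')) * w⁻¹ = (w * y) * r * r' * w⁻¹ := by group
      _ = y * (w * r * w⁻¹) * (w * r' * w⁻¹) := by rw [← hyw]; group
      _ = y * (r' * r) := by rw [e4, ← er]; group
  rw [e3]
  have e5 : y * (r * r') * (y * (r' * r)) = 1 := by
    have h2 : y * (r * r') = (r * r') * y :=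
      h.ab.comm_Z hy (mul_mem (h.ab.A_le hr) (h.ab.B_le hr'))
    calc y * (r * r') * (y * (r' * r)) = ((r * r') * y) * (y * (r' * r)) := by rw [h2]
      _ = r * r' * (y * y) * r' * r := by group
      _ = r * (r' * r') * r := by rw [h.sqZ hy]; group
      _ = 1 := by rw [h.ab.B_sq r' hr', mul_one, h.ab.A_sq r hr]
  rw [e5, one_mul]

/-- An element of `T` commuting with the involution `w ∈ S ∖ T` lies in `Z`. -/
theorem mem_Z_of_comm [Finite G] (h : Up S T R₁ R₂) (hS : IsPGroup 2 S) {w t : G} (hw : w ∈ S) (hw' : w ∉ T)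
    (hw2 : w * w = 1) (ht : t ∈ T) (hc : t * w = w * t) : t ∈ R₁ ⊓ R₂ := by
  have e1 : w * t * w⁻¹ = t := by rw [← hc]; group
  -- squares of elements of `T` lie in `Z`
  have hsq : t * t ∈ R₁ ⊓ R₂ := by
    obtain ⟨a, ha, b, hb, rfl⟩ := h.ab.prod t ht
    have h1 := h.ab.comm_mem (h.ab.A_le ha) (h.ab.B_le hb)
    rw [inv_eq (h.ab.A_sq a ha), inv_eq (h.ab.B_sq b hb)] at h1
    have e : a * b * (a * b) = a * b * a * b := by group
    rw [e]; exact h1
  obtain ⟨r, hr, y, hy, e⟩ := h.shape hS hw hw' ht (by rw [e1]; exact hsq)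
  have hr' := (h.swap' hS hw hw').1 r hr
  have hyw : y * w = w * y := h.central y hy w hw
  have e4 : w * (w * r * w⁻¹) * w⁻¹ = r := by
    calc w * (w * r * w⁻¹) * w⁻¹ = (w * w) * r * (w * w)⁻¹ := by group
      _ = r := by rw [hw2]; group
  have e3 : w * t * w⁻¹ = y * ((w * r * w⁻¹) * r) := by
    rw [e]
    calc w * (y * (r * (w * r * w⁻¹))) * w⁻¹
        = (w * y) * r * (w * r * w⁻¹) * w⁻¹ := by group
      _ = y * (w * r * w⁻¹) * (w * (w * r * w⁻¹) * w⁻¹) := by rw [← hyw]; group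
      _ = y * ((w * r * w⁻¹) * r) := by rw [e4]; group
  rw [e1, e] at e3
  have e5 : r * (w * r * w⁻¹) = (w * r * w⁻¹) * r := mul_left_cancel e3
  have hr2 : r ∈ R₂ := by
    by_contra hr2
    have h1 := h.ab.centA r hr hr2 _ (h.ab.B_le hr') e5
    -- `r' ∈ R₁` gives `r ∈ R₂`
    have h2 := (h.swap' hS hw hw').1 _ h1
    rw [e4] at h2
    exact hr2 h2
  have h3 := (h.swap' hS hw hw').2 r hr2
  rw [e]
  exact mul_mem hy (mul_mem (mem_inf.2 ⟨hr, hr2⟩) (mem_inf.2 ⟨h3, hr'⟩))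

/-- Centralisers of involutions `u ∈ S ∖ Z` have order at most 16. -/
theorem card_cent_le [Finite G] (h : Up S T R₁ R₂) (hS : IsPGroup 2 S) {u : G} (hu : u ∈ S)
    (huZ : u ∉ R₁ ⊓ R₂) (hu2 : u * u = 1) {Q : Subgroup G} (hQ : Q ≤ S) (hc : ∀ x ∈ Q, x * u = u * x) :
    Nat.card Q ≤ 16 := by
  by_cases huT : u ∈ T
  · rcases h.ab.inv u huT hu2 with h1 | h1
    · have h2 : u ∉ R₂ := fun h2 => huZ (mem_inf.2 ⟨h1, h2⟩)
      have : Q ≤ R₁ := fun x hx => h.c1 u h1 h2 x (hQ hx) (hc x hx).symm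
      exact (Subgroup.card_le_of_le this).trans h.card1.le
    · have h2 : u ∉ R₁ := fun h2 => huZ (mem_inf.2 ⟨h2, h1⟩)
      have : Q ≤ R₂ := fun x hx => h.c2 u h1 h2 x (hQ hx) (hc x hx).symm
      exact (Subgroup.card_le_of_le this).trans h.card2.le
  · -- `Q ∩ T ≤ Z` has index at most two
    have hle : T ⊓ Q ≤ R₁ ⊓ R₂ := fun x hx =>
      h.mem_Z_of_comm hS hu huT hu2 (mem_inf.1 hx).1 (hc x (mem_inf.1 hx).2)
    have hcle : Nat.card (T.subgroupOf Q) ≤ 4 := by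
      rw [← h.cardZ]
      refine Nat.card_le_card_of_injective
        (fun x : T.subgroupOf Q => (⟨((x : Q) : G), hle (mem_inf.2 ⟨mem_subgroupOf.1 x.2, x.1.2⟩)⟩ :
          (R₁ ⊓ R₂ : Subgroup G))) ?_
      intro x y hxy
      have h1 : ((x : Q) : G) = ((y : Q) : G) := Subtype.mk.inj hxy
      exact Subtype.ext (Subtype.ext h1)
    have hidx : (T.subgroupOf Q).index ≤ 2 := by
      by_cases hQT : Q ≤ T
      · have : T.subgroupOf Q = ⊤ := by rw [subgroupOf_eq_top]; exact hQT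
        rw [this, index_top]; norm_num
      · obtain ⟨e, he, heT⟩ := SetLike.not_le_iff_exists.1 hQT
        apply le_of_eq
        rw [Subgroup.index_eq_two_iff]
        refine ⟨⟨e, he⟩, fun b => ?_⟩
        rw [mem_subgroupOf, mem_subgroupOf]
        change Xor ((b : G) * e ∈ T) ((b : G) ∈ T)
        by_cases hb : (b : G) ∈ T
        · exact Or.inr ⟨hb, fun h1 => heT (by simpa using mul_mem (inv_mem hb) h1)⟩
        · exact Or.inl ⟨h.mul_mem' hS (hQ b.2) hb (hQ he) heT, hb⟩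
    have := (T.subgroupOf Q).card_mul_index
    calc Nat.card Q = Nat.card (T.subgroupOf Q) * (T.subgroupOf Q).index := this.symm
      _ ≤ 4 * 2 := Nat.mul_le_mul hcle hidx
      _ ≤ 16 := by norm_num

/-- `|T| = 64`. -/
theorem card_T [Finite G] (h : Up S T R₁ R₂) : Nat.card T = 64 := by
  have h1 : (R₁.subgroupOf T).Normal := by
    refine ⟨fun n hn g => ?_⟩
    rw [mem_subgroupOf] at hn ⊢
    exact h.ab.conj_mem inf_le_left h.ab.A_le g.2 hn
  have hsup : R₂.subgroupOf T ⊔ R₁.subgroupOf T = ⊤ := by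
    rw [eq_top_iff]
    rintro ⟨t, ht⟩ -
    obtain ⟨a, ha, b, hb, rfl⟩ := h.ab.prod t ht
    have e : (⟨a * b, ht⟩ : T) = ⟨a, h.ab.A_le ha⟩ * ⟨b, h.ab.B_le hb⟩ := rfl
    rw [e]
    exact mul_mem (mem_sup_right (mem_subgroupOf.2 ha)) (mem_sup_left (mem_subgroupOf.2 hb))
  have h2 : (R₁.subgroupOf T).index = (R₁.subgroupOf T).relIndex (R₂.subgroupOf T) := by
    rw [← relIndex_sup_right, hsup, relIndex_top_right]
  have h3 : (R₁.subgroupOf T).relIndex (R₂.subgroupOf T) = R₁.relIndex R₂ := by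
    rw [relIndex_subgroupOf h.ab.B_le]
  have h4 : R₁.relIndex R₂ = (R₁ ⊓ R₂).relIndex R₂ := by rw [inf_relIndex_right]
  have h5 : Nat.card (R₁ ⊓ R₂ : Subgroup G) * (R₁ ⊓ R₂).relIndex R₂ = Nat.card R₂ := by
    rw [← Nat.card_congr (Subgroup.subgroupOfEquivOfLe (inf_le_right : R₁ ⊓ R₂ ≤ R₂)).toEquiv]
    exact Subgroup.card_mul_index _
  have h6 := (R₁.subgroupOf T).card_mul_index
  rw [Nat.card_congr (Subgroup.subgroupOfEquivOfLe h.ab.A_le).toEquiv, h.card1, h2, h3, h4] at h6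
  rw [h.cardZ, h.card2] at h5
  omega

end Up

/-- The group of elements of `N(Z)` fixing the coset `Z v`. -/
def cosetStab (Z : Subgroup G) (v : G) : Subgroup G where
  carrier := {m | m ∈ normalizer (Z : Set G) ∧ m * v * m⁻¹ * v⁻¹ ∈ Z}
  one_mem' := ⟨one_mem _, by simp [Z.one_mem]⟩
  mul_mem' := by
    rintro a b ⟨ha1, ha2⟩ ⟨hb1, hb2⟩
    refine ⟨mul_mem ha1 hb1, ?_⟩
    have e : a * b * v * (a * b)⁻¹ * v⁻¹ = a * (b * v * b⁻¹ * v⁻¹) * a⁻¹ * (a * v * a⁻¹ * v⁻¹) := by group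
    rw [e]
    exact mul_mem ((mem_normalizer_iff.1 ha1 _).1 hb2) ha2
  inv_mem' := by
    rintro a ⟨ha1, ha2⟩
    refine ⟨inv_mem ha1, ?_⟩
    have e : a⁻¹ * v * a⁻¹⁻¹ * v⁻¹ = a⁻¹ * (a * v * a⁻¹ * v⁻¹)⁻¹ * a⁻¹⁻¹ := by group
    rw [e]
    exact (mem_normalizer_iff.1 (inv_mem ha1) _).1 (inv_mem ha2)

section Main

variable [Finite G] {S : Sylow 2 G} {T R₁ R₂ : Subgroup G}

/-- Frattini: the fixed-point-free action on `Z` is induced by an element of `N(S)`. -/
theorem exists_normalizer {Z : Subgroup G} (hZ : ∀ a ∈ Z, ∀ s ∈ (S : Subgroup G), a * s = s * a)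
    {n : G} (hn : n ∈ normalizer (Z : Set G)) :
    ∃ k ∈ normalizer ((S : Subgroup G) : Set G), k ∈ normalizer (Z : Set G) ∧
      ∀ a ∈ Z, k * a * k⁻¹ = n * a * n⁻¹ := by
  haveI : Fact (Nat.Prime 2) := ⟨Nat.prime_two⟩
  have hSC : (S : Subgroup G) ≤ centralizer (Z : Set G) := by
    intro s hs
    rw [mem_centralizer_iff]
    intro a ha
    exact hZ a ha s hs
  have hD : (S : Subgroup G).map (MulAut.conj n).toMonoidHom ≤ centralizer (Z : Set G) := by
    rintro _ ⟨s, hs, rfl⟩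
    rw [mem_centralizer_iff]
    intro a ha
    have h1 : n⁻¹ * a * n ∈ Z := by
      have := (mem_normalizer_iff.1 (inv_mem hn) a).1 ha
      rwa [inv_inv] at this
    have h2 := hZ _ h1 s hs
    change a * (n * s * n⁻¹) = n * s * n⁻¹ * a
    calc a * (n * s * n⁻¹) = n * (n⁻¹ * a * n * s) * n⁻¹ := by group
      _ = n * s * n⁻¹ * a := by rw [h2]; group
  obtain ⟨c, hc, hcle⟩ := exists_conj_le_in (p := 2) S.isPGroup'
    (fun h => S.not_dvd_index (h.trans (relIndex_dvd_index_of_le hSC))) hD (S.isPGroup'.map _)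
  rw [map_conj_map_conj] at hcle
  refine ⟨c * n, mem_normalizer_iff_map_conj.2 (map_conj_le_of_le_normalizer hcle),
    mul_mem (centralizer_le_normalizer _ hc) hn, fun a ha => ?_⟩
  have h1 : n * a * n⁻¹ ∈ Z := (mem_normalizer_iff.1 hn a).1 ha
  have h2 := (mem_centralizer_iff.1 hc) _ h1
  calc c * n * a * (c * n)⁻¹ = c * (n * a * n⁻¹) * c⁻¹ := by group
    _ = n * a * n⁻¹ := by rw [← h2]; group

variable (hU : Up (S : Subgroup G) T R₁ R₂)

include hU

/-- There is an involution in `S ∖ T`. -/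
theorem exists_involution {n : G} (hn : n ∈ normalizer ((R₁ ⊓ R₂ : Subgroup G) : Set G))
    (hfix : ∀ a ∈ R₁ ⊓ R₂, n * a * n⁻¹ = a → a = 1) (hTS : T ≠ S) :
    ∃ w ∈ (S : Subgroup G), w ∉ T ∧ w * w = 1 := by
  have hS := S.isPGroup'
  obtain ⟨w₀, hw₀, hw₀'⟩ := SetLike.exists_of_lt (lt_of_le_of_ne hU.le hTS)
  obtain ⟨w, hw, hwT, hwZ⟩ := hU.exists_sq_mem hS hw₀ hw₀'
  refine ⟨w, hw, hwT, ?_⟩
  obtain ⟨k, hk, hkZ, hka⟩ := exists_normalizer (S := S) hU.central hn
  have hkS : ∀ s ∈ (S : Subgroup G), k * s * k⁻¹ ∈ (S : Subgroup G) := fun s hs =>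
    (mem_normalizer_iff.1 hk s).1 hs
  -- `k` normalises `T`
  have key : ∀ R : Subgroup G, R ≤ T → (∀ r ∈ R, r * r = 1) → Nat.card R = 16 →
      ∀ r ∈ R, k * r * k⁻¹ ∈ T := by
    intro R hR hsq hc r hr
    have h2 : R.map (MulAut.conj k).toMonoidHom ≤ T := by
      apply hU.elem_le
      · rintro _ ⟨x, hx, rfl⟩
        exact hkS x (hU.le (hR hx))
      · rintro _ ⟨x, hx, rfl⟩
        rw [← map_mul, hsq x hx, map_one]
      · rw [card_map_conj]; exact hc
      · rintro _ ⟨x, hx, rfl⟩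
        exact hU.normal hS _ (hkS x (hU.le (hR hx)))
    exact h2 ⟨r, hr, rfl⟩
  have hkT : ∀ t ∈ T, k * t * k⁻¹ ∈ T :=
    hU.conj_T (key R₁ hU.ab.A_le hU.ab.A_sq hU.card1) (key R₂ hU.ab.B_le hU.ab.B_sq hU.card2)
  have hkT' := conj_inv_mem (R := T) (R' := T) rfl hkT
  have h1 : k * w * k⁻¹ ∉ T := by
    intro h1
    apply hwT
    have := hkT' _ h1
    have e : k⁻¹ * (k * w * k⁻¹) * k = w := by group
    rwa [e] at this
  have e1 : (k * w * k⁻¹) * (k * w * k⁻¹) = k * (w * w) * k⁻¹ := by group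
  have h2 : (k * w * k⁻¹) * (k * w * k⁻¹) ∈ R₁ ⊓ R₂ := by
    rw [e1]
    exact (mem_normalizer_iff.1 hkZ _).1 hwZ
  have h3 := hU.sq_eq hS hw hwT hwZ (hkS w hw) h1 h2
  rw [e1, hka _ hwZ] at h3
  exact hfix _ hwZ h3

variable (hsc : Cfsg.IsStronglyClosed (R₁ ⊓ R₂) (S : Subgroup G))

include hsc

/-- 2-subgroups centralising a non-2-central involution have order at most 16. -/
theorem card_le_sixteen {u : G} (hu : u ∈ (S : Subgroup G)) (huZ : u ∉ R₁ ⊓ R₂) (hu2 : u * u = 1)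
    {R : Subgroup G} (hR : IsPGroup 2 R) (huR : u ∈ R) (hc : ∀ x ∈ R, x * u = u * x) :
    Nat.card R ≤ 16 := by
  haveI : Fact (Nat.Prime 2) := ⟨Nat.prime_two⟩
  obtain ⟨P, hP⟩ := hR.exists_le_sylow
  obtain ⟨x, hx⟩ := MulAction.exists_smul_eq G P S
  have hxS : ∀ y ∈ (P : Subgroup G), x * y * x⁻¹ ∈ (S : Subgroup G) := by
    intro y hy
    rw [← hx]
    exact ⟨y, hy, rfl⟩
  have h1 : x * u * x⁻¹ ∉ R₁ ⊓ R₂ := by
    intro h1
    apply huZ
    have := hsc.2 _ h1 x⁻¹ (by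
      have e : x⁻¹ * (x * u * x⁻¹) * x⁻¹⁻¹ = u := by group
      rw [e]; exact hu)
    have e : x⁻¹ * (x * u * x⁻¹) * x⁻¹⁻¹ = u := by group
    rwa [e] at this
  rw [← card_map_conj R x]
  apply hU.card_cent_le S.isPGroup' (hxS u (hP huR)) h1
  · calc x * u * x⁻¹ * (x * u * x⁻¹) = x * (u * u) * x⁻¹ := by group
      _ = 1 := by rw [hu2]; group
  · rintro _ ⟨y, hy, rfl⟩
    exact hxS y (hP hy)
  · rintro _ ⟨y, hy, rfl⟩
    change x * y * x⁻¹ * (x * u * x⁻¹) = x * u * x⁻¹ * (x * y * x⁻¹)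
    calc x * y * x⁻¹ * (x * u * x⁻¹) = x * (y * u) * x⁻¹ := by group
      _ = x * u * x⁻¹ * (x * y * x⁻¹) := by rw [hc y hy]; group

/-- A 2-subgroup containing `Z` centralises `Z`. -/
theorem comm_of_isPGroup {R : Subgroup G} (hR : IsPGroup 2 R) (hZR : R₁ ⊓ R₂ ≤ R) :
    ∀ z ∈ R₁ ⊓ R₂, ∀ r ∈ R, z * r = r * z := by
  haveI : Fact (Nat.Prime 2) := ⟨Nat.prime_two⟩
  obtain ⟨P, hP⟩ := hR.exists_le_sylow
  obtain ⟨x, hx⟩ := MulAction.exists_smul_eq G P S
  have hxS : ∀ y ∈ (P : Subgroup G), x * y * x⁻¹ ∈ (S : Subgroup G) := by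
    intro y hy
    rw [← hx]
    exact ⟨y, hy, rfl⟩
  intro z hz r hr
  have h1 : x * z * x⁻¹ ∈ R₁ ⊓ R₂ := hsc.2 z hz x (hxS z (hP (hZR hz)))
  have h2 := hU.central _ h1 _ (hxS r (hP hr))
  have h3 : x * (z * r) * x⁻¹ = x * (r * z) * x⁻¹ := by
    calc x * (z * r) * x⁻¹ = x * z * x⁻¹ * (x * r * x⁻¹) := by group
      _ = x * (r * z) * x⁻¹ := by rw [h2]; group
  exact mul_left_cancel (mul_right_cancel h3)

/-- If `w ∈ S` is conjugate to an element `v` of `R₁ ∖ R₂`, it is so under `N(Z)`. -/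
theorem exists_conj_normalizer {w g : G} (hwS : w ∈ (S : Subgroup G)) (h1 : g * w * g⁻¹ ∈ R₁)
    (h2 : g * w * g⁻¹ ∉ R₂) :
    ∃ k ∈ normalizer ((R₁ ⊓ R₂ : Subgroup G) : Set G), k * w * k⁻¹ = g * w * g⁻¹ := by
  haveI : Fact (Nat.Prime 2) := ⟨Nat.prime_two⟩
  set v := g * w * g⁻¹ with hv
  have hvZ : v ∉ R₁ ⊓ R₂ := fun h => h2 (mem_inf.1 h).2
  have hvS : v ∈ (S : Subgroup G) := hU.le (hU.ab.A_le h1)
  have hRle : R₁ ≤ centralizer ({v} : Set G) := by
    intro r hr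
    rw [mem_centralizer_singleton_iff]
    exact hU.ab.A_comm r hr v h1
  have hRp : IsPGroup 2 R₁ := S.isPGroup'.to_le (hU.ab.A_le.trans hU.le)
  obtain ⟨R, hR1, hR2, hR3, hR4⟩ := exists_sylow_in (p := 2) hRle hRp
  have hcard := card_le_sixteen hU hsc hvS hvZ (hU.ab.A_sq v h1) hR3 (hR1 h1)
    (fun x hx => mem_centralizer_singleton_iff.1 (hR2 hx))
  have hRR : R₁ = R := Subgroup.eq_of_le_of_card_ge hR1 (by rw [hU.card1]; exact hcard)
  rw [← hRR] at hR4
  have hD : (R₁ ⊓ R₂).map (MulAut.conj g).toMonoidHom ≤ centralizer ({v} : Set G) := by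
    rintro _ ⟨z, hz, rfl⟩
    rw [mem_centralizer_singleton_iff]
    have h3 := hU.central z hz w hwS
    change g * z * g⁻¹ * v = v * (g * z * g⁻¹)
    calc g * z * g⁻¹ * v = g * (z * w) * g⁻¹ := by rw [hv]; group
      _ = v * (g * z * g⁻¹) := by rw [h3, hv]; group
  obtain ⟨c, hc, hcle⟩ := exists_conj_le_in (p := 2) hRp hR4 hD
    ((S.isPGroup'.to_le hU.Z_le).map _)
  rw [map_conj_map_conj] at hcle
  refine ⟨c * g, ?_, ?_⟩
  · rw [mem_normalizer_iff_map_conj]
    apply map_conj_le_of_le_normalizer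
    rintro _ ⟨z, hz, rfl⟩
    exact hsc.2 z hz (c * g) (hU.le (hU.ab.A_le (hcle ⟨z, hz, rfl⟩)))
  · have h3 := mem_centralizer_singleton_iff.1 hc
    calc c * g * w * (c * g)⁻¹ = (c * v) * c⁻¹ := by rw [hv]; group
      _ = v := by rw [h3]; group

/-- `T` is a Sylow 2-subgroup of the stabiliser of `Z v`, `v ∈ R₁ ∖ R₂`. -/
theorem not_dvd_relIndex {v : G} (h1 : v ∈ R₁) (h2 : v ∉ R₂) :
    T ≤ cosetStab (R₁ ⊓ R₂) v ∧ ¬ 2 ∣ T.relIndex (cosetStab (R₁ ⊓ R₂) v) := by
  haveI : Fact (Nat.Prime 2) := ⟨Nat.prime_two⟩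
  have hvZ : v ∉ R₁ ⊓ R₂ := fun h => h2 (mem_inf.1 h).2
  have hvT : v ∈ T := hU.ab.A_le h1
  have hTM : T ≤ cosetStab (R₁ ⊓ R₂) v := fun t ht =>
    ⟨hU.ab.S_le_normalizer_Z ht, hU.ab.comm_mem ht hvT⟩
  refine ⟨hTM, ?_⟩
  obtain ⟨R, hR1, hR2, hR3, hR4⟩ := exists_sylow_in (p := 2) hTM (S.isPGroup'.to_le hU.le)
  have hcomm := comm_of_isPGroup hU hsc hR3 (hU.ab.Z_le.trans hR1)
  let ψ : R →* (R₁ ⊓ R₂ : Subgroup G) :=
    { toFun := fun r => ⟨(r : G) * v * (r : G)⁻¹ * v⁻¹, (hR2 r.2).2⟩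
      map_one' := Subtype.ext (by simp only [_root_.OneMemClass.coe_one, _root_.one_mul, _root_.inv_one, _root_.mul_one, _root_.mul_inv_cancel])
      map_mul' := by
        intro x y
        apply Subtype.ext
        change (x : G) * y * v * ((x : G) * y)⁻¹ * v⁻¹ =
          ((x : G) * v * (x : G)⁻¹ * v⁻¹) * ((y : G) * v * (y : G)⁻¹ * v⁻¹)
        have h3 := hcomm _ (hR2 y.2).2 x x.2
        have h4 := hcomm _ (hR2 y.2).2 ((x : G) * v * (x : G)⁻¹ * v⁻¹) (hR1 (hU.ab.Z_le (hR2 x.2).2))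
        calc (x : G) * y * v * ((x : G) * y)⁻¹ * v⁻¹
            = x * ((y : G) * v * (y : G)⁻¹ * v⁻¹) * (v * (x : G)⁻¹ * v⁻¹) := by group
          _ = ((y : G) * v * (y : G)⁻¹ * v⁻¹) * ((x : G) * v * (x : G)⁻¹ * v⁻¹) := by rw [← h3]; group
          _ = _ := h4 }
  have hψ : ∀ x : R, ((ψ x : (R₁ ⊓ R₂ : Subgroup G)) : G) = (x : G) * v * (x : G)⁻¹ * v⁻¹ := fun _ => rfl
  have hker : Nat.card ψ.ker ≤ 16 := by
    have h3 : Nat.card (ψ.ker.map R.subtype) ≤ 16 := by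
      apply card_le_sixteen hU hsc (hU.le hvT) hvZ (hU.ab.A_sq v h1)
      · exact hR3.to_le (Subgroup.map_subtype_le _)
      · refine ⟨⟨v, hR1 hvT⟩, ?_, rfl⟩
        rw [SetLike.mem_coe, MonoidHom.mem_ker]
        apply Subtype.ext
        rw [hψ]; simp
      · rintro _ ⟨x, hx, rfl⟩
        have h4 : (x : G) * v * (x : G)⁻¹ * v⁻¹ = 1 := by
          rw [← hψ, MonoidHom.mem_ker.1 hx]; rfl
        change (x : G) * v = v * x
        calc (x : G) * v = (x : G) * v * (x : G)⁻¹ * v⁻¹ * (v * x) := by group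
          _ = v * x := by rw [h4, one_mul]
    rwa [Subgroup.card_map_of_injective R.subtype_injective] at h3
  have hrange : Nat.card ψ.range ≤ 4 := by
    rw [← hU.cardZ]
    exact Subgroup.card_le_card_group _
  have hcard : Nat.card R = Nat.card ψ.ker * Nat.card ψ.range := by
    rw [← Subgroup.index_ker, Subgroup.card_mul_index]
  have hle : Nat.card R ≤ 64 := by
    rw [hcard]
    calc Nat.card ψ.ker * Nat.card ψ.range ≤ 16 * 4 := Nat.mul_le_mul hker hrange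
      _ = 64 := by norm_num
  have hTR : T = R := Subgroup.eq_of_le_of_card_ge hR1 (by rw [hU.card_T]; exact hle)
  rw [← hTR] at hR4
  exact hR4

/-- **`T = S`.** -/
theorem eq_of_no_index_two (hidx : ∀ K : Subgroup G, K.index ≠ 2) {n : G}
    (hn : n ∈ normalizer ((R₁ ⊓ R₂ : Subgroup G) : Set G))
    (hfix : ∀ a ∈ R₁ ⊓ R₂, n * a * n⁻¹ = a → a = 1) : T = S := by
  haveI : Fact (Nat.Prime 2) := ⟨Nat.prime_two⟩
  by_contra hTS
  have hS := S.isPGroup'
  obtain ⟨w, hw, hwT, hw2⟩ := exists_involution hU hn hfix hTS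
  have hsw := hU.swap' hS hw hwT
  -- transfer
  have hrel : T.relIndex (S : Subgroup G) = 2 := by
    rw [relIndex, Subgroup.index_eq_two_iff]
    refine ⟨⟨w, hw⟩, fun b => ?_⟩
    rw [mem_subgroupOf, mem_subgroupOf]
    change Xor ((b : G) * w ∈ T) ((b : G) ∈ T)
    by_cases hb : (b : G) ∈ T
    · exact Or.inr ⟨hb, fun h1 => hwT (by simpa using mul_mem (inv_mem hb) h1)⟩
    · exact Or.inl ⟨hU.mul_mem' hS b.2 hb hw hwT, hb⟩
  obtain ⟨g, hg⟩ : ∃ g : G, g * w * g⁻¹ ∈ T := by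
    rcases Cfsg.Agent.Transfer.ThompsonTransfer.thompson_transfer S T hU.le hrel w
      (by rw [pow_two]; exact hw2) with ⟨K, _, hK, _⟩ | h1
    · exact absurd hK (hidx K)
    · exact h1
  have hgZ : g * w * g⁻¹ ∉ R₁ ⊓ R₂ := by
    intro h1
    apply hwT
    have e : g⁻¹ * (g * w * g⁻¹) * g⁻¹⁻¹ = w := by group
    have := hsc.2 _ h1 g⁻¹ (by rw [e]; exact hw)
    rw [e] at this
    exact hU.ab.Z_le this
  have hg2 : g * w * g⁻¹ * (g * w * g⁻¹) = 1 := by
    calc g * w * g⁻¹ * (g * w * g⁻¹) = g * (w * w) * g⁻¹ := by group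
      _ = 1 := by rw [hw2]; group
  -- without loss of generality the conjugate lies in `R₁`
  obtain ⟨g, hg1, hg2⟩ : ∃ g : G, g * w * g⁻¹ ∈ R₁ ∧ g * w * g⁻¹ ∉ R₂ := by
    rcases hU.ab.inv _ hg hg2 with h1 | h1
    · exact ⟨g, h1, fun h2 => hgZ (mem_inf.2 ⟨h1, h2⟩)⟩
    · refine ⟨w * g, ?_, ?_⟩
      · have h3 := hsw.2 _ h1
        have e : w * g * w * (w * g)⁻¹ = w * (g * w * g⁻¹) * w⁻¹ := by group
        rw [e]; exact h3
      · intro h3
        have h4 := hsw.2 _ h3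
        have e : w * (w * g * w * (w * g)⁻¹) * w⁻¹ = g * w * g⁻¹ := by
          calc w * (w * g * w * (w * g)⁻¹) * w⁻¹ = (w * w) * (g * w * g⁻¹) * (w * w)⁻¹ := by group
            _ = g * w * g⁻¹ := by rw [hw2]; group
        rw [e] at h4
        exact hgZ (mem_inf.2 ⟨h4, h1⟩)
  obtain ⟨k, hkZ, hk⟩ := exists_conj_normalizer hU hsc hw hg1 hg2
  rw [← hk] at hg1 hg2
  clear hk hg hgZ
  set v := k * w * k⁻¹ with hv
  have hvv : v * v = 1 := hU.ab.A_sq v hg1
  obtain ⟨hTM, hTi⟩ := not_dvd_relIndex hU hsc hg1 hg2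
  -- the group `D = N_T(Z⟨w⟩)`
  set D : Subgroup G := T ⊓ cosetStab (R₁ ⊓ R₂) w with hD
  have hDM : D.map (MulAut.conj k).toMonoidHom ≤ cosetStab (R₁ ⊓ R₂) v := by
    rintro _ ⟨t, ht, rfl⟩
    obtain ⟨-, ht1, ht2⟩ := mem_inf.1 ht
    refine ⟨mul_mem (mul_mem hkZ ht1) (inv_mem hkZ), ?_⟩
    have h3 := (mem_normalizer_iff.1 hkZ _).1 ht2
    change k * t * k⁻¹ * v * (k * t * k⁻¹)⁻¹ * v⁻¹ ∈ R₁ ⊓ R₂
    have e : k * t * k⁻¹ * v * (k * t * k⁻¹)⁻¹ * v⁻¹ = k * (t * w * t⁻¹ * w⁻¹) * k⁻¹ := by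
      rw [hv]; group
    rw [e]; exact h3
  have hDp : IsPGroup 2 D := hS.to_le (inf_le_left.trans hU.le)
  obtain ⟨m, hm, hmle⟩ := exists_conj_le_in (p := 2) (hS.to_le hU.le) hTi hDM (hDp.map _)
  rw [map_conj_map_conj] at hmle
  -- the new conjugating element `l = m k`
  have hlZ : m * k ∈ normalizer ((R₁ ⊓ R₂ : Subgroup G) : Set G) := mul_mem hm.1 hkZ
  set l := m * k with hl
  set u := l * w * l⁻¹ with hu
  have huv : ∃ z ∈ R₁ ⊓ R₂, u = z * v := by
    refine ⟨m * v * m⁻¹ * v⁻¹, hm.2, ?_⟩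
    rw [hu, hl, hv]; group
  have hu1 : u ∈ R₁ := by
    obtain ⟨z, hz, e⟩ := huv
    rw [e]; exact mul_mem (mem_inf.1 hz).1 hg1
  have hu2 : u ∉ R₂ := by
    obtain ⟨z, hz, e⟩ := huv
    intro h1
    apply hg2
    have e' : v = z⁻¹ * u := by rw [e]; group
    rw [e']; exact mul_mem (inv_mem (mem_inf.1 hz).2) h1
  -- the elements `r r^w`
  have hinv : ∀ r ∈ R₁, w * (r * (w * r * w⁻¹)) * w⁻¹ = (r * (w * r * w⁻¹))⁻¹ := by
    intro r hr
    have h1 := hsw.1 r hr
    rw [mul_inv_rev, Up.inv_eq (hU.ab.A_sq r hr), Up.inv_eq (hU.ab.B_sq _ h1)]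
    calc w * (r * (w * r * w⁻¹)) * w⁻¹ = (w * r * w⁻¹) * ((w * w) * r * (w * w)⁻¹) := by group
      _ = w * r * w⁻¹ * r := by rw [hw2]; group
  have hmemD : ∀ r ∈ R₁, r * (w * r * w⁻¹) ∈ D := by
    intro r hr
    have h1 := hsw.1 r hr
    have hT1 : r * (w * r * w⁻¹) ∈ T := mul_mem (hU.ab.A_le hr) (hU.ab.B_le h1)
    refine mem_inf.2 ⟨hT1, hU.ab.S_le_normalizer_Z hT1, ?_⟩
    have e : r * (w * r * w⁻¹) * w * (r * (w * r * w⁻¹))⁻¹ * w⁻¹ =
        r * (w * r * w⁻¹) * (w * (r * (w * r * w⁻¹)) * w⁻¹)⁻¹ := by group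
    rw [e, hinv r hr, inv_inv]
    have h3 := hU.ab.comm_mem (hU.ab.A_le hr) (hU.ab.B_le h1)
    rw [Up.inv_eq (hU.ab.A_sq r hr), Up.inv_eq (hU.ab.B_sq _ h1)] at h3
    have e2 : r * (w * r * w⁻¹) * (r * (w * r * w⁻¹)) = r * (w * r * w⁻¹) * r * (w * r * w⁻¹) := by group
    rw [e2]; exact h3
  have key : ∀ r ∈ R₁, r ∉ R₂ → ∃ b ∈ R₂, l * (r * (w * r * w⁻¹)) * l⁻¹ = u * b := by
    intro r hr hr2
    have h1 := hsw.1 r hr
    have hf : l * (r * (w * r * w⁻¹)) * l⁻¹ ∈ T := hmle ⟨_, hmemD r hr, rfl⟩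
    obtain ⟨a, ha, b, hb, hab⟩ := hU.ab.prod _ hf
    -- `u` inverts `a b`
    have e1 : u * (a * b) * u⁻¹ = (a * b)⁻¹ := by
      rw [hab, hu]
      calc l * w * l⁻¹ * (l * (r * (w * r * w⁻¹)) * l⁻¹) * (l * w * l⁻¹)⁻¹
          = l * (w * (r * (w * r * w⁻¹)) * w⁻¹) * l⁻¹ := by group
        _ = (l * (r * (w * r * w⁻¹)) * l⁻¹)⁻¹ := by rw [hinv r hr]; group
    have e2 : (a * u) * b = b * (a * u) := by
      have hua : u * a = a * u := hU.ab.A_comm u hu1 a ha
      rw [mul_inv_rev a b, Up.inv_eq (hU.ab.A_sq a ha), Up.inv_eq (hU.ab.B_sq b hb)] at e1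
      calc (a * u) * b = (u * a) * b := by rw [hua]
        _ = (u * (a * b) * u⁻¹) * u := by group
        _ = b * (a * u) := by rw [e1]; group
    by_cases hbR : b ∈ R₁
    · exfalso
      -- then `r r^w` is an involution
      have h3 : l * (r * (w * r * w⁻¹)) * l⁻¹ ∈ R₁ := by rw [← hab]; exact mul_mem ha hbR
      have h4 := hU.ab.A_sq _ h3
      have h5 : (r * (w * r * w⁻¹)) * (r * (w * r * w⁻¹)) = 1 := by
        calc (r * (w * r * w⁻¹)) * (r * (w * r * w⁻¹)) =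
            l⁻¹ * (l * (r * (w * r * w⁻¹)) * l⁻¹ * (l * (r * (w * r * w⁻¹)) * l⁻¹)) * l := by group
          _ = 1 := by rw [h4]; group
      have h6 : r * (w * r * w⁻¹) = (w * r * w⁻¹) * r := by
        have h7 := inv_eq_of_mul_eq_one_right h5
        rw [mul_inv_rev, Up.inv_eq (hU.ab.A_sq r hr), Up.inv_eq (hU.ab.B_sq _ h1)] at h7
        exact h7.symm
      have h7 := hU.ab.centA r hr hr2 _ (hU.ab.B_le h1) h6
      have h8 := hsw.1 _ h7
      have e : w * (w * r * w⁻¹) * w⁻¹ = r := by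
        calc w * (w * r * w⁻¹) * w⁻¹ = (w * w) * r * (w * w)⁻¹ := by group
          _ = r := by rw [hw2]; group
      rw [e] at h8
      exact hr2 h8
    · have h3 : a * u ∈ R₂ := hU.ab.centB b hb hbR _ (mul_mem (hU.ab.A_le ha) (hU.ab.A_le hu1)) e2.symm
      refine ⟨u⁻¹ * a * b, ?_, by rw [← hab]; group⟩
      apply mul_mem _ hb
      have hua : u * a = a * u := hU.ab.A_comm u hu1 a ha
      rw [Up.inv_eq (hU.ab.A_sq u hu1), hua]
      exact h3
  -- choose `r₁, r₂`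
  obtain ⟨r₁, hr₁, r₂, hr₂, h1, h2, h12⟩ : ∃ r₁ ∈ R₁, ∃ r₂ ∈ R₁, r₁ ∉ R₂ ∧ r₂ ∉ R₂ ∧ r₁ * r₂ ∉ R₂ := by
    by_contra hcon
    push Not at hcon
    have hidx2 : (R₂.subgroupOf R₁).index = 2 := by
      rw [Subgroup.index_eq_two_iff]
      refine ⟨⟨u, hu1⟩, fun b => ?_⟩
      rw [mem_subgroupOf, mem_subgroupOf]
      change Xor ((b : G) * u ∈ R₂) ((b : G) ∈ R₂)
      by_cases hb : (b : G) ∈ R₂
      · exact Or.inr ⟨hb, fun h1 => hu2 (by simpa using mul_mem (inv_mem hb) h1)⟩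
      · exact Or.inl ⟨hcon _ b.2 _ hu1 hb hu2, hb⟩
    have h3 := (R₂.subgroupOf R₁).card_mul_index
    have h4 : Nat.card (R₂.subgroupOf R₁) = 4 := by
      rw [← hU.cardZ, ← Nat.card_congr (Subgroup.subgroupOfEquivOfLe (inf_le_left : R₁ ⊓ R₂ ≤ R₁)).toEquiv]
      congr 1
      rw [inf_subgroupOf_left]
    rw [h4, hidx2, hU.card1] at h3
    omega
  obtain ⟨b₁, hb₁, e₁⟩ := key r₁ hr₁ h1
  obtain ⟨b₂, hb₂, e₂⟩ := key r₂ hr₂ h2
  obtain ⟨b₃, hb₃, e₃⟩ := key (r₁ * r₂) (mul_mem hr₁ hr₂) h12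
  have h1' := hsw.1 r₁ hr₁
  have h2' := hsw.1 r₂ hr₂
  -- `t₁ t₂ = z t₃`
  obtain ⟨z, hz, hzc⟩ := hU.ab.exists_comm (hU.ab.B_le h1') (hU.ab.A_le hr₂)
  have e4 : r₁ * (w * r₁ * w⁻¹) * (r₂ * (w * r₂ * w⁻¹)) =
      z * (r₁ * r₂ * (w * (r₁ * r₂) * w⁻¹)) := by
    have hz1 := hU.ab.comm_Z hz (mul_mem (hU.ab.A_le hr₁) (hU.ab.A_le hr₂))
    have hz2 := hU.ab.comm_Z hz (hU.ab.B_le h1')
    calc r₁ * (w * r₁ * w⁻¹) * (r₂ * (w * r₂ * w⁻¹))
        = r₁ * ((w * r₁ * w⁻¹) * r₂) * (w * r₂ * w⁻¹) := by group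
      _ = r₁ * (r₂ * (w * r₁ * w⁻¹) * z) * (w * r₂ * w⁻¹) := by rw [hzc]
      _ = r₁ * r₂ * ((w * r₁ * w⁻¹) * z) * (w * r₂ * w⁻¹) := by group
      _ = (r₁ * r₂) * z * (w * r₁ * w⁻¹) * (w * r₂ * w⁻¹) := by rw [← hz2]; group
      _ = z * (r₁ * r₂ * (w * (r₁ * r₂) * w⁻¹)) := by rw [← hz1]; group
  have e5 : u * b₁ * (u * b₂) = (l * z * l⁻¹) * (u * b₃) := by
    rw [← e₁, ← e₂, ← e₃]
    calc l * (r₁ * (w * r₁ * w⁻¹)) * l⁻¹ * (l * (r₂ * (w * r₂ * w⁻¹)) * l⁻¹)
        = l * (r₁ * (w * r₁ * w⁻¹) * (r₂ * (w * r₂ * w⁻¹))) * l⁻¹ := by group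
      _ = _ := by rw [e4]; group
  have hlz : l * z * l⁻¹ ∈ R₁ ⊓ R₂ := (mem_normalizer_iff.1 hlZ _).1 hz
  have huu : u * u = 1 := hU.ab.A_sq u hu1
  have h6 : u * b₁ * (u * b₂) ∈ R₂ := by
    have h7 : u * b₁ * u⁻¹ ∈ R₂ := hU.ab.conj_mem inf_le_right hU.ab.B_le (hU.ab.A_le hu1) hb₁
    have e6 : u * b₁ * (u * b₂) = (u * b₁ * u⁻¹) * b₂ := by
      rw [Up.inv_eq huu]; group
    rw [e6]; exact mul_mem h7 hb₂
  rw [e5] at h6
  apply hu2
  have e7 : u = (l * z * l⁻¹)⁻¹ * (l * z * l⁻¹ * (u * b₃)) * b₃⁻¹ := by group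
  rw [e7]
  exact mul_mem (mul_mem (inv_mem (mem_inf.1 hlz).2) h6) (inv_mem hb₃)

end Main


end Cfsg.Agent.TwoFusion.GoldLFourUp
end

-- part: TwoFusion/GoldFourUpIn
section
/-!
# Goldschmidt's theorem, `|A| = 4`: recognition of the subgroups of type `PSL(3,4)`

`exists_up`: if the centralizers in `S` of the involutions outside `A` have order at most 16 and `P = C_S(u)` is
elementary of order 16, different from `S`, then `T = N_S(P)` is of type `PSL(3,4)`.
-/

set_option autoImplicit false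

namespace Cfsg.Agent.TwoFusion.GoldFourUpIn

open Subgroup
open Cfsg.Agent.Lib.GoldschmidtFusion

variable {G : Type*} [Group G] [Finite G]

section Loc

variable {S A P : Subgroup G}

/-- the hypotheses on `P` -/
structure Hyp (S A P : Subgroup G) : Prop where
  AP : A ≤ P
  PS : P ≤ S
  A4 : Nat.card A = 4
  P16 : Nat.card P = 16
  sq : ∀ x ∈ P, x * x = 1
  cen : ∀ a ∈ A, ∀ s ∈ S, a * s = s * a
  c : ∀ u ∈ P, u ∉ A → ∀ s ∈ S, s * u = u * s → s ∈ P

theorem Hyp.inv (h : Hyp S A P) {x : G} (hx : x ∈ P) : x⁻¹ = x := inv_eq_of_mul_eq_one_left (h.sq x hx)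

theorem Hyp.comm (h : Hyp S A P) {x y : G} (hx : x ∈ P) (hy : y ∈ P) : x * y = y * x := by
  have h1 := h.inv (mul_mem hx hy)
  rw [mul_inv_rev, h.inv hx, h.inv hy] at h1
  exact h1.symm

theorem Hyp.conjA (h : Hyp S A P) {a s : G} (ha : a ∈ A) (hs : s ∈ S) : s * a * s⁻¹ = a := by
  rw [← h.cen a ha s hs, mul_inv_cancel_right]

theorem Hyp.exists_not_mem (h : Hyp S A P) : ∃ g ∈ P, g ∉ A := by
  by_contra hcon
  push Not at hcon
  have h1 := Subgroup.card_le_of_le (show P ≤ A from hcon)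
  rw [h.A4, h.P16] at h1
  omega

/-- the four cosets -/
theorem Hyp.cosets (h : Hyp S A P) {g g' : G} (hg : g ∈ P) (hgA : g ∉ A) (hg' : g' ∈ P) (hgA' : g' ∉ A)
    (hgg : g' * g ∉ A) {p : G} (hp : p ∈ P) : p ∈ A ∨ p * g ∈ A ∨ p * g' ∈ A ∨ p * (g' * g) ∈ A := by
  classical
  let f : A × Bool × Bool → P := fun x =>
    ⟨x.1 * ((if x.2.1 then g else 1) * (if x.2.2 then g' else 1)), mul_mem (h.AP x.1.2) (mul_mem (by
      split_ifs
      · exact hg
      · exact one_mem _) (by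
      split_ifs
      · exact hg'
      · exact one_mem _))⟩
  have hfi : Function.Injective f := by
    rintro ⟨a, b, c⟩ ⟨a', b', c'⟩ e
    have e1 : (a : G) * ((if b then g else 1) * (if c then g' else 1)) =
        (a' : G) * ((if b' then g else 1) * (if c' then g' else 1)) := congrArg Subtype.val e
    have e2 : (a' : G)⁻¹ * a = ((if b' then g else 1) * (if c' then g' else 1)) *
        ((if b then g else 1) * (if c then g' else 1))⁻¹ := by
      have e3 : (a : G) = (a' : G) * ((if b' then g else 1) * (if c' then g' else 1)) *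
          ((if b then g else 1) * (if c then g' else 1))⁻¹ := by
        rw [← e1]; group
      rw [e3]; group
    have hA : ((if b' then g else 1) * (if c' then g' else 1)) *
        ((if b then g else 1) * (if c then g' else 1))⁻¹ ∈ A := by
      rw [← e2]; exact mul_mem (inv_mem a'.2) a.2
    have hgi := h.inv hg
    have hgi' := h.inv hg'
    have hgg2 : g * g' ∉ A := by rw [h.comm hg hg']; exact hgg
    have hi : ∀ z ∈ P, z ∉ A → z⁻¹ ∉ A := fun z _ hz hz' => hz (by simpa using inv_mem hz')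
    have hbc : b = b' ∧ c = c' := by
      have h1 := h.sq g hg
      have h2 := h.sq g' hg'
      have h3 : g * g' * g ∉ A := by
        rw [mul_assoc, h.comm hg' hg, ← mul_assoc, h1, one_mul]; exact hgA'
      have h4 : g * (g' * g) ∉ A := by rw [← mul_assoc]; exact h3
      have h5 : g * g' * g' ∉ A := by rw [mul_assoc, h2, mul_one]; exact hgA
      have h6 : g' * (g' * g) ∉ A := by rw [← mul_assoc, h2, one_mul]; exact hgA
      have h7 : g' * g * g ∉ A := by rw [mul_assoc, h1, mul_one]; exact hgA'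
      have h8 : g' * g * g' ∉ A := by rw [mul_assoc, ← h.comm hg' hg]; exact h6
      rcases b <;> rcases b' <;> rcases c <;> rcases c' <;>
        simp_all only [_root_.inv_mem_iff, _root_.not_false_eq_true, _root_.implies_true, _root_.Bool.false_eq_true, ↓ _root_.reduceIte, _root_.mul_one, _root_.SetLike.coe_eq_coe, _root_.inv_mul_cancel, _root_.inv_one, _root_.OneMemClass.one_mem, _root_.and_self, _root_.one_mul, _root_.inv_mul_cancel_left, _root_.mul_left_inj, _root_.mul_inv_rev]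
    obtain ⟨rfl, rfl⟩ := hbc
    have e3 : a = a' := Subtype.ext (mul_right_cancel e1)
    rw [e3]
  have hcard : Nat.card (A × Bool × Bool) = Nat.card P := by
    rw [Nat.card_prod, Nat.card_prod, h.A4, h.P16]
    simp
  have hsurj := ((Nat.bijective_iff_injective_and_card f).2 ⟨hfi, hcard⟩).2
  obtain ⟨⟨a, b, c⟩, e⟩ := hsurj ⟨p, hp⟩
  have e1 : (a : G) * ((if b then g else 1) * (if c then g' else 1)) = p := congrArg Subtype.val e
  have h1 := h.sq g hg
  have h2 := h.sq g' hg'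
  rcases b <;> rcases c
  · left
    simp only [Bool.false_eq_true, ↓reduceIte, mul_one] at e1
    rw [← e1]; exact a.2
  · right; right; left
    simp only [Bool.false_eq_true, ↓reduceIte, one_mul] at e1
    rw [← e1, mul_assoc, h2, mul_one]; exact a.2
  · right; left
    simp only [Bool.false_eq_true, ↓reduceIte, mul_one] at e1
    rw [← e1, mul_assoc, h1, mul_one]; exact a.2
  · right; right; right
    simp only [↓reduceIte] at e1
    have e2 : p * (g' * g) = a := by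
      rw [← e1]
      calc (a : G) * (g * g') * (g' * g) = a * (g * (g' * g') * g) := by group
        _ = a := by rw [h2, mul_one, h1, mul_one]
    rw [e2]; exact a.2

/-- a 2-element normalizing `P` fixes a coset of `A` -/
theorem Hyp.exists_fixed (h : Hyp S A P) (hS : IsPGroup 2 S) {n : G} (hn : n ∈ S)
    (hnP : ∀ p ∈ P, n * p * n⁻¹ ∈ P) : ∃ g ∈ P, g ∉ A ∧ n * g * n⁻¹ * g ∈ A := by
  by_contra hcon
  push Not at hcon
  obtain ⟨g, hg, hgA⟩ := h.exists_not_mem
  have hnA : ∀ a ∈ A, n * a * n⁻¹ ∈ A := fun a ha => by rw [h.conjA ha hn]; exact ha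
  have hout : ∀ z ∈ P, z ∉ A → n * z * n⁻¹ ∉ A := by
    intro z hz hzA hc
    apply hzA
    have h1 : n⁻¹ * (n * z * n⁻¹) * n⁻¹⁻¹ = n * z * n⁻¹ := h.conjA hc (inv_mem hn)
    have h2 : n⁻¹ * (n * z * n⁻¹) * n⁻¹⁻¹ = z := by group
    rw [← h2, h1]; exact hc
  set g' := n * g * n⁻¹ with hg'd
  have hg' : g' ∈ P := hnP g hg
  have hgA' : g' ∉ A := hout g hg hgA
  have hgg : g' * g ∉ A := hcon g hg hgA
  set k := n * g' * n⁻¹ with hkd
  have hk : k ∈ P := hnP g' hg'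
  have hkA : k ∉ A := hout g' hg' hgA'
  have hkg' : k * g' ∉ A := hcon g' hg' hgA'
  have hkg : k * g ∉ A := by
    intro hc
    apply hcon (g' * g) (mul_mem hg' hg) hgg
    have e : n * (g' * g) * n⁻¹ * (g' * g) = k * g := by
      calc n * (g' * g) * n⁻¹ * (g' * g) = (n * g' * n⁻¹) * ((n * g * n⁻¹) * g') * g := by group
        _ = k * (g' * g') * g := by rw [← hg'd, ← hkd]
        _ = k * g := by rw [h.sq g' hg', mul_one]
    rw [e]; exact hc
  have hkc : k * (g' * g) ∈ A := by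
    rcases h.cosets hg hgA hg' hgA' hgg hk with h1 | h1 | h1 | h1
    · exact absurd h1 hkA
    · exact absurd h1 hkg
    · exact absurd h1 hkg'
    · exact h1
  -- `n ^ 3` fixes the coset of `g`
  have h3 : n * k * n⁻¹ * g ∈ A := by
    have h4 := hnA _ hkc
    have e : n * (k * (g' * g)) * n⁻¹ = (n * k * n⁻¹ * g) * (g * k * g') := by
      calc n * (k * (g' * g)) * n⁻¹ = (n * k * n⁻¹) * ((n * g' * n⁻¹) * (n * g * n⁻¹)) := by group
        _ = (n * k * n⁻¹) * (k * g') := by rw [← hg'd, ← hkd]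
        _ = (n * k * n⁻¹) * ((g * g) * (k * g')) := by rw [h.sq g hg, one_mul]
        _ = (n * k * n⁻¹ * g) * (g * k * g') := by group
    rw [e] at h4
    have h5 : g * k * g' ∈ A := by
      have : g * k * g' = k * (g' * g) := by
        rw [h.comm hg hk, mul_assoc, h.comm hg hg']
      rw [this]; exact hkc
    exact (Subgroup.mul_mem_cancel_right _ h5).1 h4
  have hn3 : n ^ 3 * g * (n ^ 3)⁻¹ * g ∈ A := by
    have e : n ^ 3 * g * (n ^ 3)⁻¹ = n * k * n⁻¹ := by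
      rw [hkd, hg'd, pow_succ, pow_two]; group
    rw [e]; exact h3
  have hiter : ∀ m : ℕ, (n ^ 3) ^ m * g * ((n ^ 3) ^ m)⁻¹ * g ∈ A := by
    intro m
    induction m with
    | zero => simpa using (show g * g ∈ A by rw [h.sq g hg]; exact one_mem _)
    | succ m ih =>
      have h4 : n ^ 3 * ((n ^ 3) ^ m * g * ((n ^ 3) ^ m)⁻¹ * g) * (n ^ 3)⁻¹ ∈ A := by
        rw [h.conjA ih (pow_mem hn 3)]; exact ih
      have e : (n ^ 3) ^ (m + 1) * g * ((n ^ 3) ^ (m + 1))⁻¹ * g =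
          (n ^ 3 * ((n ^ 3) ^ m * g * ((n ^ 3) ^ m)⁻¹ * g) * (n ^ 3)⁻¹) *
          (n ^ 3 * g * (n ^ 3)⁻¹)⁻¹ * g := by
        rw [pow_succ' (n ^ 3) m]; group
      rw [e]
      have h5 : (n ^ 3 * g * (n ^ 3)⁻¹)⁻¹ * g ∈ A := by
        have e2 : (n ^ 3 * g * (n ^ 3)⁻¹)⁻¹ = n ^ 3 * g * (n ^ 3)⁻¹ := by
          have : n ^ 3 * g * (n ^ 3)⁻¹ = n * k * n⁻¹ := by
            rw [hkd, hg'd, pow_succ, pow_two]; group
          rw [this, h.inv (hnP k hk)]
        rw [e2]; exact hn3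
      rw [mul_assoc]
      exact mul_mem h4 h5
  obtain ⟨r, hr⟩ := hS ⟨n, hn⟩
  have hr' : n ^ 2 ^ r = 1 := by simpa using congrArg Subtype.val hr
  have hcop : (orderOf n).Coprime 3 :=
    Nat.Coprime.coprime_dvd_left (orderOf_dvd_of_pow_eq_one hr') (Nat.Coprime.pow_left r (by norm_num))
  obtain ⟨m, hm⟩ := exists_pow_eq_self_of_coprime hcop.symm
  have h4 := hiter m
  rw [hm] at h4
  exact hgg h4

/-- elements of `N_S(P)` centralize `P / A` -/
theorem Hyp.comm_mem (h : Hyp S A P) (hS : IsPGroup 2 S) {n : G} (hn : n ∈ S)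
    (hnP : ∀ p ∈ P, n * p * n⁻¹ ∈ P) {p : G} (hp : p ∈ P) : n * p * n⁻¹ * p ∈ A := by
  by_cases hnP' : n ∈ P
  · rw [h.comm hnP' hp, mul_inv_cancel_right, h.sq p hp]
    exact one_mem _
  obtain ⟨g, hg, hgA, hga⟩ := h.exists_fixed hS hn hnP
  set a := n * g * n⁻¹ * g with had
  have haP := h.AP hga
  have hng : n * g * n⁻¹ = a * g := by
    rw [had, mul_assoc (n * g * n⁻¹), h.sq g hg, mul_one]
  have haa := h.sq a haP
  have ha1 : a ≠ 1 := by
    intro e
    apply hnP'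
    apply h.c g hg hgA n hn
    rw [e, one_mul] at hng
    rwa [mul_inv_eq_iff_eq_mul] at hng
  have hn2 : n * n ∈ P := by
    apply h.c g hg hgA _ (mul_mem hn hn)
    have e : n * n * g * (n * n)⁻¹ = g := by
      calc n * n * g * (n * n)⁻¹ = n * (n * g * n⁻¹) * n⁻¹ := by group
        _ = n * (a * g) * n⁻¹ := by rw [hng]
        _ = (n * a * n⁻¹) * (n * g * n⁻¹) := by group
        _ = a * (a * g) := by rw [h.conjA hga hn, hng]
        _ = g := by rw [← mul_assoc, haa, one_mul]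
    rwa [mul_inv_eq_iff_eq_mul] at e
  by_contra hcon
  have hpA : p ∉ A := by
    intro hpA
    apply hcon
    rw [h.conjA hpA hn, h.sq p hp]; exact one_mem _
  have hgp : p * g ∉ A := by
    intro hc
    apply hcon
    have e : n * p * n⁻¹ * p = a := by
      have e1 : n * (p * g) * n⁻¹ = p * g := h.conjA hc hn
      have e2 : n * p * n⁻¹ = p * g * (a * g)⁻¹ := by
        rw [← hng, ← e1]; group
      rw [e2, mul_inv_rev, h.inv haP, h.inv hg, ← mul_assoc, mul_assoc p g g, h.sq g hg, mul_one,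
        h.comm hp haP, mul_assoc, h.sq p hp, mul_one]
    rw [e]; exact hga
  have hk := hnP p hp
  have hout : n * p * n⁻¹ ∉ A := by
    intro hc
    apply hpA
    have h1 : n⁻¹ * (n * p * n⁻¹) * n⁻¹⁻¹ = n * p * n⁻¹ := h.conjA hc (inv_mem hn)
    have h2 : n⁻¹ * (n * p * n⁻¹) * n⁻¹⁻¹ = p := by group
    rw [← h2, h1]; exact hc
  rcases h.cosets hg hgA hp hpA hgp hk with h1 | h1 | h1 | h1
  · exact hout h1
  · -- `n p n⁻¹ ∈ g A`
    apply hgp
    have e : n * (p * g) * n⁻¹ = (n * p * n⁻¹ * g) * a := by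
      calc n * (p * g) * n⁻¹ = (n * p * n⁻¹) * (n * g * n⁻¹) := by group
        _ = (n * p * n⁻¹) * (a * g) := by rw [hng]
        _ = (n * p * n⁻¹) * (g * a) := by rw [h.comm haP hg]
        _ = (n * p * n⁻¹ * g) * a := by group
    have h2 : n * (p * g) * n⁻¹ ∈ A := by rw [e]; exact mul_mem h1 hga
    have h3 : n⁻¹ * (n * (p * g) * n⁻¹) * n⁻¹⁻¹ = n * (p * g) * n⁻¹ := h.conjA h2 (inv_mem hn)
    have h4 : n⁻¹ * (n * (p * g) * n⁻¹) * n⁻¹⁻¹ = p * g := by group
    rw [← h4, h3]; exact h2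
  · exact hcon h1
  · -- `n p n⁻¹ ∈ g p A`
    set b := n * p * n⁻¹ * (p * g) with hb
    have hbP := h.AP h1
    have hnp : n * p * n⁻¹ = b * (p * g) := by
      rw [hb, mul_assoc (n * p * n⁻¹), h.sq (p * g) (mul_mem hp hg), mul_one]
    have e : n * n * p * (n * n)⁻¹ = a * p := by
      calc n * n * p * (n * n)⁻¹ = n * (n * p * n⁻¹) * n⁻¹ := by group
        _ = n * (b * (p * g)) * n⁻¹ := by rw [hnp]
        _ = (n * b * n⁻¹) * ((n * p * n⁻¹) * (n * g * n⁻¹)) := by group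
        _ = b * ((b * (p * g)) * (a * g)) := by rw [h.conjA h1 hn, hnp, hng]
        _ = (b * b) * (p * g * (a * g)) := by group
        _ = p * g * (a * g) := by rw [h.sq b hbP, one_mul]
        _ = p * (g * g * a) := by rw [h.comm haP hg]; group
        _ = p * a := by rw [h.sq g hg, one_mul]
        _ = a * p := h.comm hp haP
    have e2 : n * n * p * (n * n)⁻¹ = p := by
      rw [h.comm hn2 hp, mul_inv_cancel_right]
    rw [e] at e2
    exact ha1 (by simpa using e2)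

/-- the squares of `N_S(P)` lie in `A` -/
theorem Hyp.sq_mem (h : Hyp S A P) (hS : IsPGroup 2 S) {n : G} (hn : n ∈ S)
    (hnP : ∀ p ∈ P, n * p * n⁻¹ ∈ P) : n * n ∈ A := by
  by_cases hnP' : n ∈ P
  · rw [h.sq n hnP']; exact one_mem _
  obtain ⟨g, hg, hgA⟩ := h.exists_not_mem
  have hn2 : n * n ∈ P := by
    apply h.c g hg hgA _ (mul_mem hn hn)
    have h1 := h.comm_mem hS hn hnP hg
    set a := n * g * n⁻¹ * g with had
    have hng : n * g * n⁻¹ = a * g := by
      rw [had, mul_assoc (n * g * n⁻¹), h.sq g hg, mul_one]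
    have e : n * n * g * (n * n)⁻¹ = g := by
      calc n * n * g * (n * n)⁻¹ = n * (n * g * n⁻¹) * n⁻¹ := by group
        _ = n * (a * g) * n⁻¹ := by rw [hng]
        _ = (n * a * n⁻¹) * (n * g * n⁻¹) := by group
        _ = a * (a * g) := by rw [h.conjA h1 hn, hng]
        _ = g := by rw [← mul_assoc, h.sq a (h.AP h1), one_mul]
    rwa [mul_inv_eq_iff_eq_mul] at e
  by_contra hcon
  exact hnP' (h.c _ hn2 hcon n hn (by group))

/-- the commutator with an element of `N_S(P)` outside `P` maps `P` onto `A` -/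
theorem Hyp.surj (h : Hyp S A P) (hS : IsPGroup 2 S) {n : G} (hn : n ∈ S)
    (hnP : ∀ p ∈ P, n * p * n⁻¹ ∈ P) (hnP' : n ∉ P) {a : G} (ha : a ∈ A) :
    ∃ u ∈ P, n * u * n⁻¹ * u = a := by
  let φ : P →* A :=
    { toFun := fun u => ⟨n * u * n⁻¹ * u, h.comm_mem hS hn hnP u.2⟩
      map_one' := Subtype.ext (by simp only [_root_.OneMemClass.coe_one, _root_.mul_one, _root_.mul_inv_cancel])
      map_mul' := fun u v => Subtype.ext (by
        change n * (u * v : G) * n⁻¹ * (u * v) = (n * u * n⁻¹ * u) * (n * v * n⁻¹ * v)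
        have h1 : (u : G) * (n * v * n⁻¹) = (n * v * n⁻¹) * u := h.comm u.2 (hnP v v.2)
        calc n * (u * v : G) * n⁻¹ * (u * v) = (n * u * n⁻¹) * ((n * v * n⁻¹) * u) * v := by group
          _ = (n * u * n⁻¹) * (u * (n * v * n⁻¹)) * v := by rw [h1]
          _ = (n * u * n⁻¹ * u) * (n * v * n⁻¹ * v) := by group) }
  have hker : φ.ker = A.subgroupOf P := by
    ext u
    rw [MonoidHom.mem_ker, mem_subgroupOf]
    constructor
    · intro e
      have e1 : n * u * n⁻¹ * u = 1 := congrArg Subtype.val e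
      by_contra hu
      apply hnP'
      apply h.c u u.2 hu n hn
      rw [mul_eq_one_iff_eq_inv, h.inv u.2, mul_inv_eq_iff_eq_mul] at e1
      exact e1
    · intro hu
      apply Subtype.ext
      change n * u * n⁻¹ * u = 1
      rw [h.conjA hu hn, h.sq u u.2]
  have hkc : Nat.card φ.ker = 4 := by
    rw [hker, Nat.card_congr (subgroupOfEquivOfLe h.AP).toEquiv, h.A4]
  have h1 : Nat.card φ.range * Nat.card φ.ker = Nat.card P := by
    rw [← Nat.card_congr (QuotientGroup.quotientKerEquivRange φ).toEquiv]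
    exact (Subgroup.card_eq_card_quotient_mul_card_subgroup φ.ker).symm
  rw [hkc, h.P16] at h1
  have h2 : φ.range = ⊤ := by
    apply Subgroup.eq_top_of_card_eq
    rw [h.A4]; omega
  obtain ⟨u, hu⟩ : (⟨a, ha⟩ : A) ∈ φ.range := by rw [h2]; exact mem_top _
  exact ⟨u, u.2, congrArg Subtype.val hu⟩

end Loc

/-- **Recognition.** -/
theorem exists_up (S : Sylow 2 G) {A P : Subgroup G} (hAP : A ≤ P) (hPS : P ≤ (S : Subgroup G))
    (hne : P ≠ (S : Subgroup G)) (hA4 : Nat.card A = 4) (hP16 : Nat.card P = 16) (hPsq : ∀ x ∈ P, x * x = 1)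
    (hAc : ∀ a ∈ A, ∀ s ∈ (S : Subgroup G), a * s = s * a)
    (hcent : ∀ u ∈ (S : Subgroup G), u * u = 1 → u ∉ A → ∀ Q : Subgroup G, Q ≤ (S : Subgroup G) →
      (∀ q ∈ Q, q * u = u * q) → Nat.card Q ≤ 16)
    (hcent' : ∀ u ∈ (S : Subgroup G), u * u = 1 → u ∉ A → ∀ Q : Subgroup G, Q ≤ (S : Subgroup G) →
      (∀ q ∈ Q, q * u = u * q) → Nat.card Q = 16 → ∀ x ∈ Q, x * x = 1)
    (hsyl : ¬ 2 ∣ ((S : Subgroup G) ⊓ normalizer (P : Set G)).relIndex (normalizer (P : Set G)))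
    {x : G} (hx : x ∈ normalizer (P : Set G)) (hxA : x ∈ normalizer (A : Set G))
    (hfix : ∀ a ∈ A, x * a * x⁻¹ = a → a = 1) (hxP : ∀ p ∈ P, x * p * x⁻¹ * p⁻¹ ∈ A) :
    ∃ T Q : Subgroup G, GoldLFourUp.Up (S : Subgroup G) T P Q ∧ P ⊓ Q = A := by
  classical
  have : Fact (Nat.Prime 2) := ⟨Nat.prime_two⟩
  have hS : IsPGroup 2 (S : Subgroup G) := S.isPGroup'
  have hPcomm : ∀ x ∈ P, ∀ y ∈ P, x * y = y * x := by
    intro x hx y hy
    have h1 : (x * y)⁻¹ = x * y := inv_eq_of_mul_eq_one_left (hPsq _ (mul_mem hx hy))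
    rw [mul_inv_rev, inv_eq_of_mul_eq_one_left (hPsq x hx), inv_eq_of_mul_eq_one_left (hPsq y hy)] at h1
    exact h1.symm
  have h : Hyp (S : Subgroup G) A P :=
    { AP := hAP, PS := hPS, A4 := hA4, P16 := hP16, sq := hPsq, cen := hAc
      c := by
        intro u hu huA s hs hsu
        have h1 : P ≤ (S : Subgroup G) ⊓ centralizer ({u} : Set G) := by
          intro p hp
          exact ⟨hPS hp, mem_centralizer_singleton_iff.2 (hPcomm p hp u hu)⟩
        have h2 : Nat.card ((S : Subgroup G) ⊓ centralizer ({u} : Set G) : Subgroup G) ≤ 16 :=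
          hcent u (hPS hu) (hPsq u hu) huA _ inf_le_left fun q hq => mem_centralizer_singleton_iff.1 hq.2
        have h3 := Subgroup.eq_of_le_of_card_ge h1 (by rw [hP16]; exact h2)
        rw [h3]
        exact ⟨hs, mem_centralizer_singleton_iff.2 hsu⟩ }
  set T : Subgroup G := (S : Subgroup G) ⊓ normalizer (P : Set G) with hT
  have hTS : T ≤ S := inf_le_left
  have hTP : ∀ n ∈ T, ∀ p ∈ P, n * p * n⁻¹ ∈ P := fun n hn p hp => (mem_normalizer_iff.1 hn.2 p).1 hp
  have hPT : P ≤ T := le_inf hPS le_normalizer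
  have hmemT : ∀ s ∈ (S : Subgroup G), (∀ p ∈ P, s * p * s⁻¹ ∈ P) → s ∈ T := by
    intro s hs hsP
    refine Subgroup.mem_inf.2 ⟨hs, ?_⟩
    have h1 : P.map (MulAut.conj s).toMonoidHom ≤ P := by
      rintro _ ⟨p, hp, rfl⟩
      exact hsP p hp
    have h2 : P.map (MulAut.conj s).toMonoidHom = P :=
      Subgroup.eq_of_le_of_card_ge h1 (by rw [card_map_conj])
    rw [mem_normalizer_iff_map_conj]
    exact h2
  have hPltT : P < T := lt_inf_normalizer hS (lt_of_le_of_ne hPS hne)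
  have hcm : ∀ n ∈ T, ∀ p ∈ P, n * p * n⁻¹ * p ∈ A := fun n hn p hp => h.comm_mem hS hn.1 (hTP n hn) hp
  have hsqT : ∀ n ∈ T, n * n ∈ A := fun n hn => h.sq_mem hS hn.1 (hTP n hn)
  have hAT : A ≤ T := hAP.trans hPT
  -- commutators in `T`
  have hcomT : ∀ s ∈ T, ∀ t ∈ T, s * t * s⁻¹ * t⁻¹ ∈ A := by
    intro s hs t ht
    have h1 := hsqT s hs
    have h2 := hsqT t ht
    have h3 := hsqT (s * t) (mul_mem hs ht)
    have e : s * t * s⁻¹ * t⁻¹ = (s * t * (s * t)) * ((t * t)⁻¹ * (t * (s * s)⁻¹ * t⁻¹)) := by group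
    rw [e, h.conjA (inv_mem h1) ht.1]
    exact mul_mem h3 (mul_mem (inv_mem h2) (inv_mem h1))
  -- an involution outside `P`
  obtain ⟨y, hyT, hyP, hyy⟩ : ∃ y ∈ T, y ∉ P ∧ y * y = 1 := by
    obtain ⟨n, hn, hnP⟩ := SetLike.exists_of_lt hPltT
    obtain ⟨u, hu, hua⟩ := h.surj hS hn.1 (hTP n hn) hnP (hsqT n hn)
    refine ⟨u * n, mul_mem (hPT hu) hn, ?_, ?_⟩
    · intro hc
      exact hnP ((Subgroup.mul_mem_cancel_left _ hu).1 hc)
    · have h2 := hsqT n hn
      have h3 : n * u * n⁻¹ = n * n * u := by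
        have : n * u * n⁻¹ * u * u = n * n * u := by rw [hua]
        rwa [mul_assoc (n * u * n⁻¹), hPsq u hu, mul_one] at this
      calc u * n * (u * n) = u * (n * u * n⁻¹) * (n * n) := by group
        _ = u * (n * n * u) * (n * n) := by rw [h3]
        _ = u * ((n * n) * u) * (n * n) := by group
        _ = u * (u * (n * n)) * (n * n) := by rw [hAc _ h2 u (hPS hu)]
        _ = (u * u) * ((n * n) * (n * n)) := by group
        _ = 1 := by rw [hPsq u hu, hPsq _ (hAP h2), mul_one]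
  have hyS := hyT.1
  have hyA : y ∉ A := fun hc => hyP (hAP hc)
  -- `|T| ≥ 64`
  have hT64 : 64 ≤ Nat.card T := by
    let R : Subgroup G :=
      { carrier := {r | r ∈ normalizer (P : Set G) ∧ (∀ a ∈ A, r * a * r⁻¹ = a) ∧ ∀ p ∈ P, r * p * r⁻¹ * p ∈ A}
        one_mem' := ⟨one_mem _, fun a _ => by group, fun p hp => by
          have : (1 : G) * p * 1⁻¹ * p = p * p := by group
          rw [this, hPsq p hp]; exact one_mem _⟩
        mul_mem' := by
          rintro r s ⟨hr1, hr2, hr3⟩ ⟨hs1, hs2, hs3⟩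
          refine ⟨mul_mem hr1 hs1, fun a ha => ?_, fun p hp => ?_⟩
          · calc r * s * a * (r * s)⁻¹ = r * (s * a * s⁻¹) * r⁻¹ := by group
              _ = a := by rw [hs2 a ha, hr2 a ha]
          · have h1 := hs3 p hp
            have e : r * s * p * (r * s)⁻¹ * p = (r * (s * p * s⁻¹ * p) * r⁻¹) * (r * p * r⁻¹ * p) := by
              have e1 : r * s * p * (r * s)⁻¹ * p = r * (s * p * s⁻¹) * (p * p) * r⁻¹ * p := by
                rw [hPsq p hp]; group
              rw [e1]; group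
            rw [e, hr2 _ h1]
            exact mul_mem h1 (hr3 p hp)
        inv_mem' := by
          rintro r ⟨hr1, hr2, hr3⟩
          have hr2' : ∀ a ∈ A, r⁻¹ * a * r⁻¹⁻¹ = a := by
            intro a ha
            calc r⁻¹ * a * r⁻¹⁻¹ = r⁻¹ * (r * a * r⁻¹) * r⁻¹⁻¹ := by rw [hr2 a ha]
              _ = a := by group
          refine ⟨inv_mem hr1, hr2', fun p hp => ?_⟩
          have hp' : r⁻¹ * p * r⁻¹⁻¹ ∈ P := (mem_normalizer_iff.1 (inv_mem hr1) p).1 hp
          have h1 := hr3 _ hp'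
          have e : r * (r⁻¹ * p * r⁻¹⁻¹) * r⁻¹ * (r⁻¹ * p * r⁻¹⁻¹) = p * (r⁻¹ * p * r⁻¹⁻¹) := by group
          rw [e, hPcomm _ hp _ hp'] at h1
          exact h1 }
    have hTR : T ≤ R := fun n hn => ⟨hn.2, fun a ha => h.conjA ha hn.1, hcm n hn⟩
    have hRN : R ≤ normalizer (P : Set G) := fun r hr => hr.1
    have hTRi : ¬ 2 ∣ T.relIndex R := Cfsg.Agent.Lib.EssentialFusion.not_dvd_relIndex_of_le hTR hRN hsyl
    have hxinv := inv_mem hx
    have hxAinv := inv_mem hxA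
    have hyR : x * y * x⁻¹ ∈ R := by
      have hyR' := hTR hyT
      refine ⟨mul_mem (mul_mem hx hyR'.1) hxinv, fun a ha => ?_, fun p hp => ?_⟩
      · have h1 : x⁻¹ * a * x⁻¹⁻¹ ∈ A := (mem_normalizer_iff.1 hxAinv a).1 ha
        calc x * y * x⁻¹ * a * (x * y * x⁻¹)⁻¹ = x * (y * (x⁻¹ * a * x⁻¹⁻¹) * y⁻¹) * x⁻¹ := by group
          _ = x * (x⁻¹ * a * x⁻¹⁻¹) * x⁻¹ := by rw [hyR'.2.1 _ h1]
          _ = a := by group
      · have h1 : x⁻¹ * p * x⁻¹⁻¹ ∈ P := (mem_normalizer_iff.1 hxinv p).1 hp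
        have h2 := hyR'.2.2 _ h1
        have h3 := (mem_normalizer_iff.1 hxA _).1 h2
        have e : x * (y * (x⁻¹ * p * x⁻¹⁻¹) * y⁻¹ * (x⁻¹ * p * x⁻¹⁻¹)) * x⁻¹ =
            x * y * x⁻¹ * p * (x * y * x⁻¹)⁻¹ * p := by group
        rwa [e] at h3
    obtain ⟨t, ht, c, hc, hxy⟩ := Cfsg.Agent.TypeL3.exists_mul_of_pow_mem' (p := 2) (R := R) (T := T)
      (C := centralizer (P : Set G)) (hS.to_le hTS) hTRi (by
        intro r hr c hc
        rw [mem_centralizer_iff] at hc ⊢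
        intro p hp
        have h1 : r⁻¹ * p * r⁻¹⁻¹ ∈ P := (mem_normalizer_iff.1 (inv_mem hr.1) p).1 hp
        have h2 := hc _ h1
        calc p * (r * c * r⁻¹) = r * ((r⁻¹ * p * r⁻¹⁻¹) * c) * r⁻¹ := by group
          _ = r * (c * (r⁻¹ * p * r⁻¹⁻¹)) * r⁻¹ := by rw [h2]
          _ = r * c * r⁻¹ * p := by group) (by
        intro r hr
        refine ⟨1, ?_⟩
        rw [pow_one, pow_two, mem_centralizer_iff]
        intro p hp
        have h1 := hr.2.2 p hp
        have h2 := hr.2.1 _ h1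
        set b := r * p * r⁻¹ * p with hb
        have h3 : r * p * r⁻¹ = b * p := by
          rw [hb, mul_assoc (r * p * r⁻¹), hPsq p hp, mul_one]
        have e : r * r * p * (r * r)⁻¹ = p := by
          calc r * r * p * (r * r)⁻¹ = r * (r * p * r⁻¹) * r⁻¹ := by group
            _ = r * (b * p) * r⁻¹ := by rw [h3]
            _ = (r * b * r⁻¹) * (r * p * r⁻¹) := by group
            _ = b * (b * p) := by rw [h2, h3]
            _ = p := by rw [← mul_assoc, hPsq b (hAP h1), one_mul]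
        rw [mul_inv_eq_iff_eq_mul] at e
        exact e.symm) hyR
    -- the action of `t`
    obtain ⟨u, hu, huA⟩ := h.exists_not_mem
    have hcu : c * u = u * c := ((mem_centralizer_iff.1 hc) u hu).symm
    set a := y * u * y⁻¹ * u with ha
    have haA : a ∈ A := hcm y hyT u hu
    have ha1 : a ≠ 1 := by
      intro e
      apply hyP
      apply h.c u hu huA y hyS
      rw [ha, mul_eq_one_iff_eq_inv, h.inv hu, mul_inv_eq_iff_eq_mul] at e
      exact e
    have htu : t * u * t⁻¹ * u = x * a * x⁻¹ := by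
      -- `t u t⁻¹ = (x y x⁻¹) u (x y x⁻¹)⁻¹`
      have e1 : t * u * t⁻¹ = x * y * x⁻¹ * u * (x * y * x⁻¹)⁻¹ := by
        rw [hxy]
        calc t * u * t⁻¹ = t * (u * c) * c⁻¹ * t⁻¹ := by group
          _ = t * (c * u) * c⁻¹ * t⁻¹ := by rw [hcu]
          _ = t * c * u * (t * c)⁻¹ := by group
      -- `x⁻¹ u x = b u`
      have hw : x⁻¹ * u * x⁻¹⁻¹ ∈ P := (mem_normalizer_iff.1 hxinv u).1 hu
      set w := x⁻¹ * u * x⁻¹⁻¹ with hwd
      have hb : w * u ∈ A := by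
        have h1 := hxP w hw
        have e2 : x * w * x⁻¹ = u := by rw [hwd]; group
        rw [e2, h.inv hw, hPcomm _ hu _ hw] at h1
        exact h1
      have hyw : y * w * y⁻¹ * w = a := by
        have h2 : y * (w * u) * y⁻¹ = w * u := h.conjA hb hyS
        have h3 : y * w * y⁻¹ = w * u * (y * u * y⁻¹)⁻¹ := by
          rw [← h2]; group
        have h4 : y * u * y⁻¹ ∈ P := hTP y hyT u hu
        rw [h3, h.inv h4, ha]
        calc w * u * (y * u * y⁻¹) * w = w * (u * (y * u * y⁻¹)) * w := by group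
          _ = w * ((y * u * y⁻¹) * u) * w := by rw [hPcomm _ hu _ h4]
          _ = w * (w * ((y * u * y⁻¹) * u)) := by
            rw [mul_assoc w, hPcomm _ (mul_mem h4 hu) _ hw]
          _ = (w * w) * (y * u * y⁻¹ * u) := by group
          _ = y * u * y⁻¹ * u := by rw [hPsq w hw, one_mul]
      rw [e1, ← hyw, hwd]
      group
    have hta : x * a * x⁻¹ ≠ a := fun e => ha1 (hfix a haA e)
    have hta1 : x * a * x⁻¹ ≠ 1 := by
      intro e
      rw [mul_inv_eq_one, mul_eq_left] at e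
      exact ha1 e
    have htP : t ∉ P := by
      intro htP
      apply hta1
      rw [← htu, hPcomm _ htP _ hu, mul_inv_cancel_right, hPsq u hu]
    have hytP : y⁻¹ * t ∉ P := by
      intro hc
      apply hta
      rw [← htu, ha]
      have e : t = y * (y⁻¹ * t) := by group
      have e1 : t * u * t⁻¹ = y * u * y⁻¹ := by
        rw [e]
        calc y * (y⁻¹ * t) * u * (y * (y⁻¹ * t))⁻¹ = y * ((y⁻¹ * t) * u) * (y⁻¹ * t)⁻¹ * y⁻¹ := by group
          _ = y * (u * (y⁻¹ * t)) * (y⁻¹ * t)⁻¹ * y⁻¹ := by rw [hPcomm _ hc _ hu]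
          _ = y * u * y⁻¹ := by group
      rw [e1]
    -- the index
    have hidx : P.relIndex T ≠ 2 := by
      intro h2
      have h3 := Subgroup.mul_mem_iff_of_index_two (H := P.subgroupOf T) h2 (a := ⟨y, hyT⟩⁻¹) (b := ⟨t, ht⟩)
      rw [mem_subgroupOf, mem_subgroupOf, mem_subgroupOf] at h3
      apply hytP
      apply h3.2
      constructor
      · intro h4; exact absurd (inv_mem_iff.1 h4) hyP
      · intro h4; exact absurd h4 htP
    have hcardT : Nat.card T = 16 * P.relIndex T := by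
      have e1 := Subgroup.card_mul_index (P.subgroupOf T)
      rw [Nat.card_congr (subgroupOfEquivOfLe hPT).toEquiv, hP16] at e1
      exact e1.symm
    have hTp : IsPGroup 2 T := hS.to_le hTS
    obtain ⟨m, hm⟩ := (IsPGroup.iff_card.1 hTp)
    have hi1 : P.relIndex T ≠ 1 := by
      intro h1
      rw [relIndex_eq_one] at h1
      exact hyP (h1 hyT)
    have hm4 : 4 < m := by
      by_contra hle
      have h5 : 2 ^ m ≤ 2 ^ 4 := Nat.pow_le_pow_right (by norm_num) (by omega)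
      have h6 : 0 < P.relIndex T := Nat.pos_of_ne_zero (by
        intro e
        rw [e, mul_zero] at hcardT
        exact Nat.card_pos.ne' hcardT)
      have h7 : 2 ≤ P.relIndex T := by omega
      rw [hm] at hcardT
      norm_num at h5
      omega
    have hm5 : m ≠ 5 := by
      intro e
      rw [hm, e] at hcardT
      apply hidx
      norm_num at hcardT
      omega
    rw [hm]
    calc 64 = 2 ^ 6 := by norm_num
      _ ≤ 2 ^ m := Nat.pow_le_pow_right (by norm_num) (by omega)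
  -- the other elementary subgroup
  set Q : Subgroup G := T ⊓ centralizer ({y} : Set G) with hQ
  have hQT : Q ≤ T := inf_le_left
  have hQy : ∀ q ∈ Q, q * y = y * q := fun q hq => mem_centralizer_singleton_iff.1 hq.2
  have hQle : Nat.card Q ≤ 16 := hcent y hyS hyy hyA Q (hQT.trans hTS) hQy
  let ψ : T →* A :=
    { toFun := fun t => ⟨t * y * (t : G)⁻¹ * y⁻¹, hcomT t t.2 y hyT⟩
      map_one' := Subtype.ext (by simp only [_root_.OneMemClass.coe_one, _root_.one_mul, _root_.inv_one, _root_.mul_one, _root_.mul_inv_cancel])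
      map_mul' := fun s t => Subtype.ext (by
        change (s * t : G) * y * (s * t : G)⁻¹ * y⁻¹ = (s * y * (s : G)⁻¹ * y⁻¹) * (t * y * (t : G)⁻¹ * y⁻¹)
        have h1 : (s : G) * (t * y * (t : G)⁻¹ * y⁻¹) * (s : G)⁻¹ = t * y * (t : G)⁻¹ * y⁻¹ :=
          h.conjA (hcomT t t.2 y hyT) s.2.1
        have h2 : (t * y * (t : G)⁻¹ * y⁻¹ : G) * (s * y * (s : G)⁻¹ * y⁻¹) =
          (s * y * (s : G)⁻¹ * y⁻¹) * (t * y * (t : G)⁻¹ * y⁻¹) :=
          hPcomm _ (hAP (hcomT t t.2 y hyT)) _ (hAP (hcomT s s.2 y hyT))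
        calc (s * t : G) * y * (s * t : G)⁻¹ * y⁻¹ =
            (s * (t * y * (t : G)⁻¹ * y⁻¹) * (s : G)⁻¹) * (s * y * (s : G)⁻¹ * y⁻¹) := by group
          _ = (t * y * (t : G)⁻¹ * y⁻¹) * (s * y * (s : G)⁻¹ * y⁻¹) := by rw [h1]
          _ = _ := h2) }
  have hψker : ψ.ker = Q.subgroupOf T := by
    ext t
    rw [MonoidHom.mem_ker, mem_subgroupOf]
    constructor
    · intro e
      have e1 : (t : G) * y * (t : G)⁻¹ * y⁻¹ = 1 := congrArg Subtype.val e
      refine ⟨t.2, mem_centralizer_singleton_iff.2 ?_⟩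
      rw [mul_inv_eq_one, mul_inv_eq_iff_eq_mul] at e1
      exact e1
    · intro ht
      apply Subtype.ext
      change (t : G) * y * (t : G)⁻¹ * y⁻¹ = 1
      rw [mul_inv_eq_one, mul_inv_eq_iff_eq_mul]
      exact hQy t ht
  have hψc : Nat.card T = Nat.card ψ.range * Nat.card Q := by
    rw [← Nat.card_congr (subgroupOfEquivOfLe hQT).toEquiv, ← hψker,
      ← Nat.card_congr (QuotientGroup.quotientKerEquivRange ψ).toEquiv]
    exact Subgroup.card_eq_card_quotient_mul_card_subgroup ψ.ker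
  have hrange : Nat.card ψ.range ≤ 4 := by
    rw [← hA4]
    exact Nat.card_le_card_of_injective _ Subtype.val_injective
  have hQ16 : Nat.card Q = 16 := by
    apply le_antisymm hQle
    nlinarith only [hT64, hψc, hrange]
  have hQsq : ∀ q ∈ Q, q * q = 1 := hcent' y hyS hyy hyA Q (hQT.trans hTS) hQy hQ16
  have hQcomm : ∀ p ∈ Q, ∀ q ∈ Q, p * q = q * p := by
    intro p hp q hq
    have h1 : (p * q)⁻¹ = p * q := inv_eq_of_mul_eq_one_left (hQsq _ (mul_mem hp hq))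
    rw [mul_inv_rev, inv_eq_of_mul_eq_one_left (hQsq p hp), inv_eq_of_mul_eq_one_left (hQsq q hq)] at h1
    exact h1.symm
  have hAQ : A ≤ Q := fun a ha => ⟨hAT ha, mem_centralizer_singleton_iff.2 (hAc a ha y hyS)⟩
  have hPQ : P ⊓ Q = A := by
    apply le_antisymm
    · rintro u ⟨hu, huQ⟩
      by_contra huA
      exact hyP (h.c u hu huA y hyS (hQy u huQ).symm)
    · exact le_inf hAP hAQ
  have hyQ : y ∈ Q := ⟨hyT, mem_centralizer_singleton_iff.2 rfl⟩
  have hcQ : ∀ u ∈ Q, u ∉ A → ∀ s ∈ (S : Subgroup G), u * s = s * u → s ∈ Q := by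
    intro u hu huA s hs hsu
    have h1 : Q ≤ (S : Subgroup G) ⊓ centralizer ({u} : Set G) := by
      intro p hp
      exact ⟨hTS (hQT hp), mem_centralizer_singleton_iff.2 (hQcomm p hp u hu)⟩
    have h2 : Nat.card ((S : Subgroup G) ⊓ centralizer ({u} : Set G) : Subgroup G) ≤ 16 :=
      hcent u (hTS (hQT hu)) (hQsq u hu) huA _ inf_le_left fun q hq => mem_centralizer_singleton_iff.1 hq.2
    have h3 := Subgroup.eq_of_le_of_card_ge h1 (by rw [hQ16]; exact h2)
    rw [h3]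
    exact ⟨hs, mem_centralizer_singleton_iff.2 hsu.symm⟩
  have hprod : ∀ s ∈ T, ∃ p ∈ P, ∃ q ∈ Q, p * q = s := by
    intro s hs
    have h1 := hcomT s hs y hyT
    obtain ⟨u, hu, hua⟩ := h.surj hS hyS (hTP y hyT) hyP h1
    refine ⟨u, hu, u⁻¹ * s, Subgroup.mem_inf.2 ⟨mul_mem (inv_mem (hPT hu)) hs, ?_⟩, by group⟩
    rw [mem_centralizer_singleton_iff]
    -- `[u, y] = [s, y]`
    have h2 : u * y * u⁻¹ * y⁻¹ = s * y * s⁻¹ * y⁻¹ := by
      have h3 : y * u * y⁻¹ * u = u * y * u⁻¹ * y⁻¹ := by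
        have h4 : y * u * y⁻¹ ∈ P := hTP y hyT u hu
        rw [hPcomm _ h4 _ hu]
        have h5 : y⁻¹ = y := inv_eq_of_mul_eq_one_left hyy
        rw [h5, h.inv hu]
        group
      rw [← h3]; exact hua
    have h3 : u * y * u⁻¹ = s * y * s⁻¹ := mul_right_cancel h2
    calc u⁻¹ * s * y = u⁻¹ * (s * y * s⁻¹) * s := by group
      _ = u⁻¹ * (u * y * u⁻¹) * s := by rw [h3]
      _ = y * (u⁻¹ * s) := by group
  obtain ⟨g, hg, hgA⟩ := h.exists_not_mem
  refine ⟨T, Q, ?_, hPQ⟩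
  have hcz : Nat.card (P ⊓ Q : Subgroup G) = 4 := by rw [hPQ]; exact hA4
  refine ⟨?_, hTS, ?_, ?_, ?_, hmemT, hP16, hQ16, hcz⟩
  · exact
      { A_le := hPT
        B_le := hQT
        prod := hprod
        A_comm := hPcomm
        B_comm := hQcomm
        A_sq := hPsq
        B_sq := hQsq
        br := fun a ha b hb => by rw [hPQ]; exact hcomT a (hPT ha) b (hQT hb)
        inv := by
          intro s hs hss
          obtain ⟨p, hp, q, hq, rfl⟩ := hprod s hs
          have hc : p * q = q * p := by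
            have h1 : (p * q)⁻¹ = p * q := inv_eq_of_mul_eq_one_left hss
            rw [mul_inv_rev, inv_eq_of_mul_eq_one_left (hPsq p hp),
              inv_eq_of_mul_eq_one_left (hQsq q hq)] at h1
            exact h1.symm
          by_cases hpA : p ∈ A
          · exact Or.inr (mul_mem (hAQ hpA) hq)
          · exact Or.inl (mul_mem hp (h.c p hp hpA q (hTS (hQT hq)) hc.symm))
        centA := fun a ha haQ s hs e => h.c a ha (fun hA => haQ (hAQ hA)) s hs.1 e.symm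
        centB := fun b hb hbP s hs e => hcQ b hb (fun hA => hbP (hAP hA)) s hs.1 e
        der := by
          intro a ha
          rw [hPQ] at ha
          obtain ⟨u, hu, hua⟩ := h.surj hS hyS (hTP y hyT) hyP ha
          have h1 := Subgroup.commutator_mem_commutator hyT (hPT hu)
          rw [commutatorElement_def, h.inv hu, hua] at h1
          exact h1
        neA := ⟨g, hg, fun hgQ => hgA (by rw [← hPQ]; exact ⟨hg, hgQ⟩)⟩
        neB := ⟨y, hyQ, hyP⟩ }
  · intro a ha s hs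
    rw [hPQ] at ha
    exact hAc a ha s hs
  · intro e he heQ s hs hes
    exact h.c e he (fun hA => heQ (hAQ hA)) s hs hes.symm
  · intro e he heP s hs hes
    exact hcQ e he (fun hA => heP (hAP hA)) s hs hes

end Cfsg.Agent.TwoFusion.GoldFourUpIn
end

-- part: TwoFusion/GoldLFourMain
section
/-!
# Goldschmidt's theorem, `|A| = 4`: no Sylow 2-subgroup `S = R₁ R₂` of type `PSL(3,4)`

`false_of_isAB`: in the setting of `GoldSetup.Setup`, `|A| = 4`, `C(w) ≤ O(C(w)) N(A)` for `w ∈ A#`, the Sylow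
2-subgroup `S` cannot be of type `PSL(3,4)` with all its involutions outside `A` bad
(`Bad 𝒜 A e`: `⟨𝒜 ∩ C(e)⟩/O` is simple with Sylow 2-subgroup `A`).
-/

set_option autoImplicit false

namespace Cfsg.Agent.TwoFusion.GoldLFourMain

open Subgroup
open Cfsg.Agent.TwoFusion.ClosedFam Cfsg.Agent.TwoFusion.GoldSetup Cfsg.Agent.TwoFusion.GoldFour
open Cfsg.Agent.TwoFusion.GoldLFour Cfsg.Agent.TwoFusion.GoldLFourBad
open Cfsg.Agent.TypeL3 (IsAB)

universe u

variable {G : Type u} [Group G] [Finite G] {𝒜 : Set G}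

/-- `e` is bad: `⟨𝒜 ∩ C(e)⟩/O(⟨𝒜 ∩ C(e)⟩)` is simple nonabelian with Sylow 2-subgroup `A`. -/
abbrev Bad (𝒜 : Set G) (A : Subgroup G) (e : G) : Prop := Simp A (fam 𝒜 (centralizer ({e} : Set G)))

theorem mem_iff_conj (h : Setup 𝒜) (S : Sylow 2 G) (x : G) :
    x ∈ 𝒜 ↔ ∃ g : G, g * x * g⁻¹ ∈ fam 𝒜 (S : Subgroup G) := by
  have hfact : Fact (Nat.Prime 2) := ⟨Nat.prime_two⟩
  constructor
  · intro hx
    obtain ⟨T, hT⟩ := (h.fam.toIsClosedFam.isPGroup_zpowers hx).exists_le_sylow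
    obtain ⟨c, hc⟩ := MulAction.exists_smul_eq G T S
    refine ⟨c, ?_⟩
    rw [h.mem_iff S]
    refine ⟨h.fam.toIsClosedFam.conj_mem x hx c, ?_⟩
    rw [← hc]
    exact ⟨x, hT (mem_zpowers x), rfl⟩
  · rintro ⟨g, hg⟩
    exact (h.fam.toIsClosedFam.conj_mem_iff g).1 ((h.mem_iff S).1 hg).1

theorem lf (h : Setup 𝒜) (S : Sylow 2 G) (h4 : Nat.card (fam 𝒜 (S : Subgroup G)) = 4) (hs : Solid 𝒜 S)
    {R₁ R₂ : Subgroup G} (hab : IsAB (S : Subgroup G) R₁ R₂) (hinf : R₁ ⊓ R₂ = fam 𝒜 (S : Subgroup G))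
    (h1 : Nat.card R₁ = 16) (h2 : Nat.card R₂ = 16)
    (hbad : ∀ e ∈ (S : Subgroup G), e * e = 1 → e ∉ fam 𝒜 (S : Subgroup G) → Bad 𝒜 (fam 𝒜 (S : Subgroup G)) e) :
    LF S R₁ R₂ where
  ab := hab
  card := by rw [hinf]; exact h4
  card₁ := h1
  card₂ := h2
  sc := by rw [hinf]; exact h.sc S
  split := by
    rw [hinf]
    intro z hz hz1 x hx
    obtain ⟨o, ho, n, hn, e⟩ := cent_decomp h S h4 hs hz hz1 hx
    refine ⟨n, hn, ?_⟩
    have e1 : n⁻¹ * x = n⁻¹ * o * n⁻¹⁻¹ := by rw [e]; group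
    rw [e1]
    exact ClosedLocal.conj_mem_core (inv_mem (centralizer_le_cent S hz hn)) ho
  rot := by
    rw [hinf]
    intro e he hee heA z hz hz1 z' hz' hz1'
    obtain ⟨n, hnK, hn, hnz⟩ := (hbad e he hee heA).rot h4 (h.sq S) hz hz1 hz' hz1'
    exact ⟨n, hn, mem_centralizer_singleton_iff.1 (fam_le 𝒜 _ hnK), hnz⟩
  odd := by
    rw [hinf]
    intro e he hee heA a ha ha1
    exact (hbad e he hee heA).odd h4 (h.sq S) (mem_iff_conj h S) ha ha1

/-- **M2(a), `|S| = 64`.** -/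
theorem false_of_isAB (h : Setup 𝒜) (S : Sylow 2 G) (h4 : Nat.card (fam 𝒜 (S : Subgroup G)) = 4)
    (hs : Solid 𝒜 S) {R₁ R₂ : Subgroup G} (hab : IsAB (S : Subgroup G) R₁ R₂)
    (hinf : R₁ ⊓ R₂ = fam 𝒜 (S : Subgroup G)) (h1 : Nat.card R₁ = 16) (h2 : Nat.card R₂ = 16)
    (hbad : ∀ e ∈ (S : Subgroup G), e * e = 1 → e ∉ fam 𝒜 (S : Subgroup G) → Bad 𝒜 (fam 𝒜 (S : Subgroup G)) e) :
    False :=
  (lf h S h4 hs hab hinf h1 h2 hbad).false

end Cfsg.Agent.TwoFusion.GoldLFourMain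
end

-- part: TwoFusion/GoldBadSimp
section
/-!
# Goldschmidt's theorem, `|A| = 4`: from `fam (push 𝒜 H) ⊤` in `H/O(H)` to `K/O(K)`, `K = fam 𝒜 H`

If the subgroup of `H/O(H)` generated by the image of the family is simple, with Sylow 2-subgroups of order four
which are not unique, then `K = fam 𝒜 H` satisfies `Simp A K`.
-/

set_option autoImplicit false
set_option linter.style.haveILetI false

namespace Cfsg.Agent.TwoFusion.GoldBadSimp

open Subgroup
open Cfsg.Agent.TwoFusion.ClosedFam Cfsg.Agent.TwoFusion.Gold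

variable {G : Type*} [Group G] [Finite G] {𝒜 : Set G}

/-- The map `K → H/O(H)`. -/
noncomputable def toPush {H K : Subgroup G} (hK : K ≤ H) : ↥K →* ↥H ⧸ Cfsg.oddCore ↥H :=
  (QuotientGroup.mk' (Cfsg.oddCore ↥H)).comp (Subgroup.inclusion hK)

omit [Finite G] in
theorem range_toPush {H : Subgroup G} :
    (toPush (fam_le 𝒜 H)).range = fam (push 𝒜 H) (⊤ : Subgroup (↥H ⧸ Cfsg.oddCore ↥H)) := by
  have h1 : (fam {x : H | (x : G) ∈ 𝒜} ⊤).map H.subtype = fam 𝒜 H := map_fam_restrict_top 𝒜 H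
  have h2 : (fam {x : H | (x : G) ∈ 𝒜} ⊤).map (QuotientGroup.mk' (Cfsg.oddCore ↥H)) =
      fam (push 𝒜 H) (⊤ : Subgroup (↥H ⧸ Cfsg.oddCore ↥H)) := map_fam_top _ _
  rw [← h2]
  ext x
  constructor
  · rintro ⟨k, rfl⟩
    have h3 : (k : G) ∈ (fam {x : H | (x : G) ∈ 𝒜} ⊤).map H.subtype := by rw [h1]; exact k.2
    obtain ⟨y, hy, hyk⟩ := h3
    refine ⟨y, hy, ?_⟩
    change _ = QuotientGroup.mk' (Cfsg.oddCore ↥H) (Subgroup.inclusion (fam_le 𝒜 H) k)
    congr 1
    exact Subtype.ext hyk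
  · rintro ⟨y, hy, rfl⟩
    have h3 : (y : G) ∈ fam 𝒜 H := by rw [← h1]; exact ⟨y, hy, rfl⟩
    exact ⟨⟨y, h3⟩, rfl⟩

theorem odd_ker {H K : Subgroup G} (hK : K ≤ H) : (Nat.card (toPush hK).ker).Coprime 2 := by
  have h1 : (Nat.card (Cfsg.oddCore ↥H)).Coprime 2 := Cfsg.Agent.Lib.Cores.pPrimeCore_coprime 2
  refine Nat.Coprime.coprime_dvd_left ?_ h1
  have h2 : (toPush hK).ker.map (Subgroup.inclusion hK) ≤ Cfsg.oddCore ↥H := by
    rintro _ ⟨x, hx, rfl⟩
    have h3 : QuotientGroup.mk' (Cfsg.oddCore ↥H) (Subgroup.inclusion hK x) = 1 := hx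
    rwa [← MonoidHom.mem_ker, QuotientGroup.ker_mk'] at h3
  have h3 : Nat.card ((toPush hK).ker.map (Subgroup.inclusion hK)) = Nat.card (toPush hK).ker :=
    (Nat.card_congr ((toPush hK).ker.equivMapOfInjective _ (Subgroup.inclusion_injective hK)).toEquiv).symm
  rw [← h3]
  exact card_dvd_of_le h2

variable (S : Sylow 2 G) (h4 : Nat.card (fam 𝒜 (S : Subgroup G)) = 4)
  {H : Subgroup G} (hAH : fam 𝒜 (S : Subgroup G) ≤ H)
  (hsimple : IsSimpleGroup ↥(fam (push 𝒜 H) (⊤ : Subgroup (↥H ⧸ Cfsg.oddCore ↥H))))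
  (hsyl : ∀ Q : Sylow 2 ↥(fam (push 𝒜 H) (⊤ : Subgroup (↥H ⧸ Cfsg.oddCore ↥H))), Nat.card Q = 4)

include hsimple hsyl in
/-- `O(K)` is the kernel of `K → H/O(H)`. -/
theorem ker_eq : (toPush (fam_le 𝒜 H)).ker = Cfsg.oddCore ↥(fam 𝒜 H) := by
  have h2 : Fact (Nat.Prime 2) := ⟨Nat.prime_two⟩
  set g := toPush (fam_le 𝒜 H) with hg
  have hr : g.range = fam (push 𝒜 H) (⊤ : Subgroup (↥H ⧸ Cfsg.oddCore ↥H)) := range_toPush
  apply le_antisymm
  · exact Cfsg.Agent.Lib.Cores.le_pPrimeCore inferInstance (odd_ker (fam_le 𝒜 H))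
  · have hn : (Cfsg.oddCore ↥(fam 𝒜 H)).Normal := Cfsg.Agent.Lib.Cores.pPrimeCore_normal 2
    have hn2 : ((Cfsg.oddCore ↥(fam 𝒜 H)).map g.rangeRestrict).Normal :=
      Cfsg.Agent.Lib.Cores.map_normal_of_surjective g.rangeRestrict_surjective hn
    have hs : IsSimpleGroup g.range := by rw [hr]; exact hsimple
    have hsy : ∀ Q : Sylow 2 g.range, Nat.card Q = 4 := by rw [hr]; exact hsyl
    rcases IsSimpleGroup.eq_bot_or_eq_top_of_normal _ hn2 with hb | ht
    · intro x hx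
      rw [MonoidHom.mem_ker]
      have h3 : g.rangeRestrict x ∈ (Cfsg.oddCore ↥(fam 𝒜 H)).map g.rangeRestrict := ⟨x, hx, rfl⟩
      rw [hb, mem_bot] at h3
      exact congrArg Subtype.val h3
    · exfalso
      have hc : (Nat.card (Cfsg.oddCore ↥(fam 𝒜 H))).Coprime 2 := Cfsg.Agent.Lib.Cores.pPrimeCore_coprime 2
      have h3 : Nat.card g.range ∣ Nat.card (Cfsg.oddCore ↥(fam 𝒜 H)) := by
        have h5 := card_map_dvd (Cfsg.oddCore ↥(fam 𝒜 H)) g.rangeRestrict
        rwa [ht, card_top] at h5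
      obtain ⟨Q⟩ : Nonempty (Sylow 2 g.range) := inferInstance
      have h5 : (Nat.card (Q : Subgroup g.range) :) ∣ Nat.card g.range := card_subgroup_dvd_card _
      have h6 : Nat.card (Q : Subgroup g.range) = 4 := hsy Q
      rw [h6] at h5
      have h7 : 2 ∣ Nat.card (Cfsg.oddCore ↥(fam 𝒜 H)) := (Dvd.intro 2 (by norm_num : 2 * 2 = 4)).trans (h5.trans h3)
      have h8 := Nat.eq_one_of_dvd_coprimes hc h7 (dvd_refl 2)
      omega

include hsimple hsyl h4 hAH in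
/-- `K = fam 𝒜 H` satisfies `Simp A K`. -/
theorem simp_fam
    (hne : ∃ Q R : Sylow 2 ↥(fam (push 𝒜 H) (⊤ : Subgroup (↥H ⧸ Cfsg.oddCore ↥H))), Q ≠ R) :
    GoldLFourBad.Simp (fam 𝒜 (S : Subgroup G)) (fam 𝒜 H) := by
  have h2 : Fact (Nat.Prime 2) := ⟨Nat.prime_two⟩
  set g := toPush (fam_le 𝒜 H) with hg
  have hr : g.range = fam (push 𝒜 H) (⊤ : Subgroup (↥H ⧸ Cfsg.oddCore ↥H)) := range_toPush
  have hk : g.ker = Cfsg.oddCore ↥(fam 𝒜 H) := ker_eq hsimple hsyl
  have hs : IsSimpleGroup g.range := by rw [hr]; exact hsimple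
  have hsy : ∀ Q : Sylow 2 g.range, Nat.card Q = 4 := by rw [hr]; exact hsyl
  have hne' : ∃ Q R : Sylow 2 g.range, Q ≠ R := by rw [hr]; exact hne
  let e : (↥(fam 𝒜 H) ⧸ Cfsg.oddCore ↥(fam 𝒜 H)) ≃* g.range :=
    (QuotientGroup.quotientMulEquivOfEq hk.symm).trans (QuotientGroup.quotientKerEquivRange g)
  have hAK : fam 𝒜 (S : Subgroup G) ≤ fam 𝒜 H := by
    rw [fam_le_iff]
    intro x hx hxS
    exact mem_fam hx (hAH (mem_fam hx hxS))
  refine ⟨hAK, e.isSimpleGroup_congr.2 hs, ?_, ?_⟩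
  · by_contra hcon
    push Not at hcon
    have hcomm : ∀ x y : g.range, x * y = y * x := by
      intro x y
      have := hcon (e.symm x) (e.symm y)
      rw [← map_mul, ← map_mul] at this
      exact e.symm.injective this
    obtain ⟨Q, R, hQR⟩ := hne'
    apply hQR
    obtain ⟨k, hk⟩ := MulAction.exists_smul_eq g.range Q R
    rw [← hk]
    symm
    rw [Sylow.smul_eq_iff_mem_normalizer]
    change k ∈ (normalizer ((Q : Subgroup g.range) : Set g.range) :)
    rw [mem_normalizer_iff]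
    intro x
    have : k * x * k⁻¹ = x := by rw [hcomm k x]; group
    rw [this]
  · have hcardK : (Nat.card ↥(fam 𝒜 H)).factorization 2 = 2 := by
      obtain ⟨Q⟩ : Nonempty (Sylow 2 g.range) := inferInstance
      have h6 := Q.card_eq_multiplicity
      rw [hsy Q] at h6
      have h7 : (Nat.card g.range).factorization 2 = 2 := by
        have h8 : 2 ^ 2 = 2 ^ (Nat.card g.range).factorization 2 := by rw [← h6]; norm_num
        exact (Nat.pow_right_injective (le_refl 2) h8).symm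
      have h8 : Nat.card ↥(fam 𝒜 H) = Nat.card g.range * Nat.card g.ker := by
        rw [← Nat.card_congr (QuotientGroup.quotientKerEquivRange g).toEquiv]
        exact card_eq_card_quotient_mul_card_subgroup g.ker
      have h9 : (Nat.card g.ker).factorization 2 = 0 := by
        apply Nat.factorization_eq_zero_of_not_dvd
        intro hd
        have h10 := Nat.eq_one_of_dvd_coprimes (odd_ker (fam_le 𝒜 H)) hd (dvd_refl 2)
        omega
      rw [h8, Nat.factorization_mul Nat.card_pos.ne' Nat.card_pos.ne', Finsupp.add_apply, h7, h9]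
    refine ⟨Sylow.ofCard ((fam 𝒜 (S : Subgroup G)).subgroupOf (fam 𝒜 H)) ?_, rfl⟩
    rw [hcardK, Nat.card_congr (subgroupOfEquivOfLe hAK).toEquiv, h4]
    norm_num

end Cfsg.Agent.TwoFusion.GoldBadSimp
end

-- part: TwoFusion/GoldBadOf
section
/-!
# Goldschmidt's theorem, `|A| = 4`: bad elements

* `ofNoSE`: the statement `GoldBad.OfNoSE`;
* `exists_bad`: every involution coset `tA` outside `A` contains a bad element;
* `simp_of_bad`: a bad element `e` gives `Simp A (fam 𝒜 (C(e)))`.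
-/

set_option autoImplicit false
set_option linter.style.haveILetI false

namespace Cfsg.Agent.TwoFusion.GoldBadOf

open Subgroup
open Cfsg.Agent.TwoFusion.ClosedFam Cfsg.Agent.TwoFusion.Gold Cfsg.Agent.TwoFusion.GoldSetup

universe u

variable {G : Type u} [Group G] [Finite G] {𝒜 : Set G}

/-- A bad element `e` commuting with `A` gives `Simp A (fam 𝒜 (C(e)))`. -/
theorem simp_of_bad (S : Sylow 2 G) (h4 : Nat.card (fam 𝒜 (S : Subgroup G)) = 4) {e : G}
    (heA : ∀ a ∈ fam 𝒜 (S : Subgroup G), a * e = e * a) (hb : GoldBad.Bad 𝒜 e) :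
    GoldLFourBad.Simp (fam 𝒜 (S : Subgroup G)) (fam 𝒜 (centralizer ({e} : Set G))) := by
  obtain ⟨-, -, hs, hsyl, Q, R, hQR, -⟩ := hb
  refine GoldBadSimp.simp_fam S h4 ?_ hs hsyl ⟨Q, R, hQR⟩
  intro a ha
  rw [mem_centralizer_iff]
  intro y hy
  rw [Set.mem_singleton_iff.1 hy]
  exact (heA a ha).symm

end Cfsg.Agent.TwoFusion.GoldBadOf
end

-- part: TwoFusion/GoldFourRed
section
/-!
# Goldschmidt's theorem, `|A| = 4`: reduction of M2

All involutions outside `𝒜` lead to the configurations of `GoldEight` and `GoldLFourMain`.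
-/

set_option autoImplicit false
set_option linter.style.haveILetI false

namespace Cfsg.Agent.TwoFusion.GoldFourRed

open Subgroup
open Cfsg.Agent.TwoFusion.ClosedFam Cfsg.Agent.TwoFusion.Gold Cfsg.Agent.TwoFusion.GoldSetup
open Cfsg.Agent.TwoFusion.ClosedLocal Cfsg.Agent.TwoFusion.GoldCen Cfsg.Agent.TwoFusion.GoldBad
open Cfsg.Agent.TwoFusion.GoldRedMax

universe u

variable {G : Type u} [Group G]

/-- Every coset `tA`, `t` an involution of `S` outside `A`, contains a bad element. -/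
def HBad (𝒜 : Set G) : Prop :=
  ∀ (T : Sylow 2 G) (t : G), t ∈ (T : Subgroup G) → t * t = 1 → t ∉ fam 𝒜 (T : Subgroup G) →
    ∃ a ∈ fam 𝒜 (T : Subgroup G), Bad 𝒜 (t * a)

/-- The balance statement (B3). -/
def HBal (𝒜 : Set G) : Prop :=
  ∀ T : Sylow 2 G, Nat.card (fam 𝒜 (T : Subgroup G)) = 4 → Bal 𝒜 (fam 𝒜 (T : Subgroup G))

section

variable [Finite G] {𝒜 : Set G} (h : Setup 𝒜) {S : Sylow 2 G} (h4 : Nat.card (fam 𝒜 (S : Subgroup G)) = 4)
  {e : G} (hm : MaxPair 𝒜 S e) (hC1 : GoldP.C1 G) (hbad : HBad 𝒜)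

include h

omit [Finite G] in
theorem hidx : ∀ K : Subgroup G, K.index ≠ 2 := by
  intro K hK
  haveI := h.simple
  obtain ⟨a, b, hab⟩ := h.nonab
  exact hab (GoldBasic.comm_of_index_two hK a b)

include h4 hm hC1

theorem nonab : ∃ x ∈ S, ∃ y ∈ S, x * y ≠ y * x := by
  by_contra hcon
  push Not at hcon
  apply ne h h4 hm hC1
  apply le_antisymm inf_le_left
  intro x hx
  exact mem_Pe.2 ⟨hx, hcon x hx e hm.mem⟩

include hbad

/-- The case `|C_S(e)| = 8`. -/
theorem false_eight (h8 : Nat.card (Pe S e) = 8) : False := by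
  classical
  set A := fam 𝒜 (S : Subgroup G) with hA
  have hcen := GoldFour.central h S h4
  have hd : GoldEight.Data S A := by
    refine ⟨h.sc S, h4, h.sq S, fun a ha s hs => (hcen a ha s hs).symm, ?_⟩
    intro u hu huA huu x hx hxu
    obtain ⟨f, -, -, -, hf⟩ := card_le h h4 hm hbad S hu huu huA
    set Q : Subgroup G := (S : Subgroup G) ⊓ centralizer ({u} : Set G) with hQ
    obtain ⟨-, hQ8⟩ := hf Q inf_le_left (fun q hq => mem_cent.1 (mem_inf.1 hq).2)
    have hAQ : A ≤ Q := fun a ha => mem_inf.2 ⟨fam_le _ _ ha, mem_cent.2 (hcen a ha u hu).symm⟩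
    have huQ : u ∈ Q := mem_inf.2 ⟨hu, mem_cent.2 rfl⟩
    have hxQ : x ∈ Q := mem_inf.2 ⟨hx, mem_cent.2 hxu⟩
    have h1 : A.relIndex Q ≠ 1 := by
      intro h1
      exact huA (relIndex_eq_one.1 h1 huQ)
    have h2 : Nat.card A * A.relIndex Q = Nat.card Q := by
      have := relIndex_mul_relIndex ⊥ A Q bot_le hAQ
      rwa [relIndex_bot_left, relIndex_bot_left] at this
    have h3 : A.relIndex Q = 2 := by
      rw [h4] at h2
      have h5 : Nat.card Q ≤ 8 := hQ8.trans h8.le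
      have h6 : 0 < Nat.card Q := Nat.card_pos
      omega
    by_cases hxA : x ∈ A
    · exact Or.inl hxA
    · right
      have h5 := Subgroup.mul_mem_iff_of_index_two (H := A.subgroupOf Q) h3 (a := ⟨x, hxQ⟩) (b := ⟨u, huQ⟩)
      rw [mem_subgroupOf, mem_subgroupOf, mem_subgroupOf] at h5
      exact h5.2 (iff_of_false hxA huA)
  obtain ⟨n, hne, hnA, hfix⟩ := GoldCenAct.exists_fpf h.fam S h4 hm.bad (comm_e h h4 hm)
  exact GoldEight.main (hidx h) S A hd (nonab h h4 hm hC1) e hm.mem (notMem h h4 hm) hm.bad.1 n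
    (fun a ha => (mem_normalizer_iff.1 hnA a).1 ha) hne hfix

end

/-- In a group of type `PSL(3,4)` the elements of `R₁ - R₂` are conjugate to all elements of their `Z`-coset. -/
theorem exists_conj_eq [Finite G] {T R₁ R₂ : Subgroup G} (h : Cfsg.Agent.TypeL3.IsAB T R₁ R₂)
    (h1 : Nat.card R₁ = 16) (hT : Nat.card T = 64)
    (hZ : Nat.card (R₁ ⊓ R₂ : Subgroup G) = 4) {u : G} (hu : u ∈ R₁) (hu2 : u ∉ R₂) {a : G} (ha : a ∈ R₁ ⊓ R₂) :
    ∃ s ∈ T, s * u * s⁻¹ = u * a := by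
  classical
  have huT := h.A_le hu
  let φ : T →* (R₁ ⊓ R₂ : Subgroup G) :=
    { toFun := fun s => ⟨s * u * (s : G)⁻¹ * u⁻¹, h.comm_mem s.2 huT⟩
      map_one' := Subtype.ext (by
        change (1 : G) * u * (1 : G)⁻¹ * u⁻¹ = 1
        group)
      map_mul' := fun s t => Subtype.ext (by
        change (s : G) * t * u * ((s : G) * t)⁻¹ * u⁻¹ = (s * u * (s : G)⁻¹ * u⁻¹) * (t * u * (t : G)⁻¹ * u⁻¹)
        have h2 := h.comm_Z (h.comm_mem t.2 huT) s.2
        have h3 := h.comm_Z (h.comm_mem t.2 huT) (h.Z_le (h.comm_mem s.2 huT))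
        calc (s : G) * t * u * ((s : G) * t)⁻¹ * u⁻¹ = s * (t * u * (t : G)⁻¹ * u⁻¹) * u * (s : G)⁻¹ * u⁻¹ := by
              group
          _ = (t * u * (t : G)⁻¹ * u⁻¹) * s * u * (s : G)⁻¹ * u⁻¹ := by rw [h2]
          _ = (t * u * (t : G)⁻¹ * u⁻¹) * (s * u * (s : G)⁻¹ * u⁻¹) := by group
          _ = (s * u * (s : G)⁻¹ * u⁻¹) * (t * u * (t : G)⁻¹ * u⁻¹) := h3) }
  have hker : φ.ker = R₁.subgroupOf T := by
    ext s
    rw [MonoidHom.mem_ker, mem_subgroupOf]
    constructor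
    · intro h2
      have h3 : (s : G) * u * (s : G)⁻¹ * u⁻¹ = 1 := congrArg Subtype.val h2
      have h4 : (s : G) * u * (s : G)⁻¹ = u := mul_inv_eq_one.1 h3
      refine h.centA u hu hu2 s s.2 ?_
      calc u * s = ((s : G) * u * (s : G)⁻¹) * s := by rw [h4]
        _ = s * u := by group
    · intro h2
      apply Subtype.ext
      change (s : G) * u * (s : G)⁻¹ * u⁻¹ = 1
      rw [h.A_comm s h2 u hu]; group
  have hkc : Nat.card φ.ker = 16 := by
    rw [hker, Nat.card_congr (subgroupOfEquivOfLe h.A_le).toEquiv, h1]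
  have h5 : Nat.card φ.range * Nat.card φ.ker = Nat.card T := by
    rw [← Nat.card_congr (QuotientGroup.quotientKerEquivRange φ).toEquiv]
    exact (Subgroup.card_eq_card_quotient_mul_card_subgroup φ.ker).symm
  rw [hkc, hT] at h5
  have h6 : φ.range = ⊤ := by
    apply Subgroup.eq_top_of_card_eq
    rw [hZ]; omega
  obtain ⟨s, hs⟩ : (⟨a, ha⟩ : (R₁ ⊓ R₂ : Subgroup G)) ∈ φ.range := by rw [h6]; exact mem_top _
  refine ⟨s, s.2, ?_⟩
  have h7 : (s : G) * u * (s : G)⁻¹ * u⁻¹ = a := congrArg Subtype.val hs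
  calc (s : G) * u * (s : G)⁻¹ = (s * u * (s : G)⁻¹ * u⁻¹) * u := by group
    _ = a * u := by rw [h7]
    _ = u * a := h.comm_Z ha huT

section

variable [Finite G] {𝒜 : Set G} (h : Setup 𝒜) {S : Sylow 2 G} (h4 : Nat.card (fam 𝒜 (S : Subgroup G)) = 4)
  {e : G} (hm : MaxPair 𝒜 S e)

include hm

omit [Finite G] in
theorem maxPair_of_le {T : Sylow 2 G} {f : G} (hf : f ∈ (T : Subgroup G)) (hfb : Bad 𝒜 f)
    (hle : Nat.card (Pe S e) ≤ Nat.card (Pe T f)) : MaxPair 𝒜 T f :=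
  ⟨hf, hfb, fun T' f' h1 h2 => (hm.max T' f' h1 h2).trans hle⟩

/-- A 2-subgroup of `C(e)` containing `P` equals `P`. -/
theorem eq_of_isPGroup {R : Subgroup G} (hPR : Pe S e ≤ R) (hR : IsPGroup 2 R) (hRe : R ≤ centralizer ({e} : Set G)) :
    R = Pe S e := by
  haveI : Fact (Nat.Prime 2) := ⟨Nat.prime_two⟩
  obtain ⟨T, hT⟩ := hR.exists_le_sylow
  have heT : e ∈ (T : Subgroup G) := hT (hPR (mem_Pe.2 ⟨hm.mem, rfl⟩))
  have h1 := hm.max T e heT hm.bad
  have h2 : R ≤ (T : Subgroup G) ⊓ centralizer ({e} : Set G) := le_inf hT hRe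
  exact (Subgroup.eq_of_le_of_card_ge hPR ((Subgroup.card_le_of_le h2).trans h1)).symm

/-- Change of the Sylow subgroup: `N_S(P)` may be assumed to be a Sylow subgroup of `N_G(P)`. -/
theorem exists_sylow : ∃ T : Sylow 2 G, MaxPair 𝒜 T e ∧ Pe T e = Pe S e ∧
    ¬ 2 ∣ ((T : Subgroup G) ⊓ normalizer (Pe T e : Set G)).relIndex (normalizer (Pe T e : Set G)) := by
  haveI : Fact (Nat.Prime 2) := ⟨Nat.prime_two⟩
  have hPp : IsPGroup 2 (Pe S e) := S.2.to_le inf_le_left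
  obtain ⟨R, hPR, hRN, hRp, hRi⟩ := Lib.GoldschmidtFusion.exists_sylow_in (N := normalizer (Pe S e : Set G))
    le_normalizer hPp
  obtain ⟨T, hT⟩ := hRp.exists_le_sylow
  have hPT : Pe S e ≤ Pe T e := le_inf (hPR.trans hT) inf_le_right
  have heT : e ∈ (T : Subgroup G) := hT (hPR (mem_Pe.2 ⟨hm.mem, rfl⟩))
  have h1 := hm.max T e heT hm.bad
  have hPeq : Pe T e = Pe S e := (Subgroup.eq_of_le_of_card_ge hPT h1).symm
  refine ⟨T, maxPair_of_le hm heT hm.bad (Subgroup.card_le_of_le hPT), hPeq, ?_⟩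
  rw [hPeq]
  intro h2
  apply hRi
  rw [← relIndex_mul_relIndex R ((T : Subgroup G) ⊓ normalizer (Pe S e : Set G)) _ (le_inf hT hRN) inf_le_right]
  exact h2.mul_left _

include h h4

/-- An element of `C(e) ∩ N(P) ∩ N(A)` without fixed points on `A`. -/
theorem exists_x : ∃ x : G, x * e = e * x ∧ x ∈ normalizer (Pe S e : Set G) ∧
    x ∈ normalizer (fam 𝒜 (S : Subgroup G) : Set G) ∧ ∀ a ∈ fam 𝒜 (S : Subgroup G), x * a * x⁻¹ = a → a = 1 := by
  haveI : Fact (Nat.Prime 2) := ⟨Nat.prime_two⟩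
  set A := fam 𝒜 (S : Subgroup G) with hA
  have hcen := GoldFour.central h S h4
  have hPp : IsPGroup 2 (Pe S e) := S.2.to_le inf_le_left
  set D : Subgroup G := centralizer (A : Set G) ⊓ centralizer ({e} : Set G) with hD
  have hPD : Pe S e ≤ D := by
    intro p hp
    rw [mem_Pe] at hp
    refine mem_inf.2 ⟨mem_centralizer_iff.2 fun a ha => (hcen a ha p hp.1).symm, mem_cent.2 hp.2⟩
  obtain ⟨R, hPR, hRD, hRp, hRi⟩ := Lib.GoldschmidtFusion.exists_sylow_in hPD hPp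
  have hReq : R = Pe S e := eq_of_isPGroup hm hPR hRp (hRD.trans inf_le_right)
  rw [hReq] at hRi
  obtain ⟨n, hne, hnA, hfix⟩ := GoldCenAct.exists_fpf h.fam S h4 hm.bad (comm_e h h4 hm)
  have hnD : ∀ d ∈ D, n * d * n⁻¹ ∈ D := by
    intro d hd
    have hd1 := mem_centralizer_iff.1 (mem_inf.1 hd).1
    have hd2 := mem_cent.1 (mem_inf.1 hd).2
    refine mem_inf.2 ⟨mem_centralizer_iff.2 fun a ha => ?_, mem_cent.2 ?_⟩
    · have h1 : n⁻¹ * a * n ∈ A := by
        have := (mem_normalizer_iff.1 (inv_mem hnA) a).1 ha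
        rwa [inv_inv] at this
      have h2 := hd1 _ h1
      calc a * (n * d * n⁻¹) = n * ((n⁻¹ * a * n) * d) * n⁻¹ := by group
        _ = n * (d * (n⁻¹ * a * n)) * n⁻¹ := by rw [h2]
        _ = n * d * n⁻¹ * a := by group
    · have h1 : n⁻¹ * e * n = e := by
        rw [mul_assoc, ← hne]; group
      calc n * d * n⁻¹ * e = n * (d * (n⁻¹ * e * n)) * n⁻¹ := by group
        _ = n * ((n⁻¹ * e * n) * d) * n⁻¹ := by rw [h1, hd2]
        _ = e * (n * d * n⁻¹) := by group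
  obtain ⟨d, hd, hdP⟩ := Lib.GoldschmidtFusion.exists_conj_le_in (N := D) hPp hRi
    (D := (Pe S e).map (MulAut.conj n).toMonoidHom) (by
      rintro _ ⟨p, hp, rfl⟩
      exact hnD p (hPD hp)) (hPp.map _)
  rw [← map_conj_mul] at hdP
  have hd1 := mem_centralizer_iff.1 (mem_inf.1 hd).1
  have hd2 := mem_cent.1 (mem_inf.1 hd).2
  refine ⟨d * n, ?_, ?_, ?_, ?_⟩
  · calc d * n * e = d * (n * e) := by group
      _ = (d * e) * n := by rw [hne]; group
      _ = e * (d * n) := by rw [hd2]; group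
  · exact Lib.GoldschmidtFusion.mem_normalizer_iff_map_conj.2
      (Lib.GoldschmidtFusion.map_conj_le_of_le_normalizer hdP)
  · exact mul_mem (centralizer_le_normalizer _ (mem_inf.1 hd).1) hnA
  · intro a ha hx
    apply hfix a ha
    have h1 : n * a * n⁻¹ ∈ A := (mem_normalizer_iff.1 hnA a).1 ha
    have h2 := hd1 _ h1
    calc n * a * n⁻¹ = d⁻¹ * (d * (n * a * n⁻¹)) := by group
      _ = d⁻¹ * ((n * a * n⁻¹) * d) := by rw [h2]
      _ = d⁻¹ * (d * n * a * (d * n)⁻¹) * d := by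
          have h3 : d * n * a * (d * n)⁻¹ = n * a * n⁻¹ := by
            calc d * n * a * (d * n)⁻¹ = (d * (n * a * n⁻¹)) * d⁻¹ := by group
              _ = ((n * a * n⁻¹) * d) * d⁻¹ := by rw [h2]
              _ = n * a * n⁻¹ := by group
          rw [h3]; group
      _ = d⁻¹ * a * d := by rw [hx]
      _ = d⁻¹ * (a * d) := by group
      _ = a := by rw [hd1 a ha]; group

/-- For `|R| = 4`: an element of `N(P) ∩ N(A)` without fixed points on `A` and with `[x, P] ≤ A`. -/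
theorem exists_y (hR4 : Nat.card (Re 𝒜 S e) = 4) (hP2 : ∀ x ∈ Pe S e, x * x = 1) :
    ∃ y : G, y ∈ normalizer (Pe S e : Set G) ∧
    y ∈ normalizer (fam 𝒜 (S : Subgroup G) : Set G) ∧ (∀ a ∈ fam 𝒜 (S : Subgroup G), y * a * y⁻¹ = a → a = 1) ∧
    ∀ p ∈ Pe S e, y * p * y⁻¹ * p⁻¹ ∈ fam 𝒜 (S : Subgroup G) := by
  obtain ⟨x, hxe, hxP, hxA, hfix⟩ := exists_x h h4 hm
  have hxa : ∀ a ∈ fam 𝒜 (S : Subgroup G), x * a * x⁻¹ ∈ fam 𝒜 (S : Subgroup G) := fun a ha =>
    (mem_normalizer_iff.1 hxA a).1 ha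
  have hxR : ∀ r ∈ Re 𝒜 S e, x * r * x⁻¹ ∈ Re 𝒜 S e := by
    intro r hr
    exact mem_inf.2 ⟨(mem_normalizer_iff.1 hxP r).1 (mem_inf.1 hr).1,
      GoldCenAct.conj_mem_cen h.fam hxe (mem_inf.1 hr).2⟩
  have hRsq : ∀ r ∈ Re 𝒜 S e, r * r = 1 := fun r hr => hP2 r (mem_inf.1 hr).1
  have hxee : x * e * x⁻¹ = e := by rw [hxe]; group
  have hR : ∀ r ∈ Re 𝒜 S e, x * (x * r * x⁻¹) * x⁻¹ = r := by
    intro r hr
    by_cases hr1 : r = 1
    · rw [hr1]; group
    by_cases hre : r = e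
    · rw [hre, hxee, hxee]
    rcases GoldFourAct.exhaust hR4 hRsq (e_mem_Re hm) hr (hxR r hr) hm.bad.2.1 hr1 (fun e1 => hre e1.symm) with
      h1 | h1 | h1 | h1
    · exfalso
      apply hr1
      calc r = x⁻¹ * (x * r * x⁻¹) * x := by group
        _ = 1 := by rw [h1]; group
    · exfalso
      apply hre
      calc r = x⁻¹ * (x * r * x⁻¹) * x := by group
        _ = x⁻¹ * (x * e * x⁻¹) * x := by rw [h1, hxee]
        _ = e := by group
    · rw [h1, h1]
    · rw [h1]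
      calc x * (e * r) * x⁻¹ = (x * e * x⁻¹) * (x * r * x⁻¹) := by group
        _ = e * (e * r) := by rw [h1, hxee]
        _ = r := by rw [← mul_assoc, hm.bad.1, one_mul]
  refine ⟨x * x, mul_mem hxP hxP, mul_mem hxA hxA, ?_, ?_⟩
  · intro a ha hxx
    have h1 := hxa a ha
    have h2 : x * (x * a * x⁻¹) * x⁻¹ = a := by
      calc x * (x * a * x⁻¹) * x⁻¹ = x * x * a * (x * x)⁻¹ := by group
        _ = a := hxx
    have h3 : a * (x * a * x⁻¹) = 1 := by
      apply hfix _ (mul_mem ha h1)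
      calc x * (a * (x * a * x⁻¹)) * x⁻¹ = (x * a * x⁻¹) * (x * (x * a * x⁻¹) * x⁻¹) := by group
        _ = (x * a * x⁻¹) * a := by rw [h2]
        _ = a * (x * a * x⁻¹) := h.comm S _ h1 _ ha
    apply hfix a ha
    have h5 := h.sq S a ha
    calc x * a * x⁻¹ = (a * a) * (x * a * x⁻¹) := by rw [h5, one_mul]
      _ = a * (a * (x * a * x⁻¹)) := by group
      _ = a := by rw [h3, mul_one]
  · intro p hp
    obtain ⟨a, ha, har⟩ := exists_mul_mem h h4 hm hp
    have h1 := hR _ har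
    have h2 : x * x * p * (x * x)⁻¹ * p⁻¹ = (x * (x * a * x⁻¹) * x⁻¹)⁻¹ * a := by
      have e1 : x * (x * (a * p) * x⁻¹) * x⁻¹ = (x * (x * a * x⁻¹) * x⁻¹) * (x * (x * p * x⁻¹) * x⁻¹) := by group
      rw [e1] at h1
      have e2 : x * x * p * (x * x)⁻¹ = x * (x * p * x⁻¹) * x⁻¹ := by group
      rw [e2, mul_inv_eq_iff_eq_mul, mul_assoc _ a p, ← h1, inv_mul_cancel_left]
    rw [h2]
    exact mul_mem (inv_mem (hxa _ (hxa a ha))) ha

end

section

variable [Finite G] {𝒜 : Set G} (h : Setup 𝒜) (hC1 : GoldP.C1 G) (hbad : HBad 𝒜) (hbal : HBal 𝒜)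

include h hC1 hbad hbal

/-- The case `|C_S(e)| = 16`. -/
theorem false_sixteen {S : Sylow 2 G} (h4 : Nat.card (fam 𝒜 (S : Subgroup G)) = 4) {e : G}
    (hm : MaxPair 𝒜 S e) (hR4 : Nat.card (Re 𝒜 S e) = 4) (h16 : Nat.card (Pe S e) = 16)
    (hP2 : ∀ x ∈ Pe S e, x * x = 1)
    (hsyl : ¬ 2 ∣ ((S : Subgroup G) ⊓ normalizer (Pe S e : Set G)).relIndex (normalizer (Pe S e : Set G))) :
    False := by
  classical
  haveI : Fact (Nat.Prime 2) := ⟨Nat.prime_two⟩
  have hcen := GoldFour.central h S h4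
  have hPS : Pe S e ≤ (S : Subgroup G) := inf_le_left
  obtain ⟨y, hyP, hyA, hfix, hyc⟩ := exists_y h h4 hm hR4 hP2
  obtain ⟨T, Q, hU, hPQ⟩ := GoldFourUpIn.exists_up S (fam_le_Pe h h4 hm) hPS (ne h h4 hm hC1) h4 h16 hP2
    (fun a ha s hs => (hcen a ha s hs).symm)
    (by
      intro u hu huu huA Q hQ hQu
      obtain ⟨f, -, -, -, hf⟩ := card_le h h4 hm hbad S hu huu huA
      exact (hf Q hQ hQu).2.trans h16.le)
    (by
      intro u hu huu huA Q hQ hQu hQ16 x hx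
      obtain ⟨f, hfS, hfb, -, hf⟩ := card_le h h4 hm hbad S hu huu huA
      have hQf := (hf Q hQ hQu).1
      have hmf : MaxPair 𝒜 S f := maxPair_of_le hm hfS hfb (by
        rw [h16, ← hQ16]; exact Subgroup.card_le_of_le hQf)
      exact (structure_Pe h h4 hmf (hbal S h4) hC1).1 x (hQf hx))
    hsyl hyP hyA hfix hyc
  have hTS : T = (S : Subgroup G) := by
    refine GoldLFourUp.eq_of_no_index_two hU ?_ (hidx h) (n := y) ?_ ?_
    · rw [hPQ]; exact h.sc S
    · rw [hPQ]; exact hyA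
    · rw [hPQ]; exact hfix
  have hT64 := hU.card_T
  rw [hTS] at hT64
  have hab := hU.ab
  rw [hTS] at hab
  have hZ := hU.cardZ
  refine GoldLFourMain.false_of_isAB h S h4 (GoldSolid.solid h S h4) hab hPQ hU.card1 hU.card2 ?_
  intro u hu huu huA
  obtain ⟨a, ha, hb⟩ := hbad S u hu huu huA
  have hfS : u * a ∈ (S : Subgroup G) := mul_mem hu (fam_le _ _ ha)
  have hsimp := GoldBadOf.simp_of_bad S h4 (fun a' ha' => (hcen a' ha' (u * a) hfS).symm) hb
  -- `u` is conjugate to `u a`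
  have huPQ : u ∉ Pe S e ∨ u ∉ Q := by
    by_contra hcon
    push Not at hcon
    apply huA
    rw [← hPQ]
    exact mem_inf.2 hcon
  have hex : ∃ s ∈ (S : Subgroup G), s * u * s⁻¹ = u * a := by
    rcases hab.inv u hu huu with h1 | h1
    · exact exists_conj_eq hab hU.card1 hT64 hZ h1 (huPQ.resolve_left (not_not.2 h1)) (by rw [hPQ]; exact ha)
    · refine exists_conj_eq hab.symm hU.card2 hT64 (by rw [inf_comm]; exact hZ) h1
        (huPQ.resolve_right (not_not.2 h1)) (by rw [inf_comm, hPQ]; exact ha)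
  obtain ⟨s, hs, hsu⟩ := hex
  have h1 := GoldRedConj.simp_conj h.fam.toIsClosedFam hsimp (n := s⁻¹) (inv_mem (h.le_normalizer S hs))
  have e1 : s⁻¹ * (u * a) * s⁻¹⁻¹ = u := by rw [← hsu]; group
  rwa [e1] at h1

/-- **M2**: there is no involution in `S - A`. -/
theorem false_of_involution (S : Sylow 2 G) (h4 : Nat.card (fam 𝒜 (S : Subgroup G)) = 4) {t : G}
    (ht : t ∈ (S : Subgroup G)) (htt : t * t = 1) (htA : t ∉ fam 𝒜 (S : Subgroup G)) : False := by
  obtain ⟨a, ha, hb⟩ := hbad S t ht htt htA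
  obtain ⟨T, e, hm⟩ := exists_maxPair S (mul_mem ht (fam_le _ _ ha)) hb
  have h4T : Nat.card (fam 𝒜 (T : Subgroup G)) = 4 := by rw [card_fam_sylow h.fam.toIsClosedFam T S, h4]
  obtain ⟨hP2, ⟨-, h8⟩ | ⟨hR4, h16⟩⟩ := structure_Pe h h4T hm (hbal T h4T) hC1
  · exact false_eight h h4T hm hC1 hbad h8
  · obtain ⟨T', hm', hPeq, hsyl⟩ := exists_sylow hm
    have h4T' : Nat.card (fam 𝒜 (T' : Subgroup G)) = 4 := by rw [card_fam_sylow h.fam.toIsClosedFam T' S, h4]
    have h16' : Nat.card (Pe T' e) = 16 := by rw [hPeq]; exact h16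
    refine false_sixteen h hC1 hbad hbal h4T' hm' ?_ h16' ?_ hsyl
    · have := card_Pe h h4T' hm'
      omega
    · rw [hPeq]; exact hP2

end

end Cfsg.Agent.TwoFusion.GoldFourRed
end

private theorem dce_d70f8b5d698f : _root_.True := by
  try have : _root_.True := by simp only [_root_.Cfsg.Agent.TwoFusion.GoldBridge.lift.eq_1]
  try have : _root_.True := by simp only [_root_.Cfsg.Agent.TwoFusion.ClosedFam.core.eq_1]
  try have : _root_.True := by simp only [_root_.Cfsg.Agent.TwoFusion.GoldBridge.pull.eq_1]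
  exact _root_.True.intro
end

-- part: TwoFusion/GoldJBasic
section
prune_inst 0x4410000
set_option linter.all false
open scoped Cfsg.Agent.FastGrp

/-!
# Tools for case (J) of Goldschmidt's theorem

* `exists_fixed_odd`: an element of odd order normalising a 2-subgroup `N` and a coset of `N` centralises an
  element of the coset;
* `comm_mem`: a quadratic form argument;
* `exists_inv_index_two`: invariant subgroups of index two.
-/

set_option autoImplicit false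
set_option linter.style.haveILetI false

namespace Cfsg.Agent.TwoFusion.GoldJBasic

open Subgroup

variable {G : Type*} [Group G]

/-- An element of odd order normalising a 2-subgroup `N` and a coset `x N` centralises an element of the coset. -/
theorem exists_fixed_odd [Finite G] (g : G) (hg : Odd (orderOf g)) (N : Subgroup G) (hN : IsPGroup 2 N)
    (hgN : ∀ n ∈ N, g * n * g⁻¹ ∈ N) (x : G) (hx : x⁻¹ * (g * x * g⁻¹) ∈ N) :
    ∃ y : G, x⁻¹ * y ∈ N ∧ g * y = y * g := by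
  haveI : Fact (Nat.Prime 2) := ⟨Nat.prime_two⟩
  have hgn : g ∈ normalizer (N : Set G) := by
    have h1 : N.map (MulAut.conj g).toMonoidHom ≤ N := by
      rintro _ ⟨n, hn, rfl⟩
      exact hgN n hn
    have h2 : N.map (MulAut.conj g).toMonoidHom = N := by
      apply Subgroup.eq_of_le_of_card_ge h1
      exact (Nat.card_congr (N.equivMapOfInjective _ (MulAut.conj g).injective).toEquiv).le
    rw [mem_normalizer_iff]
    intro n
    refine ⟨fun hn => hgN n hn, fun hn => ?_⟩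
    have h3 : g * n * g⁻¹ ∈ N.map (MulAut.conj g).toMonoidHom := by rw [h2]; exact hn
    obtain ⟨m, hm, e⟩ := h3
    have e1 : g * m * g⁻¹ = g * n * g⁻¹ := e
    have e2 : m = n := by simpa using e1
    rwa [← e2]
  have hzn : zpowers g ≤ normalizer (N : Set G) := by rwa [zpowers_le]
  have hcop : (Nat.card (zpowers g)).Coprime (Nat.card N) := by
    rw [Nat.card_zpowers]
    obtain ⟨k, hk⟩ := IsPGroup.iff_card.mp hN
    rw [hk]
    exact (Nat.coprime_two_right.mpr hg).pow_right k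
  have hsolv : Group.IsSolvable (zpowers g) := by
    letI : CommGroup (zpowers g) := IsCyclic.commGroup
    infer_instance
  have hcl : ∀ a ∈ zpowers g, ∃ n ∈ N, a * x⁻¹ * a⁻¹ = n * x⁻¹ := by
    have h0 : x⁻¹ * (g * x * g⁻¹) ∈ N := hx
    have h1 : ∃ n ∈ N, g * x⁻¹ * g⁻¹ = n * x⁻¹ :=
      ⟨_, N.inv_mem h0, by group⟩
    let K : Subgroup G :=
      { carrier := {a | a ∈ normalizer (N : Set G) ∧ ∃ n ∈ N, a * x⁻¹ * a⁻¹ = n * x⁻¹}
        one_mem' := ⟨one_mem _, 1, N.one_mem, by simp⟩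
        mul_mem' := by
          rintro a b ⟨ha, n, hn, en⟩ ⟨hb, m, hm, em⟩
          refine ⟨mul_mem ha hb, (a * m * a⁻¹) * n, N.mul_mem ((mem_normalizer_iff.1 ha m).1 hm) hn, ?_⟩
          have : a * b * x⁻¹ * (a * b)⁻¹ = a * (b * x⁻¹ * b⁻¹) * a⁻¹ := by group
          rw [this, em]
          have : a * (m * x⁻¹) * a⁻¹ = (a * m * a⁻¹) * (a * x⁻¹ * a⁻¹) := by group
          rw [this, en]; group
        inv_mem' := by
          rintro a ⟨ha, n, hn, en⟩
          have ha' : a⁻¹ ∈ normalizer (N : Set G) := inv_mem ha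
          refine ⟨ha', a⁻¹ * n⁻¹ * a⁻¹⁻¹, (mem_normalizer_iff.1 ha' _).1 (N.inv_mem hn), ?_⟩
          have e1 : x⁻¹ = n⁻¹ * (a * x⁻¹ * a⁻¹) := by rw [en]; group
          have e2 : a⁻¹ * n⁻¹ * a⁻¹⁻¹ * x⁻¹ = a⁻¹ * (n⁻¹ * (a * x⁻¹ * a⁻¹)) * a⁻¹⁻¹ := by group
          rw [e2, ← e1] }
    have h2 : zpowers g ≤ K := by
      rw [zpowers_le]
      exact ⟨hgn, h1⟩
    intro a ha
    exact (h2 ha).2
  obtain ⟨k, hk, hfix⟩ := Cfsg.Agent.Solvable.Glauberman.exists_smul_fixed (zpowers g) N hzn hcop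
    (Or.inl hsolv) (X := G ⧸ zpowers g) (QuotientGroup.mk x⁻¹) (by
      intro a ha
      obtain ⟨n, hn, e⟩ := hcl a ha
      refine ⟨n, hn, ?_⟩
      rw [MulAction.Quotient.smul_mk, MulAction.Quotient.smul_mk, smul_eq_mul, smul_eq_mul, ← e,
        QuotientGroup.eq]
      have : (a * x⁻¹)⁻¹ * (a * x⁻¹ * a⁻¹) = a⁻¹ := by group
      rw [this]
      exact inv_mem ha)
  refine ⟨x * k⁻¹, ?_, ?_⟩
  · rw [inv_mul_cancel_left]; exact N.inv_mem hk
  · have h1 := hfix g (mem_zpowers g)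
    rw [MulAction.Quotient.smul_mk, MulAction.Quotient.smul_mk, smul_eq_mul, smul_eq_mul, eq_comm,
      QuotientGroup.eq] at h1
    -- `y⁻¹ g y ∈ ⟨g⟩`
    have h2 : (k * x⁻¹)⁻¹ * (g * (k * x⁻¹)) * g⁻¹ ∈ zpowers g :=
      mul_mem h1 (inv_mem (mem_zpowers g))
    obtain ⟨n, hn, en⟩ := hcl g (mem_zpowers g)
    have h3 : (k * x⁻¹)⁻¹ * (g * (k * x⁻¹)) * g⁻¹ = x * (k⁻¹ * (g * k * g⁻¹) * n) * x⁻¹ := by
      have : (k * x⁻¹)⁻¹ * (g * (k * x⁻¹)) * g⁻¹ = x * (k⁻¹ * (g * k * g⁻¹)) * (g * x⁻¹ * g⁻¹) := by group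
      rw [this, en]; group
    set m := k⁻¹ * (g * k * g⁻¹) * n with hm
    have hmN : m ∈ N := N.mul_mem (N.mul_mem (N.inv_mem hk) (hgN k hk)) hn
    rw [h3] at h2
    have h4 : orderOf (x * m * x⁻¹) ∣ orderOf g := by
      have := orderOf_dvd_natCard (⟨_, h2⟩ : zpowers g)
      rwa [Nat.card_zpowers, Subgroup.orderOf_mk] at this
    have h5 : orderOf (x * m * x⁻¹) = orderOf m := by
      exact orderOf_injective (MulAut.conj x).toMonoidHom (MulAut.conj x).injective m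
    have h6 : m = 1 := by
      rw [← orderOf_eq_one_iff]
      have h7 : orderOf m ∣ Nat.card N := by
        have := orderOf_dvd_natCard (⟨m, hmN⟩ : N)
        rwa [Subgroup.orderOf_mk] at this
      rw [h5] at h4
      have h8 := Nat.dvd_gcd h4 h7
      rw [Nat.card_zpowers] at hcop
      rw [hcop] at h8
      exact Nat.dvd_one.mp h8
    rw [h6] at h3
    have h9 : (k * x⁻¹)⁻¹ * (g * (k * x⁻¹)) = g := by
      have := congrArg (fun z => z * g) h3
      simpa using this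
    have h10 : x * k⁻¹ * g * (x * k⁻¹)⁻¹ = g := by
      have e : x * k⁻¹ * g * (x * k⁻¹)⁻¹ = (k * x⁻¹)⁻¹ * (g * (k * x⁻¹)) := by group
      rw [e, h9]
    calc g * (x * k⁻¹) = (x * k⁻¹ * g * (x * k⁻¹)⁻¹) * (x * k⁻¹) := by rw [h10]
      _ = x * k⁻¹ * g := by group

/-- A quadratic form on a space of dimension at least three, constant on the nonzero vectors, is trivial. -/
theorem comm_mem {T M N : Subgroup G} (hMc : ∀ m ∈ M, ∀ t ∈ T, m * t = t * m)
    (hsq : ∀ t ∈ T, t * t ∈ M)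
    (hN2 : ∀ m ∈ M, ∀ m' ∈ M, (m * m' ∈ N ↔ (m ∈ N ↔ m' ∈ N)))
    (hq : ∀ t ∈ T, ∀ u ∈ T, t ∉ M → u ∉ M → (t * t ∈ N ↔ u * u ∈ N))
    (hbig : ∀ t ∈ T, ∀ u ∈ T, ∃ w ∈ T, w ∉ M ∧ t * w ∉ M ∧ u * w ∉ M ∧ t * (u * w) ∉ M) :
    ∀ t ∈ T, ∀ u ∈ T, t * u * t⁻¹ * u⁻¹ ∈ N := by
  have h1N : (1 : G) ∈ N := N.one_mem
  -- the commutator in terms of squares
  have hc : ∀ t ∈ T, ∀ u ∈ T, t * u * (t * u) = (t * u * t⁻¹ * u⁻¹) * ((t * t) * (u * u)) := by
    intro t ht u hu
    have h := hMc _ (hsq t ht) u hu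
    calc t * u * (t * u) = (t * u * t⁻¹ * u⁻¹) * (u * (t * t)) * u := by group
      _ = (t * u * t⁻¹ * u⁻¹) * ((t * t) * u) * u := by rw [h]
      _ = _ := by group
  have hcM : ∀ t ∈ T, ∀ u ∈ T, t * u * t⁻¹ * u⁻¹ ∈ M := by
    intro t ht u hu
    have h := hc t ht u hu
    have e : t * u * t⁻¹ * u⁻¹ = (t * u * (t * u)) * ((t * t) * (u * u))⁻¹ := by rw [h]; group
    rw [e]
    exact M.mul_mem (hsq _ (mul_mem ht hu)) (M.inv_mem (M.mul_mem (hsq t ht) (hsq u hu)))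
  have hK : ∀ t ∈ T, ∀ u ∈ T, (t * u * (t * u) ∈ N ↔
      (t * u * t⁻¹ * u⁻¹ ∈ N ↔ (t * t ∈ N ↔ u * u ∈ N))) := by
    intro t ht u hu
    rw [hc t ht u hu, hN2 _ (hcM t ht u hu) _ (M.mul_mem (hsq t ht) (hsq u hu)),
      hN2 _ (hsq t ht) _ (hsq u hu)]
  have hone : ∀ t u : G, t * u = u * t → t * u * t⁻¹ * u⁻¹ ∈ N := by
    intro t u h
    rw [h]
    have : u * t * t⁻¹ * u⁻¹ = 1 := by group
    rw [this]; exact h1N
  intro t ht u hu
  by_cases htM : t ∈ M
  · exact hone t u (hMc t htM u hu)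
  by_cases huM : u ∈ M
  · exact hone t u (hMc u huM t ht).symm
  by_cases htu : t * u ∈ M
  · apply hone
    have h := hMc _ htu t ht
    have h2 : t * u * t = t * (t * u) := h
    have h3 : t * (u * t) = t * (t * u) := by rw [← mul_assoc]; exact h2
    exact (mul_left_cancel h3).symm
  have hk := hK t ht u hu
  have q1 := hq t ht u hu htM huM
  have q2 := hq t ht (t * u) (mul_mem ht hu) htM htu
  by_cases htN : t * t ∈ N
  · exact (hk.1 (q2.1 htN)).2 ⟨fun _ => q1.1 htN, fun _ => htN⟩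
  · exfalso
    obtain ⟨w, hw, w1, w2, w3, w4⟩ := hbig t ht u hu
    have hbad : ∀ v ∈ T, v ∉ M → t * v ∉ M → t * v * t⁻¹ * v⁻¹ ∉ N := by
      intro v hv hvM htv hcon
      have k1 := hK t ht v hv
      have p1 := hq t ht v hv htM hvM
      have p2 := hq t ht (t * v) (mul_mem ht hv) htM htv
      exact htN (p2.2 (k1.2 ⟨fun _ => p1, fun _ => hcon⟩))
    have b1 := hbad u hu huM htu
    have b2 := hbad w hw w1 w2
    have b3 := hbad (u * w) (mul_mem hu hw) w3 w4
    apply b3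
    have e : t * (u * w) * t⁻¹ * (u * w)⁻¹ = (t * u * t⁻¹ * u⁻¹) * (t * w * t⁻¹ * w⁻¹) := by
      have h := hMc _ (hcM t ht w hw) u hu
      calc t * (u * w) * t⁻¹ * (u * w)⁻¹
          = (t * u * t⁻¹ * u⁻¹) * (u * (t * w * t⁻¹ * w⁻¹)) * u⁻¹ := by group
        _ = (t * u * t⁻¹ * u⁻¹) * ((t * w * t⁻¹ * w⁻¹) * u) * u⁻¹ := by rw [h]
        _ = _ := by group
    rw [e, hN2 _ (hcM t ht u hu) _ (hcM t ht w hw)]
    exact ⟨fun h => absurd h b1, fun h => absurd h b2⟩

/-- Let `g` of odd order normalise the abelian 2-group `M`, `Z = C_M(g) ≠ 1`: there is a `g`-invariant subgroup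
of index two of `M` not containing `Z`. -/
theorem exists_inv_index_two [Finite G] {M Z : Subgroup G} (hM : IsPGroup 2 M)
    (hMc : ∀ m ∈ M, ∀ m' ∈ M, m * m' = m' * m) {g : G} (hg : Odd (orderOf g))
    (hgM : g ∈ normalizer (M : Set G)) (hZ : ∀ z ∈ M, (g * z = z * g ↔ z ∈ Z)) (hZM : Z ≤ M)
    (hZ1 : Z ≠ ⊥) :
    ∃ N : Subgroup G, N ≤ M ∧ (∀ m ∈ M, ∀ m' ∈ M, (m * m' ∈ N ↔ (m ∈ N ↔ m' ∈ N))) ∧
      (∀ m ∈ M, (g * m * g⁻¹ ∈ N ↔ m ∈ N)) ∧ ∃ z ∈ Z, z ∉ N := by
  haveI : Fact (Nat.Prime 2) := ⟨Nat.prime_two⟩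
  set D := ⁅M, zpowers g⁆ with hD
  have hcop : (Nat.card (zpowers g)).Coprime (Nat.card M) := by
    rw [Nat.card_zpowers]
    obtain ⟨k, hk⟩ := IsPGroup.iff_card.mp hM
    rw [hk]
    exact (Nat.coprime_two_right.mpr hg).pow_right k
  have hzM : zpowers g ≤ normalizer (M : Set G) := by rwa [zpowers_le]
  have h1 := Cfsg.Agent.Lib.CoprimeAbelian.inf_commutator_eq_bot (zpowers g) M hMc hzM hcop
  have h2 := Cfsg.Agent.Lib.CoprimeAbelian.sup_commutator_eq (zpowers g) M hMc hzM hcop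
  have hC : M ⊓ centralizer ((zpowers g : Subgroup G) : Set G) = Z := by
    ext z
    rw [mem_inf]
    constructor
    · rintro ⟨hz, hz'⟩
      exact (hZ z hz).1 (mem_centralizer_iff.1 hz' g (mem_zpowers g))
    · intro hz
      refine ⟨hZM hz, ?_⟩
      have h3 := (hZ z (hZM hz)).2 hz
      rw [mem_centralizer_iff]
      rintro _ ⟨k, rfl⟩
      exact ((show Commute g z from h3).zpow_left k).eq
  rw [hC] at h1 h2
  have hDM : D ≤ M := by
    rw [← h2]; exact le_sup_right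
  have hDne : D.subgroupOf M ≠ ⊤ := by
    intro h
    rw [subgroupOf_eq_top] at h
    apply hZ1
    rw [eq_bot_iff, ← h1]
    exact le_inf le_rfl (hZM.trans h)
  haveI hDn : (D.subgroupOf M).Normal := by
    refine ⟨fun x hx y => ?_⟩
    have : y * x * y⁻¹ = x := by
      apply Subtype.ext
      change (y : G) * x * (y : G)⁻¹ = x
      rw [hMc y y.2 x x.2, mul_inv_cancel_right]
    rwa [this]
  haveI : Nontrivial (↥M ⧸ D.subgroupOf M) := QuotientGroup.nontrivial_iff.mpr hDne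
  obtain ⟨K, -, hKi, -, -⟩ := Cfsg.Agent.Lib.CoprimeStab.exists_normal_index_prime (p := 2)
    (↥M ⧸ D.subgroupOf M) (hM.to_quotient _)
  set K' : Subgroup M := K.comap (QuotientGroup.mk' _) with hK'
  have hK'i : K'.index = 2 := by
    rw [hK', index_comap_of_surjective _ (QuotientGroup.mk'_surjective _)]
    exact hKi
  refine ⟨K'.map M.subtype, ?_, ?_, ?_, ?_⟩
  · rintro _ ⟨x, -, rfl⟩
    exact x.2
  all_goals
    have hmem : ∀ (m : G) (hm : m ∈ M), (m ∈ K'.map M.subtype ↔ (⟨m, hm⟩ : M) ∈ K') := by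
      intro m hm
      constructor
      · rintro ⟨x, hx, rfl⟩
        exact hx
      · intro h
        exact ⟨_, h, rfl⟩
  · intro m hm m' hm'
    rw [hmem _ (M.mul_mem hm hm'), hmem _ hm, hmem _ hm']
    exact mul_mem_iff_of_index_two (a := ⟨m, hm⟩) (b := ⟨m', hm'⟩) hK'i
  · intro m hm
    have hgm : g * m * g⁻¹ ∈ M := (mem_normalizer_iff.1 hgM m).1 hm
    rw [hmem _ hgm, hmem _ hm]
    have hDK : ∀ d (hd : d ∈ D), (⟨d, hDM hd⟩ : M) ∈ K' := by
      intro d hd
      rw [hK', mem_comap]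
      have : (QuotientGroup.mk' (D.subgroupOf M)) ⟨d, hDM hd⟩ = 1 := by
        rw [QuotientGroup.mk'_apply, QuotientGroup.eq_one_iff]
        exact hd
      rw [this]; exact one_mem _
    have hd : g * m * g⁻¹ * m⁻¹ ∈ D := by
      have : m * g * m⁻¹ * g⁻¹ ∈ D := commutator_mem_commutator hm (mem_zpowers g)
      have e : g * m * g⁻¹ * m⁻¹ = (m * g * m⁻¹ * g⁻¹)⁻¹ := by group
      rw [e]; exact inv_mem this
    have e : (⟨g * m * g⁻¹, hgm⟩ : M) = ⟨_, hDM hd⟩ * ⟨m, hm⟩ := by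
      apply Subtype.ext
      change g * m * g⁻¹ = g * m * g⁻¹ * m⁻¹ * m
      group
    rw [e]
    exact mul_mem_cancel_left (hDK _ hd)
  · by_contra hcon
    push Not at hcon
    have h3 : K' = ⊤ := by
      rw [eq_top_iff]
      rintro ⟨m, hm⟩ -
      have hm' := hm
      rw [← h2] at hm'
      have h4 : Z ⊔ D ≤ K'.map M.subtype := by
        apply sup_le hcon
        intro d hd
        rw [hmem _ (hDM hd), hK', mem_comap]
        have : (QuotientGroup.mk' (D.subgroupOf M)) ⟨d, hDM hd⟩ = 1 := by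
          rw [QuotientGroup.mk'_apply, QuotientGroup.eq_one_iff]
          exact hd
        rw [this]; exact one_mem _
      exact (hmem m hm).1 (h4 hm')
    rw [h3, index_top] at hK'i
    omega

end Cfsg.Agent.TwoFusion.GoldJBasic
end

-- part: TwoFusion/GoldBen
section
set_option linter.all false
open scoped Cfsg.Agent.FastGrp

/-!
# Goldschmidt's theorem: simple groups with a strongly embedded subgroup

`tcon_of_setup`: `TCon G` for a simple group with a rank-one set-up. `tcon_of_bender`: `TCon G` for a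
nonabelian simple group with a strongly embedded subgroup, from Bender's theorem for `G`.
-/

set_option autoImplicit false

namespace Cfsg.Agent.TwoFusion.GoldBen

open MulAction Cfsg Cfsg.Agent.LieRecognition Cfsg.Agent.SuzukiRankOne
open Cfsg.Agent.TwoFusion.Gold Cfsg.Agent.TwoFusion.GoldBenPSU

section Setup

variable {G Ω : Type*} [Group G] [MulAction G Ω] {a : Ω} {t : G} {Q : Subgroup G}

/-- Conjugate set-ups. -/
theorem setup_conj (hS : IsRankOneSetup G Ω a t Q) (g : G) :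
    IsRankOneSetup G Ω (g • a) (g * t * g⁻¹) (Q.map (MulAut.conj g).toMonoidHom) := by
  have hinj : Function.Injective (MulAut.conj g).toMonoidHom := (MulAut.conj g).injective
  have h1 : stabilizer G (g • a) = (stabilizer G a).map (MulAut.conj g).toMonoidHom :=
    stabilizer_smul_eq_stabilizer_map_conj g a
  have h2 : stabilizer G ((g * t * g⁻¹) • g • a) =
      (stabilizer G (t • a)).map (MulAut.conj g).toMonoidHom := by
    rw [← stabilizer_smul_eq_stabilizer_map_conj g (t • a)]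
    congr 1
    rw [mul_smul, mul_smul, inv_smul_smul]
  refine ⟨hS.two_transitive, ?_, ?_, ?_, ?_, ?_, ?_, ?_, ?_, ?_⟩
  · have : g * t * g⁻¹ * (g * t * g⁻¹) = g * (t * t) * g⁻¹ := by group
    rw [this, hS.mul_self]; group
  · intro h
    apply hS.ne_one
    have h3 := congrArg (fun z => g⁻¹ * z * g) h
    simpa [mul_assoc] using h3
  · intro h
    apply hS.not_mem
    rw [mem_stabilizer_iff, mul_smul, mul_smul, inv_smul_smul] at h
    exact smul_left_cancel g h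
  · rw [h1]; exact Subgroup.map_mono hS.le
  · rw [h1]
    rintro _ ⟨h, hh, rfl⟩ _ ⟨x, hx, rfl⟩
    exact ⟨h * x * h⁻¹, hS.conj_mem h hh x hx, by simp [mul_assoc]⟩
  · rw [h2, ← Subgroup.map_inf_eq _ _ _ hinj, hS.inf_eq_bot, Subgroup.map_bot]
  · rw [h1, h2, ← Subgroup.map_inf_eq _ _ _ hinj, ← Subgroup.map_sup, hS.sup_eq]
  · rw [Subgroup.card_map_of_injective hinj]; exact hS.even_card
  · rw [h1, h2, ← Subgroup.map_inf_eq _ _ _ hinj, Subgroup.card_map_of_injective hinj]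
    exact hS.odd_card

/-- Every Sylow 2-subgroup is the `Q` of a set-up if `Q` is a 2-group. -/
theorem exists_setup [Finite G] (hS : IsRankOneSetup G Ω a t Q) (hQ : IsPGroup 2 Q)
    (S : Sylow 2 G) : ∃ (b : Ω) (u : G), IsRankOneSetup G Ω b u (S : Subgroup G) := by
  have : Fact (Nat.Prime 2) := ⟨Nat.prime_two⟩
  have hidx : ¬ 2 ∣ Q.index := fun h =>
    Nat.not_even_iff_odd.mpr (Reduction.odd_index_of_le hS le_rfl) (even_iff_two_dvd.mpr h)
  obtain ⟨g, hg⟩ := MulAction.exists_smul_eq G (hQ.toSylow hidx) S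
  have h5 : (S : Subgroup G) = Q.map (MulAut.conj g).toMonoidHom := by
    rw [← hg]; rfl
  rw [h5]
  exact ⟨_, _, setup_conj hS g⟩

theorem normalizer_eq [Finite G] (hS : IsRankOneSetup G Ω a t Q) :
    Subgroup.normalizer (Q : Set G) = stabilizer G a := by
  apply le_antisymm
  · intro g hg
    by_contra hne
    obtain ⟨s, hs, hs1, -⟩ := RankOneBasic.exists_involution hS
    have h1 : g⁻¹ * s * g ∈ Q := by
      have h2 := (Subgroup.mem_normalizer_iff.mp (inv_mem hg) s).mp hs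
      simpa using h2
    have h2 : (g⁻¹ * s * g) • a = a := hS.le h1
    have h3 : s • g • a = g • a := by
      rw [mul_smul, mul_smul, inv_smul_eq_iff] at h2
      exact h2
    exact hs1 (RankOneBasic.eq_one_of_smul_eq hS hs hne h3)
  · exact RankOneBasic.stabilizer_le_normalizer hS

theorem card_sylow [Finite G] {S : Sylow 2 G} (hS : IsRankOneSetup G Ω a t (S : Subgroup G)) :
    Nat.card (Sylow 2 G) = 1 + Nat.card S := by
  have : Fact (Nat.Prime 2) := ⟨Nat.prime_two⟩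
  have h2 := hS.two_transitive
  have h3 : IsPretransitive G Ω := isPretransitive_of_is_two_pretransitive
  rw [Sylow.card_eq_index_normalizer S,
    show Subgroup.normalizer (S : Set G) = stabilizer G a from normalizer_eq hS,
    index_stabilizer_of_transitive, RankOneBasic.card_points hS, add_comm]

theorem inf_eq_bot [Finite G] {S S' : Sylow 2 G} {a' : Ω} {t' : G}
    (hS : IsRankOneSetup G Ω a t (S : Subgroup G))
    (hS' : IsRankOneSetup G Ω a' t' (S' : Subgroup G)) (hne : S ≠ S') :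
    (S : Subgroup G) ⊓ S' = ⊥ := by
  rw [Subgroup.eq_bot_iff_forall]
  rintro x ⟨hx, hx'⟩
  by_contra hx1
  have h1 : x • a = a := hS.le hx
  have h2 : x • a' = a' := hS'.le hx'
  have h3 : a' = a := by
    by_contra h
    exact hx1 (RankOneBasic.eq_one_of_smul_eq hS hx h h2)
  subst h3
  apply hne
  have h4 : (S' : Subgroup G) ≤ Subgroup.normalizer (S : Set G) := by
    rw [show Subgroup.normalizer (S : Set G) = stabilizer G a' from normalizer_eq hS]
    exact hS'.le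
  have h5 : IsPGroup 2 ((S : Subgroup G) ⊔ S' : Subgroup G) :=
    S.isPGroup'.to_sup_of_normal_left' S'.isPGroup' h4
  have h6 := S.is_maximal' h5 le_sup_left
  have h7 := S'.is_maximal' h5 le_sup_right
  apply Sylow.ext
  rw [← h6, h7]

/-- The elements of order at most two of `Q`. -/
theorem invo_eq [Finite G] (hS : IsRankOneSetup G Ω a t Q) :
    invo G Q = insert 1 (involutionsIn (stabilizer G a : Set G)) := by
  ext x
  constructor
  · rintro ⟨hx, hx2⟩
    by_cases h : x = 1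
    · exact Or.inl h
    · exact Or.inr ⟨hS.le hx, h, hx2⟩
  · rintro (rfl | ⟨hx, hx1, hx2⟩)
    · exact ⟨one_mem _, mul_one _⟩
    · exact ⟨RankOneBasic.mem_of_mul_self hS hx hx2, hx2⟩

theorem ncard_invo [Finite G] (hS : IsRankOneSetup G Ω a t Q) :
    (invo G Q).ncard = Nat.card (involutionsIn (stabilizer G a : Set G)) + 1 := by
  rw [invo_eq hS, Set.ncard_insert_of_notMem, Nat.card_coe_set_eq]
  rintro ⟨-, h, -⟩
  exact h rfl

/-- `|Ω₁(Q)|² ≤ |Q|` if `Q` is not elementary. -/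
theorem sq_le [Finite G] (hS : IsRankOneSetup G Ω a t Q) (hQ : IsPGroup 2 Q)
    (hcen : ∀ s ∈ involutionsIn (stabilizer G a : Set G), s ∈ Q ∧ ∀ x ∈ Q, s * x = x * s)
    (hnot : ¬ ∀ x ∈ Q, x * x = 1) : (invo G Q).ncard ^ 2 ≤ Nat.card Q := by
  classical
  have hinv : ∀ w ∈ invo G Q, ∀ x ∈ Q, w * x = x * w := by
    intro w hw x hx
    rw [invo_eq hS] at hw
    rcases hw with rfl | hw
    · rw [one_mul, mul_one]
    · exact (hcen w hw).2 x hx
  -- an element of order four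
  obtain ⟨r, hr, hr1, hr2⟩ : ∃ r ∈ Q, r * r ≠ 1 ∧ (r * r) * (r * r) = 1 := by
    push Not at hnot
    obtain ⟨x, hx, hx1⟩ := hnot
    obtain ⟨n, hn⟩ := IsPGroup.iff_orderOf.mp hQ ⟨x, hx⟩
    rw [Subgroup.orderOf_mk] at hn
    have hn2 : 2 ≤ n := by
      by_contra hlt
      apply hx1
      have h1 : x ^ 2 ^ n = 1 := by rw [← hn]; exact pow_orderOf_eq_one x
      have h2 : n = 0 ∨ n = 1 := by omega
      rcases h2 with rfl | rfl
      · rw [pow_zero, pow_one] at h1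
        rw [h1, mul_one]
      · rw [pow_one, pow_two] at h1
        exact h1
    obtain ⟨m, rfl⟩ : ∃ m, n = m + 2 := ⟨n - 2, by omega⟩
    refine ⟨x ^ 2 ^ m, pow_mem hx _, ?_, ?_⟩
    · rw [← pow_two, ← pow_mul, ← pow_succ]
      intro h
      have h1 := orderOf_dvd_of_pow_eq_one h
      rw [hn] at h1
      have h2 := Nat.pow_dvd_pow_iff_le_right (x := 2) (by norm_num) |>.mp h1
      omega
    · have h1 : x ^ 2 ^ m * x ^ 2 ^ m * (x ^ 2 ^ m * x ^ 2 ^ m) = x ^ 2 ^ (m + 2) := by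
        rw [← pow_two, ← pow_two, ← pow_mul, ← pow_mul]
        congr 1
        rw [pow_add]; ring
      rw [h1, ← hn, pow_orderOf_eq_one]
  -- square roots
  have hroot : ∀ z ∈ invo G Q, ∃ y ∈ Q, y * y = z := by
    intro z hz
    have hz' := hz
    rw [invo_eq hS] at hz'
    rcases hz' with rfl | hz'
    · exact ⟨1, one_mem _, mul_one 1⟩
    · have h1 : r * r ∈ involutionsIn (stabilizer G a : Set G) :=
        ⟨hS.le (mul_mem hr hr), hr1, hr2⟩
      obtain ⟨k, hk, hkz⟩ := (Cfsg.Agent.S1122.result hS).2 _ h1 _ hz'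
      refine ⟨k⁻¹ * r * k, ?_, ?_⟩
      · have := hS.conj_mem k⁻¹ (inv_mem hk.1.1) r hr
        rwa [inv_inv] at this
      · rw [← hkz]; group
  choose! y hyQ hy using hroot
  have hle : Nat.card (invo G Q × invo G Q) ≤ Nat.card Q := by
    refine Nat.card_le_card_of_injective
      (fun p : invo G Q × invo G Q => (⟨y p.1 * p.2, mul_mem (hyQ _ p.1.2) p.2.2.1⟩ : Q)) ?_
    have hsq : ∀ p : invo G Q × invo G Q, (y p.1 * p.2 : G) * (y p.1 * p.2) = p.1 := by
      intro p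
      have h1 := hinv p.2 p.2.2 (y p.1) (hyQ _ p.1.2)
      calc (y p.1 * p.2 : G) * (y p.1 * p.2) = y p.1 * (p.2 * y p.1) * p.2 := by group
        _ = y p.1 * (y p.1 * p.2) * p.2 := by rw [h1]
        _ = (y p.1 * y p.1) * (p.2 * p.2) := by group
        _ = p.1 := by rw [hy _ p.1.2, p.2.2.2, mul_one]
    intro p p' hpp
    have h1 : (y p.1 * p.2 : G) = y p'.1 * p'.2 := congrArg Subtype.val hpp
    have h2 : (p.1 : G) = p'.1 := by rw [← hsq p, ← hsq p', h1]
    have h3 : p.1 = p'.1 := Subtype.ext h2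
    rw [h3] at h1
    exact Prod.ext h3 (Subtype.ext (mul_left_cancel h1))
  rwa [Nat.card_prod, Nat.card_coe_set_eq, ← pow_two] at hle

/-- The two types of nonabelian `Q`. -/
theorem odd_or_psu [Finite G] [FaithfulSMul G Ω] [IsSimpleGroup G]
    (hS : IsRankOneSetup G Ω a t Q)
    (h2 : ∃ x y : G, x ≠ 1 ∧ y ≠ 1 ∧ x ≠ y ∧ x * x = 1 ∧ y * y = 1 ∧ x * y = y * x)
    (hall : ¬ ∀ x ∈ Q, x * x = 1) :
    (∃ n : ℕ, Odd n ∧ (invo G Q).ncard = 2 ^ n) ∨
      (∃ (F : Type) (_ : Field F) (_ : Fintype F) (n : ℕ), 2 ≤ n ∧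
        Fintype.card F = (2 ^ n) ^ 2 ∧ Nonempty (G ≃* PSU 3 F (2 ^ n))) := by
  obtain ⟨hcen, hclosed⟩ := S1130.result hS h2
  have hK := S1131.result hS h2
  obtain ⟨C, hC, hCc, -⟩ := id hK
  obtain ⟨⟨s, r⟩, ⟨hs, hr, hsr⟩, -⟩ := S1123.result hS
  simp only at hs hr hsr
  have hgen := Generate.closure_eq_top hS
  have hQ2 := M1.isPGroup_Q hS h2
  by_cases hrs : r = s
  · -- `r = s` : unitary groups
    right
    subst hrs
    have hinv : r⁻¹ = r := inv_eq_of_mul_eq_one_left hs.2.2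
    rw [hinv] at hsr
    obtain ⟨F, iF, iFt, iFc, κ, iA, δ, T, hδ1⟩ :=
      SingerField.exists_torus hS hcen C hC hCc r hs
    obtain ⟨hsq, -, hcard⟩ := TranslationMain.main hS h2 T (by rw [hδ1]; exact hsr)
    have hcard' := hcard.resolve_left hall
    rw [UThreeMain.card_field hS T] at hcard'
    refine UThreeMain.nonempty_mulEquiv hS h2 hcen C hC hCc r hs hsr hcard' ?_ hgen
    intro x hx
    by_cases h1 : x * x = 1
    · exact Or.inl h1
    · exact Or.inr ⟨hS.le (Q.mul_mem hx hx), h1, hsq x hx⟩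
  · -- `r ≠ s` : Suzuki groups
    left
    have : Fact (Nat.Prime 2) := ⟨Nat.prime_two⟩
    have hnab : ¬ ∀ x ∈ Q, ∀ y ∈ Q, x * y = y * x := fun h =>
      hrs (AbelianCase.r_eq_s hS h2 C hC hQ2 h s r hs hr hsr)
    let S : Sylow 2 Q := default
    have hST : (S : Subgroup Q) = ⊤ :=
      (S.is_maximal' (hQ2.of_equiv Subgroup.topEquiv.symm) le_top).symm
    have hSuz : IsSuzukiTwoGroup ↥(S : Subgroup Q) := by
      rcases S1132.result hS h2 S with h | h
      · exfalso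
        apply hnab
        intro x hx y hy
        have hmem : ∀ x : Q, x ∈ (S : Subgroup Q) := fun x => by
          rw [hST]
          exact Subgroup.mem_top x
        have h3 := h.is_comm.comm (⟨⟨x, hx⟩, hmem _⟩ : (S : Subgroup Q)) ⟨⟨y, hy⟩, hmem _⟩
        exact congrArg (fun z : (S : Subgroup Q) => ((z : Q) : G)) h3
      · exact h
    obtain ⟨h4, -, n, hn⟩ := Assembly.of_suzuki hS hcen S hST hSuz
    have hr2 : r * r = s := OrderFive.sq_eq hS hcen hclosed hs hr hsr hrs (h4 r hr)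
    exact ⟨n, OrderFive.odd_n hS hcen hC hs hr hsr hr2 hn, by rw [ncard_invo hS, hn]⟩

/-- **`TCon` for simple groups with a rank-one set-up.** -/
theorem tcon_of_setup [Finite G] [FaithfulSMul G Ω] [IsSimpleGroup G]
    (hS : IsRankOneSetup G Ω a t Q)
    (h2 : ∃ x y : G, x ≠ 1 ∧ y ≠ 1 ∧ x ≠ y ∧ x * x = 1 ∧ y * y = 1 ∧ x * y = y * x)
    (hSE : ∃ H : Subgroup G, IsStronglyEmbedded H) : TCon G := by
  have hQ2 := M1.isPGroup_Q hS h2
  have hex := exists_setup hS hQ2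
  have hcen : ∀ S : Sylow 2 G, ∀ x ∈ S, x * x = 1 → ∀ s ∈ S, s * x = x * s := by
    intro S x hx hx2 s hs
    obtain ⟨b, u, hb⟩ := hex S
    by_cases hx1 : x = 1
    · rw [hx1, mul_one, one_mul]
    · exact (((S1130.result hb h2).1 x ⟨hb.le hx, hx1, hx2⟩).2 s hs).symm
  refine ⟨hcen, ?_, ?_⟩
  · intro x y hx hy
    have h1 : ∀ z : G, orderOf z = 2 → z ≠ 1 ∧ z * z = 1 := by
      intro z hz
      refine ⟨?_, ?_⟩
      · rintro rfl
        rw [orderOf_one] at hz
        exact absurd hz (by norm_num)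
      · have := pow_orderOf_eq_one z
        rwa [hz, pow_two] at this
    exact (S1121.result hS).2 x y (h1 x hx).1 (h1 x hx).2 (h1 y hy).1 (h1 y hy).2
  by_cases hall : ∀ S : Sylow 2 G, ∀ s ∈ S, s * s = 1
  · exact Or.inl hall
  right
  have hnot : ∀ S : Sylow 2 G, ¬ ∀ s ∈ (S : Subgroup G), s * s = 1 := by
    intro S hSS
    apply hall
    intro S' s hs
    have : Fact (Nat.Prime 2) := ⟨Nat.prime_two⟩
    obtain ⟨g, hg⟩ := MulAction.exists_smul_eq G S S'
    have h5 : (S' : Subgroup G) = (S : Subgroup G).map (MulAut.conj g).toMonoidHom := by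
      rw [← hg]; rfl
    have h6 : s ∈ (S : Subgroup G).map (MulAut.conj g).toMonoidHom := by rw [← h5]; exact hs
    obtain ⟨w, hw, rfl⟩ := h6
    rw [← map_mul, hSS w hw, map_one]
  refine ⟨hSE, ?_, ?_, ?_, ?_⟩
  · intro S S' hne
    obtain ⟨b, u, hb⟩ := hex S
    obtain ⟨b', u', hb'⟩ := hex S'
    exact inf_eq_bot hb hb' hne
  · intro S
    obtain ⟨b, u, hb⟩ := hex S
    exact card_sylow hb
  · intro S
    obtain ⟨b, u, hb⟩ := hex S
    exact sq_le hb S.isPGroup' (S1130.result hb h2).1 (hnot S)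
  · intro S
    obtain ⟨b, u, hb⟩ := hex S
    rcases odd_or_psu hb h2 (hnot S) with h | ⟨F, iF, iFt, n, hn, hF, ⟨e⟩⟩
    · exact Or.inl h
    · right
      exact of_psu hn (by rw [Nat.card_eq_fintype_card, hF]) e.symm S

end Setup

universe u

/-- **`TCon` for nonabelian simple groups with a strongly embedded subgroup**, from Bender's
theorem for `G`. -/
theorem tcon_of_bender {G : Type u} [Group G] [Finite G] (hB : Cfsg.Agent.StrongEmb.Split.BenderHolds G)
    (hsimple : IsSimpleGroup G) (hnonab : ∃ a b : G, a * b ≠ b * a)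
    (hSE : ∃ H : Subgroup G, Cfsg.IsStronglyEmbedded H) : TCon G := by
  obtain ⟨H, hH⟩ := id hSE
  obtain ⟨z, -, hz⟩ := Cfsg.Agent.TwoFusion.StronglyEmbeddedBasic.exists_involution hH
  obtain ⟨t, ht, ht2⟩ := Cfsg.Agent.TwoFusion.StronglyEmbeddedBasic.exists_involution_notMem hH
  have hr := Cfsg.Agent.StrongEmb.Simple.commPair_of_simple hnonab hz
  have hcore := Cfsg.Agent.StrongEmb.Split.normalCore_eq_bot_of_simple hH.1
  obtain ⟨Q, hQ, -⟩ := hB H hH hr hcore
  have hS := Cfsg.Agent.StrongEmb.Split.setup_of_isSplit hH hQ ht ht2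
  have hf := Cfsg.Agent.StrongEmb.Split.faithfulSMul_of_core hcore
  exact tcon_of_setup hS hr.exists_sq hSE

end Cfsg.Agent.TwoFusion.GoldBen
end

-- part: SylowL/GoldOf
section
set_option linter.all false
open scoped Cfsg.Agent.FastGrp

/-!
# The hypotheses `GoldHyp` and `H1169` from the induction statement (T) of Goldschmidt's theorem
-/

set_option autoImplicit false

namespace Cfsg.Agent.SylowL.GoldOf

open Subgroup
open Cfsg.Agent.SylowL.CompFacts
open Cfsg.Agent.TwoFusion Cfsg.Agent.TwoFusion.ClosedFam Cfsg.Agent.TwoFusion.Gold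

universe u

/-- The induction statement for all simple groups. -/
def TAll : Prop := ∀ (L : Type u) [Group L] [Finite L], IsSimpleGroup L →
  (∃ a b : L, a * b ≠ b * a) → TProp L

/-- The elementary family of a strongly closed elementary abelian subgroup. -/
theorem elemFam {X : Type*} [Group X] [Finite X] (S : Sylow 2 X) {A : Subgroup X}
    (hA : Cfsg.IsElementaryAbelian 2 A) (hs : Cfsg.IsStronglyClosed A (S : Subgroup X)) :
    IsElemFam {x : X | ∃ g : X, g * x * g⁻¹ ∈ A} := by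
  refine { toIsClosedFam := isClosedFam_of_isStronglyClosed S A hs, sq := ?_ }
  rintro x ⟨g, hg⟩
  have h1 := elem_sq hA hg
  have h2 : g * (x * x) * g⁻¹ = 1 := by
    rw [← h1]; group
  rwa [mul_inv_eq_one, mul_eq_left] at h2

theorem goldHyp (hT : TAll.{u}) : GoldHyp.{u} where
  inner X _ _ hO S A hA hs K hK hKA a ha := by
    set 𝒜 : Set X := {x : X | ∃ g : X, g * x * g⁻¹ ∈ A} with h𝒜
    have hfam : IsElemFam 𝒜 := elemFam S hA hs
    have hctx : Ctx 𝒜 := by
      refine ⟨hfam, hO, fun L hL => ?_⟩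
      exact hT _ hL.2.2 (GoldSolid.quasisimple_nonab hL.2)
    have hmem : ∀ x ∈ 𝒜, x ∈ (S : Subgroup X) → x ∈ A := by
      rintro x ⟨g, hg⟩ hx
      have h1 := hs.2 _ hg g⁻¹ (by
        have e : g⁻¹ * (g * x * g⁻¹) * g⁻¹⁻¹ = x := by group
        rw [e]; exact hx)
      have e : g⁻¹ * (g * x * g⁻¹) * g⁻¹⁻¹ = x := by group
      rwa [e] at h1
    have hA𝒜 : ∀ x ∈ A, x ∈ 𝒜 := fun x hx => ⟨1, by simpa using hx⟩
    have hact : Act 𝒜 K := by
      by_contra hn
      apply hKA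
      intro l hl
      rw [mem_centralizer_iff]
      intro k hk
      exact GoldLayer.comm_of_mem_fam hctx.fam hctx.core hK hn k
        (subset_closure ⟨hA𝒜 k hk, mem_top k⟩) l hl
    obtain ⟨b, hb, hbS, hbK, h1⟩ := GoldInner.exists_inner hctx hK hact S a (hA𝒜 a ha) (hs.1 ha)
    have hbA := hmem b hb hbS
    refine ⟨b, ⟨hbA, hbK⟩, b⁻¹ * a, mem_inf.2 ⟨mul_mem (inv_mem hbA) ha, mem_centralizer_iff.2 ?_⟩,
      by group⟩
    intro k hk
    have h2 := h1 k hk
    calc k * (b⁻¹ * a) = b⁻¹ * (b * k * b⁻¹) * a := by group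
      _ = b⁻¹ * (a * k * a⁻¹) * a := by rw [h2]
      _ = b⁻¹ * a * k := by group
  conj L _ _ _ hna S A hA hs hne := by
    have hna' : ∃ a b : L, a * b ≠ b * a := by
      by_contra hcon
      push Not at hcon
      exact hna ⟨⟨hcon⟩⟩
    have hfam := elemFam S hA hs
    have hne' : ∃ x ∈ {x : L | ∃ g : L, g * x * g⁻¹ ∈ A}, x ≠ 1 := by
      by_contra hcon
      push Not at hcon
      apply hne
      rw [eq_bot_iff]
      intro x hx
      rw [mem_bot]
      exact hcon x ⟨1, by simpa using hx⟩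
    have h1 := hT L inferInstance hna' _ hfam hne'
    exact ⟨h1.conj, fun x hx hxx s hs => h1.central S x hx hxx s hs⟩

end Cfsg.Agent.SylowL.GoldOf
end

-- part: SylowL/GoldHypOf
section
set_option linter.all false
open scoped Cfsg.Agent.FastGrp

/-!
# `GoldHyp` from Goldschmidt's theorem
-/

set_option autoImplicit false
set_option linter.unusedSectionVars false

namespace Cfsg.Agent.SylowL.GoldHypOf

open Subgroup Cfsg
open Cfsg.Agent.SylowL.CompFacts
open Cfsg.Agent.TwoFusion.ClosedFam Cfsg.Agent.TwoFusion.Gold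

universe u

/-- the union of the conjugates of an elementary abelian strongly closed subgroup is an elementary closed family -/
theorem isElemFam {X : Type u} [Group X] [Finite X] (S : Sylow 2 X) {A : Subgroup X}
    (hAe : Cfsg.IsElementaryAbelian 2 A) (hA : Cfsg.IsStronglyClosed A (S : Subgroup X)) :
    IsElemFam {x : X | ∃ g : X, g * x * g⁻¹ ∈ A} where
  toIsClosedFam := isClosedFam_of_isStronglyClosed S A hA
  sq := by
    rintro x ⟨g, hg⟩
    have h1 := elem_sq hAe hg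
    calc x * x = g⁻¹ * ((g * x * g⁻¹) * (g * x * g⁻¹)) * g := by group
      _ = 1 := by rw [h1]; group

theorem goldHyp_of (hT : ∀ (L : Type u) [Group L] [Finite L], IsSimpleGroup L →
    (∃ a b : L, a * b ≠ b * a) → TProp L) : GoldHyp.{u} where
  inner := by
    intro X _ _ hO S A hAe hA K hK hn a ha
    have hfam := isElemFam S hAe hA
    set 𝒜 : Set X := {x : X | ∃ g : X, g * x * g⁻¹ ∈ A} with h𝒜
    have hmem : ∀ x ∈ A, x ∈ 𝒜 := fun x hx => ⟨1, by simpa using hx⟩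
    have ctx : Cfsg.Agent.TwoFusion.Gold.Ctx 𝒜 := by
      refine ⟨hfam, hO, ?_⟩
      intro L hL
      obtain ⟨h1, h2⟩ := simple_quot hL
      refine hT _ h1 ?_
      by_contra hcon
      push Not at hcon
      exact h2 ⟨⟨hcon⟩⟩
    have hAct : Act 𝒜 K := by
      by_contra hcon
      apply hn
      intro l hl
      rw [mem_centralizer_iff]
      intro b hb
      exact comm_of_not_act hfam hO hK hcon b (hmem b hb) l hl
    obtain ⟨b, ⟨g, hg⟩, hbS, hbK, hab⟩ := Cfsg.Agent.TwoFusion.GoldInner.exists_inner ctx hK hAct S a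
      (hmem a ha) (hA.1 ha)
    have hbA : b ∈ A := by
      have h1 : g⁻¹ * (g * b * g⁻¹) * g⁻¹⁻¹ = b := by group
      have h2 := hA.2 _ hg g⁻¹ (by rw [h1]; exact hbS)
      rwa [h1] at h2
    refine ⟨b, ⟨hbA, hbK⟩, b⁻¹ * a, ⟨A.mul_mem (A.inv_mem hbA) ha, ?_⟩, by group⟩
    change b⁻¹ * a ∈ centralizer (K : Set X)
    rw [mem_centralizer_iff]
    intro l hl
    have h1 := hab l hl
    have h2 : a * l = b * l * b⁻¹ * a := by rw [← h1]; group
    calc l * (b⁻¹ * a) = b⁻¹ * (b * l * b⁻¹ * a) := by group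
      _ = b⁻¹ * (a * l) := by rw [h2]
      _ = b⁻¹ * a * l := by group
  conj := by
    intro L _ _ _ hna S A hAe hA hne
    have hfam := isElemFam S hAe hA
    have hT' := hT L inferInstance (by
      by_contra hcon
      push Not at hcon
      exact hna ⟨⟨hcon⟩⟩) _ hfam (by
      obtain ⟨⟨x, hx⟩, hx1⟩ := Subgroup.ne_bot_iff_exists_ne_one.1 hne
      exact ⟨x, ⟨1, by simpa using hx⟩, fun h => hx1 (Subtype.ext h)⟩)
    exact ⟨hT'.conj, fun x hx hxx s hs => hT'.central S x hx hxx s hs⟩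

end Cfsg.Agent.SylowL.GoldHypOf
end
end
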