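import Mathlib
import Cfsg.Prelude.Def_CaseTheorems
import Cfsg.Prelude.Def_TwoFusion
set_option linter.all false

/-!
# Groups of 2-rank two: elementary facts

* `mem_of_commute`: in a group of 2-rank at most two, an involution commuting with two distinct
  commuting involutions is one of them or their product.
* `exists_conj_mem_of_le`: a `p`-subgroup of `C` is conjugate in `C` into any Sylow `p`-subgroup
  of `G` contained in `C`.
* `exists_three_cycle`: a group acting on `{z, t, zt}` without fixed points contains a 3-cycle.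
-/

set_option autoImplicit false

namespace Cfsg.Agent.TwoFusion.RankTwoBasic

open Subgroup

theorem closure_sq {G : Type*} [Group G] {k : Set G} (hk : ∀ x ∈ k, ∀ y ∈ k, x * y = y * x)
    (hk2 : ∀ x ∈ k, x * x = 1) : ∀ x ∈ closure k, x ^ 2 = 1 := by
  have hc := isMulCommutative_closure hk
  intro x hx
  rw [pow_two]
  induction hx using Subgroup.closure_induction with
  | mem x hx => exact hk2 x hx
  | one => rw [one_mul]
  | mul x y hx hy h1 h2 =>
    have h3 : x * y = y * x := setLike_mul_comm hx hy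
    calc x * y * (x * y) = x * (y * x) * y := by group
      _ = x * (x * y) * y := by rw [h3]
      _ = (x * x) * (y * y) := by group
      _ = 1 := by rw [h1, h2, one_mul]
  | inv x hx h => rw [← mul_inv_rev, h, inv_one]

theorem mem_of_commute {G : Type*} [Group G] [Finite G] (h2 : Cfsg.PRankLE 2 2 G) {a b c : G}
    (ha : a * a = 1) (hb : b * b = 1) (hc : c * c = 1) (hab : a * b = b * a)
    (hac : a * c = c * a) (hbc : b * c = c * b) (ha1 : a ≠ 1) (hb1 : b ≠ 1) (hne : a ≠ b) :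
    c = 1 ∨ c = a ∨ c = b ∨ c = a * b := by
  classical
  by_contra hcon
  push Not at hcon
  obtain ⟨hc1, hca, hcb, hcab⟩ := hcon
  have hk : ∀ x ∈ ({a, b, c} : Set G), ∀ y ∈ ({a, b, c} : Set G), x * y = y * x := by
    rintro x (rfl | rfl | rfl) y (rfl | rfl | rfl) <;> first | rfl | assumption | (symm; assumption)
  have hk2 : ∀ x ∈ ({a, b, c} : Set G), x * x = 1 := by
    rintro x (rfl | rfl | rfl) <;> assumption
  have h4 := h2 (closure {a, b, c}) (isMulCommutative_closure hk) (closure_sq hk hk2)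
  have hab1 : a * b ≠ 1 := by
    intro h
    apply hne
    have h5 := eq_inv_of_mul_eq_one_left h
    rw [h5]
    exact inv_eq_of_mul_eq_one_right hb
  have haba : a * b ≠ a := fun h => hb1 (mul_eq_left.mp h)
  have habb : a * b ≠ b := fun h => ha1 (mul_eq_right.mp h)
  have hm : ∀ x ∈ ({a, b, c} : Set G), x ∈ closure ({a, b, c} : Set G) := fun x hx =>
    subset_closure hx
  have hsub : (({1, a, b, a * b, c} : Finset G) : Set G) ⊆ (closure ({a, b, c} : Set G) : Set G) := by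
    intro x hx
    simp only [Finset.coe_insert, Finset.coe_singleton, Set.mem_insert_iff,
      Set.mem_singleton_iff] at hx
    rcases hx with rfl | rfl | rfl | rfl | rfl
    · exact one_mem _
    · exact hm _ (by simp)
    · exact hm _ (by simp)
    · exact mul_mem (hm _ (by simp)) (hm _ (by simp))
    · exact hm _ (by simp)
  have h5 := Set.ncard_le_ncard hsub (Set.toFinite _)
  rw [Set.ncard_coe_finset] at h5
  have h6 : (({1, a, b, a * b, c} : Finset G)).card = 5 := by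
    rw [Finset.card_insert_of_notMem, Finset.card_insert_of_notMem, Finset.card_insert_of_notMem,
      Finset.card_insert_of_notMem, Finset.card_singleton]
    · simp only [Finset.mem_singleton]; exact hcab.symm
    · simp only [Finset.mem_insert, Finset.mem_singleton, not_or]
      exact ⟨habb.symm, hcb.symm⟩
    · simp only [Finset.mem_insert, Finset.mem_singleton, not_or]
      exact ⟨hne, haba.symm, hca.symm⟩
    · simp only [Finset.mem_insert, Finset.mem_singleton, not_or]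
      exact ⟨ha1.symm, hb1.symm, hab1.symm, hc1.symm⟩
  have h7 : ((closure ({a, b, c} : Set G) : Subgroup G) : Set G).ncard =
    Nat.card (closure ({a, b, c} : Set G)) := rfl
  omega

/-- A `p`-subgroup `R` of `C` is conjugate in `C` into a given Sylow `p`-subgroup of `G` that is
contained in `C`. -/
theorem exists_conj_mem_of_le {G : Type*} [Group G] [Finite G] {p : ℕ} [Fact p.Prime]
    (P : Sylow p G) (C R : Subgroup G) (hP : (P : Subgroup G) ≤ C) (hR : IsPGroup p R)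
    (hRC : R ≤ C) : ∃ c ∈ C, ∀ r ∈ R, c * r * c⁻¹ ∈ (P : Subgroup G) := by
  have h1 : IsPGroup p (R.subgroupOf C) :=
    hR.of_equiv (subgroupOfEquivOfLe hRC).symm
  obtain ⟨Q, hQ⟩ := h1.exists_le_sylow
  obtain ⟨c, hc⟩ := MulAction.exists_smul_eq C Q (P.subtype hP)
  refine ⟨c, c.2, ?_⟩
  intro r hr
  have h2 : (⟨r, hRC hr⟩ : C) ∈ (Q : Subgroup C) := hQ (by rw [mem_subgroupOf]; exact hr)
  have h3 : c * ⟨r, hRC hr⟩ * c⁻¹ ∈ ((c • Q : Sylow p C) : Subgroup C) := by
    exact smul_mem_pointwise_smul _ (MulAut.conj c) (Q : Subgroup C) h2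
  rw [hc] at h3
  have h4 : c * ⟨r, hRC hr⟩ * c⁻¹ ∈ (P : Subgroup G).subgroupOf C := h3
  rw [mem_subgroupOf] at h4
  exact h4

/-- The four elements `1, z, t, zt` for commuting involutions. -/
structure Four {G : Type*} [Group G] (z t : G) : Prop where
  zz : z * z = 1
  tt : t * t = 1
  comm : t * z = z * t
  z1 : z ≠ 1
  t1 : t ≠ 1
  ne : z ≠ t

namespace Four

variable {G : Type*} [Group G] {z t : G} (h : Four z t)
include h

theorem ztt : z * t * t = z := by rw [mul_assoc, h.tt, mul_one]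
theorem ztz : z * t * z = t := by rw [mul_assoc, h.comm, ← mul_assoc, h.zz, one_mul]
theorem zzt : z * (z * t) = t := by rw [← mul_assoc, h.zz, one_mul]
theorem tzt : t * (z * t) = z := by rw [← mul_assoc, h.comm, h.ztt]
theorem ztzt : z * t * (z * t) = 1 := by rw [← mul_assoc, h.ztz, h.tt]
theorem zt1 : z * t ≠ 1 := by
  intro h1
  apply h.ne
  have := eq_inv_of_mul_eq_one_left h1
  rw [this, inv_eq_iff_mul_eq_one, h.tt]
theorem ztnez : z * t ≠ z := fun h1 => h.t1 (mul_eq_left.mp h1)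
theorem ztnet : z * t ≠ t := fun h1 => h.z1 (mul_eq_right.mp h1)

end Four

/-- Conjugation by `n` preserves `{z, t, zt}`. -/
def Pres {G : Type*} [Group G] (z t n : G) : Prop :=
  (n * z * n⁻¹ = z ∨ n * z * n⁻¹ = t ∨ n * z * n⁻¹ = z * t) ∧
    (n * t * n⁻¹ = z ∨ n * t * n⁻¹ = t ∨ n * t * n⁻¹ = z * t)

theorem conj_mul {G : Type*} [Group G] (n x y : G) :
    n * (x * y) * n⁻¹ = (n * x * n⁻¹) * (n * y * n⁻¹) := by group

theorem conj_conj {G : Type*} [Group G] (n m x : G) :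
    (n * m) * x * (n * m)⁻¹ = n * (m * x * m⁻¹) * n⁻¹ := by group

theorem conj_inj {G : Type*} [Group G] {n x y : G} (h : n * x * n⁻¹ = n * y * n⁻¹) : x = y := by
  simpa using h

/-- The six possible actions of `n` on `{z, t, zt}`. -/
theorem Pres.cases {G : Type*} [Group G] {z t n : G} (h : Four z t) (hn : Pres z t n) :
    (n * z * n⁻¹ = z ∧ n * t * n⁻¹ = t) ∨ (n * z * n⁻¹ = z ∧ n * t * n⁻¹ = z * t) ∨
    (n * z * n⁻¹ = t ∧ n * t * n⁻¹ = z) ∨ (n * z * n⁻¹ = t ∧ n * t * n⁻¹ = z * t) ∨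
    (n * z * n⁻¹ = z * t ∧ n * t * n⁻¹ = z) ∨ (n * z * n⁻¹ = z * t ∧ n * t * n⁻¹ = t) := by
  obtain ⟨h1, h2⟩ := hn
  have hne : n * z * n⁻¹ ≠ n * t * n⁻¹ := fun h3 => h.ne (conj_inj h3)
  rcases h1 with h1 | h1 | h1 <;> rcases h2 with h2 | h2 | h2 <;> rw [h1, h2] at hne <;>
    first | (exact absurd rfl hne) | simp_all

theorem exists_three_cycle {G : Type*} [Group G] (N : Subgroup G) {z t : G} (h : Four z t)
    (hN : ∀ n ∈ N, Pres z t n) (hz : ∃ n ∈ N, n * z * n⁻¹ ≠ z) (ht : ∃ n ∈ N, n * t * n⁻¹ ≠ t)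
    (hzt : ∃ n ∈ N, n * (z * t) * n⁻¹ ≠ z * t) :
    ∃ n ∈ N, n * z * n⁻¹ = t ∧ n * t * n⁻¹ = z * t := by
  obtain ⟨a, haN, ha⟩ := hz
  rcases (hN a haN).cases h with ⟨h1, h2⟩ | ⟨h1, h2⟩ | ⟨h1, h2⟩ | ⟨h1, h2⟩ | ⟨h1, h2⟩ | ⟨h1, h2⟩
  · exact absurd h1 ha
  · exact absurd h1 ha
  · -- `a` swaps `z` and `t`
    obtain ⟨b, hbN, hb⟩ := hzt
    rcases (hN b hbN).cases h with ⟨h3, h4⟩ | ⟨h3, h4⟩ | ⟨h3, h4⟩ | ⟨h3, h4⟩ | ⟨h3, h4⟩ | ⟨h3, h4⟩
    · exact absurd (by rw [conj_mul, h3, h4]) hb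
    · refine ⟨a * b, mul_mem haN hbN, ?_, ?_⟩
      · rw [conj_conj, h3, h1]
      · rw [conj_conj, h4, conj_mul, h1, h2, h.comm]
    · exact absurd (by rw [conj_mul, h3, h4, h.comm]) hb
    · exact ⟨b, hbN, h3, h4⟩
    · refine ⟨b * b, mul_mem hbN hbN, ?_, ?_⟩
      · rw [conj_conj, h3, conj_mul, h3, h4, h.ztz]
      · rw [conj_conj, h4, h3]
    · refine ⟨b * a, mul_mem hbN haN, ?_, ?_⟩
      · rw [conj_conj, h1, h4]
      · rw [conj_conj, h2, h3]
  · exact ⟨a, haN, h1, h2⟩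
  · refine ⟨a * a, mul_mem haN haN, ?_, ?_⟩
    · rw [conj_conj, h1, conj_mul, h1, h2, h.ztz]
    · rw [conj_conj, h2, h1]
  · -- `a` swaps `z` and `zt`
    obtain ⟨b, hbN, hb⟩ := ht
    rcases (hN b hbN).cases h with ⟨h3, h4⟩ | ⟨h3, h4⟩ | ⟨h3, h4⟩ | ⟨h3, h4⟩ | ⟨h3, h4⟩ | ⟨h3, h4⟩
    · exact absurd h4 hb
    · refine ⟨b * a, mul_mem hbN haN, ?_, ?_⟩
      · rw [conj_conj, h1, conj_mul, h3, h4, h.zzt]
      · rw [conj_conj, h2, h4]
    · refine ⟨a * b, mul_mem haN hbN, ?_, ?_⟩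
      · rw [conj_conj, h3, h2]
      · rw [conj_conj, h4, h1]
    · exact ⟨b, hbN, h3, h4⟩
    · refine ⟨b * b, mul_mem hbN hbN, ?_, ?_⟩
      · rw [conj_conj, h3, conj_mul, h3, h4, h.ztz]
      · rw [conj_conj, h4, h3]
    · exact absurd h4 hb

end Cfsg.Agent.TwoFusion.RankTwoBasic
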