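import Mathlib
set_option linter.all false

set_option autoImplicit false

namespace Cfsg.Agent.TwoFusion.ElemCentSylow

open MulAction

/-- Two involutions of a finite group are conjugate, or commute with a common involution. -/
theorem conj_or_comm {G : Type*} [Group G] [Finite G] (s t : G) (hs : orderOf s = 2)
    (ht : orderOf t = 2) :
    (∃ g : G, g * s * g⁻¹ = t) ∨ (∃ z : G, orderOf z = 2 ∧ Commute z s ∧ Commute z t) := by
  have hss : s * s = 1 := by rw [← pow_two, ← hs, pow_orderOf_eq_one]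
  have htt : t * t = 1 := by rw [← pow_two, ← ht, pow_orderOf_eq_one]
  have hsi : s⁻¹ = s := inv_eq_of_mul_eq_one_right hss
  have hti : t⁻¹ = t := inv_eq_of_mul_eq_one_right htt
  -- `s` and `t` invert `s * t`
  have hinv : (s * t)⁻¹ = t * s := by rw [mul_inv_rev, hsi, hti]
  have hs1 : ∀ k : ℕ, s * (s * t) ^ k * s⁻¹ = ((s * t) ^ k)⁻¹ := by
    intro k
    rw [← inv_pow, hinv, ← conj_pow]
    congr 1
    rw [hsi]
    simp only [← mul_assoc, hss, one_mul]
  have ht1 : ∀ k : ℕ, t * (s * t) ^ k * t⁻¹ = ((s * t) ^ k)⁻¹ := by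
    intro k
    rw [← inv_pow, hinv, ← conj_pow]
    congr 1
    rw [hti]
    simp only [mul_assoc, htt, mul_one]
  rcases Nat.even_or_odd (orderOf (s * t)) with he | ho
  · right
    obtain ⟨m, hm⟩ := he
    have hpos : 0 < orderOf (s * t) := orderOf_pos _
    have hm0 : m ≠ 0 := by omega
    refine ⟨(s * t) ^ m, ?_, ?_, ?_⟩
    · rw [orderOf_pow_of_dvd hm0 ⟨2, by omega⟩, hm]
      have : m + m = 2 * m := by ring
      rw [this, Nat.mul_div_cancel _ (Nat.pos_of_ne_zero hm0)]
    · have h2 : ((s * t) ^ m)⁻¹ = (s * t) ^ m := by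
        apply inv_eq_of_mul_eq_one_right
        rw [← pow_add, ← hm, pow_orderOf_eq_one]
      have := hs1 m
      rw [h2] at this
      have h3 : s * (s * t) ^ m = (s * t) ^ m * s := by
        rw [mul_inv_eq_iff_eq_mul] at this; exact this
      exact h3.symm
    · have h2 : ((s * t) ^ m)⁻¹ = (s * t) ^ m := by
        apply inv_eq_of_mul_eq_one_right
        rw [← pow_add, ← hm, pow_orderOf_eq_one]
      have := ht1 m
      rw [h2] at this
      have h3 : t * (s * t) ^ m = (s * t) ^ m * t := by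
        rw [mul_inv_eq_iff_eq_mul] at this; exact this
      exact h3.symm
  · left
    obtain ⟨m, hm⟩ := ho
    refine ⟨(s * t) ^ m, ?_⟩
    have h1 : s * (s * t) ^ m = ((s * t) ^ m)⁻¹ * s := by
      have := hs1 m
      rw [mul_inv_eq_iff_eq_mul] at this; exact this
    have h2 : s * ((s * t) ^ m)⁻¹ = (s * t) ^ m * s := by
      have := congrArg (fun x => (s * t) ^ m * x * ((s * t) ^ m)⁻¹) h1
      simp only [mul_assoc, mul_inv_cancel, mul_one, mul_inv_cancel_left] at this
      rw [← this]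
    rw [mul_assoc, h2, ← mul_assoc, ← pow_add]
    have h3 : (s * t) ^ (m + m) * (s * t) = 1 := by
      rw [← pow_succ, ← two_mul, ← hm, pow_orderOf_eq_one]
    have h4 : (s * t) ^ (m + m) = t * s := by
      rw [← hinv]; exact eq_inv_of_mul_eq_one_left h3
    rw [h4, mul_assoc, hss, mul_one]

section

variable {G : Type*} [Group G] [Finite G]

/-- The hypothesis: involution centralisers are elementary abelian 2-groups. -/
def Hyp (G : Type*) [Group G] : Prop :=
  ∀ t : G, orderOf t = 2 → IsMulCommutative (Subgroup.centralizer ({t} : Set G)) ∧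
    ∀ c ∈ Subgroup.centralizer ({t} : Set G), c ^ 2 = 1

omit [Finite G] in
theorem Hyp.comm (h : Hyp G) {t : G} (ht : orderOf t = 2) {a b : G}
    (ha : a * t = t * a) (hb : b * t = t * b) : a * b = b * a := by
  have h1 := (h t ht).1
  have ha' : a ∈ Subgroup.centralizer ({t} : Set G) := by
    rw [Subgroup.mem_centralizer_singleton_iff]; exact ha
  have hb' : b ∈ Subgroup.centralizer ({t} : Set G) := by
    rw [Subgroup.mem_centralizer_singleton_iff]; exact hb
  have := h1.is_comm.comm ⟨a, ha'⟩ ⟨b, hb'⟩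
  exact congrArg Subtype.val this

omit [Finite G] in
theorem Hyp.sq (h : Hyp G) {t : G} (ht : orderOf t = 2) {a : G}
    (ha : a * t = t * a) : a * a = 1 := by
  rw [← pow_two]
  apply (h t ht).2
  rw [Subgroup.mem_centralizer_singleton_iff]; exact ha


theorem Hyp.mem_iff (h : Hyp G) (P : Sylow 2 G) {t : G} (ht : orderOf t = 2) (htP : t ∈ P)
    (a : G) : a ∈ P ↔ a * t = t * a := by
  classical
  have ht1 : t ≠ 1 := by
    rintro rfl
    simp at ht
  have hP : IsPGroup 2 (P : Subgroup G) := P.2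
  have hPn : Nontrivial (P : Subgroup G) :=
    ⟨⟨⟨t, htP⟩, 1, fun h => ht1 (congrArg Subtype.val h)⟩⟩
  have hcn : Nontrivial (Subgroup.center (P : Subgroup G)) := hP.center_nontrivial
  have hcp : IsPGroup 2 (Subgroup.center (P : Subgroup G)) := hP.to_subgroup _
  obtain ⟨n, hn, hcard⟩ := (hcp.nontrivial_iff_card).1 hcn
  obtain ⟨z, hz⟩ := exists_prime_orderOf_dvd_card' (G := Subgroup.center (P : Subgroup G)) 2
    (by rw [hcard]; exact dvd_pow_self 2 (by omega))
  have hzo : orderOf ((z : (P : Subgroup G)) : G) = 2 := by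
    have h1 := Subgroup.orderOf_coe z
    have h2 := Subgroup.orderOf_coe (z : (P : Subgroup G))
    rw [h2, h1, hz]
  have hzc : ∀ a ∈ P, a * ((z : (P : Subgroup G)) : G) = ((z : (P : Subgroup G)) : G) * a := by
    intro a ha
    have := (Subgroup.mem_center_iff.1 z.2) ⟨a, ha⟩
    exact congrArg Subtype.val this
  have hPt : ∀ a ∈ P, a * t = t * a := fun a ha => h.comm hzo (hzc a ha) (hzc t htP)
  have hle : (P : Subgroup G) ≤ Subgroup.centralizer ({t} : Set G) := by
    intro a ha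
    rw [Subgroup.mem_centralizer_singleton_iff]; exact hPt a ha
  have hpg : IsPGroup 2 (Subgroup.centralizer ({t} : Set G)) := by
    intro c
    refine ⟨1, ?_⟩
    apply Subtype.ext
    have := (h t ht).2 c c.2
    simpa using this
  have := P.is_maximal' hpg hle
  constructor
  · exact hPt a
  · intro ha
    have : a ∈ (P : Subgroup G) := by
      rw [← this, Subgroup.mem_centralizer_singleton_iff]; exact ha
    exact this

omit [Finite G] in
theorem exists_orderOf_two (P : Sylow 2 G) {a : G} (ha : a ∈ P) (h1 : a ≠ 1) :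
    ∃ t ∈ P, orderOf t = 2 := by
  obtain ⟨k, hk⟩ := P.2 ⟨a, ha⟩
  have hk' : a ^ 2 ^ k = 1 := by simpa using congrArg Subtype.val hk
  clear hk
  induction k generalizing a with
  | zero => simp at hk'; exact absurd hk' h1
  | succ k ih =>
    by_cases h2 : a ^ 2 = 1
    · exact ⟨a, ha, orderOf_eq_prime h2 h1⟩
    · refine ih (a := a ^ 2) (P.toSubgroup.pow_mem ha 2) h2 ?_
      rw [← pow_mul, ← pow_succ']
      exact hk'

theorem Hyp.comm_of_mem (h : Hyp G) (P : Sylow 2 G) {a b : G} (ha : a ∈ P) (hb : b ∈ P) :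
    a * b = b * a := by
  by_cases h1 : a = 1
  · simp [h1]
  · obtain ⟨t, htP, ht⟩ := exists_orderOf_two P ha h1
    exact h.comm ht ((h.mem_iff P ht htP a).1 ha) ((h.mem_iff P ht htP b).1 hb)

theorem Hyp.mul_self (h : Hyp G) (P : Sylow 2 G) {a : G} (ha : a ∈ P) : a * a = 1 := by
  by_cases h1 : a = 1
  · simp [h1]
  · obtain ⟨t, htP, ht⟩ := exists_orderOf_two P ha h1
    exact h.sq ht ((h.mem_iff P ht htP a).1 ha)

theorem Hyp.orderOf_eq (h : Hyp G) (P : Sylow 2 G) {a : G} (ha : a ∈ P) (h1 : a ≠ 1) :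
    orderOf a = 2 :=
  orderOf_eq_prime (by rw [pow_two]; exact h.mul_self P ha) h1

theorem Hyp.eq_of_mem (h : Hyp G) {P Q : Sylow 2 G} {a : G} (ha : a ∈ P) (hb : a ∈ Q)
    (h1 : a ≠ 1) : P = Q := by
  have ho := h.orderOf_eq P ha h1
  apply SetLike.ext
  intro x
  rw [h.mem_iff P ho ha x, h.mem_iff Q ho hb x]

omit [Finite G] in
theorem smul_eq_self_iff {t : G} (ht : orderOf t = 2) (P : Sylow 2 G) :
    t • P = P ↔ t ∈ P := by
  rw [Sylow.smul_eq_iff_mem_normalizer]
  constructor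
  · intro hn
    have hz : IsPGroup 2 (Subgroup.zpowers t) :=
      IsPGroup.of_card (n := 1) (by rw [Nat.card_zpowers, ht, pow_one])
    have := hz.inf_normalizer_sylow P
    have h2 : t ∈ Subgroup.zpowers t ⊓ (P : Subgroup G) := by
      rw [← this]
      exact ⟨Subgroup.mem_zpowers t, hn⟩
    exact h2.2
  · intro hP
    exact Subgroup.le_normalizer hP

omit [Finite G] in
/-- every involution lies in a Sylow 2-subgroup -/
theorem exists_sylow_mem {t : G} (ht : orderOf t = 2) : ∃ P : Sylow 2 G, t ∈ P := by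
  have hz : IsPGroup 2 (Subgroup.zpowers t) :=
      IsPGroup.of_card (n := 1) (by rw [Nat.card_zpowers, ht, pow_one])
  obtain ⟨Q, hQ⟩ := hz.exists_le_sylow
  exact ⟨Q, hQ (Subgroup.mem_zpowers t)⟩

/-- All involutions are conjugate, when there are at least two Sylow 2-subgroups. -/
theorem Hyp.conj (h : Hyp G) (P Q : Sylow 2 G) (hPQ : P ≠ Q) {s t : G} (hs : orderOf s = 2)
    (ht : orderOf t = 2) : ∃ g : G, g * s * g⁻¹ = t := by
  -- if in different Sylows then conjugate
  have key : ∀ s t : G, orderOf s = 2 → orderOf t = 2 → (∀ R : Sylow 2 G, s ∈ R → t ∉ R) →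
      ∃ g : G, g * s * g⁻¹ = t := by
    intro s t hs ht hne
    rcases conj_or_comm s t hs ht with h1 | ⟨z, hz, hzs, hzt⟩
    · exact h1
    · exfalso
      obtain ⟨R, hR⟩ := exists_sylow_mem hz
      exact hne R ((h.mem_iff R hz hR s).2 hzs.symm.eq) ((h.mem_iff R hz hR t).2 hzt.symm.eq)
  by_cases hst : ∃ R : Sylow 2 G, s ∈ R ∧ t ∈ R
  · obtain ⟨R, hsR, htR⟩ := hst
    have hs1 : s ≠ 1 := by rintro rfl; simp at hs
    have ht1 : t ≠ 1 := by rintro rfl; simp at ht
    -- there is another Sylow R'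
    obtain ⟨R', hR'⟩ : ∃ R' : Sylow 2 G, R' ≠ R := by
      by_cases hPR : P = R
      · exact ⟨Q, fun h => hPQ (by rw [hPR, h])⟩
      · exact ⟨P, hPR⟩
    obtain ⟨g, hg⟩ := MulAction.exists_smul_eq G R R'
    have hu : g * s * g⁻¹ ∈ R' := by
      rw [← hg]
      change g * s * g⁻¹ ∈ ((g • R : Sylow 2 G) : Subgroup G)
      rw [Sylow.coe_subgroup_smul, Subgroup.mem_pointwise_smul_iff_inv_smul_mem]
      rw [← map_inv, MulAut.smul_def, MulAut.conj_apply]
      have : (g⁻¹ * (g * s * g⁻¹) * g⁻¹⁻¹) = s := by group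
      rw [this]; exact hsR
    have huo : orderOf (g * s * g⁻¹) = 2 := by
      rw [← hs]; exact (orderOf_injective (MulAut.conj g).toMonoidHom (MulAut.conj g).injective s)
    have hu1 : g * s * g⁻¹ ≠ 1 := by intro h0; rw [h0] at huo; simp at huo
    obtain ⟨k, hk⟩ := key (g * s * g⁻¹) t huo ht (by
      intro R'' h1 h2
      have e1 := h.eq_of_mem hu h1 hu1
      have e2 := h.eq_of_mem htR h2 ht1
      exact hR' (by rw [e1, e2]))
    exact ⟨k * g, by rw [← hk]; group⟩
  · push Not at hst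
    exact key s t hs ht hst


omit [Finite G] in
theorem card_ne {α : Type*} [Finite α] (a₀ : α) : Nat.card {a : α // a ≠ a₀} = Nat.card α - 1 := by
  classical
  have : Fintype α := Fintype.ofFinite _
  rw [Nat.card_eq_fintype_card, Nat.card_eq_fintype_card, Fintype.card_subtype_compl,
    Fintype.card_subtype_eq]

theorem card_sylow_eq (P Q : Sylow 2 G) : Nat.card P = Nat.card Q := by
  have h1 := P.card_eq_multiplicity
  have h2 := Q.card_eq_multiplicity
  exact h1.trans h2.symm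

/-- The number of involutions times the order of a Sylow 2-subgroup is the group order. -/
theorem Hyp.card_involutions_mul (h : Hyp G) (P Q : Sylow 2 G) (hPQ : P ≠ Q)
    {t₀ : G} (ht₀ : orderOf t₀ = 2) (htP : t₀ ∈ P) :
    Nat.card {t : G // orderOf t = 2} * Nat.card P = Nat.card G := by
  have hmem : ∀ a : G, a ∈ (P : Subgroup G) ↔ a * t₀ = t₀ * a := h.mem_iff P ht₀ htP
  let f : G ⧸ (P : Subgroup G) → {t : G // orderOf t = 2} :=
    fun x => Quotient.liftOn' x (fun g => (⟨g * t₀ * g⁻¹, by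
      rw [← ht₀]
      exact orderOf_injective (MulAut.conj g).toMonoidHom (MulAut.conj g).injective t₀⟩ :
        {t : G // orderOf t = 2})) (by
        intro a b hab
        rw [QuotientGroup.leftRel_apply] at hab
        apply Subtype.ext
        change a * t₀ * a⁻¹ = b * t₀ * b⁻¹
        have := (hmem _).1 hab
        have h2 : b = a * (a⁻¹ * b) := by group
        have h3 : a * (a⁻¹ * b) * t₀ * (a * (a⁻¹ * b))⁻¹ =
            a * ((a⁻¹ * b * t₀) * (a⁻¹ * b)⁻¹) * a⁻¹ := by group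
        rw [h2, h3, this]
        group)
  have hf : Function.Bijective f := by
    constructor
    · intro x y
      induction x using QuotientGroup.induction_on with | _ a =>
      induction y using QuotientGroup.induction_on with | _ b =>
      intro hab
      have hab' : a * t₀ * a⁻¹ = b * t₀ * b⁻¹ := congrArg Subtype.val hab
      rw [QuotientGroup.eq, hmem]
      have : a⁻¹ * (a * t₀ * a⁻¹) * b = a⁻¹ * (b * t₀ * b⁻¹) * b := by rw [hab']
      simp only [mul_assoc, inv_mul_cancel_left, inv_mul_cancel, mul_one] at this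
      simp only [mul_assoc]
      exact this.symm
    · rintro ⟨t, ht⟩
      obtain ⟨g, hg⟩ := h.conj P Q hPQ ht₀ ht
      exact ⟨QuotientGroup.mk g, Subtype.ext hg⟩
  rw [← Nat.card_eq_of_bijective f hf, ← Subgroup.card_eq_card_quotient_mul_card_subgroup]

/-- The number of involutions is `(q - 1)` times the number of Sylow 2-subgroups. -/
theorem Hyp.card_involutions (h : Hyp G) (P : Sylow 2 G) :
    Nat.card {t : G // orderOf t = 2} = Nat.card (Sylow 2 G) * (Nat.card P - 1) := by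
  classical
  have : Fintype (Sylow 2 G) := Fintype.ofFinite _
  let f : (Σ R : Sylow 2 G, {a : R // a ≠ 1}) → {t : G // orderOf t = 2} :=
    fun x => ⟨x.2.1, h.orderOf_eq x.1 x.2.1.2 (fun h0 => x.2.2 (Subtype.ext h0))⟩
  have hf : Function.Bijective f := by
    constructor
    · rintro ⟨R, ⟨a, ha⟩, ha1⟩ ⟨S, ⟨b, hb⟩, hb1⟩ hab
      have hab' : a = b := congrArg Subtype.val hab
      subst hab'
      have hRS : R = S := h.eq_of_mem ha hb (fun h0 => ha1 (Subtype.ext h0))
      subst hRS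
      rfl
    · rintro ⟨t, ht⟩
      obtain ⟨R, hR⟩ := exists_sylow_mem ht
      refine ⟨⟨R, ⟨t, hR⟩, ?_⟩, rfl⟩
      intro h0
      have : t = 1 := congrArg Subtype.val h0
      rw [this] at ht
      simp at ht
  rw [← Nat.card_eq_of_bijective f hf, Nat.card_sigma]
  have hc : ∀ R : Sylow 2 G, Nat.card {a : R // a ≠ 1} = Nat.card P - 1 := by
    intro R
    rw [card_sylow_eq P R]
    exact card_ne _
  rw [Finset.sum_congr rfl (fun R _ => hc R), Finset.sum_const, Finset.card_univ,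
    ← Nat.card_eq_fintype_card, smul_eq_mul]

/-- `|G_P| = q (q - 1)` -/
theorem Hyp.card_stabilizer (h : Hyp G) (P Q : Sylow 2 G) (hPQ : P ≠ Q)
    {t₀ : G} (ht₀ : orderOf t₀ = 2) (htP : t₀ ∈ P) :
    Nat.card (stabilizer G P) = Nat.card P * (Nat.card P - 1) := by
  have h1 := h.card_involutions_mul P Q hPQ ht₀ htP
  have h2 := h.card_involutions P
  have h3 := (stabilizer G P).card_mul_index
  rw [index_stabilizer_of_transitive] at h3
  rw [h2, ← h3] at h1
  have hpos : 0 < Nat.card (Sylow 2 G) := Nat.card_pos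
  apply Nat.eq_of_mul_eq_mul_right hpos
  rw [← h1]
  ring

theorem card_le_of_disjoint (P : Sylow 2 G) (q m : ℕ) (hq : Nat.card P = q) (hqm : q ≠ 0)
    (hS : Nat.card (stabilizer G P) = q * m)
    (C : Subgroup G) (hC : C ≤ stabilizer G P) (hd : ∀ a ∈ C, a ∈ P → a = 1) :
    Nat.card C ≤ m := by
  let f : C × P → stabilizer G P := fun x => ⟨x.1 * x.2, mul_mem (hC x.1.2) (by
    rw [Sylow.stabilizer_eq_normalizer]; exact Subgroup.le_normalizer x.2.2)⟩
  have hf : Function.Injective f := by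
    rintro ⟨⟨a, ha⟩, ⟨b, hb⟩⟩ ⟨⟨c, hc⟩, ⟨d, hd'⟩⟩ hab
    have hab' : a * b = c * d := congrArg Subtype.val hab
    have h1 : c⁻¹ * a = d * b⁻¹ := by
      rw [eq_mul_inv_iff_mul_eq, mul_assoc, hab']; group
    have h2 : c⁻¹ * a = 1 := hd _ (mul_mem (inv_mem hc) ha) (by
      rw [h1]; exact mul_mem hd' (inv_mem hb))
    have h3 : a = c := by
      have := congrArg (fun x => c * x) h2
      simpa using this
    subst h3
    have h4 : b = d := mul_left_cancel hab'
    subst h4
    rfl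
  have := Nat.card_le_card_of_injective f hf
  rw [Nat.card_prod, hS, hq, mul_comm] at this
  exact Nat.le_of_mul_le_mul_left this (Nat.pos_of_ne_zero hqm)



omit [Finite G] in
theorem mem_stab_of_mem {P : Sylow 2 G} {u : G} (hu : u ∈ P) : u ∈ stabilizer G P := by
  rw [Sylow.stabilizer_eq_normalizer]; exact Subgroup.le_normalizer hu

omit [Finite G] in
theorem smul_ne_of {X : Type*} [MulAction G X] {P Q : X} {g : G} (hg : g • P = P) (hPQ : P ≠ Q) :
    g • Q ≠ P := by
  intro h0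
  exact hPQ (smul_left_cancel g (hg.trans h0.symm))

omit [Finite G] in
theorem inv_mul_fix {X : Type*} [MulAction G X] {P : X} {a b : G} (ha : a • P = P)
    (hb : b • P = P) : (b⁻¹ * a) • P = P := by
  rw [mul_smul, ha, inv_smul_eq_iff, hb]

/-- The numerical consequences of the hypotheses. -/
structure Ctx (G : Type*) [Group G] [Finite G] (q : ℕ) : Prop where
  h : Hyp G
  card : ∀ P : Sylow 2 G, Nat.card P = q
  four : 4 ≤ q
  stab : ∀ P : Sylow 2 G, Nat.card (stabilizer G P) = q * (q - 1)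
  inv : Nat.card {t : G // orderOf t = 2} = Nat.card (Sylow 2 G) * (q - 1)

theorem ctx_of (T : Sylow 2 G) (hnc : ¬ IsCyclic (T : Subgroup G))
    (hnn : ¬ (T : Subgroup G).Normal) (h : Hyp G) : Ctx G (Nat.card T) := by
  obtain ⟨k, hk⟩ := (IsPGroup.iff_card (p := 2)).1 T.2
  have hk' : Nat.card T = 2 ^ k := hk
  have hk2 : 2 ≤ k := by
    rcases k with _ | _ | k
    · exfalso
      apply hnc
      have : Subsingleton (T : Subgroup G) := by
        rw [← Finite.card_le_one_iff_subsingleton, hk]; simp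
      exact isCyclic_of_subsingleton
    · exfalso
      apply hnc
      exact isCyclic_of_prime_card (p := 2) (by rw [hk]; rfl)
    · omega
  have h4 : 4 ≤ Nat.card T := by
    rw [hk']
    calc 4 = 2 ^ 2 := by norm_num
      _ ≤ 2 ^ k := Nat.pow_le_pow_right (by norm_num) hk2
  have hall : ∀ P : Sylow 2 G, Nat.card P = Nat.card T := fun P => card_sylow_eq P T
  obtain ⟨g, hg⟩ : ∃ g : G, g • T ≠ T := by
    by_contra hcon
    push Not at hcon
    apply hnn
    rw [← Subgroup.normalizer_eq_top_iff, eq_top_iff]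
    intro g _
    exact (Sylow.smul_eq_iff_mem_normalizer).1 (hcon g)
  have hex : ∀ P : Sylow 2 G, ∃ Q : Sylow 2 G, P ≠ Q := by
    intro P
    by_cases hP : P = T
    · exact ⟨g • T, fun h0 => hg (by rw [← h0, hP])⟩
    · exact ⟨T, hP⟩
  refine ⟨h, hall, h4, ?_, ?_⟩
  · intro P
    obtain ⟨Q, hPQ⟩ := hex P
    have hnt : Nontrivial P := by
      rw [← Finite.one_lt_card_iff_nontrivial, hall P]; omega
    obtain ⟨⟨a, ha⟩, ha1⟩ := exists_ne (1 : P)
    have ha1' : a ≠ 1 := fun h0 => ha1 (Subtype.ext h0)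
    rw [h.card_stabilizer P Q hPQ (h.orderOf_eq P ha ha1') ha, hall P]
  · rw [h.card_involutions T]

namespace Ctx

variable {q : ℕ} (c : Ctx G q)
include c

theorem eq_one_of_fix {P Q : Sylow 2 G} (hPQ : P ≠ Q) {a : G} (ha : a ∈ P) (haQ : a • Q = Q) :
    a = 1 := by
  by_contra h1
  have ho := c.h.orderOf_eq P ha h1
  exact hPQ (c.h.eq_of_mem ha ((smul_eq_self_iff ho Q).1 haQ) h1)

theorem inter_le {P Q : Sylow 2 G} (hPQ : P ≠ Q) :
    Nat.card (stabilizer G P ⊓ stabilizer G Q : Subgroup G) ≤ q - 1 := by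
  apply card_le_of_disjoint P q (q - 1) (c.card P) (by have := c.four; omega) (c.stab P)
  · exact inf_le_left
  · intro a ha haP
    exact c.eq_one_of_fix hPQ haP ha.2

omit c in
theorem card_swap_le (P Q : Sylow 2 G) :
    Nat.card {t : G // orderOf t = 2 ∧ t • P = Q} ≤
      Nat.card (stabilizer G P ⊓ stabilizer G Q : Subgroup G) := by
  classical
  by_cases hne : Nonempty {t : G // orderOf t = 2 ∧ t • P = Q}
  · obtain ⟨t, ht, htPQ⟩ := hne
    have htt : t * t = 1 := by rw [← pow_two, ← ht, pow_orderOf_eq_one]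
    have htQP : t • Q = P := by rw [← htPQ, ← mul_smul, htt, one_smul]
    let f : {t : G // orderOf t = 2 ∧ t • P = Q} → (stabilizer G P ⊓ stabilizer G Q : Subgroup G) :=
      fun s => ⟨s.1 * t, by
        obtain ⟨s, hs, hsPQ⟩ := s
        have hss : s * s = 1 := by rw [← pow_two, ← hs, pow_orderOf_eq_one]
        have hsQP : s • Q = P := by rw [← hsPQ, ← mul_smul, hss, one_smul]
        refine ⟨?_, ?_⟩
        · change (s * t) • P = P
          rw [mul_smul, htPQ, hsQP]
        · change (s * t) • Q = Q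
          rw [mul_smul, htQP, hsPQ]⟩
    apply Nat.card_le_card_of_injective f
    rintro ⟨s, hs⟩ ⟨r, hr⟩ hsr
    have : s * t = r * t := congrArg Subtype.val hsr
    exact Subtype.ext (mul_right_cancel this)
  · rw [not_nonempty_iff] at hne
    rw [Nat.card_of_isEmpty]
    exact Nat.zero_le _

theorem card_fix (P : Sylow 2 G) : Nat.card {t : G // orderOf t = 2 ∧ t • P = P} = q - 1 := by
  rw [← c.card P]
  refine Eq.trans ?_ (card_ne (1 : P))
  apply Nat.card_eq_of_bijective
    (fun t : {t : G // orderOf t = 2 ∧ t • P = P} => (⟨⟨t.1, (smul_eq_self_iff t.2.1 P).1 t.2.2⟩, by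
      intro h0
      have h1 : t.1 = 1 := congrArg Subtype.val h0
      have h2 := t.2.1
      rw [h1] at h2
      simp at h2⟩ : {a : P // a ≠ 1}))
  constructor
  · rintro ⟨s, hs⟩ ⟨r, hr⟩ hsr
    exact Subtype.ext (congrArg (fun x => ((x : {a : P // a ≠ 1}).1 : G)) hsr)
  · rintro ⟨⟨a, ha⟩, ha1⟩
    have ha1' : a ≠ 1 := fun h0 => ha1 (Subtype.ext h0)
    have ho := c.h.orderOf_eq P ha ha1'
    exact ⟨⟨a, ho, (smul_eq_self_iff ho P).2 ha⟩, rfl⟩

theorem card_swap (P Q : Sylow 2 G) :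
    Nat.card {t : G // orderOf t = 2 ∧ t • P = Q} = q - 1 := by
  classical
  have : Fintype (Sylow 2 G) := Fintype.ofFinite _
  have hle : ∀ Q ∈ (Finset.univ : Finset (Sylow 2 G)),
      Nat.card {t : G // orderOf t = 2 ∧ t • P = Q} ≤ q - 1 := by
    intro Q _
    by_cases hPQ : P = Q
    · subst hPQ
      rw [c.card_fix P]
    · exact (card_swap_le P Q).trans (c.inter_le hPQ)
  have hsum : ∑ Q : Sylow 2 G, Nat.card {t : G // orderOf t = 2 ∧ t • P = Q} =
      ∑ _Q : Sylow 2 G, (q - 1) := by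
    rw [Finset.sum_const, Finset.card_univ, ← Nat.card_eq_fintype_card, smul_eq_mul, ← c.inv,
      ← Nat.card_sigma]
    apply Nat.card_eq_of_bijective (fun x : (Σ Q : Sylow 2 G, {t : G // orderOf t = 2 ∧ t • P = Q}) =>
      (⟨x.2.1, x.2.2.1⟩ : {t : G // orderOf t = 2}))
    constructor
    · rintro ⟨R, a, ha, haR⟩ ⟨S, b, hb, hbS⟩ hab
      have : a = b := congrArg Subtype.val hab
      subst this
      subst haR
      subst hbS
      rfl
    · rintro ⟨a, ha⟩
      exact ⟨⟨a • P, a, ha, rfl⟩, rfl⟩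
  exact (Finset.sum_eq_sum_iff_of_le hle).1 hsum Q (Finset.mem_univ _)

theorem inter_card {P Q : Sylow 2 G} (hPQ : P ≠ Q) :
    Nat.card (stabilizer G P ⊓ stabilizer G Q : Subgroup G) = q - 1 :=
  le_antisymm (c.inter_le hPQ) ((c.card_swap P Q).symm.le.trans (card_swap_le P Q))

theorem exists_swap (P Q : Sylow 2 G) :
    ∃ t : G, orderOf t = 2 ∧ t • P = Q ∧ t • Q = P := by
  have h1 := c.card_swap P Q
  have : Nonempty {t : G // orderOf t = 2 ∧ t • P = Q} := by
    rw [← Finite.card_pos_iff, h1]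
    have := c.four
    omega
  obtain ⟨t, ht, htPQ⟩ := this
  have htt : t * t = 1 := by rw [← pow_two, ← ht, pow_orderOf_eq_one]
  exact ⟨t, ht, htPQ, by rw [← htPQ, ← mul_smul, htt, one_smul]⟩

/-- an involution swapping `P` and `Q` inverts `G_PQ`. -/
theorem inverts {P Q : Sylow 2 G} (hPQ : P ≠ Q) {t : G} (ht : orderOf t = 2) (htPQ : t • P = Q)
    {d : G} (hdP : d • P = P) (hdQ : d • Q = Q) : t * d * t⁻¹ = d⁻¹ := by
  have htt : t * t = 1 := by rw [← pow_two, ← ht, pow_orderOf_eq_one]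
  have hti : t⁻¹ = t := inv_eq_of_mul_eq_one_right htt
  have htQP : t • Q = P := by rw [← htPQ, ← mul_smul, htt, one_smul]
  let f : {t : G // orderOf t = 2 ∧ t • P = Q} → (stabilizer G P ⊓ stabilizer G Q : Subgroup G) :=
    fun s => ⟨s.1 * t, by
      obtain ⟨s, hs, hsPQ⟩ := s
      have hss : s * s = 1 := by rw [← pow_two, ← hs, pow_orderOf_eq_one]
      have hsQP : s • Q = P := by rw [← hsPQ, ← mul_smul, hss, one_smul]
      refine ⟨?_, ?_⟩
      · change (s * t) • P = P
        rw [mul_smul, htPQ, hsQP]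
      · change (s * t) • Q = Q
        rw [mul_smul, htQP, hsPQ]⟩
  have hf : Function.Injective f := by
    rintro ⟨s, hs⟩ ⟨r, hr⟩ hsr
    have : s * t = r * t := congrArg Subtype.val hsr
    exact Subtype.ext (mul_right_cancel this)
  have hb := hf.bijective_of_nat_card_le (by rw [c.inter_card hPQ, c.card_swap P Q])
  obtain ⟨⟨s, hs, hsPQ⟩, hsd⟩ := hb.2 ⟨d, hdP, hdQ⟩
  have hd : s * t = d := congrArg Subtype.val hsd
  have hss : s * s = 1 := by rw [← pow_two, ← hs, pow_orderOf_eq_one]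
  have hsi : s⁻¹ = s := inv_eq_of_mul_eq_one_right hss
  rw [← hd, mul_inv_rev, hti, hsi]
  simp [mul_assoc, htt]

theorem inter_comm {P Q : Sylow 2 G} (hPQ : P ≠ Q) {d e : G} (hdP : d • P = P) (hdQ : d • Q = Q)
    (heP : e • P = P) (heQ : e • Q = Q) : d * e = e * d := by
  obtain ⟨t, ht, htPQ, -⟩ := c.exists_swap P Q
  have h1 := c.inverts hPQ ht htPQ hdP hdQ
  have h2 := c.inverts hPQ ht htPQ heP heQ
  have h3 := c.inverts hPQ ht htPQ (d := d * e) (by rw [mul_smul, heP, hdP])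
    (by rw [mul_smul, heQ, hdQ])
  have h4 : t * (d * e) * t⁻¹ = (t * d * t⁻¹) * (t * e * t⁻¹) := by group
  rw [h1, h2, h3, ← mul_inv_rev] at h4
  exact inv_injective h4

/-- `G_P = D P` -/
theorem exists_mul {P Q : Sylow 2 G} (hPQ : P ≠ Q) {n : G} (hn : n • P = P) :
    ∃ d u : G, d • P = P ∧ d • Q = Q ∧ u ∈ P ∧ n = d * u := by
  let f : (stabilizer G P ⊓ stabilizer G Q : Subgroup G) × P → stabilizer G P :=
    fun x => ⟨x.1 * x.2, mul_mem x.1.2.1 (mem_stab_of_mem x.2.2)⟩
  have hf : Function.Injective f := by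
    rintro ⟨⟨a, ha⟩, ⟨b, hb⟩⟩ ⟨⟨e, hc⟩, ⟨d, hd'⟩⟩ hab
    have hab' : a * b = e * d := congrArg Subtype.val hab
    have h1 : e⁻¹ * a = d * b⁻¹ := by
      rw [eq_mul_inv_iff_mul_eq, mul_assoc, hab']; group
    have h2 : e⁻¹ * a = 1 := c.eq_one_of_fix hPQ (a := e⁻¹ * a) (by
      rw [h1]; exact mul_mem hd' (inv_mem hb)) (inv_mul_fix ha.2 hc.2)
    have h3 : a = e := by
      have := congrArg (fun x => e * x) h2
      simpa using this
    subst h3
    have h4 : b = d := mul_left_cancel hab'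
    subst h4
    rfl
  have hb := hf.bijective_of_nat_card_le (by
    rw [Nat.card_prod, c.inter_card hPQ, c.stab P, c.card P, mul_comm])
  obtain ⟨⟨⟨d, hd⟩, ⟨u, hu⟩⟩, hdu⟩ := hb.2 ⟨n, hn⟩
  exact ⟨d, u, hd.1, hd.2, hu, (congrArg Subtype.val hdu).symm⟩

omit [Finite G] c in
theorem conj_mem {P : Sylow 2 G} {g a : G} (hg : g • P = P) (ha : a ∈ P) : g * a * g⁻¹ ∈ P := by
  rw [Sylow.smul_eq_iff_mem_normalizer, Subgroup.mem_set_normalizer_iff] at hg
  exact (hg a).1 ha

/-- `G_PQ` fixes no third point. -/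
theorem not_fix {P Q R : Sylow 2 G} (hPQ : P ≠ Q) (hPR : P ≠ R) (hQR : Q ≠ R)
    (hfix : ∀ d : G, d • P = P → d • Q = Q → d • R = R) : False := by
  obtain ⟨t, ht, htPQ, -⟩ := c.exists_swap P Q
  obtain ⟨s, hs, hsQR, -⟩ := c.exists_swap Q R
  obtain ⟨r, hr, hrRP, -⟩ := c.exists_swap R P
  have hn : (r * s * t) • P = P := by rw [mul_smul, mul_smul, htPQ, hsQR, hrRP]
  obtain ⟨d₀, u, hdP, hdQ, hu, hdu⟩ := c.exists_mul hPQ hn
  have hinv : ∀ d : G, d • P = P → d • Q = Q → d = 1 := by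
    intro d h1 h2
    have h3 := hfix d h1 h2
    have i1 := c.inverts hPQ ht htPQ h1 h2
    have i2 := c.inverts hQR hs hsQR h2 h3
    have i3 := c.inverts hPR.symm hr hrRP h3 h1
    have i4 : (r * s * t) * d * (r * s * t)⁻¹ = d⁻¹ := by
      have e : (r * s * t) * d * (r * s * t)⁻¹ = r * (s * (t * d * t⁻¹) * s⁻¹) * r⁻¹ := by group
      have e2 : s * d⁻¹ * s⁻¹ = (s * d * s⁻¹)⁻¹ := by group
      rw [e, i1, e2, i2, inv_inv, i3]
    rw [hdu] at i4
    have i5 : u * d * u⁻¹ = d⁻¹ := by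
      have e : u * d * u⁻¹ = d₀⁻¹ * (d₀ * u * d * (d₀ * u)⁻¹) * d₀ := by group
      have e2 : d₀⁻¹ * d⁻¹ * d₀ = (d₀⁻¹ * (d * d₀))⁻¹ := by group
      rw [e, i4, e2, c.inter_comm hPQ h1 h2 hdP hdQ]
      group
    have i6 : u * (d * u⁻¹ * d⁻¹) = d⁻¹ * d⁻¹ := by rw [← i5]; group
    have i7 : d⁻¹ * d⁻¹ ∈ P := by
      rw [← i6]
      exact mul_mem hu (conj_mem h1 (inv_mem hu))
    have i8 : d⁻¹ * d⁻¹ = 1 := c.eq_one_of_fix hPQ i7 (by
      have : d⁻¹ • Q = Q := by rw [inv_smul_eq_iff, h2]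
      rw [mul_smul, this, this])
    by_contra hd1
    have i9 : d ^ 2 = 1 := by
      rw [pow_two]
      have := congrArg Inv.inv i8
      simpa using this
    have ho : orderOf d = 2 := orderOf_eq_prime i9 hd1
    exact hPQ (c.h.eq_of_mem ((smul_eq_self_iff ho P).1 h1) ((smul_eq_self_iff ho Q).1 h2) hd1)
  have h1 := c.inter_card hPQ
  have h2 : (stabilizer G P ⊓ stabilizer G Q : Subgroup G) = ⊥ := by
    rw [eq_bot_iff]
    rintro d ⟨h1, h2⟩
    exact hinv d h1 h2
  rw [h2] at h1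
  have := c.four
  simp at h1
  omega

/-- an element fixing three points is trivial -/
theorem eq_one_of_fix_three {P Q R : Sylow 2 G} (hPQ : P ≠ Q) (hPR : P ≠ R) (hQR : Q ≠ R)
    {e : G} (heP : e • P = P) (heQ : e • Q = Q) (heR : e • R = R) : e = 1 := by
  by_contra he1
  let C : Subgroup G := stabilizer G P ⊓ Subgroup.centralizer {e}
  have hC : Nat.card C ≤ q - 1 := by
    apply card_le_of_disjoint P q (q - 1) (c.card P) (by have := c.four; omega) (c.stab P)
    · exact inf_le_left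
    · intro a ha haP
      by_contra ha1
      have ho := c.h.orderOf_eq P haP ha1
      have h1 : a * e = e * a := Subgroup.mem_centralizer_singleton_iff.1 ha.2
      have h2 : e ∈ P := (c.h.mem_iff P ho haP e).2 h1.symm
      exact he1 (c.eq_one_of_fix hPQ h2 heQ)
  have hQC : (stabilizer G P ⊓ stabilizer G Q : Subgroup G) = C := by
    apply Subgroup.eq_of_le_of_card_ge
    · rintro d ⟨h1, h2⟩
      exact ⟨h1, Subgroup.mem_centralizer_singleton_iff.2 (c.inter_comm hPQ h1 h2 heP heQ)⟩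
    · rw [c.inter_card hPQ]; exact hC
  have hRC : (stabilizer G P ⊓ stabilizer G R : Subgroup G) = C := by
    apply Subgroup.eq_of_le_of_card_ge
    · rintro d ⟨h1, h2⟩
      exact ⟨h1, Subgroup.mem_centralizer_singleton_iff.2 (c.inter_comm hPR h1 h2 heP heR)⟩
    · rw [c.inter_card hPR]; exact hC
  apply c.not_fix hPQ hPR hQR
  intro d hd1 hd2
  have : d ∈ (stabilizer G P ⊓ stabilizer G R : Subgroup G) := by
    rw [hRC, ← hQC]; exact ⟨hd1, hd2⟩
  exact this.2

theorem card_points_le (P : Sylow 2 G) : Nat.card {R : Sylow 2 G // R ≠ P} ≤ q := by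
  classical
  have : Fintype {R : Sylow 2 G // R ≠ P} := Fintype.ofFinite _
  let f : (Σ R : {R : Sylow 2 G // R ≠ P},
      {e : (stabilizer G P ⊓ stabilizer G R.1 : Subgroup G) // e ≠ 1}) →
      {g : stabilizer G P // (g : G) ∉ P} := fun x => ⟨⟨x.2.1, x.2.1.2.1⟩, by
        intro h0
        exact x.2.2 (Subtype.ext (c.eq_one_of_fix x.1.2.symm h0 x.2.1.2.2))⟩
  have hf : Function.Injective f := by
    rintro ⟨⟨R, hR⟩, ⟨e, he⟩, he1⟩ ⟨⟨S, hS⟩, ⟨e', he'⟩, he1'⟩ hab
    have h1 : e = e' := congrArg (fun x => ((x : {g : stabilizer G P // (g : G) ∉ P}).1 : G)) hab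
    subst h1
    have hRS : R = S := by
      by_contra hRS
      exact he1 (Subtype.ext (c.eq_one_of_fix_three hR.symm hS.symm hRS he.1 he.2 he'.2))
    subst hRS
    rfl
  have h1 := Nat.card_le_card_of_injective f hf
  rw [Nat.card_sigma] at h1
  have h2 : ∀ R : {R : Sylow 2 G // R ≠ P},
      Nat.card {e : (stabilizer G P ⊓ stabilizer G R.1 : Subgroup G) // e ≠ 1} = q - 2 := by
    intro R
    rw [card_ne, c.inter_card R.2.symm]
    omega
  rw [Finset.sum_congr rfl (fun R _ => h2 R), Finset.sum_const, Finset.card_univ,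
    ← Nat.card_eq_fintype_card, smul_eq_mul] at h1
  have h3 : Nat.card {g : stabilizer G P // (g : G) ∉ P} = q * (q - 2) := by
    have e1 : Nat.card {g : stabilizer G P // (g : G) ∈ P} = q := by
      rw [← c.card P]
      apply Nat.card_eq_of_bijective (fun g : {g : stabilizer G P // (g : G) ∈ P} =>
        (⟨g.1, g.2⟩ : P))
      constructor
      · rintro ⟨⟨a, ha⟩, ha'⟩ ⟨⟨b, hb⟩, hb'⟩ hab
        have : a = b := congrArg Subtype.val hab
        subst this
        rfl
      · rintro ⟨a, ha⟩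
        have : a ∈ stabilizer G P := by
          rw [Sylow.stabilizer_eq_normalizer]; exact Subgroup.le_normalizer ha
        exact ⟨⟨⟨a, this⟩, ha⟩, rfl⟩
    have : Fintype (stabilizer G P) := Fintype.ofFinite _
    have e2 : Nat.card {g : stabilizer G P // (g : G) ∉ P} =
        Nat.card (stabilizer G P) - Nat.card {g : stabilizer G P // (g : G) ∈ P} := by
      rw [Nat.card_eq_fintype_card, Nat.card_eq_fintype_card, Nat.card_eq_fintype_card,
        Fintype.card_subtype_compl]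
    rw [e2, e1, c.stab P]
    have := c.four
    obtain ⟨m, rfl⟩ : ∃ m, q = m + 2 := ⟨q - 2, by omega⟩
    have e3 : m + 2 - 1 = m + 1 := by omega
    have e4 : m + 2 - 2 = m := by omega
    rw [e3, e4]
    apply Nat.sub_eq_of_eq_add
    ring
  rw [h3] at h1
  exact Nat.le_of_mul_le_mul_right h1 (by have := c.four; omega)

theorem bij_P {P Q : Sylow 2 G} (hPQ : P ≠ Q) :
    Function.Bijective (fun u : P => (⟨(u : G) • Q, smul_ne_of (mem_stab_of_mem u.2) hPQ⟩ :
      {R : Sylow 2 G // R ≠ P})) := by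
  apply Function.Injective.bijective_of_nat_card_le
  · rintro ⟨u, hu⟩ ⟨v, hv⟩ huv
    have h1 : u • Q = v • Q := congrArg Subtype.val huv
    have h2 : (v⁻¹ * u) • Q = Q := by rw [mul_smul, h1, inv_smul_smul]
    have h3 := c.eq_one_of_fix hPQ (mul_mem (inv_mem hv) hu) h2
    apply Subtype.ext
    exact (inv_mul_eq_one.1 h3).symm
  · have := c.card_points_le P
    have h2 := c.card P
    exact this.trans h2.symm.le

theorem card_points (P : Sylow 2 G) {Q : Sylow 2 G} (hPQ : P ≠ Q) :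
    Nat.card {R : Sylow 2 G // R ≠ P} = q :=
  (Nat.card_eq_of_bijective _ (c.bij_P hPQ)).symm.trans (c.card P)

/-- third conclusion -/
theorem regular {P Q R : Sylow 2 G} (hPQ : Q ≠ P) (hPR : R ≠ P) :
    ∃! u : G, u ∈ P ∧ u • Q = R := by
  obtain ⟨hi, hs⟩ := c.bij_P hPQ.symm
  obtain ⟨⟨u, hu⟩, hu2⟩ := hs ⟨R, hPR⟩
  refine ⟨u, ⟨hu, congrArg Subtype.val hu2⟩, ?_⟩
  rintro v ⟨hv, hv2⟩
  have := @hi ⟨v, hv⟩ ⟨u, hu⟩ (by
    apply Subtype.ext
    exact hv2.trans (congrArg Subtype.val hu2).symm)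
  exact congrArg Subtype.val this

theorem bij_D {P Q R : Sylow 2 G} (hPQ : P ≠ Q) (hPR : P ≠ R) (hQR : Q ≠ R) :
    Function.Bijective (fun d : (stabilizer G P ⊓ stabilizer G Q : Subgroup G) =>
      (⟨⟨(d : G) • R, smul_ne_of d.2.1 hPR⟩,
        fun h0 => smul_ne_of d.2.2 hQR (congrArg Subtype.val h0)⟩ :
          {S : {S : Sylow 2 G // S ≠ P} // S ≠ ⟨Q, hPQ.symm⟩})) := by
  apply Function.Injective.bijective_of_nat_card_le
  · rintro ⟨u, hu⟩ ⟨v, hv⟩ huv
    have h1 : u • R = v • R := congrArg (fun x =>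
      ((x : {S : {S : Sylow 2 G // S ≠ P} // S ≠ ⟨Q, hPQ.symm⟩}).1 : Sylow 2 G)) huv
    have h2 : (v⁻¹ * u) • R = R := by rw [mul_smul, h1, inv_smul_smul]
    have h3 := c.eq_one_of_fix_three hPQ hPR hQR (inv_mul_fix hu.1 hv.1)
      (inv_mul_fix hu.2 hv.2) h2
    apply Subtype.ext
    exact (inv_mul_eq_one.1 h3).symm
  · rw [card_ne, c.card_points P hPQ, c.inter_card hPQ]

/-- first conclusion -/
theorem three_transitive (P Q R P' Q' R' : Sylow 2 G) (hPQ : P ≠ Q) (hPR : P ≠ R) (hQR : Q ≠ R)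
    (hPQ' : P' ≠ Q') (hPR' : P' ≠ R') (hQR' : Q' ≠ R') :
    ∃ g : G, g • P = P' ∧ g • Q = Q' ∧ g • R = R' := by
  obtain ⟨g, hg⟩ := MulAction.exists_smul_eq G P P'
  have h1 : g • Q ≠ P' := by rw [← hg]; exact fun h0 => hPQ (smul_left_cancel _ h0).symm
  obtain ⟨u, ⟨hu, hu2⟩, -⟩ := c.regular h1 hPQ'.symm
  have hu3 : u • P' = P' := mem_stab_of_mem hu
  have h2 : (u * g) • P = P' := by rw [mul_smul, hg, hu3]
  have h3 : (u * g) • Q = Q' := by rw [mul_smul, hu2]
  have h4 : (u * g) • R ≠ P' := by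
    rw [← h2]; exact fun h0 => hPR (smul_left_cancel _ h0).symm
  have h5 : (u * g) • R ≠ Q' := by
    rw [← h3]; exact fun h0 => hQR (smul_left_cancel _ h0).symm
  obtain ⟨⟨d, hd⟩, hd2⟩ := (c.bij_D hPQ' h4.symm h5.symm).2
    ⟨⟨R', hPR'.symm⟩, fun h0 => hQR' (congrArg Subtype.val h0).symm⟩
  have h6 : d • (u * g) • R = R' := congrArg (fun x =>
      ((x : {S : {S : Sylow 2 G // S ≠ P'} // S ≠ ⟨Q', hPQ'.symm⟩}).1 : Sylow 2 G)) hd2
  refine ⟨d * (u * g), ?_, ?_, ?_⟩
  · rw [mul_smul, h2]; exact hd.1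
  · rw [mul_smul, h3]; exact hd.2
  · rw [mul_smul, h6]

end Ctx

end

end Cfsg.Agent.TwoFusion.ElemCentSylow
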