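import Mathlib
import Cfsg.Prelude.Def_Solvable
import Cfsg.Prelude.Def_Local
import Cfsg.Prelude.Def_TwoFusion
import Cfsg.Agent.S0665
import Cfsg.Agent.Transfer.FusionFunctor
set_option linter.all false

/-!
# The Stellmacher functor on 2-groups and strongly closed abelian subgroups

From S0665 (a nontrivial 2-group `S` has a nontrivial characteristic subgroup which is normal in every
`S₄`-free group of characteristic 2 with Sylow 2-subgroup `S`) we get a functor `W` on finite 2-groups and,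
via the abstract conjugacy functor theorem, the normalizer of `W(S)` controls fusion in every group of order
prime to 3.  Hence the centre of `W(S)` is a nontrivial abelian subgroup of `S`, strongly closed in `S`.
-/

set_option autoImplicit false
universe u

namespace Cfsg.Agent.TwoFusion.S4FreeFunctor

/-- No section is isomorphic to the symmetric group of degree four. -/
def S4Free (G : Type u) [Group G] : Prop :=
  ¬ ∃ (K R : Subgroup G) (_ : (R.subgroupOf K).Normal),
    Nonempty ((K ⧸ R.subgroupOf K) ≃* Equiv.Perm (Fin 4))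

/-- The property of `W` in Stellmacher's theorem, apart from nontriviality. -/
def Good (S : Type u) [Group S] (W : Subgroup S) : Prop :=
  W.Characteristic ∧ ∀ (G : Type u) [Group G] [Finite G] (τ : S →* G), Function.Injective τ →
    (∃ P : Sylow 2 G, (P : Subgroup G) = τ.range) → S4Free G →
    Subgroup.centralizer (Cfsg.pCore 2 G : Set G) ≤ Cfsg.pCore 2 G → (W.map τ).Normal

/-- The largest good subgroup. -/
def WS (S : Type u) [Group S] : Subgroup S := sSup {W | Good S W}

/-- The functor on subgroups of arbitrary groups. -/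
def Wf {G : Type u} [Group G] (P : Subgroup G) : Subgroup G := (WS P).map P.subtype

theorem good_map {S S' : Type u} [Group S] [Group S'] (e : S ≃* S') {W : Subgroup S}
    (h : Good S W) : Good S' (W.map e.toMonoidHom) := by
  refine ⟨?_, ?_⟩
  · rw [Subgroup.characteristic_iff_map_le]
    intro φ
    have h1 := (Subgroup.characteristic_iff_map_eq.1 h.1) ((e.trans φ).trans e.symm)
    rintro _ ⟨_, ⟨x, hx, rfl⟩, rfl⟩
    have h2 : ((e.trans φ).trans e.symm) x ∈ W := by
      rw [← h1]
      exact Subgroup.mem_map_of_mem _ hx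
    refine ⟨_, h2, ?_⟩
    simp
  · intro G _ _ τ hτ hP hS4 hC
    have h3 := h.2 G (τ.comp e.toMonoidHom) (hτ.comp e.injective)
    rw [← Subgroup.map_map] at h3
    apply h3 _ hS4 hC
    obtain ⟨P, hP⟩ := hP
    refine ⟨P, hP.trans ?_⟩
    ext y
    constructor
    · rintro ⟨x, rfl⟩
      exact ⟨e.symm x, by simp⟩
    · rintro ⟨x, rfl⟩
      exact ⟨e x, by simp⟩

theorem map_WS {S S' : Type u} [Group S] [Group S'] (e : S ≃* S') :
    (WS S).map e.toMonoidHom = WS S' := by
  apply le_antisymm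
  · rw [Subgroup.map_le_iff_le_comap]
    refine sSup_le fun W hW => ?_
    rw [← Subgroup.map_le_iff_le_comap]
    exact le_sSup (good_map e hW)
  · refine sSup_le fun W hW => ?_
    have h1 : W = (W.map e.symm.toMonoidHom).map e.toMonoidHom := by
      rw [Subgroup.map_map]
      have : e.toMonoidHom.comp e.symm.toMonoidHom = MonoidHom.id S' := by
        ext x; simp
      rw [this, Subgroup.map_id]
    rw [h1]
    exact Subgroup.map_mono (le_sSup (good_map e.symm hW))

theorem good_WS (S : Type u) [Group S] : Good S (WS S) := by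
  refine ⟨?_, ?_⟩
  · rw [Subgroup.characteristic_iff_map_eq]
    intro φ
    exact map_WS φ
  · intro G _ _ τ hτ hP hS4 hC
    have h1 : (WS S).map τ = sSup {N : Subgroup G | ∃ W, Good S W ∧ N = W.map τ} := by
      apply le_antisymm
      · rw [Subgroup.map_le_iff_le_comap]
        refine sSup_le fun W hW => ?_
        rw [← Subgroup.map_le_iff_le_comap]
        exact le_sSup ⟨W, hW, rfl⟩
      · refine sSup_le ?_
        rintro _ ⟨W, hW, rfl⟩
        exact Subgroup.map_mono (le_sSup hW)
    rw [h1]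
    apply Subgroup.sSup_normal
    rintro _ ⟨W, hW, rfl⟩
    exact hW.2 G τ hτ hP hS4 hC

theorem Wf_le {G : Type u} [Group G] (P : Subgroup G) : Wf P ≤ P := Subgroup.map_subtype_le _

theorem Wf_map {G H : Type u} [Group G] [Group H] (f : G →* H) (P : Subgroup G)
    (hf : ∀ x ∈ P, f x = 1 → x = 1) : Wf (P.map f) = (Wf P).map f := by
  let e0 : P →* P.map f := (f.comp P.subtype).codRestrict (P.map f) (fun x => ⟨x, x.2, rfl⟩)
  have hbij : Function.Bijective e0 := by
    constructor
    · rw [injective_iff_map_eq_one]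
      intro x hx
      have : f x = 1 := congrArg Subtype.val hx
      exact Subtype.ext (hf x x.2 this)
    · rintro ⟨y, x, hx, rfl⟩
      exact ⟨⟨x, hx⟩, rfl⟩
  let e : P ≃* P.map f := MulEquiv.ofBijective e0 hbij
  have h1 : (WS P).map e.toMonoidHom = WS (P.map f) := map_WS e
  rw [Wf, Wf, ← h1, Subgroup.map_map, Subgroup.map_map]
  rfl

theorem Wf_ne_bot {G : Type u} [Group G] [Finite G] (P : Subgroup G) (hP : P ≠ ⊥)
    (hp : IsPGroup 2 P) : Wf P ≠ ⊥ := by
  have : Nontrivial P := (Subgroup.nontrivial_iff_ne_bot P).2 hP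
  obtain ⟨W, hW1, hW2, hW3⟩ := Cfsg.Agent.S0665.result (S := P) hp
  intro h
  apply hW1
  have h2 : W ≤ WS P := le_sSup ⟨hW2, hW3⟩
  have h3 : WS P = ⊥ := by
    rw [Wf] at h
    exact (Subgroup.map_eq_bot_iff_of_injective _ P.subtype_injective).1 h
  rw [h3] at h2
  exact le_bot_iff.1 h2

theorem s4Free_of_not_dvd {G : Type u} [Group G] [Finite G] (h3 : ¬ 3 ∣ Nat.card G) : S4Free G := by
  rintro ⟨K, R, hR, ⟨e⟩⟩
  apply h3
  have h1 : Nat.card (K ⧸ R.subgroupOf K) = 24 := by
    rw [Nat.card_congr e.toEquiv, Nat.card_eq_fintype_card, Fintype.card_perm]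
    rfl
  have h2 : Nat.card (K ⧸ R.subgroupOf K) ∣ Nat.card G :=
    (Subgroup.card_quotient_dvd_card _).trans (Subgroup.card_subgroup_dvd_card K)
  rw [h1] at h2
  exact (by norm_num : 3 ∣ 24).trans h2

theorem Wf_normal {G : Type u} [Group G] [Finite G] (h4 : S4Free G)
    (hC : Subgroup.centralizer (Cfsg.pCore 2 G : Set G) ≤ Cfsg.pCore 2 G) (P : Sylow 2 G) :
    (Wf (P : Subgroup G)).Normal :=
  (good_WS (P : Subgroup G)).2 G (P : Subgroup G).subtype (Subgroup.subtype_injective _)
    ⟨P, by simp⟩ h4 hC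

/-- In a group of order prime to `3` the normalizer of `W(S)` controls the fusion of elements of `S`. -/
theorem exists_conj {G : Type u} [Group G] [Finite G] (h3 : ¬ 3 ∣ Nat.card G) (S : Sylow 2 G)
    (x : G) (hx : x ∈ (S : Subgroup G)) (g : G) (hg : g * x * g⁻¹ ∈ (S : Subgroup G)) :
    ∃ m ∈ Subgroup.normalizer (Wf (S : Subgroup G) : Set G), m * x * m⁻¹ = g * x * g⁻¹ := by
  have hWf : Cfsg.Agent.Transfer.FusionFunctor.IsSectionFunctor 2
      (fun (G : Type u) [Group G] (P : Subgroup G) => Wf P) :=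
    ⟨fun G _ P => Wf_le P, fun G H _ _ _ _ f P _ hf => Wf_map f P hf,
      fun G _ _ P hp hP => Wf_ne_bot P hP hp⟩
  have key := Cfsg.Agent.Transfer.FusionFunctor.controls_fusion hWf
    (fun G _ => ¬ 3 ∣ Nat.card G)
    (fun G _ _ H h h' => h (h'.trans (Subgroup.card_subgroup_dvd_card H)))
    (fun G _ _ N _ h h' => h (h'.trans (Subgroup.card_quotient_dvd_card N)))
    (fun G _ _ h hC P => Wf_normal (s4Free_of_not_dvd h) hC P)
    G h3 S (Subgroup.zpowers x) (by rwa [Subgroup.zpowers_le]) g (by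
      rintro _ ⟨k, rfl⟩
      have : g * x ^ k * g⁻¹ = (g * x * g⁻¹) ^ k := by rw [conj_zpow]
      simp only [this]
      exact Subgroup.zpow_mem _ hg k)
  obtain ⟨m, hm, hm2⟩ := key
  exact ⟨m, hm, hm2 x (Subgroup.mem_zpowers x)⟩

/-- A group of even order prime to `3` has a nontrivial abelian subgroup strongly closed in a Sylow 2-subgroup. -/
theorem exists_stronglyClosed {G : Type u} [Group G] [Finite G] (h3 : ¬ 3 ∣ Nat.card G)
    (S : Sylow 2 G) (hS : (S : Subgroup G) ≠ ⊥) : ∃ A : Subgroup G, A ≠ ⊥ ∧ IsMulCommutative A ∧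
      Cfsg.IsStronglyClosed A (S : Subgroup G) := by
  set W := Wf (S : Subgroup G) with hW
  have hWne : W ≠ ⊥ := Wf_ne_bot _ hS S.isPGroup'
  have hWp : IsPGroup 2 W := S.isPGroup'.to_le (Wf_le _)
  have : Nontrivial W := (Subgroup.nontrivial_iff_ne_bot W).2 hWne
  refine ⟨(Subgroup.center W).map W.subtype, ?_, ?_, ?_, ?_⟩
  · intro h
    have h1 : Subgroup.center W = ⊥ :=
      (Subgroup.map_eq_bot_iff_of_injective _ W.subtype_injective).1 h
    have h2 : Nontrivial (Subgroup.center W) := hWp.center_nontrivial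
    exact (Subgroup.nontrivial_iff_ne_bot _).1 h2 h1
  · refine ⟨⟨?_⟩⟩
    rintro ⟨_, ⟨a, ha, rfl⟩⟩ ⟨_, ⟨b, hb, rfl⟩⟩
    apply Subtype.ext
    have := (Subgroup.mem_center_iff.1 ha b)
    exact (congrArg Subtype.val this).symm
  · exact (Subgroup.map_subtype_le _).trans (Wf_le _)
  · rintro _ ⟨a, ha, rfl⟩ g hg
    have haS : ((a : W) : G) ∈ (S : Subgroup G) := Wf_le _ a.2
    obtain ⟨m, hm, hm2⟩ := exists_conj h3 S (a : G) haS g hg
    rw [Subgroup.mem_normalizer_iff] at hm
    have hma : m * (a : G) * m⁻¹ ∈ W := (hm _).1 a.2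
    refine ⟨⟨m * (a : G) * m⁻¹, hma⟩, ?_, hm2⟩
    rw [SetLike.mem_coe, Subgroup.mem_center_iff]
    rintro ⟨w, hw⟩
    apply Subtype.ext
    have hw' : m⁻¹ * w * m ∈ W := by
      rw [hm]
      simpa [mul_assoc] using hw
    have h5 := congrArg Subtype.val (Subgroup.mem_center_iff.1 ha ⟨m⁻¹ * w * m, hw'⟩)
    simp only [Subgroup.coe_mul] at h5 ⊢
    calc w * (m * a * m⁻¹) = m * ((m⁻¹ * w * m) * a) * m⁻¹ := by group
      _ = m * (a * (m⁻¹ * w * m)) * m⁻¹ := by rw [h5]
      _ = m * a * m⁻¹ * w := by group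

end Cfsg.Agent.TwoFusion.S4FreeFunctor
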