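import Mathlib
set_option linter.all false

/-!
Four-subgroups of dihedral groups of order `2m`, `4 ∣ m`, and their fusion in a finite group
with dihedral Sylow 2-subgroups.
-/

set_option autoImplicit false

namespace Cfsg.Agent.TwoFusion.DihedralFour

open DihedralGroup

theorem zmod_two_mul_eq_zero {m h : ℕ} (hm : m = 2 * h) (hh : 0 < h) (j : ZMod m)
    (hj : 2 * j = 0) : j = 0 ∨ j = (h : ZMod m) := by
  subst hm
  have : NeZero (2*h) := ⟨by omega⟩
  obtain ⟨v, hv, rfl⟩ : ∃ v : ℕ, v < 2*h ∧ (v : ZMod (2*h)) = j :=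
    ⟨j.val, ZMod.val_lt j, ZMod.natCast_zmod_val j⟩
  have h1 : ((2 * v : ℕ) : ZMod (2*h)) = 0 := by push_cast; exact hj
  rw [ZMod.natCast_eq_zero_iff] at h1
  have h2 : h ∣ v := Nat.dvd_of_mul_dvd_mul_left (by norm_num) h1
  obtain ⟨c, rfl⟩ := h2
  have h3 : c < 2 := by nlinarith
  interval_cases c
  · left; simp
  · right; simp

theorem zmod_h_add_h {m h : ℕ} (hm : m = 2 * h) : (h : ZMod m) + (h : ZMod m) = 0 := by
  have : ((2 * h : ℕ) : ZMod m) = 0 := by rw [← hm]; simp
  rw [← two_mul]; exact_mod_cast this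

theorem zmod_h_ne_zero {m h : ℕ} (hm : m = 2 * h) (hh : 0 < h) : (h : ZMod m) ≠ 0 := by
  intro h0
  rw [ZMod.natCast_eq_zero_iff, hm] at h0
  have := Nat.le_of_dvd hh h0
  omega

theorem zmod_neg_h {m h : ℕ} (hm : m = 2 * h) : -(h : ZMod m) = h := by
  have := zmod_h_add_h hm
  exact neg_eq_of_add_eq_zero_left this

/-- The four-subgroup `{1, r h, sr i, sr (i+h)}` of the dihedral group of order `2m`, `m = 2h`. -/
def K (m h : ℕ) (hm : m = 2 * h) (i : ZMod m) : Subgroup (DihedralGroup m) where
  carrier := {x | x = r 0 ∨ x = r (h : ZMod m) ∨ x = sr i ∨ x = sr (i + (h : ZMod m))}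
  one_mem' := by left; rfl
  mul_mem' := by
    have e1 := zmod_h_add_h hm
    have e2 := zmod_neg_h hm
    rintro a b (rfl | rfl | rfl | rfl) (rfl | rfl | rfl | rfl) <;>
    simp [r_mul_r, r_mul_sr, sr_mul_r, sr_mul_sr, e1, sub_eq_add_neg, e2, add_assoc, ← one_def,
      -r_zero]
  inv_mem' := by
    have e2 := zmod_neg_h hm
    rintro a (rfl | rfl | rfl | rfl) <;> simp [e2]

theorem mem_K {m h : ℕ} (hm : m = 2 * h) (i : ZMod m) (x : DihedralGroup m) :
    x ∈ K m h hm i ↔ x = r 0 ∨ x = r (h : ZMod m) ∨ x = sr i ∨ x = sr (i + (h : ZMod m)) :=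
  Iff.rfl

theorem sr_mem_K {m h : ℕ} (hm : m = 2 * h) (i j : ZMod m) :
    sr j ∈ K m h hm i ↔ j = i ∨ j = i + h := by
  rw [mem_K]; simp [-r_zero]

theorem r_mem_K {m h : ℕ} (hm : m = 2 * h) (i j : ZMod m) :
    r j ∈ K m h hm i ↔ j = 0 ∨ j = h := by
  rw [mem_K]; simp [-r_zero]

theorem card_K {m h : ℕ} (hm : m = 2 * h) (hh : 0 < h) (i : ZMod m) :
    Nat.card (K m h hm i) = 4 := by
  classical
  have hne := zmod_h_ne_zero hm hh
  have h1 : ((K m h hm i : Subgroup (DihedralGroup m)) : Set (DihedralGroup m)) =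
      (({r 0, r (h : ZMod m), sr i, sr (i + (h : ZMod m))} : Finset (DihedralGroup m)) :
        Set (DihedralGroup m)) := by
    ext x
    simp [mem_K]
  have h2 : Nat.card (K m h hm i) = Nat.card
      ((K m h hm i : Subgroup (DihedralGroup m)) : Set (DihedralGroup m)) := rfl
  rw [h2, h1]
  rw [Nat.card_coe_set_eq, Set.ncard_coe_finset]
  rw [Finset.card_insert_of_notMem, Finset.card_insert_of_notMem, Finset.card_insert_of_notMem,
    Finset.card_singleton]
  · simp [hne]
  · simp
  · simp [hne.symm, -r_zero]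

theorem isKleinFour_K {m h : ℕ} (hm : m = 2 * h) (hh : 0 < h) (i : ZMod m) :
    IsKleinFour (K m h hm i) where
  card_four := card_K hm hh i
  exponent_two := by
    have hne := zmod_h_ne_zero hm hh
    have hdvd : Monoid.exponent (K m h hm i) ∣ 2 := by
      rw [Monoid.exponent_dvd_iff_forall_pow_eq_one]
      rintro ⟨x, hx⟩
      ext
      rw [Subgroup.coe_pow]
      show x ^ 2 = 1
      have e1 := zmod_h_add_h hm
      rcases hx with (rfl | rfl | rfl | rfl) <;> rw [pow_two] <;> simp [e1]
    rcases (Nat.dvd_prime Nat.prime_two).1 hdvd with h1 | h1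
    · rw [Monoid.exp_eq_one_iff] at h1
      have := card_K hm hh i
      have h2 : Nat.card (K m h hm i) ≤ 1 := Finite.card_le_one_iff_subsingleton.2 h1
      omega
    · exact h1

/-- Every four-subgroup of a dihedral group of order `2m`, `m = 2h`, is one of the `K i`. -/
theorem exists_eq_K {m h : ℕ} (hm : m = 2 * h) (hh : 0 < h) (V : Subgroup (DihedralGroup m))
    (hV : IsKleinFour V) (h4 : ∃ i : ZMod m, sr i ∈ V) : ∃ i, V = K m h hm i := by
  obtain ⟨i, hi⟩ := h4
  refine ⟨i, ?_⟩
  have : NeZero m := ⟨by omega⟩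
  have hle : V ≤ K m h hm i := by
    intro x hx
    rcases x with j | j
    · have h1 : (⟨r j, hx⟩ : V) * ⟨r j, hx⟩ = 1 := IsKleinFour.mul_self _
      have h2 : (r j : DihedralGroup m) * r j = 1 := congrArg Subtype.val h1
      rw [r_mul_r, one_def, r.injEq, ← two_mul] at h2
      rw [r_mem_K]
      exact zmod_two_mul_eq_zero hm hh j h2
    · have h3 : sr i * sr j ∈ V := mul_mem hi hx
      rw [sr_mul_sr] at h3
      have h1 : (⟨r (j - i), h3⟩ : V) * ⟨r (j - i), h3⟩ = 1 := IsKleinFour.mul_self _
      have h2 : (r (j - i) : DihedralGroup m) * r (j - i) = 1 := congrArg Subtype.val h1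
      rw [r_mul_r, one_def, r.injEq, ← two_mul] at h2
      rw [sr_mem_K]
      rcases zmod_two_mul_eq_zero hm hh _ h2 with h5 | h5
      · left; exact sub_eq_zero.1 h5
      · right; rw [← h5]; ring
  exact Subgroup.eq_of_le_of_card_ge hle (by rw [card_K hm hh, hV.card_four])

theorem exists_sr_mem {m h : ℕ} (hm : m = 2 * h) (hh : 0 < h) (V : Subgroup (DihedralGroup m))
    (hV : IsKleinFour V) : ∃ i : ZMod m, sr i ∈ V := by
  classical
  by_contra hcon
  push Not at hcon
  have : NeZero m := ⟨by omega⟩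
  have hsub : (V : Set (DihedralGroup m)) ⊆
      (({r 0, r (h : ZMod m)} : Finset (DihedralGroup m)) : Set (DihedralGroup m)) := by
    intro x hx
    rcases x with j | j
    · have h1 : (⟨r j, hx⟩ : V) * ⟨r j, hx⟩ = 1 := IsKleinFour.mul_self _
      have h2 : (r j : DihedralGroup m) * r j = 1 := congrArg Subtype.val h1
      rw [r_mul_r, one_def, r.injEq, ← two_mul] at h2
      rcases zmod_two_mul_eq_zero hm hh j h2 with h5 | h5 <;> simp [h5]
    · exact absurd hx (hcon j)
  have h1 := Set.ncard_le_ncard hsub (Finset.finite_toSet _)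
  rw [Set.ncard_coe_finset] at h1
  have h2 : (V : Set (DihedralGroup m)).ncard = 4 := by
    rw [← Nat.card_coe_set_eq]; exact hV.card_four
  have h3 : ({r 0, r (h : ZMod m)} : Finset (DihedralGroup m)).card ≤ 2 := Finset.card_le_two
  omega

theorem K_eq_K_iff {m h : ℕ} (hm : m = 2 * h) (i j : ZMod m) :
    K m h hm i = K m h hm j ↔ j = i ∨ j = i + h := by
  constructor
  · intro he
    have : sr j ∈ K m h hm i := by rw [he, sr_mem_K]; left; rfl
    rwa [sr_mem_K] at this
  · have e1 := zmod_h_add_h hm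
    rintro (rfl | rfl)
    · rfl
    · ext x
      rw [mem_K, mem_K, add_assoc i, e1, add_zero]
      tauto

theorem K_map_conj {m h : ℕ} (hm : m = 2 * h) (i j : ZMod m) :
    (K m h hm i).map (MulAut.conj (r j : DihedralGroup m)).toMonoidHom = K m h hm (i - 2 * j) := by
  have key : ∀ (i j : ZMod m), (K m h hm i).map (MulAut.conj (r j : DihedralGroup m)).toMonoidHom ≤
      K m h hm (i - 2 * j) := by
    intro i j
    rw [Subgroup.map_le_iff_le_comap]
    rintro x (rfl | rfl | rfl | rfl) <;>
    simp only [Subgroup.mem_comap, MulEquiv.coe_toMonoidHom, MulAut.conj_apply, inv_r, r_mul_r,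
      r_mul_sr, sr_mul_r, r_mem_K, sr_mem_K]
    · left; ring
    · right; ring
    · left; ring
    · right; ring
  apply le_antisymm (key i j)
  intro x hx
  have h1 := key (i - 2 * j) (-j) (Subgroup.mem_map_of_mem _ hx)
  have h2 : i - 2 * j - 2 * (-j) = i := by ring
  rw [h2] at h1
  refine ⟨_, h1, ?_⟩
  simp only [MulEquiv.coe_toMonoidHom, MulAut.conj_apply]
  rw [← inv_r]; group

/-- In a finite group `X` with Sylow 2-subgroup `S` and a 2-subgroup `U`, the number of cosets
`xN`, `N = N_X(U)`, with `xUx⁻¹ ≤ S`, times `|N|`, is `|S|` times an odd number. -/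
theorem exists_odd_mul_card_normalizer {X : Type*} [Group X] [Finite X] (S : Sylow 2 X)
    (U : Subgroup X) (hU : IsPGroup 2 U) :
    ∃ b : ℕ, ¬ 2 ∣ b ∧ Nat.card (Subgroup.normalizer (U : Set X)) *
      Nat.card {q : X ⧸ (Subgroup.normalizer (U : Set X)) //
        ∃ x : X, (x : X ⧸ (Subgroup.normalizer (U : Set X))) = q ∧
          U.map (MulAut.conj x).toMonoidHom ≤ S} = Nat.card S * b := by
  classical
  refine ⟨Nat.card (MulAction.fixedPoints U (X ⧸ (S : Subgroup X))), ?_, ?_⟩
  · intro hdvd
    have h1 := hU.card_modEq_card_fixedPoints (X ⧸ (S : Subgroup X))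
    have h2 : ¬ 2 ∣ Nat.card (X ⧸ (S : Subgroup X)) := S.not_dvd_index
    apply h2
    exact (Nat.modEq_zero_iff_dvd.1 (h1.trans (Nat.modEq_zero_iff_dvd.2 hdvd)))
  · set N := Subgroup.normalizer (U : Set X) with hN
    set T : Set X := {x | U.map (MulAut.conj x).toMonoidHom ≤ S} with hT
    set A : Set (X ⧸ N) := {q | ∃ x : X, (x : X ⧸ N) = q ∧
          U.map (MulAut.conj x).toMonoidHom ≤ S} with hA
    have hconj : ∀ x : X, ∀ n ∈ N, U.map (MulAut.conj (x * n)).toMonoidHom =
        U.map (MulAut.conj x).toMonoidHom := by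
      intro x n hn
      ext y
      simp only [Subgroup.mem_map, MulEquiv.coe_toMonoidHom, MulAut.conj_apply]
      rw [hN, Subgroup.mem_normalizer_iff] at hn
      constructor
      · rintro ⟨u, hu, rfl⟩
        refine ⟨n * u * n⁻¹, (hn u).1 hu, by group⟩
      · rintro ⟨u, hu, rfl⟩
        refine ⟨n⁻¹ * u * n, ?_, by group⟩
        rw [hn]
        have : n * (n⁻¹ * u * n) * n⁻¹ = u := by group
        rw [this]; exact hu
    have h1 : ((fun x : X => (x : X ⧸ N)) ⁻¹' A) = T := by
      ext y
      constructor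
      · rintro ⟨x, hx, hxS⟩
        have hx' : (x : X ⧸ N) = (y : X ⧸ N) := hx
        rw [QuotientGroup.eq] at hx'
        have h2 := hconj x _ hx'
        have h3 : x * (x⁻¹ * y) = y := by group
        rw [h3] at h2
        show U.map (MulAut.conj y).toMonoidHom ≤ S
        rw [h2]; exact hxS
      · intro hy
        exact ⟨y, rfl, hy⟩
    have h2 : ((fun x : X => (x : X ⧸ (S : Subgroup X))) ⁻¹'
        (MulAction.fixedPoints U (X ⧸ (S : Subgroup X)))) = T⁻¹ := by
      ext y
      simp only [Set.mem_preimage, MulAction.mem_fixedPoints, Set.mem_inv]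
      constructor
      · intro hy
        show U.map (MulAut.conj y⁻¹).toMonoidHom ≤ S
        rw [Subgroup.map_le_iff_le_comap]
        intro u hu
        have h3 : ((u * y : X) : X ⧸ (S : Subgroup X)) = (y : X ⧸ (S : Subgroup X)) := hy ⟨u, hu⟩
        rw [eq_comm, QuotientGroup.eq] at h3
        simp only [Subgroup.mem_comap, MulEquiv.coe_toMonoidHom, MulAut.conj_apply, inv_inv]
        have h4 : y⁻¹ * u * y = y⁻¹ * (u * y) := by group
        rw [h4]; exact h3
      · intro hy u
        have h3 : (MulAut.conj y⁻¹).toMonoidHom (u : X) ∈ (S : Subgroup X) :=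
          hy (Subgroup.mem_map_of_mem _ u.2)
        simp only [MulEquiv.coe_toMonoidHom, MulAut.conj_apply, inv_inv] at h3
        show ((u * y : X) : X ⧸ (S : Subgroup X)) = (y : X ⧸ (S : Subgroup X))
        rw [eq_comm, QuotientGroup.eq]
        have h4 : y⁻¹ * u * y = y⁻¹ * (u * y) := by group
        rw [← h4]; exact h3
    have h3 : Nat.card T = Nat.card (T⁻¹ : Set X) := by
      rw [Nat.card_coe_set_eq, Nat.card_coe_set_eq, Set.ncard_inv]
    have h4 := QuotientGroup.card_preimage_mk N A
    have h5 := QuotientGroup.card_preimage_mk (S : Subgroup X)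
      (MulAction.fixedPoints U (X ⧸ (S : Subgroup X)))
    have h6 : Nat.card (QuotientGroup.mk ⁻¹' A : Set X) = Nat.card T := by
      rw [← h1]
    have h7 : Nat.card (QuotientGroup.mk ⁻¹'
        (MulAction.fixedPoints U (X ⧸ (S : Subgroup X))) : Set X) = Nat.card (T⁻¹ : Set X) := by
      rw [← h2]
    have h8 : Nat.card {q : X ⧸ N // ∃ x : X, (x : X ⧸ N) = q ∧
          U.map (MulAut.conj x).toMonoidHom ≤ S} = Nat.card A := rfl
    rw [h8, ← h4, h6, h3, ← h7, h5]

theorem isKleinFour_of_mulEquiv {G H : Type*} [Group G] [Group H] (e : G ≃* H)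
    (hG : IsKleinFour G) : IsKleinFour H where
  card_four := by rw [← Nat.card_congr e.toEquiv]; exact hG.card_four
  exponent_two := by rw [← Monoid.exponent_eq_of_mulEquiv e]; exact hG.exponent_two

theorem isKleinFour_map {G H : Type*} [Group G] [Group H] (f : G →* H)
    (hf : Function.Injective f) (V : Subgroup G) (hV : IsKleinFour V) :
    IsKleinFour (V.map f) :=
  isKleinFour_of_mulEquiv (V.equivMapOfInjective f hf) hV

theorem isKleinFour_map_conj {G : Type*} [Group G] (x : G) (V : Subgroup G) (hV : IsKleinFour V) :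
    IsKleinFour (V.map (MulAut.conj x).toMonoidHom) :=
  isKleinFour_map _ (MulAut.conj x).injective V hV

theorem map_conj_map_conj {G : Type*} [Group G] (x y : G) (V : Subgroup G) :
    (V.map (MulAut.conj x).toMonoidHom).map (MulAut.conj y).toMonoidHom =
      V.map (MulAut.conj (y * x)).toMonoidHom := by
  rw [Subgroup.map_map]
  congr 1
  ext z
  simp [mul_assoc]

theorem map_conj_one {G : Type*} [Group G] (V : Subgroup G) :
    V.map (MulAut.conj (1 : G)).toMonoidHom = V := by
  have : (MulAut.conj (1 : G)).toMonoidHom = MonoidHom.id G := by ext z; simp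
  rw [this, Subgroup.map_id]

theorem quot_eq_iff {X : Type*} [Group X] (U : Subgroup X) (x y : X) :
    (x : X ⧸ Subgroup.normalizer (U : Set X)) = y ↔
      U.map (MulAut.conj x).toMonoidHom = U.map (MulAut.conj y).toMonoidHom := by
  have key : ∀ z : X, z ∈ Subgroup.normalizer (U : Set X) ↔
      U.map (MulAut.conj z).toMonoidHom = U := by
    intro z
    rw [Subgroup.mem_normalizer_iff]
    constructor
    · intro hz
      ext w
      simp only [Subgroup.mem_map, MulEquiv.coe_toMonoidHom, MulAut.conj_apply]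
      constructor
      · rintro ⟨u, hu, rfl⟩
        exact (hz u).1 hu
      · intro hw
        refine ⟨z⁻¹ * w * z, ?_, by group⟩
        rw [hz]
        have : z * (z⁻¹ * w * z) * z⁻¹ = w := by group
        rw [this]; exact hw
    · intro hz u
      constructor
      · intro hu
        have := Subgroup.mem_map_of_mem (MulAut.conj z).toMonoidHom hu
        rw [hz] at this
        exact this
      · intro hu
        rw [← hz] at hu
        obtain ⟨v, hv, hvu⟩ := hu
        have : v = u := (MulAut.conj z).injective (by simpa using hvu)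
        rw [← this]; exact hv
  rw [QuotientGroup.eq, key, ← map_conj_map_conj]
  constructor
  · intro h1
    have h2 := congrArg (Subgroup.map (MulAut.conj x).toMonoidHom) h1
    rw [map_conj_map_conj, mul_inv_cancel, map_conj_one] at h2
    exact h2.symm
  · intro h1
    rw [← h1, map_conj_map_conj, inv_mul_cancel, map_conj_one]

/-- The number of cosets `xN_X(U)` with `U^x ≤ S`, when all the four-subgroups of `S`
are conjugate to `U`. -/
theorem card_cosets {X : Type*} [Group X] [Finite X] (S : Subgroup X) {m h : ℕ} (hm : m = 2 * h)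
    (hh : 0 < h) (φ : DihedralGroup m →* X) (hφ : Function.Injective φ) (hr : φ.range = S)
    (U : Subgroup X) (hUK : IsKleinFour U)
    (hU : ∀ i : ZMod m, ∃ g : X, U.map (MulAut.conj g).toMonoidHom = (K m h hm i).map φ) :
    Nat.card {q : X ⧸ (Subgroup.normalizer (U : Set X)) //
        ∃ x : X, (x : X ⧸ (Subgroup.normalizer (U : Set X))) = q ∧
          U.map (MulAut.conj x).toMonoidHom ≤ S} = h := by
  classical
  have hnz : NeZero m := ⟨by omega⟩
  choose g hg using hU
  set A := {q : X ⧸ (Subgroup.normalizer (U : Set X)) //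
        ∃ x : X, (x : X ⧸ (Subgroup.normalizer (U : Set X))) = q ∧
          U.map (MulAut.conj x).toMonoidHom ≤ S} with hA
  have hle : ∀ i, U.map (MulAut.conj (g i)).toMonoidHom ≤ S := by
    intro i
    rw [hg, ← hr]
    exact Subgroup.map_le_range _ _
  let f : ZMod m → A := fun i => ⟨(g i : X ⧸ (Subgroup.normalizer (U : Set X))), g i, rfl, hle i⟩
  have hf : ∀ i j, f i = f j ↔ (j = i ∨ j = i + h) := by
    intro i j
    rw [← K_eq_K_iff hm, Subtype.mk.injEq, quot_eq_iff, hg, hg]
    constructor
    · intro h1; exact Subgroup.map_injective hφ h1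
    · intro h1; rw [h1]
  have hfs : Function.Surjective f := by
    rintro ⟨q, x, hx, hxS⟩
    have h1 := isKleinFour_map_conj x U hUK
    set V := U.map (MulAut.conj x).toMonoidHom with hV
    have h2 : (V.comap φ).map φ = V := by
      rw [Subgroup.map_comap_eq, hr]
      exact inf_eq_right.2 hxS
    have h3 : IsKleinFour (V.comap φ) := by
      refine isKleinFour_of_mulEquiv ?_ h1
      have e1 := (V.comap φ).equivMapOfInjective φ hφ
      rw [h2] at e1
      exact e1.symm
    obtain ⟨i, hi⟩ := exists_eq_K hm hh _ h3 (exists_sr_mem hm hh _ h3)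
    refine ⟨i, ?_⟩
    apply Subtype.ext
    show (g i : X ⧸ (Subgroup.normalizer (U : Set X))) = q
    rw [← hx, quot_eq_iff, hg, ← hi, h2]
  have : Fintype A := Fintype.ofFinite A
  have h1 : (Finset.univ : Finset (ZMod m)).card =
      ∑ b ∈ (Finset.univ : Finset A), ((Finset.univ : Finset (ZMod m)).filter
        (fun a => f a = b)).card :=
    Finset.card_eq_sum_card_fiberwise (by intro x _; simp)
  have h2 : ∀ b : A, ((Finset.univ : Finset (ZMod m)).filter (fun a => f a = b)).card = 2 := by
    intro b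
    obtain ⟨i, rfl⟩ := hfs b
    have : ((Finset.univ : Finset (ZMod m)).filter (fun a => f a = f i)) = {i, i + (h : ZMod m)} := by
      ext j
      simp only [Finset.mem_filter, Finset.mem_univ, true_and, Finset.mem_insert,
        Finset.mem_singleton]
      rw [eq_comm, hf]
    rw [this, Finset.card_pair]
    intro h3
    have h4 : (h : ZMod m) = 0 := by
      have := h3.symm
      simpa using this
    exact zmod_h_ne_zero hm hh h4
  rw [Finset.sum_congr rfl (fun b _ => h2 b), Finset.sum_const, Finset.card_univ, Finset.card_univ,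
    ZMod.card, smul_eq_mul, ← Nat.card_eq_fintype_card] at h1
  omega

end Cfsg.Agent.TwoFusion.DihedralFour
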